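import Mathlib
import Cfsg.Agent.KFacts.MulTwo

/-!
# Calculus in a double cover: commuting lifts

`Ker2 π c` : the kernel of `π : L → Y` is `{1, c}`. `LC π y y'` : all lifts of `y` commute with all lifts of `y'`.
`LC` is a closed under products in each variable, conjugation, and `LC π y ⁅u, v⁆` for free if `y` commutes with `u`
and `v` (`LC.commutator`); `LC.torus` : the same if some `t` centralises `y` and `y' = [t, u]` with `u` commuting
with `y`.
-/

set_option autoImplicit false
set_option linter.unusedSectionVars false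

namespace Cfsg.Agent.KFacts.Mult.RelBase

open Cfsg.Agent.KFacts.MulTwo
open scoped commutatorElement

variable {L Y : Type*} [Group L] [Group Y]

/-- The kernel of `π` is `{1, c}`. -/
structure Ker2 (π : L →* Y) (c : L) : Prop where
  ker : ∀ g, π g = 1 → g = 1 ∨ g = c
  map_c : π c = 1
  cen : ∀ x : L, c * x = x * c
  ne : c ≠ 1

variable {π : L →* Y} {c : L}

theorem Ker2.sq (hk : Ker2 π c) : c * c = 1 := by
  have h1 : π (c * c) = 1 := by rw [map_mul, hk.map_c, one_mul]
  rcases hk.ker _ h1 with h2 | h2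
  · exact h2
  · exact absurd (mul_eq_left.1 h2) hk.ne

theorem Ker2.eq_or (hk : Ker2 π c) {g g' : L} (he : π g = π g') : g = g' ∨ g = c * g' := by
  have h1 : π (g * g'⁻¹) = 1 := by rw [map_mul, map_inv, he, mul_inv_cancel]
  rcases hk.ker _ h1 with h2 | h2
  · left; exact mul_inv_eq_one.1 h2
  · right; exact mul_inv_eq_iff_eq_mul.1 h2

/-- elements with the same image differ by a central element -/
theorem Ker2.exists_cen (hk : Ker2 π c) {g g' : L} (he : π g = π g') :
    ∃ z : L, (∀ x : L, z * x = x * z) ∧ π z = 1 ∧ g = z * g' := by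
  rcases hk.eq_or he with h | h
  · exact ⟨1, fun x => by rw [one_mul, mul_one], map_one π, by rw [h, one_mul]⟩
  · exact ⟨c, hk.cen, hk.map_c, h⟩

/-- All lifts of `y` commute with all lifts of `y'`. -/
def LC (π : L →* Y) (y y' : Y) : Prop := ∀ a b : L, π a = y → π b = y' → a * b = b * a

theorem LC.symm {y y' : Y} (h : LC π y y') : LC π y' y := fun a b ha hb => (h b a hb ha).symm

/-- enough for one pair of lifts -/
theorem LC.of_lift (hk : Ker2 π c) {a b : L} (h : a * b = b * a) : LC π (π a) (π b) := by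
  intro a' b' ha hb
  obtain ⟨z, hz, -, rfl⟩ := hk.exists_cen ha
  obtain ⟨w, hw, -, rfl⟩ := hk.exists_cen hb
  calc z * a * (w * b) = z * (a * w) * b := by group
    _ = z * (w * a) * b := by rw [hw a]
    _ = z * w * (a * b) := by group
    _ = z * w * (b * a) := by rw [h]
    _ = w * z * (b * a) := by rw [hz w]
    _ = w * (z * b) * a := by group
    _ = w * (b * z) * a := by rw [hz b]
    _ = w * b * (z * a) := by group

theorem LC.one_right (hk : Ker2 π c) (y : Y) : LC π y 1 := by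
  intro a b _ hb
  obtain ⟨z, hz, -, e⟩ := hk.exists_cen (g := b) (g' := 1) (by rw [hb, map_one])
  rw [e, mul_one, hz]

theorem LC.one_left (hk : Ker2 π c) (y : Y) : LC π 1 y := (LC.one_right hk y).symm

theorem LC.mul_right {y u v : Y} (hu : u ∈ π.range) (h1 : LC π y u) (h2 : LC π y v) : LC π y (u * v) := by
  obtain ⟨a, rfl⟩ := hu
  intro g b hg hb
  have h3 := h2 g (a⁻¹ * b) hg (by rw [map_mul, map_inv, hb]; group)
  have h4 := h1 g a hg rfl
  calc g * b = (g * a) * (a⁻¹ * b) := by group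
    _ = a * (g * (a⁻¹ * b)) := by rw [h4]; group
    _ = a * ((a⁻¹ * b) * g) := by rw [h3]
    _ = b * g := by group

theorem LC.mul_left {y u v : Y} (hu : u ∈ π.range) (h1 : LC π u y) (h2 : LC π v y) : LC π (u * v) y :=
  (LC.mul_right hu h1.symm h2.symm).symm

theorem LC.inv_right {y u : Y} (h1 : LC π y u) : LC π y u⁻¹ := by
  intro g b hg hb
  have h2 := h1 g b⁻¹ hg (by rw [map_inv, hb, inv_inv])
  calc g * b = b * (b⁻¹ * g) * b := by group
    _ = b * (g * b⁻¹) * b := by rw [h2]
    _ = b * g := by group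

theorem LC.inv_left {y u : Y} (h1 : LC π u y) : LC π u⁻¹ y := h1.symm.inv_right.symm

/-- cancel a factor -/
theorem LC.of_mul_right {y u v : Y} (hv : v ∈ π.range) (h1 : LC π y (u * v)) (h2 : LC π y v) : LC π y u := by
  have h3 : (u * v) * v⁻¹ = u := by group
  rw [← h3]
  by_cases hr : u * v ∈ π.range
  · exact LC.mul_right hr h1 h2.inv_right
  · intro a b _ hb
    exfalso
    apply hr
    rw [h3] at hb
    exact mul_mem ⟨b, hb⟩ hv

/-- cancel a factor -/
theorem LC.of_mul_left' {y u v : Y} (hu : u ∈ π.range) (h1 : LC π y (u * v)) (h2 : LC π y u) : LC π y v := by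
  have h3 : u⁻¹ * (u * v) = v := by group
  rw [← h3]
  exact LC.mul_right (inv_mem hu) h2.inv_right h1

theorem LC.conj {y u g : Y} (hg : g ∈ π.range) (h1 : LC π y u) : LC π (g * y * g⁻¹) (g * u * g⁻¹) := by
  obtain ⟨k, rfl⟩ := hg
  intro a b ha hb
  have h2 := h1 (k⁻¹ * a * k) (k⁻¹ * b * k) (by rw [map_mul, map_mul, map_inv, ha]; group)
    (by rw [map_mul, map_mul, map_inv, hb]; group)
  calc a * b = k * ((k⁻¹ * a * k) * (k⁻¹ * b * k)) * k⁻¹ := by group
    _ = k * ((k⁻¹ * b * k) * (k⁻¹ * a * k)) * k⁻¹ := by rw [h2]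
    _ = b * a := by group

/-- lifts of commuting elements commute up to a central element -/
theorem Ker2.exists_comm (hk : Ker2 π c) {a b : L} (h : Commute (π a) (π b)) :
    ∃ z : L, (∀ x : L, z * x = x * z) ∧ π z = 1 ∧ a * b * a⁻¹ = z * b := by
  apply hk.exists_cen
  rw [map_mul, map_mul, map_inv, h.eq]; group

/-- **(K)** commutators in the centraliser of `y` are free. -/
theorem LC.commutator (hk : Ker2 π c) {y u v : Y} (hu : u ∈ π.range) (hv : v ∈ π.range) (h1 : Commute y u)
    (h2 : Commute y v) : LC π y ⁅u, v⁆ := by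
  obtain ⟨u, rfl⟩ := hu
  obtain ⟨v, rfl⟩ := hv
  intro a b ha hb
  subst ha
  rw [← map_commutatorElement] at hb
  obtain ⟨w, hw, -, rfl⟩ := hk.exists_cen hb
  obtain ⟨z1, hz1, -, e1⟩ := hk.exists_comm h1
  obtain ⟨z2, hz2, -, e2⟩ := hk.exists_comm h2
  have key : a * ⁅u, v⁆ * a⁻¹ = ⁅u, v⁆ := by
    have h3 : a * ⁅u, v⁆ * a⁻¹ = ⁅a * u * a⁻¹, a * v * a⁻¹⁆ := by
      rw [commutatorElement_def, commutatorElement_def]; group
    rw [h3, e1, e2, commutatorElement_def, commutatorElement_def, mul_inv_rev, mul_inv_rev]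
    have hz1' : ∀ x : L, z1⁻¹ * x = x * z1⁻¹ := fun x => by
      rw [inv_mul_eq_iff_eq_mul, ← mul_assoc, hz1 x, mul_assoc, mul_inv_cancel, mul_one]
    have hz2' : ∀ x : L, z2⁻¹ * x = x * z2⁻¹ := fun x => by
      rw [inv_mul_eq_iff_eq_mul, ← mul_assoc, hz2 x, mul_assoc, mul_inv_cancel, mul_one]
    calc z1 * u * (z2 * v) * (u⁻¹ * z1⁻¹) * (v⁻¹ * z2⁻¹)
        = z1 * (u * (z2 * v) * u⁻¹) * z1⁻¹ * (v⁻¹ * z2⁻¹) := by group
      _ = (u * (z2 * v) * u⁻¹) * z1 * z1⁻¹ * (v⁻¹ * z2⁻¹) := by rw [hz1]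
      _ = u * (z2 * (v * (u⁻¹ * (v⁻¹ * z2⁻¹)))) := by group
      _ = u * (v * (u⁻¹ * (v⁻¹ * z2⁻¹)) * z2) := by rw [hz2]
      _ = u * v * u⁻¹ * v⁻¹ := by group
  have key' : a * ⁅u, v⁆ = ⁅u, v⁆ * a := mul_inv_eq_iff_eq_mul.1 key
  calc a * (w * ⁅u, v⁆) = (a * w) * ⁅u, v⁆ := by group
    _ = w * (a * ⁅u, v⁆) := by rw [← hw a]; group
    _ = w * ⁅u, v⁆ * a := by rw [key']; group

/-- **(T)** `t` centralises `y`, `y' = t u t⁻¹ u⁻¹`, `u` commutes with `y`. -/
theorem LC.torus (hk : Ker2 π c) {y u t : Y} (hu : u ∈ π.range) (ht : t ∈ π.range) (h1 : Commute y t)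
    (h2 : Commute y u) : LC π y (t * u * t⁻¹ * u⁻¹) := LC.commutator hk ht hu h1 h2

/-- squares in the centraliser of `y` -/
theorem LC.sq (hk : Ker2 π c) {y u : Y} (hu : u ∈ π.range) (h1 : Commute y u) : LC π y (u * u) := by
  obtain ⟨u, rfl⟩ := hu
  intro a b ha hb
  subst ha
  rw [← map_mul] at hb
  obtain ⟨w, hw, -, rfl⟩ := hk.exists_cen hb
  obtain ⟨z, hz, hz1, e1⟩ := hk.exists_comm h1
  have hzz : z * z = 1 := by
    rcases hk.ker z hz1 with h | h
    · rw [h, one_mul]
    · rw [h, hk.sq]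
  have e2 : a * u = z * u * a := mul_inv_eq_iff_eq_mul.1 e1
  calc a * (w * (u * u)) = (a * w) * (u * u) := by group
    _ = (w * a) * (u * u) := by rw [hw a]
    _ = w * (a * u) * u := by group
    _ = w * (z * u * a) * u := by rw [e2]
    _ = w * z * u * (a * u) := by group
    _ = w * z * u * (z * u * a) := by rw [e2]
    _ = w * z * (u * z) * u * a := by group
    _ = w * z * (z * u) * u * a := by rw [hz u]
    _ = w * (z * z) * u * u * a := by group
    _ = w * (u * u) * a := by rw [hzz]; group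

/-! ### Squares of lifts -/

/-- All lifts of `y` have square `1`. -/
def SqOne (π : L →* Y) (y : Y) : Prop := ∀ a : L, π a = y → a * a = 1

theorem SqOne.of_lift (hk : Ker2 π c) {a : L} (h : a * a = 1) : SqOne π (π a) := by
  intro b hb
  rcases hk.eq_or hb with rfl | rfl
  · exact h
  · calc c * a * (c * a) = c * (a * c) * a := by group
      _ = c * (c * a) * a := by rw [hk.cen a]
      _ = (c * c) * (a * a) := by group
      _ = 1 := by rw [hk.sq, h, one_mul]

theorem SqOne.conj {y g : Y} (hg : g ∈ π.range) (h : SqOne π y) : SqOne π (g * y * g⁻¹) := by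
  obtain ⟨g, rfl⟩ := hg
  intro a ha
  have h1 := h (g⁻¹ * a * g) (by rw [map_mul, map_mul, map_inv, ha]; group)
  calc a * a = g * ((g⁻¹ * a * g) * (g⁻¹ * a * g)) * g⁻¹ := by group
    _ = 1 := by rw [h1]; group

/-- If `u` and `v * u` are conjugate, `v` commutes with `u` on the level of lifts, then lifts of `v` have square 1. -/
theorem SqOne.of_conj (hk : Ker2 π c) {u v g : Y} (hu : u ∈ π.range) (hg : g ∈ π.range)
    (h1 : g * u * g⁻¹ = v * u) (h2 : LC π v u) (hu2 : u * u = 1) : SqOne π v := by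
  obtain ⟨u, rfl⟩ := hu
  obtain ⟨g, rfl⟩ := hg
  intro a ha
  have h3 : π (g * u * g⁻¹) = π (a * u) := by rw [map_mul, map_mul, map_inv, h1, map_mul, ha]
  have h4 := h2 a u ha rfl
  have huu : π (u * u) = 1 := by rw [map_mul, hu2]
  have hcen : ∀ x, (u * u) * x = x * (u * u) := by
    rcases hk.ker _ huu with h | h
    · rw [h]; intro x; rw [one_mul, mul_one]
    · rw [h]; exact hk.cen
  have h5 : (g * u * g⁻¹) * (g * u * g⁻¹) = u * u := by
    calc (g * u * g⁻¹) * (g * u * g⁻¹) = g * (u * u) * g⁻¹ := by group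
      _ = u * u := by rw [← hcen g]; group
  have h6 : (a * u) * (a * u) = u * u := by
    rcases hk.eq_or h3 with h | h
    · rw [← h, h5]
    · rw [← h5, h]
      have : c * (a * u) * (c * (a * u)) = (c * c) * ((a * u) * (a * u)) := by
        calc c * (a * u) * (c * (a * u)) = c * ((a * u) * c) * (a * u) := by group
          _ = c * (c * (a * u)) * (a * u) := by rw [hk.cen (a * u)]
          _ = (c * c) * ((a * u) * (a * u)) := by group
      rw [this, hk.sq, one_mul]
  have h7 : (a * u) * (a * u) = a * a * (u * u) := by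
    calc (a * u) * (a * u) = a * (u * a) * u := by group
      _ = a * (a * u) * u := by rw [h4]
      _ = a * a * (u * u) := by group
  rw [h7] at h6
  exact mul_eq_right.1 h6

end Cfsg.Agent.KFacts.Mult.RelBase
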