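import Mathlib

/-!
# Commutators of lifts in a central extension (helper827)

`CE π` : `π : X → L` is surjective with central kernel. For `l m : L` let `h.lc l m : X` be the commutator of lifts of
`l` and `m` (it does not depend on the lifts: `CE.comm_eq`).

* `lc_swap`, `map_lc`, `lc_mul_left'`, `lc_mul_right'`, `conj_lc`;
* `Commute l m` : `lc l m` is central, multiplicative in both variables (`lc_mul_left`, `lc_mul_right`);
* `lc_comm_eq_one` : `lc l ⁅u, v⁆ = 1` if `l` commutes with `u` and `v`; `lc_eq_one_of_mem` : `lc l m = 1` for `m` in the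
  derived group of the centralizer of `l`;
* `hw` (Hall-Witt with central errors): if `c` and `a` commute then `lc c ⁅a, b⁆ = lc a ⁅c, b⁆ * lc ⁅c, b⁆ ⁅a, b⁆`;
* `lc_torus` : if `t` centralises `m` and `Commute l m` then `lc (t l t⁻¹) m = lc l m`.
-/

set_option autoImplicit false

namespace Cfsg.Agent.KFacts.Mult.Calc

open scoped commutatorElement

variable {X L : Type*} [Group X] [Group L]

/-- A central extension. -/
structure CE (π : X →* L) : Prop where
  surj : Function.Surjective π
  cen : π.ker ≤ Subgroup.center X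

namespace CE

variable {π : X →* L} (h : CE π)

/-- a lift -/
noncomputable def lift (h : CE π) (l : L) : X := (h.surj l).choose

@[simp] theorem map_lift (l : L) : π (h.lift l) = l := (h.surj l).choose_spec

/-- the commutator of lifts -/
noncomputable def lc (h : CE π) (l m : L) : X := ⁅h.lift l, h.lift m⁆

include h

theorem central_of_map_eq {a b : X} (e : π a = π b) : ∃ z ∈ Subgroup.center X, a = b * z := by
  refine ⟨b⁻¹ * a, h.cen ?_, by group⟩
  rw [MonoidHom.mem_ker, map_mul, map_inv, e, inv_mul_cancel]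

theorem comm_congr {a a' b b' : X} (ha : π a = π a') (hb : π b = π b') : ⁅a, b⁆ = ⁅a', b'⁆ := by
  obtain ⟨z, hz, rfl⟩ := h.central_of_map_eq ha
  obtain ⟨w, hw, rfl⟩ := h.central_of_map_eq hb
  have h1 := fun c => (Subgroup.mem_center_iff.1 hz) c
  have h2 := fun c => (Subgroup.mem_center_iff.1 hw) c
  rw [commutatorElement_def, commutatorElement_def, mul_inv_rev, mul_inv_rev]
  have e1 : a' * z * (b' * w) * (z⁻¹ * a'⁻¹) * (w⁻¹ * b'⁻¹) = a' * (z * (b' * w) * z⁻¹) * a'⁻¹ * (w⁻¹ * b'⁻¹) := by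
    group
  rw [e1, ← h1 (b' * w), mul_inv_cancel_right]
  have e2 : a' * (b' * w) * a'⁻¹ * (w⁻¹ * b'⁻¹) = a' * b' * (w * a'⁻¹ * w⁻¹) * b'⁻¹ := by group
  rw [e2, ← h2 a'⁻¹, mul_inv_cancel_right]

theorem comm_eq (x y : X) : ⁅x, y⁆ = h.lc (π x) (π y) :=
  h.comm_congr (h.map_lift _).symm (h.map_lift _).symm

theorem comm_eq' {x y : X} {l m : L} (hx : π x = l) (hy : π y = m) : ⁅x, y⁆ = h.lc l m := by
  rw [h.comm_eq, hx, hy]

@[simp] theorem map_lc (l m : L) : π (h.lc l m) = ⁅l, m⁆ := by
  rw [lc, map_commutatorElement, map_lift, map_lift]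

theorem lc_swap (l m : L) : h.lc m l = (h.lc l m)⁻¹ := by
  rw [lc, lc, commutatorElement_inv]

@[simp] theorem lc_one_left (m : L) : h.lc 1 m = 1 := by
  rw [← h.comm_eq' (map_one π) (h.map_lift m), commutatorElement_one_left]

@[simp] theorem lc_one_right (l : L) : h.lc l 1 = 1 := by
  rw [lc_swap, lc_one_left, inv_one]

@[simp] theorem lc_self (l : L) : h.lc l l = 1 := by
  rw [lc, commutatorElement_self]

theorem conj_lc (x : X) (l m : L) :
    x * h.lc l m * x⁻¹ = h.lc (π x * l * (π x)⁻¹) (π x * m * (π x)⁻¹) := by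
  rw [lc, conjugate_commutatorElement]
  apply h.comm_eq' <;> simp

theorem mem_center_iff_map {l m : L} : h.lc l m ∈ π.ker ↔ Commute l m := by
  rw [MonoidHom.mem_ker, map_lc, commutatorElement_eq_one_iff_commute]

theorem lc_mem_center {l m : L} (hc : Commute l m) : h.lc l m ∈ Subgroup.center X :=
  h.cen (h.mem_center_iff_map.2 hc)

theorem lc_comm {l m : L} (hc : Commute l m) (x : X) : x * h.lc l m = h.lc l m * x :=
  Subgroup.mem_center_iff.1 (h.lc_mem_center hc) x

theorem commute_of_lc {x y : X} (hc : h.lc (π x) (π y) = 1) : Commute x y := by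
  rw [← commutatorElement_eq_one_iff_commute, h.comm_eq, hc]

theorem lc_eq_one_of_commute {x y : X} (hc : Commute x y) : h.lc (π x) (π y) = 1 := by
  rw [← h.comm_eq, commutatorElement_eq_one_iff_commute.2 hc]

/-- `[l l', m] = [l, [l', m]] [l', m] [l, m]` -/
theorem lc_mul_left' (l l' m : L) : h.lc (l * l') m = h.lc l ⁅l', m⁆ * h.lc l' m * h.lc l m := by
  have e1 : h.lc (l * l') m = ⁅h.lift l * h.lift l', h.lift m⁆ := by
    rw [h.comm_eq, map_mul, map_lift, map_lift, map_lift]
  have e2 : h.lc l ⁅l', m⁆ = ⁅h.lift l, h.lc l' m⁆ := by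
    rw [h.comm_eq, map_lift, map_lc]
  rw [e1, e2, lc, lc]
  simp only [commutatorElement_def]
  group

/-- `[l, m m'] = [l, m] [m, [l, m']] [l, m']` -/
theorem lc_mul_right' (l m m' : L) : h.lc l (m * m') = h.lc l m * h.lc m ⁅l, m'⁆ * h.lc l m' := by
  have e1 : h.lc l (m * m') = ⁅h.lift l, h.lift m * h.lift m'⁆ := by
    rw [h.comm_eq, map_mul, map_lift, map_lift, map_lift]
  have e2 : h.lc m ⁅l, m'⁆ = ⁅h.lift m, h.lc l m'⁆ := by
    rw [h.comm_eq, map_lift, map_lc]
  rw [e1, e2, lc, lc]
  simp only [commutatorElement_def]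
  group

theorem lc_mul_left {l l' m : L} (hc : Commute l' m) : h.lc (l * l') m = h.lc l m * h.lc l' m := by
  rw [lc_mul_left', commutatorElement_eq_one_iff_commute.2 hc, lc_one_right, one_mul, ← h.lc_comm hc]

theorem lc_mul_right {l m m' : L} (hc : Commute l m') : h.lc l (m * m') = h.lc l m * h.lc l m' := by
  rw [lc_mul_right', commutatorElement_eq_one_iff_commute.2 hc, lc_one_right, mul_one]

/-- If `l` commutes with `u` and `v` then lifts of `l` commute with lifts of `⁅u, v⁆`. -/
theorem lc_comm_eq_one {l u v : L} (h1 : Commute l u) (h2 : Commute l v) : h.lc l ⁅u, v⁆ = 1 := by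
  have e3 : h.lift l * h.lc u v * (h.lift l)⁻¹ = h.lc u v := by
    rw [conj_lc, map_lift, h1.eq, mul_inv_cancel_right, h2.eq, mul_inv_cancel_right]
  have e4 : Commute (h.lift l) (h.lc u v) := mul_inv_eq_iff_eq_mul.1 e3
  have := h.lc_eq_one_of_commute e4
  rwa [map_lift, map_lc] at this

/-- Lifts of `l` commute with lifts of elements of the derived group of the centralizer of `l`. -/
theorem lc_eq_one_of_mem {l m : L} (hm : m ∈ ⁅Subgroup.centralizer {l}, Subgroup.centralizer {l}⁆) : h.lc l m = 1 := by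
  have key : ∀ m ∈ ⁅Subgroup.centralizer {l}, Subgroup.centralizer {l}⁆, Commute l m ∧ h.lc l m = 1 := by
    intro m hm
    rw [Subgroup.commutator_def] at hm
    induction hm using Subgroup.closure_induction with
    | mem y hy =>
      obtain ⟨u, hu, v, hv, rfl⟩ := hy
      rw [Subgroup.mem_centralizer_singleton_iff] at hu hv
      have h1 : Commute l u := hu.symm
      have h2 : Commute l v := hv.symm
      refine ⟨?_, h.lc_comm_eq_one h1 h2⟩
      rw [commutatorElement_def]
      exact ((h1.mul_right h2).mul_right h1.inv_right).mul_right h2.inv_right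
    | one => exact ⟨Commute.one_right _, h.lc_one_right _⟩
    | mul y z _ _ hy hz => exact ⟨hy.1.mul_right hz.1, by rw [h.lc_mul_right hz.1, hy.2, hz.2, one_mul]⟩
    | inv y _ hy =>
      refine ⟨hy.1.inv_right, ?_⟩
      have := h.lc_mul_right (l := l) (m := y) (m' := y⁻¹) hy.1.inv_right
      rw [mul_inv_cancel, lc_one_right, hy.2, one_mul] at this
      exact this.symm
  exact (key m hm).2

/-- Hall-Witt with central errors. -/
theorem hw {a b c : L} (hc : Commute c a) : h.lc c ⁅a, b⁆ = h.lc a ⁅c, b⁆ * h.lc ⁅c, b⁆ ⁅a, b⁆ := by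
  -- lifts
  have e1 : h.lc c ⁅a, b⁆ = ⁅h.lift c, h.lc a b⁆ := by rw [h.comm_eq, map_lift, map_lc]
  have e2 : h.lc a ⁅c, b⁆ = ⁅h.lift a, h.lc c b⁆ := by rw [h.comm_eq, map_lift, map_lc]
  have e3 : h.lc ⁅c, b⁆ ⁅a, b⁆ = ⁅h.lc c b, h.lc a b⁆ := by rw [h.comm_eq, map_lc, map_lc]
  have e4 : h.lift c * h.lc a b * (h.lift c)⁻¹ = ⁅h.lift a, h.lc c b * h.lift b⁆ := by
    rw [conj_lc, map_lift, hc.eq, mul_inv_cancel_right]
    symm
    apply h.comm_eq' (h.map_lift a)
    rw [map_mul, map_lc, map_lift, commutatorElement_def, inv_mul_cancel_right]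
  rw [e1, e2, e3, commutatorElement_def, e4, lc, lc]
  simp only [commutatorElement_def]
  group

theorem lc_torus {t l m : L} (hc : Commute l m) (ht : t * m * t⁻¹ = m) : h.lc (t * l * t⁻¹) m = h.lc l m := by
  have e1 := h.conj_lc (h.lift t) l m
  rw [h.lc_comm hc, mul_inv_cancel_right, map_lift, ht] at e1
  exact e1.symm

end CE

/-- From a kernel of the form `{1, c}`. -/
theorem CE.of_ker {π : X →* L} (hs : Function.Surjective π) {c : X} (hc : ∀ x, c * x = x * c)
    (hk : ∀ x, π x = 1 → x = 1 ∨ x = c) : CE π where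
  surj := hs
  cen := by
    intro x hx
    rw [Subgroup.mem_center_iff]
    rcases hk x hx with rfl | rfl
    · intro g; rw [mul_one, one_mul]
    · intro g; exact (hc g).symm

end Cfsg.Agent.KFacts.Mult.Calc
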