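import Mathlib
import Cfsg.Agent.KFacts.MulDef

/-!
# Splitting of a double cover over a subgroup with a chain and an odd operator group

`noDouble_of_chain`: `X` finite, `U` a subgroup of odd index, `1 = V 0 ≤ V 1 ≤ ... ≤ V n = U` a chain with
`[V (i+1), U] ≤ V i`, `T` a subgroup of odd order normalising the `V i` with `V (i+1) = [V (i+1), T] V i`, and such that
every `T`-invariant bimultiplicative `F : V (i+1) / V i × U → {±1}` is trivial: then `X` has no perfect double cover.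
`exists_compl_of_chain`: the same for a subgroup `U` of any index (complement of the kernel over `U`).
-/

set_option autoImplicit false

namespace Cfsg.Agent.KFacts.Mult.Chain

open Subgroup Cfsg.Agent.KFacts.MulTwo Cfsg.Agent.KFacts.MulDef
open scoped commutatorElement

/-- All lifts of `x` and `y` to perfect double covers commute. -/
def LiftComm {X : Type*} [Group X] (x y : X) : Prop :=
  ∀ (L : Type) [Group L] [Finite L] (π : L →* X) (c : L), Dbl π c → ∀ a b : L, π a = x → π b = y → a * b = b * a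

section Fixed

variable {L X : Type*} [Group L] [Group X] {π : L →* X} {c : L}

theorem eq_or (hd : Dbl π c) {a b : L} (h : π a = π b) : a = b ∨ a = c * b := by
  have h1 : π (a * b⁻¹) = 1 := by rw [map_mul, map_inv, h, mul_inv_cancel]
  rcases (hd.ker _).1 h1 with h2 | h2
  · left; exact mul_inv_eq_one.1 h2
  · right; exact mul_inv_eq_iff_eq_mul.1 h2

theorem conj_eq (hd : Dbl π c) {a b : L} (h : π a = π b) (v : L) : a * v * a⁻¹ = b * v * b⁻¹ := by
  rcases eq_or hd h with rfl | rfl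
  · rfl
  · rw [mul_inv_rev]
    calc c * b * v * (b⁻¹ * c⁻¹) = c * (b * v * b⁻¹) * c⁻¹ := by group
      _ = _ := by rw [hd.cen, mul_inv_cancel_right]

theorem comm_eq (hd : Dbl π c) {a b a' b' : L} (h : π a = π a') (h' : π b = π b') : ⁅a, b⁆ = ⁅a', b'⁆ := by
  have key : ∀ x y : L, ⁅c * x, y⁆ = ⁅x, y⁆ := by
    intro x y
    rw [commutatorElement_def, commutatorElement_def, mul_inv_rev]
    calc c * x * y * (x⁻¹ * c⁻¹) * y⁻¹ = c * (x * y * x⁻¹) * c⁻¹ * y⁻¹ := by group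
      _ = _ := by rw [hd.cen, mul_inv_cancel_right]
  have key2 : ∀ x y : L, ⁅x, c * y⁆ = ⁅x, y⁆ := by
    intro x y
    rw [← commutatorElement_inv, key, commutatorElement_inv]
  rcases eq_or hd h with rfl | rfl <;> rcases eq_or hd h' with rfl | rfl
  · rfl
  · rw [key2]
  · rw [key]
  · rw [key, key2]

/-- `W` is an invariant complement of `⟨c⟩` in `V`. -/
structure Cpl (π : L →* X) (c : L) (U T : Subgroup X) (V : Subgroup X) (W : Subgroup L) : Prop where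
  le : ∀ w ∈ W, π w ∈ V
  not_mem : c ∉ W
  cov : ∀ v : L, π v ∈ V → v ∈ W ∨ c * v ∈ W
  conjU : ∀ u : L, π u ∈ U → ∀ w ∈ W, u * w * u⁻¹ ∈ W
  conjT : ∀ t : L, π t ∈ T → ∀ w ∈ W, t * w * t⁻¹ ∈ W

/-- The step of the construction. -/
theorem step (hd : Dbl π c) {U V V' T : Subgroup X} {W' : Subgroup L} [Fintype T] (hT : Odd (Fintype.card T))
    (hVU : V ≤ U) (hTV : ∀ t ∈ T, ∀ v ∈ V, t * v * t⁻¹ ∈ V) (hW' : Cpl π c U T V' W') (hV'V : V' ≤ V)
    (hcomm : ∀ v u : L, π v ∈ V → π u ∈ U → ⁅v, u⁆ ∈ W')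
    (hgen : ∀ v ∈ V, v ∈ closure {x : X | ∃ t ∈ T, ∃ v ∈ V, x = t * v * t⁻¹ * v⁻¹} ⊔ V') :
    ∃ W : Subgroup L, Cpl π c U T V W := by
  classical
  let VL : Subgroup L := V.comap π
  have memVL : ∀ x : L, x ∈ VL ↔ π x ∈ V := fun x => Iff.rfl
  have hWV : W' ≤ VL := fun w hw => hV'V (hW'.le w hw)
  have hcV : c ∈ VL := by
    rw [memVL, (hd.ker c).2 (Or.inr rfl)]; exact one_mem _
  have hn : (W'.subgroupOf VL).Normal := by
    constructor
    intro w hw g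
    exact hW'.conjU g (hVU g.2) w hw
  let A := ↥VL ⧸ W'.subgroupOf VL
  let mk : ↥VL →* A := QuotientGroup.mk' (W'.subgroupOf VL)
  have mk_eq : ∀ x y : ↥VL, mk x = mk y ↔ (x : L)⁻¹ * y ∈ W' := by
    intro x y
    show (QuotientGroup.mk x : A) = QuotientGroup.mk y ↔ _
    rw [QuotientGroup.eq]
    rfl
  have mk_one : ∀ x : ↥VL, mk x = 1 ↔ (x : L) ∈ W' := by
    intro x
    show (QuotientGroup.mk x : A) = 1 ↔ _
    rw [QuotientGroup.eq_one_iff]
    rfl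
  have hcommA : ∀ a b : A, a * b = b * a := by
    intro a b
    obtain ⟨x, rfl⟩ := QuotientGroup.mk'_surjective _ a
    obtain ⟨y, rfl⟩ := QuotientGroup.mk'_surjective _ b
    show mk x * mk y = mk y * mk x
    rw [← map_mul, ← map_mul, mk_eq]
    have h1 := hcomm (y : L)⁻¹ (x : L)⁻¹ (VL.inv_mem y.2) (by rw [map_inv]; exact inv_mem (hVU x.2))
    have h2 : ⁅(y : L)⁻¹, (x : L)⁻¹⁆ = ((x * y : ↥VL) : L)⁻¹ * ((y * x : ↥VL) : L) := by
      rw [commutatorElement_def]; push_cast; group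
    rwa [h2] at h1
  letI : CommGroup A := { (inferInstance : Group A) with mul_comm := hcommA }
  -- lifts of the elements of `T`
  let s : X → L := Function.surjInv hd.surj
  have hs : ∀ x, π (s x) = x := Function.surjInv_eq hd.surj
  have hcj : ∀ t : L, π t ∈ T → ∀ v ∈ VL, t * v * t⁻¹ ∈ VL := by
    intro t ht v hv
    rw [memVL, map_mul, map_mul, map_inv]
    exact hTV _ ht _ hv
  let cj : ∀ t : L, π t ∈ T → (↥VL →* ↥VL) := fun t ht =>
    { toFun := fun v => ⟨t * v * t⁻¹, hcj t ht v v.2⟩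
      map_one' := by apply Subtype.ext; simp
      map_mul' := by
        intro x y
        apply Subtype.ext
        show t * (x * y) * t⁻¹ = t * x * t⁻¹ * (t * y * t⁻¹)
        group }
  have hsT : ∀ t : T, π (s t) ∈ T := fun t => by rw [hs]; exact t.2
  let N : ↥VL →* A := ∏ t : T, mk.comp (cj (s t) (hsT t))
  have hN : ∀ v : ↥VL, N v = ∏ t : T, mk (cj (s t) (hsT t) v) := by
    intro v
    show (∏ t : T, mk.comp (cj (s t) (hsT t))) v = _
    rw [MonoidHom.finsetProd_apply]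
    rfl
  -- invariance
  have hNinv : ∀ (t : L) (ht : π t ∈ T) (v : ↥VL), N (cj t ht v) = N v := by
    intro t ht v
    rw [hN, hN]
    refine Fintype.prod_equiv (Equiv.mulRight (⟨π t, ht⟩ : T)) _ _ ?_
    intro r
    congr 1
    apply Subtype.ext
    show s r * (t * v * t⁻¹) * (s r)⁻¹ = s (r * π t : X) * v * (s (r * π t : X))⁻¹
    have h1 : π (s r * t) = π (s (r * π t : X)) := by rw [map_mul, hs, hs]
    rw [← conj_eq hd h1]
    group
  have hNW : ∀ w : ↥VL, (w : L) ∈ W' → N w = 1 := by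
    intro w hw
    rw [hN]
    apply Finset.prod_eq_one
    intro t _
    rw [mk_one]
    exact hW'.conjT _ (hsT t) _ hw
  have hNc : N ⟨c, hcV⟩ = mk ⟨c, hcV⟩ := by
    rw [hN]
    have h1 : ∀ t : T, mk (cj (s t) (hsT t) ⟨c, hcV⟩) = mk ⟨c, hcV⟩ := by
      intro t
      congr 1
      apply Subtype.ext
      show s t * c * (s t)⁻¹ = c
      rw [← hd.cen, mul_inv_cancel_right]
    rw [Finset.prod_congr rfl fun t _ => h1 t, Finset.prod_const, Finset.card_univ]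
    obtain ⟨k, hk⟩ := hT
    have h2 : mk ⟨c, hcV⟩ * mk ⟨c, hcV⟩ = 1 := by
      rw [← map_mul]
      have : (⟨c, hcV⟩ * ⟨c, hcV⟩ : ↥VL) = 1 := Subtype.ext hd.sq
      rw [this, map_one]
    rw [hk, pow_succ, pow_mul, pow_two, h2, one_pow, one_mul]
  have hc1 : mk ⟨c, hcV⟩ ≠ 1 := fun h => hW'.not_mem ((mk_one _).1 h)
  -- the values on `V'`
  have hNV' : ∀ v : ↥VL, π v ∈ V' → N v = 1 ∨ N v = mk ⟨c, hcV⟩ := by
    intro v hv
    rcases hW'.cov v hv with h1 | h1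
    · left; exact hNW v h1
    · right
      have h2 : N (⟨c, hcV⟩ * v) = 1 := hNW _ h1
      rw [map_mul, hNc] at h2
      have h3 : mk ⟨c, hcV⟩ * mk ⟨c, hcV⟩ = 1 := by
        rw [← map_mul]
        have : (⟨c, hcV⟩ * ⟨c, hcV⟩ : ↥VL) = 1 := Subtype.ext hd.sq
        rw [this, map_one]
      exact mul_left_cancel (h2.trans h3.symm)
  -- the values on `V`
  have hmm : mk ⟨c, hcV⟩ * mk ⟨c, hcV⟩ = 1 := by
    rw [← map_mul]
    have : (⟨c, hcV⟩ * ⟨c, hcV⟩ : ↥VL) = 1 := Subtype.ext hd.sq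
    rw [this, map_one]
  have hval : ∀ v : ↥VL, N v = 1 ∨ N v = mk ⟨c, hcV⟩ := by
    -- the subgroup of values
    let Z : Subgroup A :=
      { carrier := {a | a = 1 ∨ a = mk ⟨c, hcV⟩}
        one_mem' := Or.inl rfl
        mul_mem' := by
          rintro a b (rfl | rfl) (rfl | rfl)
          · left; rw [mul_one]
          · right; rw [one_mul]
          · right; rw [mul_one]
          · left; exact hmm
        inv_mem' := by
          rintro a (rfl | rfl)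
          · left; rw [inv_one]
          · right; exact inv_eq_of_mul_eq_one_left hmm }
    let D : Subgroup X := (Z.comap N).map (π.comp VL.subtype)
    have hD1 : closure {x : X | ∃ t ∈ T, ∃ v ∈ V, x = t * v * t⁻¹ * v⁻¹} ≤ D := by
      rw [closure_le]
      rintro _ ⟨t, ht, v, hv, rfl⟩
      obtain ⟨t, rfl⟩ := hd.surj t
      obtain ⟨v, rfl⟩ := hd.surj v
      refine ⟨cj t ht ⟨v, hv⟩ * (⟨v, hv⟩ : ↥VL)⁻¹, ?_, ?_⟩
      · left
        rw [map_mul, hNinv t ht, map_inv, mul_inv_cancel]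
      · show π (t * v * t⁻¹ * v⁻¹) = _
        simp only [map_mul, map_inv]
    have hD2 : V' ≤ D := by
      intro v hv
      obtain ⟨v, rfl⟩ := hd.surj v
      exact ⟨⟨v, hV'V hv⟩, hNV' _ hv, rfl⟩
    intro v
    obtain ⟨w, hw, e⟩ := (sup_le hD1 hD2) (hgen (π v) v.2)
    have e' : π (w : L) = π (v : L) := e
    have hwZ : N w ∈ Z := hw
    rcases eq_or hd e'.symm with h1 | h1
    · have : v = w := Subtype.ext h1
      rw [this]; exact hwZ
    · have : v = ⟨c, hcV⟩ * w := Subtype.ext h1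
      rw [this, map_mul, hNc]
      exact Z.mul_mem (Or.inr rfl) hwZ
  refine ⟨N.ker.map VL.subtype, ⟨?_, ?_, ?_, ?_, ?_⟩⟩
  · rintro _ ⟨w, -, rfl⟩
    exact w.2
  · rintro ⟨w, hw, e⟩
    have hw' : w = ⟨c, hcV⟩ := Subtype.ext e
    rw [SetLike.mem_coe, MonoidHom.mem_ker, hw', hNc] at hw
    exact hc1 hw
  · intro v hv
    rcases hval ⟨v, hv⟩ with h1 | h1
    · left; exact ⟨⟨v, hv⟩, h1, rfl⟩
    · right
      refine ⟨⟨c, hcV⟩ * ⟨v, hv⟩, ?_, rfl⟩
      rw [SetLike.mem_coe, MonoidHom.mem_ker, map_mul, hNc, h1, hmm]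
  · rintro u hu _ ⟨w, hw, rfl⟩
    have h1 : ⁅(w : L), u⁆ ∈ W' := hcomm w u w.2 hu
    have h2 : ⁅u, (w : L)⁆ ∈ W' := by rw [← commutatorElement_inv]; exact inv_mem h1
    refine ⟨⟨⁅u, (w : L)⁆, hWV h2⟩ * w, ?_, ?_⟩
    · rw [SetLike.mem_coe, MonoidHom.mem_ker, map_mul, hNW _ h2, one_mul]
      exact hw
    · show ⁅u, (w : L)⁆ * w = u * w * u⁻¹
      rw [commutatorElement_def, inv_mul_cancel_right]
  · rintro t ht _ ⟨w, hw, rfl⟩
    refine ⟨cj t ht w, ?_, rfl⟩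
    rw [SetLike.mem_coe, MonoidHom.mem_ker, hNinv t ht]
    exact hw

end Fixed

section Unique

variable {L X : Type*} [Group L] [Group X] {π : L →* X} {c : L} {U T V : Subgroup X}

theorem Cpl.le_of (hd : Dbl π c) {W W' : Subgroup L} (h : Cpl π c U T V W) (h' : Cpl π c U T V W')
    (hgen : ∀ v ∈ V, v ∈ closure {x : X | ∃ t ∈ T, ∃ v ∈ V, x = t * v * t⁻¹ * v⁻¹}) : W ≤ W' := by
  have h1 : closure {x : X | ∃ t ∈ T, ∃ v ∈ V, x = t * v * t⁻¹ * v⁻¹} ≤ (W ⊓ W').map π := by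
    rw [closure_le]
    rintro _ ⟨t, ht, v, hv, rfl⟩
    obtain ⟨t, rfl⟩ := hd.surj t
    obtain ⟨v, rfl⟩ := hd.surj v
    have key : ∀ w : L, t * (c * w) * t⁻¹ * (c * w)⁻¹ = t * w * t⁻¹ * w⁻¹ := by
      intro w
      calc t * (c * w) * t⁻¹ * (c * w)⁻¹ = (t * c) * w * t⁻¹ * (w⁻¹ * c⁻¹) := by group
        _ = (c * t) * w * t⁻¹ * (w⁻¹ * c⁻¹) := by rw [hd.cen t]
        _ = c * (t * w * t⁻¹ * w⁻¹) * c⁻¹ := by group
        _ = _ := by rw [hd.cen, mul_inv_cancel_right]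
    have mem : ∀ {Y : Subgroup L}, Cpl π c U T V Y → ∀ w, π w ∈ V → t * w * t⁻¹ * w⁻¹ ∈ Y := by
      intro Y hY w hw
      rcases hY.cov w hw with h2 | h2
      · exact mul_mem (hY.conjT t ht w h2) (inv_mem h2)
      · rw [← key]
        exact mul_mem (hY.conjT t ht _ h2) (inv_mem h2)
    exact ⟨t * v * t⁻¹ * v⁻¹, ⟨mem h v hv, mem h' v hv⟩, by simp only [map_mul, map_inv]⟩
  intro w hw
  obtain ⟨y, ⟨hy, hy'⟩, e⟩ := h1 (hgen _ (h.le w hw))
  rcases eq_or hd e with rfl | rfl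
  · exact hy'
  · exfalso
    apply h.not_mem
    have := W.mul_mem hy (W.inv_mem hw)
    rwa [mul_inv_cancel_right] at this

/-- Elements which normalise everything normalise the invariant complement. -/
theorem Cpl.conj_mem (hd : Dbl π c) {W : Subgroup L} (h : Cpl π c U T V W)
    (hgen : ∀ v ∈ V, v ∈ closure {x : X | ∃ t ∈ T, ∃ v ∈ V, x = t * v * t⁻¹ * v⁻¹}) {g : L}
    (hU : ∀ u ∈ U, (π g)⁻¹ * u * π g ∈ U) (hT : ∀ t ∈ T, (π g)⁻¹ * t * π g ∈ T)
    (hV : ∀ v ∈ V, π g * v * (π g)⁻¹ ∈ V) (hV' : ∀ v ∈ V, (π g)⁻¹ * v * π g ∈ V) :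
    ∀ w ∈ W, g * w * g⁻¹ ∈ W := by
  have h2 : Cpl π c U T V (W.map (MulAut.conj g).toMonoidHom) := by
    refine ⟨?_, ?_, ?_, ?_, ?_⟩
    · rintro _ ⟨w, hw, rfl⟩
      show π (g * w * g⁻¹) ∈ V
      rw [map_mul, map_mul, map_inv]
      exact hV _ (h.le w hw)
    · rintro ⟨w, hw, e⟩
      apply h.not_mem
      have e' : g * w * g⁻¹ = c := e
      have : w = c := by
        have h3 : w = g⁻¹ * (g * w * g⁻¹) * g := by group
        rw [h3, e', ← hd.cen, inv_mul_cancel_right]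
      rwa [← this]
    · intro v hv
      have h3 : π (g⁻¹ * v * g) ∈ V := by
        rw [map_mul, map_mul, map_inv]; exact hV' _ hv
      rcases h.cov _ h3 with h4 | h4
      · left
        refine ⟨_, h4, ?_⟩
        show g * (g⁻¹ * v * g) * g⁻¹ = v
        group
      · right
        refine ⟨_, h4, ?_⟩
        show g * (c * (g⁻¹ * v * g)) * g⁻¹ = c * v
        calc g * (c * (g⁻¹ * v * g)) * g⁻¹ = (g * c) * g⁻¹ * v := by group
          _ = (c * g) * g⁻¹ * v := by rw [hd.cen g]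
          _ = c * v := by group
    · rintro u hu _ ⟨w, hw, rfl⟩
      refine ⟨(g⁻¹ * u * g) * w * (g⁻¹ * u * g)⁻¹, h.conjU _ ?_ w hw, ?_⟩
      · rw [map_mul, map_mul, map_inv]; exact hU _ hu
      · show g * ((g⁻¹ * u * g) * w * (g⁻¹ * u * g)⁻¹) * g⁻¹ = u * (g * w * g⁻¹) * u⁻¹
        group
    · rintro u hu _ ⟨w, hw, rfl⟩
      refine ⟨(g⁻¹ * u * g) * w * (g⁻¹ * u * g)⁻¹, h.conjT _ ?_ w hw, ?_⟩
      · rw [map_mul, map_mul, map_inv]; exact hT _ hu
      · show g * ((g⁻¹ * u * g) * w * (g⁻¹ * u * g)⁻¹) * g⁻¹ = u * (g * w * g⁻¹) * u⁻¹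
        group
  intro w hw
  exact Cpl.le_of hd h2 h hgen ⟨w, hw, rfl⟩

/-- From the chain. -/
theorem gen_of_chain (T : Subgroup X) (V : ℕ → Subgroup X) (n : ℕ) (hV0 : V 0 = ⊥) (hmono : ∀ i < n, V i ≤ V (i + 1))
    (hgen : ∀ i < n, ∀ v ∈ V (i + 1),
      v ∈ closure {x : X | ∃ t ∈ T, ∃ v ∈ V (i + 1), x = t * v * t⁻¹ * v⁻¹} ⊔ V i) :
    ∀ v ∈ V n, v ∈ closure {x : X | ∃ t ∈ T, ∃ v ∈ V n, x = t * v * t⁻¹ * v⁻¹} := by
  have key : ∀ i ≤ n, V i ≤ closure {x : X | ∃ t ∈ T, ∃ v ∈ V i, x = t * v * t⁻¹ * v⁻¹} := by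
    intro i
    induction i with
    | zero => intro _; rw [hV0]; exact bot_le
    | succ i ih =>
      intro hi v hv
      have h1 : V i ≤ closure {x : X | ∃ t ∈ T, ∃ v ∈ V (i + 1), x = t * v * t⁻¹ * v⁻¹} := by
        refine (ih (by omega)).trans (closure_mono ?_)
        rintro _ ⟨t, ht, v, hv, rfl⟩
        exact ⟨t, ht, v, hmono i (by omega) hv, rfl⟩
      have h2 := hgen i (by omega) v hv
      rwa [sup_eq_left.2 h1] at h2
  exact key n le_rfl

end Unique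

/-- An invariant pairing `V / V' × U → {±1}`. -/
structure Pair {X : Type*} [Group X] (U T V V' : Subgroup X) (F : X → X → ℤˣ) : Prop where
  mul_left : ∀ v ∈ V, ∀ w ∈ V, ∀ u ∈ U, F (v * w) u = F v u * F w u
  mul_right : ∀ v ∈ V, ∀ u ∈ U, ∀ w ∈ U, F v (u * w) = F v u * F v w
  conj : ∀ t ∈ T, ∀ v ∈ V, ∀ u ∈ U, F (t * v * t⁻¹) (t * u * t⁻¹) = F v u
  one : ∀ v ∈ V', ∀ u ∈ U, F v u = 1
  symm : ∀ v ∈ V, ∀ u ∈ V, F v u = F u v
  lift : ∀ v ∈ V, ∀ u ∈ U, LiftComm v u → F v u = 1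

section PairLemmas

variable {X : Type*} [Group X] {U T V V' : Subgroup X} {F : X → X → ℤˣ}

namespace Pair

theorem inv_left (h : Pair U T V V' F) {v u : X} (hv : v ∈ V) (hu : u ∈ U) : F v⁻¹ u = F v u := by
  have h1 := h.mul_left v hv v⁻¹ (inv_mem hv) u hu
  have h2 : F 1 u = 1 := by
    have h3 := h.mul_left 1 (one_mem _) 1 (one_mem _) u hu
    rw [mul_one] at h3
    exact (mul_eq_left (a := F 1 u)).1 h3.symm
  rw [mul_inv_cancel, h2] at h1
  have h3 : F v⁻¹ u = (F v u)⁻¹ := (inv_eq_of_mul_eq_one_right h1.symm).symm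
  rw [h3, Int.units_inv_eq_self]

theorem inv_right (h : Pair U T V V' F) {v u : X} (hv : v ∈ V) (hu : u ∈ U) : F v u⁻¹ = F v u := by
  have h1 := h.mul_right v hv u hu u⁻¹ (inv_mem hu)
  have h2 : F v 1 = 1 := by
    have h3 := h.mul_right v hv 1 (one_mem _) 1 (one_mem _)
    rw [mul_one] at h3
    exact (mul_eq_left (a := F v 1)).1 h3.symm
  rw [mul_inv_cancel, h2] at h1
  have h3 : F v u⁻¹ = (F v u)⁻¹ := (inv_eq_of_mul_eq_one_right h1.symm).symm
  rw [h3, Int.units_inv_eq_self]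

/-- `t` centralises `u`. -/
theorem left (h : Pair U T V V' F) {t v u : X} (ht : t ∈ T) (hv : v ∈ V) (hu : u ∈ U) (htv : t * v * t⁻¹ ∈ V)
    (e : t * u * t⁻¹ = u) : F (t * v * t⁻¹ * v⁻¹) u = 1 := by
  have h2 := h.conj t ht v hv u hu
  rw [e] at h2
  rw [h.mul_left _ htv _ (inv_mem hv) u hu, h.inv_left hv hu, h2, ← pow_two, Int.units_sq]

/-- `t` centralises `v`. -/
theorem right (h : Pair U T V V' F) {t v u : X} (ht : t ∈ T) (hv : v ∈ V) (hu : u ∈ U) (htu : t * u * t⁻¹ ∈ U)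
    (e : t * v * t⁻¹ = v) : F v (t * u * t⁻¹ * u⁻¹) = 1 := by
  have h2 := h.conj t ht v hv u hu
  rw [e] at h2
  rw [h.mul_right v hv _ htu _ (inv_mem hu), h.inv_right hv hu, h2, ← pow_two, Int.units_sq]

/-- commutators in the second variable -/
theorem comm (h : Pair U T V V' F) {v x y : X} (hv : v ∈ V) (hx : x ∈ U) (hy : y ∈ U) : F v ⁅x, y⁆ = 1 := by
  rw [commutatorElement_def, h.mul_right v hv _ (mul_mem (mul_mem hx hy) (inv_mem hx)) _ (inv_mem hy),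
    h.mul_right v hv _ (mul_mem hx hy) _ (inv_mem hx), h.mul_right v hv _ hx _ hy, h.inv_right hv hx,
    h.inv_right hv hy]
  rcases Int.units_eq_one_or (F v x) with h4 | h4 <;> rcases Int.units_eq_one_or (F v y) with h5 | h5 <;>
    rw [h4, h5] <;> decide

end Pair

/-- A biadditive function on a field of characteristic 2 which is invariant under `(ν, ν)`, `ν ^ 7 = 1`, `ν ≠ 1`. -/
theorem eq_one_of_seven {K : Type*} [Field K] [CharP K 2] {f : K → K → ℤˣ} {ν : K} (h7 : ν ^ 7 = 1) (h1 : ν ≠ 1)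
    (hl : ∀ x x' y, f (x + x') y = f x y * f x' y) (hr : ∀ x y y', f x (y + y') = f x y * f x y')
    (hν : ∀ x y, f (ν * x) (ν * y) = f x y) (x y : K) : f x y = 1 := by
  have h0 : ν ≠ 0 := by
    rintro rfl
    rw [zero_pow (by norm_num)] at h7
    exact zero_ne_one h7
  have hadj : ∀ x y, f (ν * x) y = f x (ν⁻¹ * y) := by
    intro x y
    rw [← hν x (ν⁻¹ * y), mul_inv_cancel_left₀ h0]
  have h2 : (2 : K) = 0 := CharTwo.two_eq_zero
  have hfac : (ν ^ 3 + ν + 1) * (ν ^ 3 + ν ^ 2 + 1) = 0 := by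
    have h3 : (ν - 1) * ((ν ^ 3 + ν + 1) * (ν ^ 3 + ν ^ 2 + 1)) = 0 := by
      have : (ν - 1) * ((ν ^ 3 + ν + 1) * (ν ^ 3 + ν ^ 2 + 1)) = (ν ^ 7 - 1) + 2 * (ν ^ 4 - ν ^ 3) := by ring
      rw [this, h7, h2]; ring
    exact (mul_eq_zero.1 h3).resolve_left (sub_ne_zero.2 h1)
  have hadj2 : ∀ x y, f (ν ^ 2 * x) y = f x ((ν⁻¹) ^ 2 * y) := by
    intro x y
    rw [pow_two, mul_assoc, hadj, hadj, pow_two, mul_assoc]
  have hadj3 : ∀ x y, f (ν ^ 3 * x) y = f x ((ν⁻¹) ^ 3 * y) := by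
    intro x y
    rw [pow_succ' ν, mul_assoc, hadj, hadj2, pow_succ ν⁻¹ 2, mul_assoc]
  have hzero : ∀ x, f 0 x = 1 := by
    intro x
    have h3 := hl 0 0 x
    rw [add_zero] at h3
    exact (mul_eq_left (a := f 0 x)).1 h3.symm
  -- the two cases
  have main : ∀ k : ℕ, (∀ x y, f (ν ^ k * x) y = f x ((ν⁻¹) ^ k * y)) → ν ^ 3 + ν ^ k + 1 = 0 →
      (ν⁻¹) ^ 3 + (ν⁻¹) ^ k + 1 ≠ 0 → f x y = 1 := by
    intro k hk e1 e2
    have h3 : ∀ x y, f x (((ν⁻¹) ^ 3 + (ν⁻¹) ^ k + 1) * y) = 1 := by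
      intro x y
      rw [add_mul, add_mul, one_mul, hr, hr, ← hk, ← hadj3, ← hl, ← hl]
      have : ν ^ 3 * x + ν ^ k * x + x = (ν ^ 3 + ν ^ k + 1) * x := by ring
      rw [this, e1, zero_mul, hzero]
    have h4 := h3 x (((ν⁻¹) ^ 3 + (ν⁻¹) ^ k + 1)⁻¹ * y)
    rwa [mul_inv_cancel_left₀ e2] at h4
  rcases mul_eq_zero.1 hfac with e | e
  · refine main 1 (by simpa using hadj) (by rw [pow_one]; exact e) ?_
    intro h3
    have h4 : 1 + ν ^ 2 + ν ^ 3 = 0 := by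
      have : ν ^ 3 * ((ν⁻¹) ^ 3 + (ν⁻¹) ^ 1 + 1) = 1 + ν ^ 2 + ν ^ 3 := by field_simp
      rw [← this, h3, mul_zero]
    have h5 : ν * (ν + 1) = 0 := by
      have : ν * (ν + 1) = (1 + ν ^ 2 + ν ^ 3) + (ν ^ 3 + ν + 1) - 2 * (ν ^ 3 + 1) := by ring
      rw [this, h4, e, h2]; ring
    rcases mul_eq_zero.1 h5 with h6 | h6
    · exact h0 h6
    · apply h1
      have : ν = (ν + 1) - 2 + 1 := by ring
      rw [this, h6, h2]; ring
  · refine main 2 hadj2 e ?_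
    intro h3
    have h4 : 1 + ν + ν ^ 3 = 0 := by
      have : ν ^ 3 * ((ν⁻¹) ^ 3 + (ν⁻¹) ^ 2 + 1) = 1 + ν + ν ^ 3 := by field_simp
      rw [← this, h3, mul_zero]
    have h5 : ν * (ν + 1) = 0 := by
      have : ν * (ν + 1) = (1 + ν + ν ^ 3) + (ν ^ 3 + ν ^ 2 + 1) - 2 * (ν ^ 3 + 1) := by ring
      rw [this, h4, e, h2]; ring
    rcases mul_eq_zero.1 h5 with h6 | h6
    · exact h0 h6
    · apply h1
      have : ν = (ν + 1) - 2 + 1 := by ring
      rw [this, h6, h2]; ring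

end PairLemmas

section Main

variable {X : Type*} [Group X]

/-- One step, with the pairing. -/
theorem step' {L : Type} [Group L] [Finite L] {π : L →* X} {c : L} (hd : Dbl π c)
    {U V V' T : Subgroup X} {W' : Subgroup L} [Finite T] (hT : Odd (Nat.card T))
    (hVU : V ≤ U) (hTU : ∀ t ∈ T, ∀ u ∈ U, t * u * t⁻¹ ∈ U) (hTV : ∀ t ∈ T, ∀ v ∈ V, t * v * t⁻¹ ∈ V)
    (hW' : Cpl π c U T V' W') (hV'V : V' ≤ V)
    (hcomm : ∀ v ∈ V, ∀ u ∈ U, ⁅v, u⁆ ∈ V')
    (hgen : ∀ v ∈ V, v ∈ closure {x : X | ∃ t ∈ T, ∃ v ∈ V, x = t * v * t⁻¹ * v⁻¹} ⊔ V')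
    (hpair : ∀ F : X → X → ℤˣ, Pair U T V V' F → ∀ v ∈ V, ∀ u ∈ U, F v u = 1) :
    ∃ W : Subgroup L, Cpl π c U T V W := by
  classical
  haveI : Fintype T := Fintype.ofFinite T
  let s : X → L := Function.surjInv hd.surj
  have hs : ∀ x, π (s x) = x := Function.surjInv_eq hd.surj
  let φ : L → ℤˣ := fun x => if x ∈ W' then 1 else -1
  have φ1 : ∀ x, φ x = 1 ↔ x ∈ W' := by
    intro x
    show (if x ∈ W' then (1 : ℤˣ) else -1) = 1 ↔ _
    by_cases h : x ∈ W'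
    · simp [h]
    · simp only [h, if_false, iff_false]; decide
  have φc : ∀ x, π x ∈ V' → φ (c * x) = - φ x := by
    intro x hx
    show (if c * x ∈ W' then (1 : ℤˣ) else -1) = - (if x ∈ W' then (1 : ℤˣ) else -1)
    by_cases h : x ∈ W'
    · have h2 : c * x ∉ W' := fun h2 => hW'.not_mem (by
        have := mul_mem h2 (inv_mem h)
        rwa [mul_inv_cancel_right] at this)
      rw [if_pos h, if_neg h2]
    · have h2 : c * x ∈ W' := (hW'.cov x hx).resolve_left h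
      rw [if_neg h, if_pos h2, neg_neg]
  have φmul : ∀ x y, π x ∈ V' → π y ∈ V' → φ (x * y) = φ x * φ y := by
    intro x y hx hy
    by_cases h1 : x ∈ W'
    · by_cases h2 : y ∈ W'
      · rw [(φ1 _).2 h1, (φ1 _).2 h2, (φ1 _).2 (mul_mem h1 h2), one_mul]
      · have h3 : c * y ∈ W' := (hW'.cov y hy).resolve_left h2
        have h4 : c * (x * y) ∈ W' := by
          rw [← mul_assoc, hd.cen, mul_assoc]; exact mul_mem h1 h3
        have h5 := φc (x * y) (by rw [map_mul]; exact mul_mem hx hy)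
        have h6 := φc y hy
        rw [(φ1 _).2 h4] at h5
        rw [(φ1 _).2 h3] at h6
        rw [(φ1 _).2 h1, one_mul, ← neg_inj, ← h5, ← h6]
    · have h3 : c * x ∈ W' := (hW'.cov x hx).resolve_left h1
      have h6 := φc x hx
      rw [(φ1 _).2 h3] at h6
      have h7 : φ x = -1 := by rw [h6, neg_neg]
      by_cases h2 : y ∈ W'
      · have h4 : c * (x * y) ∈ W' := by rw [← mul_assoc]; exact mul_mem h3 h2
        have h5 := φc (x * y) (by rw [map_mul]; exact mul_mem hx hy)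
        rw [(φ1 _).2 h4] at h5
        rw [(φ1 _).2 h2, mul_one, ← neg_inj, ← h5, ← h6]
      · have h8 : c * y ∈ W' := (hW'.cov y hy).resolve_left h2
        have h9 := φc y hy
        rw [(φ1 _).2 h8] at h9
        have h10 : φ y = -1 := by rw [h9, neg_neg]
        have h4 : x * y ∈ W' := by
          have e : x * y = (c * x) * (c * y) := by
            rw [hd.cen x, mul_assoc, ← mul_assoc c c, hd.sq, one_mul]
          rw [e]; exact mul_mem h3 h8
        rw [(φ1 _).2 h4, h7, h10]; decide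
  have φconj : ∀ g, (π g ∈ U ∨ π g ∈ T) → ∀ x, φ (g * x * g⁻¹) = φ x := by
    intro g hg
    have key : ∀ g, (π g ∈ U ∨ π g ∈ T) → ∀ x ∈ W', g * x * g⁻¹ ∈ W' := fun g hg x hx =>
      hg.elim (fun h => hW'.conjU g h x hx) (fun h => hW'.conjT g h x hx)
    intro x
    by_cases h : x ∈ W'
    · rw [(φ1 _).2 h, (φ1 _).2 (key g hg x h)]
    · have h2 : g * x * g⁻¹ ∉ W' := fun h2 => h (by
        have hg' : π g⁻¹ ∈ U ∨ π g⁻¹ ∈ T := by
          rw [map_inv, inv_mem_iff, inv_mem_iff]; exact hg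
        have := key g⁻¹ hg' _ h2
        rw [inv_inv] at this
        have e : g⁻¹ * (g * x * g⁻¹) * g = x := by group
        rwa [e] at this)
      show (if g * x * g⁻¹ ∈ W' then (1 : ℤˣ) else -1) = (if x ∈ W' then (1 : ℤˣ) else -1)
      rw [if_neg h, if_neg h2]
  let F : X → X → ℤˣ := fun v u => φ ⁅s v, s u⁆
  have hF : ∀ (a b : L), φ ⁅a, b⁆ = F (π a) (π b) := by
    intro a b
    show φ ⁅a, b⁆ = φ ⁅s (π a), s (π b)⁆
    rw [comm_eq hd (hs (π a)).symm (hs (π b)).symm]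
  have hcomm' : ∀ a b : L, π a ∈ V → π b ∈ U → π ⁅a, b⁆ ∈ V' := by
    intro a b ha hb
    rw [map_commutatorElement]
    exact hcomm _ ha _ hb
  have hP : Pair U T V V' F := by
    refine ⟨?_, ?_, ?_, ?_, ?_, ?_⟩
    · intro v hv w hw u hu
      obtain ⟨v, rfl⟩ := hd.surj v
      obtain ⟨w, rfl⟩ := hd.surj w
      obtain ⟨u, rfl⟩ := hd.surj u
      rw [← map_mul, ← hF, ← hF, ← hF]
      have e : ⁅v * w, u⁆ = v * ⁅w, u⁆ * v⁻¹ * ⁅v, u⁆ := by
        simp only [commutatorElement_def]; group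
      have h1 : π (v * ⁅w, u⁆ * v⁻¹) ∈ V' := by
        have h2 : v * ⁅w, u⁆ * v⁻¹ = ⁅v * w, u⁆ * ⁅v, u⁆⁻¹ := by rw [e, mul_inv_cancel_right]
        rw [h2, map_mul, map_inv]
        exact mul_mem (hcomm' _ _ (by rw [map_mul]; exact mul_mem hv hw) hu) (inv_mem (hcomm' _ _ hv hu))
      rw [e, φmul _ _ h1 (hcomm' _ _ hv hu), φconj v (Or.inl (hVU hv)), mul_comm]
    · intro v hv u hu w hw
      obtain ⟨v, rfl⟩ := hd.surj v
      obtain ⟨w, rfl⟩ := hd.surj w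
      obtain ⟨u, rfl⟩ := hd.surj u
      rw [← map_mul, ← hF, ← hF, ← hF]
      have e : ⁅v, u * w⁆ = ⁅v, u⁆ * (u * ⁅v, w⁆ * u⁻¹) := by
        simp only [commutatorElement_def]; group
      have h1 : π (u * ⁅v, w⁆ * u⁻¹) ∈ V' := by
        have h2 : u * ⁅v, w⁆ * u⁻¹ = ⁅v, u⁆⁻¹ * ⁅v, u * w⁆ := by rw [e, inv_mul_cancel_left]
        rw [h2, map_mul, map_inv]
        exact mul_mem (inv_mem (hcomm' _ _ hv hu)) (hcomm' _ _ hv (by rw [map_mul]; exact mul_mem hu hw))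
      rw [e, φmul _ _ (hcomm' _ _ hv hu) h1, φconj u (Or.inl hu)]
    · intro t ht v hv u hu
      obtain ⟨v, rfl⟩ := hd.surj v
      obtain ⟨t, rfl⟩ := hd.surj t
      obtain ⟨u, rfl⟩ := hd.surj u
      have e1 : π t * π v * (π t)⁻¹ = π (t * v * t⁻¹) := by simp only [map_mul, map_inv]
      have e2 : π t * π u * (π t)⁻¹ = π (t * u * t⁻¹) := by simp only [map_mul, map_inv]
      rw [e1, e2, ← hF, ← hF, ← φconj t (Or.inr ht) ⁅v, u⁆]
      congr 1
      simp only [commutatorElement_def]; group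
    · intro v hv u hu
      obtain ⟨v, rfl⟩ := hd.surj v
      obtain ⟨u, rfl⟩ := hd.surj u
      rw [← hF]
      have e : ⁅v, u⁆ = v * (u * v⁻¹ * u⁻¹) := by simp only [commutatorElement_def]; group
      have h1 : π (u * v⁻¹ * u⁻¹) ∈ V' := by
        have h2 : u * v⁻¹ * u⁻¹ = v⁻¹ * ⁅v, u⁆ := by rw [e, inv_mul_cancel_left]
        rw [h2, map_mul, map_inv]
        exact mul_mem (inv_mem hv) (hcomm' _ _ (hV'V hv) hu)
      rw [e, φmul _ _ hv h1, φconj u (Or.inl hu), ← φmul _ _ hv (by rw [map_inv]; exact inv_mem hv), mul_inv_cancel,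
        (φ1 1).2 (one_mem _)]
    · intro v hv u hu
      obtain ⟨v, rfl⟩ := hd.surj v
      obtain ⟨u, rfl⟩ := hd.surj u
      rw [← hF, ← hF]
      have h1 := hcomm' v u hv (hVU hu)
      have h2 := hcomm' u v hu (hVU hv)
      have h3 : φ ⁅v, u⁆ * φ ⁅u, v⁆ = 1 := by
        rw [← φmul _ _ h1 h2, ← commutatorElement_inv u v, inv_mul_cancel, (φ1 1).2 (one_mem _)]
      rcases Int.units_eq_one_or (φ ⁅v, u⁆) with h4 | h4 <;> rw [h4] at h3 ⊢
      · rw [one_mul] at h3; exact h3.symm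
      · rcases Int.units_eq_one_or (φ ⁅u, v⁆) with h5 | h5 <;> rw [h5] at h3 ⊢
        exact absurd h3 (by decide)
    · intro v hv u hu h
      obtain ⟨v, rfl⟩ := hd.surj v
      obtain ⟨u, rfl⟩ := hd.surj u
      rw [← hF, (φ1 _).2]
      have h1 := h L π c hd v u rfl rfl
      rw [commutatorElement_def, h1, mul_inv_cancel_right, mul_inv_cancel]
      exact one_mem _
  have hall := hpair F hP
  refine step hd (by rw [← Nat.card_eq_fintype_card]; exact hT) hVU hTV hW' hV'V ?_ hgen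
  intro v u hv hu
  rw [← φ1, hF]
  exact hall _ hv _ hu

/-- The chain theorem. -/
theorem exists_compl_of_chain {L : Type} [Group L] [Finite L] {π : L →* X} {c : L} (hd : Dbl π c)
    {U T : Subgroup X} [Finite T] (hT : Odd (Nat.card T)) (V : ℕ → Subgroup X) (n : ℕ)
    (hV0 : V 0 = ⊥) (hVU : ∀ i ≤ n, V i ≤ U) (hmono : ∀ i < n, V i ≤ V (i + 1))
    (hTU : ∀ t ∈ T, ∀ u ∈ U, t * u * t⁻¹ ∈ U)
    (hTV : ∀ i ≤ n, ∀ t ∈ T, ∀ v ∈ V i, t * v * t⁻¹ ∈ V i)
    (hcomm : ∀ i < n, ∀ v ∈ V (i + 1), ∀ u ∈ U, ⁅v, u⁆ ∈ V i)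
    (hgen : ∀ i < n, ∀ v ∈ V (i + 1),
      v ∈ closure {x : X | ∃ t ∈ T, ∃ v ∈ V (i + 1), x = t * v * t⁻¹ * v⁻¹} ⊔ V i)
    (hpair : ∀ i < n, ∀ F : X → X → ℤˣ, Pair U T (V (i + 1)) (V i) F →
      ∀ v ∈ V (i + 1), ∀ u ∈ U, F v u = 1) :
    ∃ W : Subgroup L, Cpl π c U T (V n) W := by
  have key : ∀ i ≤ n, ∃ W : Subgroup L, Cpl π c U T (V i) W := by
    intro i
    induction i with
    | zero =>
      intro _
      refine ⟨⊥, ?_, ?_, ?_, ?_, ?_⟩
      · intro w hw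
        rw [mem_bot] at hw
        rw [hw, map_one]; exact one_mem _
      · rw [mem_bot]; exact hd.ne
      · intro v hv
        rw [hV0, mem_bot] at hv
        rcases (hd.ker v).1 hv with rfl | rfl
        · left; exact one_mem _
        · right; rw [hd.sq]; exact one_mem _
      · intro u _ w hw
        rw [mem_bot] at hw ⊢
        rw [hw, mul_one, mul_inv_cancel]
      · intro u _ w hw
        rw [mem_bot] at hw ⊢
        rw [hw, mul_one, mul_inv_cancel]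
    | succ i ih =>
      intro hi
      obtain ⟨W', hW'⟩ := ih (by omega)
      exact step' hd hT (hVU _ hi) hTU (hTV _ hi) hW' (hmono i (by omega)) (hcomm i (by omega)) (hgen i (by omega))
        (hpair i (by omega))
  exact key n le_rfl

/-- **The chain criterion.** -/
theorem noDouble_of_chain [Finite X] {U T : Subgroup X} (hUodd : ¬ 2 ∣ U.index) (hT : Odd (Nat.card T))
    (V : ℕ → Subgroup X) (n : ℕ)
    (hV0 : V 0 = ⊥) (hVn : V n = U) (hVU : ∀ i ≤ n, V i ≤ U) (hmono : ∀ i < n, V i ≤ V (i + 1))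
    (hTV : ∀ i ≤ n, ∀ t ∈ T, ∀ v ∈ V i, t * v * t⁻¹ ∈ V i)
    (hcomm : ∀ i < n, ∀ v ∈ V (i + 1), ∀ u ∈ U, ⁅v, u⁆ ∈ V i)
    (hgen : ∀ i < n, ∀ v ∈ V (i + 1),
      v ∈ closure {x : X | ∃ t ∈ T, ∃ v ∈ V (i + 1), x = t * v * t⁻¹ * v⁻¹} ⊔ V i)
    (hpair : ∀ i < n, ∀ F : X → X → ℤˣ, Pair U T (V (i + 1)) (V i) F →
      ∀ v ∈ V (i + 1), ∀ u ∈ U, F v u = 1) : NoDouble X := by
  intro L _ _ π c hd
  have hTU : ∀ t ∈ T, ∀ u ∈ U, t * u * t⁻¹ ∈ U := by
    rw [← hVn]; exact hTV n le_rfl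
  obtain ⟨W, hW⟩ := exists_compl_of_chain hd hT V n hV0 hVU hmono hTU hTV hcomm hgen hpair
  rw [hVn] at hW
  refine hd.toCtr.false_of_compl (P := U.comap π) (P₁ := W) ?_ ?_ hW.not_mem fun x hx => hW.cov x hx
  · show π c ∈ U
    rw [(hd.ker c).2 (Or.inr rfl)]; exact one_mem _
  · rwa [index_comap_of_surjective _ hd.surj]

end Main

end Cfsg.Agent.KFacts.Mult.Chain
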