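import Cfsg.Agent.KFacts.Mult.Chain
import Cfsg.Agent.KFacts.Mult.Calc

/-!
# Splitting of a double cover over a chain of root groups, some of them centralised by the torus (helper430)

`CM π W x y`: the lifts of `x` and `y` commute modulo `W`.

`exists_cpl`: `V k` is the subgroup generated by the sets `gens j`, `j < k`. If lifts of elements of `gens k` and of
`gens l` commute modulo any complement of `⟨c⟩` in the preimage of `V k` (which contains the prescribed elements `spec j`,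
`j < k`), and `gens k` is either moved by the group `T` of odd order or a single involution `z` (centralised by `T`, with
a lift which is an involution), then `⟨c⟩` has a complement over all the `V k`.
-/

set_option autoImplicit false
set_option linter.style.haveILetI false

namespace Cfsg.Agent.KFacts.Mult.ChainZ

open Subgroup Cfsg.Agent.KFacts.MulTwo Cfsg.Agent.KFacts.MulDef Cfsg.Agent.KFacts.Mult.Chain
open Cfsg.Agent.KFacts.Mult.Calc
open scoped commutatorElement

variable {L X : Type*} [Group L] [Group X] {π : L →* X} {c : L}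

/-- The step of the construction (helper611, `Chain.step`), with `W' ≤ W`. -/
theorem stepLe (hd : Dbl π c) {U V V' T : Subgroup X} {W' : Subgroup L} [Fintype T] (hT : Odd (Fintype.card T))
    (hVU : V ≤ U) (hTV : ∀ t ∈ T, ∀ v ∈ V, t * v * t⁻¹ ∈ V) (hW' : Cpl π c U T V' W') (hV'V : V' ≤ V)
    (hcomm : ∀ v u : L, π v ∈ V → π u ∈ U → ⁅v, u⁆ ∈ W')
    (hgen : ∀ v ∈ V, v ∈ closure {x : X | ∃ t ∈ T, ∃ v ∈ V, x = t * v * t⁻¹ * v⁻¹} ⊔ V') :
    ∃ W : Subgroup L, Cpl π c U T V W ∧ W' ≤ W := by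
  classical
  let VL : Subgroup L := V.comap π
  have memVL : ∀ x : L, x ∈ VL ↔ π x ∈ V := fun x => Iff.rfl
  have hWV : W' ≤ VL := fun w hw => hV'V (hW'.le w hw)
  have hcV : c ∈ VL := by
    rw [memVL, (hd.ker c).2 (Or.inr rfl)]; exact one_mem _
  have hn : (W'.subgroupOf VL).Normal := by
    constructor
    intro w hw g
    exact hW'.conjU g (hVU g.2) w hw
  let A := ↥VL ⧸ W'.subgroupOf VL
  let mk : ↥VL →* A := QuotientGroup.mk' (W'.subgroupOf VL)
  have mk_eq : ∀ x y : ↥VL, mk x = mk y ↔ (x : L)⁻¹ * y ∈ W' := by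
    intro x y
    show (QuotientGroup.mk x : A) = QuotientGroup.mk y ↔ _
    rw [QuotientGroup.eq]
    rfl
  have mk_one : ∀ x : ↥VL, mk x = 1 ↔ (x : L) ∈ W' := by
    intro x
    show (QuotientGroup.mk x : A) = 1 ↔ _
    rw [QuotientGroup.eq_one_iff]
    rfl
  have hcommA : ∀ a b : A, a * b = b * a := by
    intro a b
    obtain ⟨x, rfl⟩ := QuotientGroup.mk'_surjective _ a
    obtain ⟨y, rfl⟩ := QuotientGroup.mk'_surjective _ b
    show mk x * mk y = mk y * mk x
    rw [← map_mul, ← map_mul, mk_eq]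
    have h1 := hcomm (y : L)⁻¹ (x : L)⁻¹ (VL.inv_mem y.2) (by rw [map_inv]; exact inv_mem (hVU x.2))
    have h2 : ⁅(y : L)⁻¹, (x : L)⁻¹⁆ = ((x * y : ↥VL) : L)⁻¹ * ((y * x : ↥VL) : L) := by
      rw [commutatorElement_def]; push_cast; group
    rwa [h2] at h1
  letI : CommGroup A := { (inferInstance : Group A) with mul_comm := hcommA }
  -- lifts of the elements of `T`
  let s : X → L := Function.surjInv hd.surj
  have hs : ∀ x, π (s x) = x := Function.surjInv_eq hd.surj
  have hcj : ∀ t : L, π t ∈ T → ∀ v ∈ VL, t * v * t⁻¹ ∈ VL := by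
    intro t ht v hv
    rw [memVL, map_mul, map_mul, map_inv]
    exact hTV _ ht _ hv
  let cj : ∀ t : L, π t ∈ T → (↥VL →* ↥VL) := fun t ht =>
    { toFun := fun v => ⟨t * v * t⁻¹, hcj t ht v v.2⟩
      map_one' := by apply Subtype.ext; simp
      map_mul' := by
        intro x y
        apply Subtype.ext
        show t * (x * y) * t⁻¹ = t * x * t⁻¹ * (t * y * t⁻¹)
        group }
  have hsT : ∀ t : T, π (s t) ∈ T := fun t => by rw [hs]; exact t.2
  let N : ↥VL →* A := ∏ t : T, mk.comp (cj (s t) (hsT t))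
  have hN : ∀ v : ↥VL, N v = ∏ t : T, mk (cj (s t) (hsT t) v) := by
    intro v
    show (∏ t : T, mk.comp (cj (s t) (hsT t))) v = _
    rw [MonoidHom.finsetProd_apply]
    rfl
  -- invariance
  have hNinv : ∀ (t : L) (ht : π t ∈ T) (v : ↥VL), N (cj t ht v) = N v := by
    intro t ht v
    rw [hN, hN]
    refine Fintype.prod_equiv (Equiv.mulRight (⟨π t, ht⟩ : T)) _ _ ?_
    intro r
    congr 1
    apply Subtype.ext
    show s r * (t * v * t⁻¹) * (s r)⁻¹ = s (r * π t : X) * v * (s (r * π t : X))⁻¹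
    have h1 : π (s r * t) = π (s (r * π t : X)) := by rw [map_mul, hs, hs]
    rw [← conj_eq hd h1]
    group
  have hNW : ∀ w : ↥VL, (w : L) ∈ W' → N w = 1 := by
    intro w hw
    rw [hN]
    apply Finset.prod_eq_one
    intro t _
    rw [mk_one]
    exact hW'.conjT _ (hsT t) _ hw
  have hNc : N ⟨c, hcV⟩ = mk ⟨c, hcV⟩ := by
    rw [hN]
    have h1 : ∀ t : T, mk (cj (s t) (hsT t) ⟨c, hcV⟩) = mk ⟨c, hcV⟩ := by
      intro t
      congr 1
      apply Subtype.ext
      show s t * c * (s t)⁻¹ = c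
      rw [← hd.cen, mul_inv_cancel_right]
    rw [Finset.prod_congr rfl fun t _ => h1 t, Finset.prod_const, Finset.card_univ]
    obtain ⟨k, hk⟩ := hT
    have h2 : mk ⟨c, hcV⟩ * mk ⟨c, hcV⟩ = 1 := by
      rw [← map_mul]
      have : (⟨c, hcV⟩ * ⟨c, hcV⟩ : ↥VL) = 1 := Subtype.ext hd.sq
      rw [this, map_one]
    rw [hk, pow_succ, pow_mul, pow_two, h2, one_pow, one_mul]
  have hc1 : mk ⟨c, hcV⟩ ≠ 1 := fun h => hW'.not_mem ((mk_one _).1 h)
  -- the values on `V'`
  have hNV' : ∀ v : ↥VL, π v ∈ V' → N v = 1 ∨ N v = mk ⟨c, hcV⟩ := by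
    intro v hv
    rcases hW'.cov v hv with h1 | h1
    · left; exact hNW v h1
    · right
      have h2 : N (⟨c, hcV⟩ * v) = 1 := hNW _ h1
      rw [map_mul, hNc] at h2
      have h3 : mk ⟨c, hcV⟩ * mk ⟨c, hcV⟩ = 1 := by
        rw [← map_mul]
        have : (⟨c, hcV⟩ * ⟨c, hcV⟩ : ↥VL) = 1 := Subtype.ext hd.sq
        rw [this, map_one]
      exact mul_left_cancel (h2.trans h3.symm)
  -- the values on `V`
  have hmm : mk ⟨c, hcV⟩ * mk ⟨c, hcV⟩ = 1 := by
    rw [← map_mul]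
    have : (⟨c, hcV⟩ * ⟨c, hcV⟩ : ↥VL) = 1 := Subtype.ext hd.sq
    rw [this, map_one]
  have hval : ∀ v : ↥VL, N v = 1 ∨ N v = mk ⟨c, hcV⟩ := by
    -- the subgroup of values
    let Z : Subgroup A :=
      { carrier := {a | a = 1 ∨ a = mk ⟨c, hcV⟩}
        one_mem' := Or.inl rfl
        mul_mem' := by
          rintro a b (rfl | rfl) (rfl | rfl)
          · left; rw [mul_one]
          · right; rw [one_mul]
          · right; rw [mul_one]
          · left; exact hmm
        inv_mem' := by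
          rintro a (rfl | rfl)
          · left; rw [inv_one]
          · right; exact inv_eq_of_mul_eq_one_left hmm }
    let D : Subgroup X := (Z.comap N).map (π.comp VL.subtype)
    have hD1 : closure {x : X | ∃ t ∈ T, ∃ v ∈ V, x = t * v * t⁻¹ * v⁻¹} ≤ D := by
      rw [closure_le]
      rintro _ ⟨t, ht, v, hv, rfl⟩
      obtain ⟨t, rfl⟩ := hd.surj t
      obtain ⟨v, rfl⟩ := hd.surj v
      refine ⟨cj t ht ⟨v, hv⟩ * (⟨v, hv⟩ : ↥VL)⁻¹, ?_, ?_⟩
      · left
        rw [map_mul, hNinv t ht, map_inv, mul_inv_cancel]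
      · show π (t * v * t⁻¹ * v⁻¹) = _
        simp only [map_mul, map_inv]
    have hD2 : V' ≤ D := by
      intro v hv
      obtain ⟨v, rfl⟩ := hd.surj v
      exact ⟨⟨v, hV'V hv⟩, hNV' _ hv, rfl⟩
    intro v
    obtain ⟨w, hw, e⟩ := (sup_le hD1 hD2) (hgen (π v) v.2)
    have e' : π (w : L) = π (v : L) := e
    have hwZ : N w ∈ Z := hw
    rcases eq_or hd e'.symm with h1 | h1
    · have : v = w := Subtype.ext h1
      rw [this]; exact hwZ
    · have : v = ⟨c, hcV⟩ * w := Subtype.ext h1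
      rw [this, map_mul, hNc]
      exact Z.mul_mem (Or.inr rfl) hwZ
  refine ⟨N.ker.map VL.subtype, ⟨?_, ?_, ?_, ?_, ?_⟩, fun w hw => ⟨⟨w, hWV hw⟩, hNW _ hw, rfl⟩⟩
  · rintro _ ⟨w, -, rfl⟩
    exact w.2
  · rintro ⟨w, hw, e⟩
    have hw' : w = ⟨c, hcV⟩ := Subtype.ext e
    rw [SetLike.mem_coe, MonoidHom.mem_ker, hw', hNc] at hw
    exact hc1 hw
  · intro v hv
    rcases hval ⟨v, hv⟩ with h1 | h1
    · left; exact ⟨⟨v, hv⟩, h1, rfl⟩
    · right
      refine ⟨⟨c, hcV⟩ * ⟨v, hv⟩, ?_, rfl⟩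
      rw [SetLike.mem_coe, MonoidHom.mem_ker, map_mul, hNc, h1, hmm]
  · rintro u hu _ ⟨w, hw, rfl⟩
    have h1 : ⁅(w : L), u⁆ ∈ W' := hcomm w u w.2 hu
    have h2 : ⁅u, (w : L)⁆ ∈ W' := by rw [← commutatorElement_inv]; exact inv_mem h1
    refine ⟨⟨⁅u, (w : L)⁆, hWV h2⟩ * w, ?_, ?_⟩
    · rw [SetLike.mem_coe, MonoidHom.mem_ker, map_mul, hNW _ h2, one_mul]
      exact hw
    · show ⁅u, (w : L)⁆ * w = u * w * u⁻¹
      rw [commutatorElement_def, inv_mul_cancel_right]
  · rintro t ht _ ⟨w, hw, rfl⟩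
    refine ⟨cj t ht w, ?_, rfl⟩
    rw [SetLike.mem_coe, MonoidHom.mem_ker, hNinv t ht]
    exact hw

/-- Lifts of `x` and `y` commute modulo `W`. -/
def CM (π : L →* X) (W : Subgroup L) (x y : X) : Prop := ∀ a b : L, π a = x → π b = y → ⁅a, b⁆ ∈ W

namespace CM

variable {W : Subgroup L} {x y : X}

theorem symm (h : CM π W x y) : CM π W y x := fun a b ha hb => by
  rw [← commutatorElement_inv]; exact inv_mem (h b a hb ha)

theorem of_lc (h : CE π) (hx : h.lc x y ∈ W) : CM π W x y := fun a b ha hb => by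
  rw [h.comm_eq' ha hb]; exact hx

theorem lc_mem (h : CE π) (hx : CM π W x y) : h.lc x y ∈ W := hx _ _ (h.map_lift x) (h.map_lift y)

theorem of_lc_one (h : CE π) (hx : h.lc x y = 1) : CM π W x y := of_lc h (by rw [hx]; exact one_mem _)

theorem mul_right (hn : ∀ u : L, π u = y → ∀ w ∈ W, u * w * u⁻¹ ∈ W) {y' : X} (h1 : CM π W x y) (h2 : CM π W x y')
    (hs : Function.Surjective π) : CM π W x (y * y') := by
  intro a b ha hb
  obtain ⟨b1, hb1⟩ := hs y
  have e : ⁅a, b⁆ = ⁅a, b1⁆ * (b1 * ⁅a, b1⁻¹ * b⁆ * b1⁻¹) := by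
    simp only [commutatorElement_def]; group
  rw [e]
  refine mul_mem (h1 a b1 ha hb1) (hn b1 hb1 _ (h2 a _ ha ?_))
  rw [map_mul, map_inv, hb, hb1]; group

theorem inv_right (hn : ∀ u : L, π u = y⁻¹ → ∀ w ∈ W, u * w * u⁻¹ ∈ W) (h1 : CM π W x y) : CM π W x y⁻¹ := by
  intro a b ha hb
  have e : ⁅a, b⁆ = b * ⁅a, b⁻¹⁆⁻¹ * b⁻¹ := by
    simp only [commutatorElement_def]; group
  rw [e]
  refine hn b hb _ (inv_mem (h1 a _ ha ?_))
  rw [map_inv, hb, inv_inv]

end CM

section CplLemmas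

variable {U T V : Subgroup X} {W : Subgroup L} (hd : Dbl π c) (hW : Cpl π c U T V W)

include hd hW

theorem CM.of_mem {x y : X} (hx : x ∈ V) (hy : y ∈ U) : CM π W x y := by
  have key : ∀ a b : L, a ∈ W → π b = y → ⁅a, b⁆ ∈ W := by
    intro a b ha hb
    have e : ⁅a, b⁆ = a * (b * a⁻¹ * b⁻¹) := by simp only [commutatorElement_def]; group
    rw [e]
    exact mul_mem ha (hW.conjU b (by rw [hb]; exact hy) _ (inv_mem ha))
  intro a b ha hb
  rcases hW.cov a (by rw [ha]; exact hx) with h | h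
  · exact key a b h hb
  · have h1 := key _ b h hb
    rwa [← comm_eq (π := π) hd (b := b) (b' := b) (a := a) (a' := c * a) ?_ rfl] at h1
    rw [map_mul, (hd.ker c).2 (Or.inr rfl), one_mul]

theorem CM.mul_left' {x x' y : X} (hx : x ∈ U) (h1 : CM π W x y) (h2 : CM π W x' y) : CM π W (x * x') y :=
  (h1.symm.mul_right (fun u hu w hw => hW.conjU u (by rw [hu]; exact hx) w hw) h2.symm hd.surj).symm

theorem CM.mul_right' {x y y' : X} (hy : y ∈ U) (h1 : CM π W x y) (h2 : CM π W x y') : CM π W x (y * y') :=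
  h1.mul_right (fun u hu w hw => hW.conjU u (by rw [hu]; exact hy) w hw) h2 hd.surj

/-- The torus lemma: `h` centralises `y` and `x = [h, x'] v` with `v ∈ V`. -/
theorem CM.of_torus {h x' x y v : X} (hT : h ∈ T) (hy : y ∈ U) (hhy : h * y = y * h)
    (hx : x = ⁅h, x'⁆ * v) (hv : v ∈ V) (hx' : x' ∈ U) (hhx : h * x' * h⁻¹ ∈ U) (hc : ⁅x', y⁆ ∈ V) : CM π W x y := by
  rw [hx]
  have hcU : ⁅h, x'⁆ ∈ U := by rw [commutatorElement_def]; exact mul_mem hhx (inv_mem hx')
  refine CM.mul_left' hd hW hcU ?_ (CM.of_mem hd hW hv hy)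
  intro a b ha hb
  obtain ⟨t, ht⟩ := hd.surj h
  obtain ⟨z, hz⟩ := hd.surj x'
  rw [comm_eq (π := π) hd (a := a) (a' := ⁅t, z⁆) (b := b) (b' := b) (by rw [ha, map_commutatorElement, ht, hz]) rfl]
  -- `⁅z, b⁆ = w` or `c * w`
  have hπ : π ⁅z, b⁆ ∈ V := by rw [map_commutatorElement, hz, hb]; exact hc
  have htU : π t ∈ T := by rw [ht]; exact hT
  -- `t z t⁻¹` and `b`
  have e1 : ⁅t * z * t⁻¹, b⁆ = t * ⁅z, b⁆ * t⁻¹ := by
    have : t * ⁅z, b⁆ * t⁻¹ = ⁅t * z * t⁻¹, t * b * t⁻¹⁆ := conjugate_commutatorElement _ _ _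
    rw [this]
    refine comm_eq (π := π) hd rfl ?_
    rw [map_mul, map_mul, map_inv, ht, hb, hhy, mul_inv_cancel_right]
  have hzU : π z ∈ U := by rw [hz]; exact hx'
  have hzU' : π (t * z * t⁻¹) ∈ U := by rw [map_mul, map_mul, map_inv, ht, hz]; exact hhx
  have e2 : ⁅⁅t, z⁆, b⁆ = (t * z * t⁻¹) * ⁅z⁻¹, b⁆ * (t * z * t⁻¹)⁻¹ * ⁅t * z * t⁻¹, b⁆ := by
    simp only [commutatorElement_def]; group
  have e3 : ⁅z⁻¹, b⁆ = z⁻¹ * ⁅z, b⁆⁻¹ * z := by simp only [commutatorElement_def]; group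
  have hcc : ∀ g : L, g * c = c * g := fun g => (hd.cen g).symm
  have hz1 : π z⁻¹ ∈ U := by rw [map_inv]; exact inv_mem hzU
  rcases hW.cov _ hπ with h1 | h1
  · rw [e2, e1, e3]
    refine mul_mem (hW.conjU _ hzU' _ ?_) (hW.conjT t htU _ h1)
    have := hW.conjU z⁻¹ hz1 _ (inv_mem h1)
    rwa [inv_inv] at this
  · -- `⁅z, b⁆ = c w`
    obtain ⟨w, hw, e⟩ : ∃ w ∈ W, ⁅z, b⁆ = c * w := ⟨c * ⁅z, b⁆, h1, by rw [← mul_assoc, hd.sq, one_mul]⟩
    rw [e2, e1, e3, e]
    have e4 : (t * z * t⁻¹) * (z⁻¹ * (c * w)⁻¹ * z) * (t * z * t⁻¹)⁻¹ * (t * (c * w) * t⁻¹) =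
        (t * z * t⁻¹) * (z⁻¹ * w⁻¹ * z) * (t * z * t⁻¹)⁻¹ * (t * w * t⁻¹) := by
      have h2 : ∀ g k : L, g * (c * k) = c * (g * k) := fun g k => by rw [← mul_assoc, hcc, mul_assoc]
      have h3 : c⁻¹ = c := inv_eq_of_mul_eq_one_left hd.sq
      rw [mul_inv_rev, h3]
      simp only [mul_assoc, h2]
      rw [← mul_assoc c c, hd.sq, one_mul]
    rw [e4]
    refine mul_mem (hW.conjU _ hzU' _ ?_) (hW.conjT t htU _ hw)
    have := hW.conjU z⁻¹ hz1 _ (inv_mem hw)
    rwa [inv_inv] at this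

end CplLemmas

/-- `V k` : the group generated by the first `k` sets of root elements. -/
def Vk (gens : ℕ → Set X) (k : ℕ) : Subgroup X := closure (⋃ j ∈ Finset.range k, gens j)

theorem mem_Vk {gens : ℕ → Set X} {k j : ℕ} (hj : j < k) {g : X} (hg : g ∈ gens j) : g ∈ Vk gens k := by
  apply Subgroup.subset_closure
  simp only [Set.mem_iUnion, Finset.mem_range]
  exact ⟨j, hj, hg⟩

theorem Vk_le {gens : ℕ → Set X} {k : ℕ} {K : Subgroup X} (h : ∀ j < k, ∀ g ∈ gens j, g ∈ K) : Vk gens k ≤ K := by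
  unfold Vk
  rw [closure_le]
  intro g hg
  simp only [Set.mem_iUnion, Finset.mem_range] at hg
  obtain ⟨j, hj, hg⟩ := hg
  exact h j hj g hg

theorem Vk_mono {gens : ℕ → Set X} {k k' : ℕ} (h : k ≤ k') : Vk gens k ≤ Vk gens k' :=
  Vk_le fun _ hj _ hg => mem_Vk (lt_of_lt_of_le hj h) hg

theorem Vk_zero {gens : ℕ → Set X} : Vk gens 0 = ⊥ := by
  rw [eq_bot_iff]
  exact Vk_le fun j hj => absurd hj (Nat.not_lt_zero j)

theorem Vk_succ {gens : ℕ → Set X} {k : ℕ} {K : Subgroup X} (h : ∀ g ∈ gens k, g ∈ K) (h' : Vk gens k ≤ K) :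
    Vk gens (k + 1) ≤ K := by
  refine Vk_le fun j hj g hg => ?_
  rcases Nat.lt_succ_iff_lt_or_eq.1 hj with h1 | rfl
  · exact h' (mem_Vk h1 hg)
  · exact h g hg

/-- induction over a group given by generators (as a set) for `CM` on the right -/
theorem CM.closure_right {U T V : Subgroup X} {W : Subgroup L} (hd : Dbl π c) (hW : Cpl π c U T V W) {x : X}
    {S : Set X} (hS : ∀ s ∈ S, s ∈ U) (h : ∀ s ∈ S, CM π W x s) : ∀ y ∈ closure S, CM π W x y := by
  intro y hy
  have hSU : closure S ≤ U := by rw [closure_le]; exact hS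
  induction hy using closure_induction with
  | mem y hy => exact h y hy
  | one =>
    intro a b ha hb
    rw [comm_eq (π := π) hd (a := a) (a' := a) (b := b) (b' := 1) rfl (by rw [hb, map_one]),
      commutatorElement_one_right]
    exact one_mem _
  | mul y z hy hz h1 h2 => exact CM.mul_right' hd hW (hSU hy) h1 h2
  | inv y hy h1 =>
    exact h1.inv_right fun u hu w hw => hW.conjU u (by rw [hu]; exact inv_mem (hSU hy)) w hw

/-- **The chain theorem.** -/
theorem exists_cpl [Finite L] (hd : Dbl π c) {T : Subgroup X} [Finite T] (hT : Odd (Nat.card T)) (n : ℕ)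
    (gens : ℕ → Set X) (spec : ℕ → Set L)
    (hTg : ∀ k < n, ∀ t ∈ T, ∀ g ∈ gens k, t * g * t⁻¹ ∈ Vk gens (k + 1))
    (pair : ∀ k < n, ∀ W : Subgroup L, Cpl π c (Vk gens n) T (Vk gens k) W → (∀ j < k, ∀ s ∈ spec j, s ∈ W) →
      ∀ g ∈ gens k, ∀ l < n, ∀ g' ∈ gens l, CM π W g g')
    (kind : ∀ k < n, (spec k = ∅ ∧ ∀ g ∈ gens k, ∃ t ∈ T, ∃ v ∈ Vk gens (k + 1), ∃ w ∈ Vk gens k,
        g = t * v * t⁻¹ * v⁻¹ * w) ∨
      (∃ (z : X) (ω : L), (z ∈ gens k ∧ ∀ g ∈ gens k, g = 1 ∨ g = z) ∧ π ω = z ∧ ω * ω = 1 ∧ spec k = {ω} ∧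
        z ∉ Vk gens k ∧
        ∀ t ∈ T, ∀ t' : L, π t' = t → t' * ω * t'⁻¹ = ω)) :
    ∀ k ≤ n, ∃ W : Subgroup L, Cpl π c (Vk gens n) T (Vk gens k) W ∧ ∀ j < k, ∀ s ∈ spec j, s ∈ W := by
  classical
  haveI : Fintype T := Fintype.ofFinite T
  have hTc : Odd (Fintype.card T) := by rwa [← Nat.card_eq_fintype_card]
  intro k
  induction k with
  | zero =>
    intro _
    refine ⟨⊥, ⟨?_, ?_, ?_, ?_, ?_⟩, fun j hj => absurd hj (Nat.not_lt_zero j)⟩
    · intro w hw
      rw [mem_bot] at hw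
      rw [hw, map_one]; exact one_mem _
    · rw [mem_bot]; exact hd.ne
    · intro v hv
      rw [Vk_zero, mem_bot] at hv
      rcases (hd.ker v).1 hv with rfl | rfl
      · left; exact one_mem _
      · right; rw [hd.sq]; exact one_mem _
    · intro u _ w hw
      rw [mem_bot] at hw ⊢
      rw [hw, mul_one, mul_inv_cancel]
    · intro u _ w hw
      rw [mem_bot] at hw ⊢
      rw [hw, mul_one, mul_inv_cancel]
  | succ k ih =>
    intro hk
    have hkn : k < n := hk
    obtain ⟨W, hW, hspec⟩ := ih hkn.le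
    have hgU : ∀ j < n, ∀ g ∈ gens j, g ∈ Vk gens n := fun j hj g hg => mem_Vk hj hg
    -- commutation modulo `W`
    have h1 : ∀ g ∈ gens k, ∀ y ∈ Vk gens n, CM π W g y := by
      intro g hg y hy
      refine CM.closure_right hd hW ?_ ?_ y hy
      · intro s hs
        simp only [Set.mem_iUnion, Finset.mem_range] at hs
        obtain ⟨j, hj, hs⟩ := hs
        exact hgU j hj s hs
      · intro s hs
        simp only [Set.mem_iUnion, Finset.mem_range] at hs
        obtain ⟨j, hj, hs⟩ := hs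
        exact pair k hkn W hW hspec g hg j hj s hs
    have h2 : ∀ x ∈ Vk gens (k + 1), ∀ y ∈ Vk gens n, CM π W x y := by
      intro x hx y hy
      refine (CM.closure_right hd hW (x := y) ?_ ?_ x hx).symm
      · intro s hs
        simp only [Set.mem_iUnion, Finset.mem_range] at hs
        obtain ⟨j, hj, hs⟩ := hs
        exact hgU j (by omega) s hs
      · intro s hs
        simp only [Set.mem_iUnion, Finset.mem_range] at hs
        obtain ⟨j, hj, hs⟩ := hs
        rcases Nat.lt_succ_iff_lt_or_eq.1 hj with h3 | rfl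
        · exact (CM.of_mem hd hW (mem_Vk h3 hs) hy).symm
        · exact (h1 s hs y hy).symm
    have hcomm : ∀ v u : L, π v ∈ Vk gens (k + 1) → π u ∈ Vk gens n → ⁅v, u⁆ ∈ W := fun v u hv hu =>
      h2 _ hv _ hu v u rfl rfl
    rcases kind k hkn with ⟨hs, hmv⟩ | ⟨z, ω, ⟨hzg, hg⟩, hz, hω, hs, hzV, hTz⟩
    · -- moved by the torus
      have hTV : ∀ t ∈ T, ∀ v ∈ Vk gens (k + 1), t * v * t⁻¹ ∈ Vk gens (k + 1) := by
        intro t ht v hv
        have : Vk gens (k + 1) ≤ (Vk gens (k + 1)).comap (MulAut.conj t).toMonoidHom := by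
          refine Vk_le fun j hj g hg => ?_
          exact Vk_mono hj (hTg j (by omega) t ht g hg)
        exact this hv
      obtain ⟨W', hW', hle⟩ := stepLe hd hTc (Vk_mono hkn) hTV hW (Vk_mono (Nat.le_succ k)) hcomm (by
        intro v hv
        have : Vk gens (k + 1) ≤
            closure {x : X | ∃ t ∈ T, ∃ v ∈ Vk gens (k + 1), x = t * v * t⁻¹ * v⁻¹} ⊔ Vk gens k := by
          refine Vk_succ (fun g hg => ?_) le_sup_right
          obtain ⟨t, ht, v, hv, w, hw, rfl⟩ := hmv g hg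
          exact mul_mem_sup (Subgroup.subset_closure ⟨t, ht, v, hv, rfl⟩) hw
        exact this hv)
      refine ⟨W', hW', fun j hj s hsj => ?_⟩
      rcases Nat.lt_succ_iff_lt_or_eq.1 hj with h3 | rfl
      · exact hle (hspec j h3 s hsj)
      · rw [hs] at hsj; exact absurd hsj (Set.notMem_empty s)
    · -- a fixed involution
      have hzU : z ∈ Vk gens n := hgU k hkn z hzg
      have hzV1 : z ∈ Vk gens (k + 1) := mem_Vk (Nat.lt_succ_self k) hzg
      have hωinv : ω⁻¹ = ω := inv_eq_of_mul_eq_one_left hω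
      -- `ω` normalises `W`
      have hωW : ∀ w ∈ W, ω * w * ω⁻¹ ∈ W := fun w hw => hW.conjU ω (by rw [hz]; exact hzU) w hw
      let W1 : Subgroup L :=
        { carrier := {x | x ∈ W ∨ ω * x ∈ W}
          one_mem' := Or.inl (one_mem _)
          mul_mem' := by
            rintro x y (hx | hx) (hy | hy)
            · exact Or.inl (mul_mem hx hy)
            · right
              have e : ω * (x * y) = (ω * x * ω⁻¹) * (ω * y) := by group
              rw [e]; exact mul_mem (hωW x hx) hy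
            · right
              rw [← mul_assoc]; exact mul_mem hx hy
            · left
              have e : x * y = ω * (ω * x) * ω⁻¹ * (ω * y) := by
                have : ω * (ω * x) * ω⁻¹ * (ω * y) = (ω * ω) * x * y := by group
                rw [this, hω, one_mul]
              rw [e]; exact mul_mem (hωW _ hx) hy
          inv_mem' := by
            rintro x (hx | hx)
            · exact Or.inl (inv_mem hx)
            · right
              have e : ω * x⁻¹ = ω * (ω * x)⁻¹ * ω⁻¹ := by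
                rw [mul_inv_rev]
                have : ω * (x⁻¹ * ω⁻¹) * ω⁻¹ = ω * x⁻¹ * (ω * ω)⁻¹ := by group
                rw [this, hω, inv_one, mul_one]
              rw [e]; exact hωW _ (inv_mem hx) }
      have hW1 : ∀ x : L, x ∈ W1 ↔ x ∈ W ∨ ω * x ∈ W := fun x => Iff.rfl
      have hωW1 : ω ∈ W1 := (hW1 _).2 (Or.inr (by rw [hω]; exact one_mem _))
      have hle : W ≤ W1 := fun w hw => (hW1 _).2 (Or.inl hw)
      refine ⟨W1, ⟨?_, ?_, ?_, ?_, ?_⟩, fun j hj s hsj => ?_⟩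
      · rintro x (hx | hx)
        · exact Vk_mono (Nat.le_succ k) (hW.le x hx)
        · have e : π x = z⁻¹ * π (ω * x) := by rw [map_mul, hz]; group
          rw [e]
          exact mul_mem (inv_mem hzV1) (Vk_mono (Nat.le_succ k) (hW.le _ hx))
      · rintro (hx | hx)
        · exact hW.not_mem hx
        · apply hzV
          have := hW.le _ hx
          rwa [map_mul, hz, (hd.ker c).2 (Or.inr rfl), mul_one] at this
      · intro v hv
        have hV1 : Vk gens (k + 1) ≤ W1.map π := by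
          refine Vk_succ (fun g hg' => ?_) ?_
          · rcases hg g hg' with h1 | h1
            · rw [h1]; exact one_mem _
            · rw [h1, ← hz]
              exact mem_map_of_mem _ hωW1
          · intro g hg'
            obtain ⟨a, rfl⟩ := hd.surj g
            rcases hW.cov a hg' with h | h
            · exact mem_map_of_mem _ (hle h)
            · have : π a = π (c * a) := by rw [map_mul, (hd.ker c).2 (Or.inr rfl), one_mul]
              rw [this]
              exact mem_map_of_mem _ (hle h)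
        obtain ⟨w, hw, e⟩ := hV1 hv
        rcases eq_or hd e.symm with h | h
        · left; rw [h]; exact hw
        · right; rw [h, ← mul_assoc, hd.sq, one_mul]; exact hw
      · rintro u hu x (hx | hx)
        · exact Or.inl (hW.conjU u hu x hx)
        · right
          have e : ω * (u * x * u⁻¹) = u * (⁅u⁻¹, ω⁆ * (ω * x)) * u⁻¹ := by
            rw [commutatorElement_def]; group
          rw [e]
          refine hW.conjU u hu _ (mul_mem ?_ hx)
          rw [← commutatorElement_inv]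
          exact inv_mem (hcomm ω u⁻¹ (by rw [hz]; exact hzV1) (by rw [map_inv]; exact inv_mem hu))
      · rintro t ht x (hx | hx)
        · exact Or.inl (hW.conjT t ht x hx)
        · right
          have e1 := hTz _ ht t rfl
          have e : ω * (t * x * t⁻¹) = t * (ω * x) * t⁻¹ := by
            nth_rewrite 1 [← e1]; group
          rw [e]
          exact hW.conjT t ht _ hx
      · rcases Nat.lt_succ_iff_lt_or_eq.1 hj with h3 | rfl
        · exact hle (hspec j h3 s hsj)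
        · rw [hs] at hsj
          have : s = ω := hsj
          rw [this]; exact hωW1

/-- The end: no perfect double cover. -/
theorem false_of_chain [Finite L] (hd : Dbl π c) {T : Subgroup X} [Finite T] (hT : Odd (Nat.card T)) (n : ℕ)
    (gens : ℕ → Set X) (spec : ℕ → Set L) (hidx : ¬ 2 ∣ (Vk gens n).index)
    (hTg : ∀ k < n, ∀ t ∈ T, ∀ g ∈ gens k, t * g * t⁻¹ ∈ Vk gens (k + 1))
    (pair : ∀ k < n, ∀ W : Subgroup L, Cpl π c (Vk gens n) T (Vk gens k) W → (∀ j < k, ∀ s ∈ spec j, s ∈ W) →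
      ∀ g ∈ gens k, ∀ l < n, ∀ g' ∈ gens l, CM π W g g')
    (kind : ∀ k < n, (spec k = ∅ ∧ ∀ g ∈ gens k, ∃ t ∈ T, ∃ v ∈ Vk gens (k + 1), ∃ w ∈ Vk gens k,
        g = t * v * t⁻¹ * v⁻¹ * w) ∨
      (∃ (z : X) (ω : L), (z ∈ gens k ∧ ∀ g ∈ gens k, g = 1 ∨ g = z) ∧ π ω = z ∧ ω * ω = 1 ∧ spec k = {ω} ∧
        z ∉ Vk gens k ∧
        ∀ t ∈ T, ∀ t' : L, π t' = t → t' * ω * t'⁻¹ = ω)) : False := by
  obtain ⟨W, hW, -⟩ := exists_cpl hd hT n gens spec hTg pair kind n le_rfl
  refine hd.toCtr.false_of_compl (P := (Vk gens n).comap π) (P₁ := W) ?_ ?_ hW.not_mem fun x hx => hW.cov x hx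
  · show π c ∈ Vk gens n
    rw [(hd.ker c).2 (Or.inr rfl)]; exact one_mem _
  · rwa [index_comap_of_surjective _ hd.surj]

end Cfsg.Agent.KFacts.Mult.ChainZ
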