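import Mathlib

/-!
# Elements of prime order in finite fields of characteristic 2
-/

set_option autoImplicit false

namespace Cfsg.Agent.KFacts.Mult.Num

variable {K : Type*} [Field K] [Finite K]

theorem exists_card [CharP K 2] : ∃ n : ℕ, 0 < n ∧ Nat.card K = 2 ^ n := by
  have := Fintype.ofFinite K
  have : Fact (Nat.Prime 2) := ⟨Nat.prime_two⟩
  obtain ⟨n, _, h⟩ := FiniteField.card K 2
  exact ⟨n, n.2, by rw [Nat.card_eq_fintype_card, h]⟩

theorem exists_orderOf {p : ℕ} [Fact p.Prime] (h : p ∣ Nat.card K - 1) : ∃ l : K, l ≠ 0 ∧ orderOf l = p := by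
  have := Fintype.ofFinite K
  have h1 : p ∣ Nat.card Kˣ := by
    rw [Nat.card_units]; exact h
  obtain ⟨u, hu⟩ := exists_prime_orderOf_dvd_card' p h1
  exact ⟨u, u.ne_zero, by rw [orderOf_units, hu]⟩

/-- An odd prime divisor of `q - 1`. -/
theorem exists_odd_prime [CharP K 2] (hq : 2 < Nat.card K) :
    ∃ (p : ℕ) (_ : Fact p.Prime) (l : K), Odd p ∧ l ≠ 0 ∧ orderOf l = p := by
  obtain ⟨n, hn, hc⟩ := exists_card (K := K)
  have h1 : Nat.card K - 1 ≠ 1 := by omega
  obtain ⟨p, hp, hd⟩ := Nat.exists_prime_and_dvd h1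
  have : Fact p.Prime := ⟨hp⟩
  obtain ⟨l, hl, ho⟩ := exists_orderOf (K := K) hd
  refine ⟨p, ⟨hp⟩, l, ?_, hl, ho⟩
  refine hp.odd_of_ne_two ?_
  rintro rfl
  have h2 : 2 ∣ Nat.card K := by rw [hc]; exact dvd_pow_self 2 hn.ne'
  omega

/-- A prime divisor at least 5 of `q - 1`, for `q ≥ 8`. -/
theorem exists_prime_five [CharP K 2] (hq : 4 < Nat.card K) :
    ∃ (p : ℕ) (_ : Fact p.Prime) (l : K), Odd p ∧ 5 ≤ p ∧ l ≠ 0 ∧ orderOf l = p := by
  obtain ⟨n, hn, hc⟩ := exists_card (K := K)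
  have hn3 : 3 ≤ n := by
    by_contra hlt
    have : n ≤ 2 := by omega
    have h2 : 2 ^ n ≤ 2 ^ 2 := Nat.pow_le_pow_right (by norm_num) this
    omega
  have h8 : 8 ∣ Nat.card K := by
    rw [hc]; exact pow_dvd_pow 2 hn3
  obtain ⟨p, hp, hd, h5⟩ : ∃ p, p.Prime ∧ p ∣ Nat.card K - 1 ∧ 5 ≤ p := by
    by_contra hcon
    push Not at hcon
    have h3 : ∀ p, p.Prime → p ∣ Nat.card K - 1 → p = 3 := by
      intro p hp hd
      have h1 := hcon p hp hd
      have h2 := hp.two_le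
      interval_cases p
      · exfalso
        have : 2 ∣ Nat.card K := dvd_trans (by norm_num) h8
        omega
      · rfl
      · exact absurd hp (by norm_num)
    have h4 : Nat.card K - 1 = 3 ^ (Nat.card K - 1).primeFactorsList.length :=
      Nat.eq_prime_pow_of_unique_prime_dvd (by omega) fun {d} hd1 hd2 => h3 d hd1 hd2
    set m := (Nat.card K - 1).primeFactorsList.length
    have h5 : ∀ m : ℕ, 3 ^ m % 8 = 1 ∨ 3 ^ m % 8 = 3 := by
      intro m
      induction m with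
      | zero => left; rfl
      | succ m ih => rw [pow_succ]; omega
    have := h5 m
    omega
  have : Fact p.Prime := ⟨hp⟩
  obtain ⟨l, hl, ho⟩ := exists_orderOf (K := K) hd
  exact ⟨p, ⟨hp⟩, l, hp.odd_of_ne_two (by omega), h5, hl, ho⟩

theorem sq_surjective [CharP K 2] (x : K) : ∃ y : K, y * y = x := by
  have : Fact (Nat.Prime 2) := ⟨Nat.prime_two⟩
  have hf : Function.Injective (fun y : K => y * y) := by
    intro a b hab
    have h2 : a * a = b * b := hab
    have h3 : (a - b) ^ 2 = 0 := by rw [sub_pow_char, pow_two, pow_two, h2, sub_self]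
    exact sub_eq_zero.1 (pow_eq_zero_iff (two_ne_zero) |>.1 h3)
  exact Finite.surjective_of_injective hf x

omit [Finite K] in
theorem zpow_eq_one_iff {p : ℕ} {b : K} (hb0 : b ≠ 0) (hb : orderOf b = p) (z : ℤ) : b ^ z = 1 ↔ (p : ℤ) ∣ z := by
  have h1 : orderOf (Units.mk0 b hb0) = p := by rw [← orderOf_units, Units.val_mk0, hb]
  rw [← h1, orderOf_dvd_iff_zpow_eq_one, Units.ext_iff, Units.val_zpow_eq_zpow_val, Units.val_mk0, Units.val_one]

end Cfsg.Agent.KFacts.Mult.Num
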