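import Cfsg.Agent.KFacts.Mult.FieldAlt
import Cfsg.Agent.KFacts.Mult.Num
import Cfsg.Agent.Nodes.RGDChev
import Cfsg.Agent.ChevalleyStructure.BruhatSplit
import Cfsg.Agent.ChevalleyStructure.HMatDiagAll

/-!
# No double covers of the Chevalley groups `D.group K`, `K` of characteristic 2, `|K| ≥ 4`

* `noDouble_D4`, `noDouble_F4`, `noDouble_E6`, `noDouble_E7`, `noDouble_E8`: `|K| ≥ 4`;
* `noDouble_G2`: `|K| ≥ 8`.
-/

set_option autoImplicit false
set_option linter.unusedSectionVars false

namespace Cfsg.Agent.KFacts.Mult.Chev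

open Subgroup Cfsg.Agent.KFacts.MulDef Cfsg.Agent.KFacts.Mult.RGDW Cfsg.Agent.KFacts.Mult.FieldAlt
  Cfsg.Agent.KFacts.Mult.Num
open CoxeterSystem Cfsg.Agent.ChevalleyStructure.CoxeterGeom Cfsg.Agent.Tits.Roots Cfsg.Agent.Tits.Core
  Cfsg.Agent.Tits.RootComb Cfsg.Agent.Nodes.Comb Cfsg.Agent.Nodes.Reps Cfsg.Agent.Nodes.BNOf
open Cfsg.Lie Cfsg.Agent.ChevalleyStructure Cfsg.Agent.ChevalleyStructure.Elts
  Cfsg.Agent.ChevalleyStructure.RootVec Cfsg.Agent.ChevalleyStructure.RootVecTab
  Cfsg.Agent.ChevalleyStructure.NPerm Cfsg.Agent.ChevalleyStructure.CoxeterGeomTypes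
  Cfsg.Agent.Nodes.RGDChev
open scoped commutatorElement

universe u

/-! ### Tables -/

/-- separation of the roots `s ≠ ±α_k` from `α_k` by cocharacters -/
def sepB (D : ChevalleyDatum) (three : Bool) : Bool :=
  (List.range D.rank).all fun k => (List.range D.nroots).all fun s =>
    s == D.simple k || s == D.neg (D.simple k) ||
      ((List.range D.rank).any fun j =>
        let m := (D.cartan k (D.simple k) * D.cartan j s - D.cartan j (D.simple k) * D.cartan k s).natAbs
        m == 1 || m == 2 || m == 4 || (three && m == 3))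

/-- `x_z` is a commutator of `x_r`, `x_s`, both commuting with `X_z` -/
def commB (D : ChevalleyDatum) (z r s : ℕ) : Bool :=
  decide (r < D.nroots) && decide (s < D.nroots) &&
  s != r && s != D.neg r && z != r && z != D.neg r && z != s && z != D.neg s &&
  (match D.commTerms r s with
   | [(v, C, 1, 1)] => v == z && C.natAbs == 1
   | _ => false) && (D.commTerms r z).isEmpty && (D.commTerms s z).isEmpty

theorem sep_D4 : sepB chevD4 false = true := by decide +kernel
theorem sep_F4 : sepB chevF4 false = true := by decide +kernel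
theorem sep_E6 : sepB chevE6 false = true := by decide +kernel
theorem sep_E7 : sepB chevE7 false = true := by decide +kernel
theorem sep_E8 : sepB chevE8 false = true := by decide +kernel
theorem sep_G2 : sepB chevG2 true = true := by decide +kernel

/-- witnesses for `commB` at the simple roots -/
def commAll (D : ChevalleyDatum) (w : List (ℕ × ℕ)) : Bool :=
  (List.range D.rank).all fun k => commB D (D.simple k) (w.getD k (0, 0)).1 (w.getD k (0, 0)).2

theorem comm_D4 : commAll chevD4 [(6, 22), (1, 23), (3, 22), (2, 22)] = true := by decide +kernel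
theorem comm_F4 : commAll chevF4 [(7, 44), (8, 40), (2, 46), (1, 47)] = true := by decide +kernel
theorem comm_E6 : commAll chevE6 [(16, 66), (1, 71), (5, 69), (2, 70), (3, 69), (4, 68)] = true := by
  decide +kernel
theorem comm_E7 : commAll chevE7 [(1, 125), (7, 122), (2, 124), (3, 123), (4, 122), (5, 121), (6, 120)] = true := by
  decide +kernel
theorem comm_E8 : commAll chevE8
    [(14, 233), (7, 234), (6, 234), (5, 235), (4, 236), (3, 237), (2, 238), (1, 239)] = true := by
  decide +kernel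
theorem comm_G2 : commB chevG2 (chevG2.simple 1) 1 11 = true := by decide +kernel

/-! ### The torus -/

section Torus

variable {D : ChevalleyDatum} (hD : InList D) {K : Type u} [Field K]

include hD

theorem diag_comm {g k : GL D.Idx K} (hg : g ∈ D.diagonalSubgroup K) (hk : k ∈ D.diagonalSubgroup K) :
    g * k = k * g := by
  obtain ⟨χ, h1⟩ := HMatDiagAll.mem_torus.1 (HMatDiagAll.diagonalSubgroup_le_torus hD hg)
  obtain ⟨ψ, h2⟩ := HMatDiagAll.mem_torus.1 (HMatDiagAll.diagonalSubgroup_le_torus hD hk)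
  apply Units.ext
  rw [Units.val_mul, Units.val_mul, h1, h2, Matrix.diagonal_mul_diagonal, Matrix.diagonal_mul_diagonal]
  congr 1
  funext i
  exact mul_comm _ _

/-- The `p`-torsion of the torus. -/
def TT (K : Type u) [Field K] (p : ℕ) : Subgroup (GL D.Idx K) where
  carrier := {g | g ∈ D.diagonalSubgroup K ∧ g ^ p = 1}
  one_mem' := ⟨one_mem _, one_pow _⟩
  mul_mem' := by
    rintro a b ⟨ha, ha'⟩ ⟨hb, hb'⟩
    refine ⟨mul_mem ha hb, ?_⟩
    rw [(show Commute a b from diag_comm hD ha hb).mul_pow, ha', hb', one_mul]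
  inv_mem' := by
    rintro a ⟨ha, ha'⟩
    exact ⟨inv_mem ha, by rw [inv_pow, ha', inv_one]⟩

theorem mem_TT {p : ℕ} {g : GL D.Idx K} : g ∈ TT hD K p ↔ g ∈ D.diagonalSubgroup K ∧ g ^ p = 1 := Iff.rfl

theorem isPGroup_TT (p : ℕ) : IsPGroup p (TT hD K p) := by
  rintro ⟨g, hg, hgp⟩
  exact ⟨1, Subtype.ext (by rw [pow_one]; exact hgp)⟩

theorem hG_pow {r : ℕ} (hr : r < D.nroots) {t : K} (ht : t ≠ 0) {p : ℕ} (h : t ^ p = 1) :
    hG hD r t ^ p = 1 := by
  apply Units.ext
  rw [Units.val_pow_eq_pow_val, coe_hG, HMatDiagAll.hMat_eq_diagonal hD hr ht, Matrix.diagonal_pow,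
    Units.val_one, ← Matrix.diagonal_one]
  congr 1
  funext i
  rcases i with i | i
  · simp
  · simp only [Pi.pow_apply, Sum.elim_inr]
    rw [← zpow_natCast, ← zpow_mul, mul_comm, zpow_mul, zpow_natCast, h, one_zpow]

theorem hG_mem_TT {r : ℕ} (hr : r < D.nroots) {t : K} (ht : t ≠ 0) {p : ℕ} (h : t ^ p = 1) :
    hG hD r t ∈ TT hD K p := ⟨hG_mem_diagonal hD hr ht, hG_pow hD hr ht h⟩

/-- commutation with `x_s` through a scalar -/
theorem comm_of_scalar {g : GL D.Idx K} {s : ℕ} {c : K} (hg : ∀ t, g * xG hD s t * g⁻¹ = xG hD s (c * t))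
    (hc : c = 1) (t : K) : g * xG hD s t = xG hD s t * g := by
  have := hg t
  rw [hc, one_mul] at this
  exact mul_inv_eq_iff_eq_mul.1 this

end Torus

section Main

variable {D : ChevalleyDatum} {l : ℕ} {M : CoxeterMatrix (Fin l)} (hp : IsType D l M)
  {K : Type u} [Field K]

include hp

theorem commWord_nil {r s : ℕ} (h : (D.commTerms r s).isEmpty = true) (t u : K) : D.commWord K r s t u = [] := by
  rw [List.isEmpty_iff] at h
  unfold ChevalleyDatum.commWord
  rw [h]; rfl

theorem commute_of_empty {r s : ℕ} (hr : r < D.nroots) (hs : s < D.nroots) (hrs : s ≠ r) (hneg : s ≠ D.neg r)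
    (h : (D.commTerms r s).isEmpty = true) (t u : K) :
    xG hp.inList s u * xG hp.inList r t = xG hp.inList r t * xG hp.inList s u := by
  have h1 := comm_xG hp hr hs hrs hneg t u
  rw [commWord_nil hp h, wordG_nil, commutatorElement_eq_one_iff_mul_comm] at h1
  have h2 := congrArg (fun g : GL D.Idx K => g⁻¹) h1
  simp only [mul_inv_rev, inv_inv] at h2
  exact h2.symm

/-- `X_z ≤ C(X_z)'` -/
theorem abPre_of_commB {z r s : ℕ} (hz : z < D.nroots) (h : commB D z r s = true) :
    AbPre ((D.rootSubgroup K z).subgroupOf (D.group K)) := by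
  unfold commB at h
  simp only [Bool.and_eq_true, decide_eq_true_eq, bne_iff_ne, ne_eq] at h
  obtain ⟨⟨⟨⟨⟨⟨⟨⟨⟨⟨hr, hs⟩, h1⟩, h2⟩, h3⟩, h4⟩, h5⟩, h6⟩, h7⟩, h8⟩, h9⟩ := h
  apply AbPre.of_le_commutator
  rintro ⟨g, hg⟩ hgz
  rw [mem_subgroupOf, mem_rootSubgroup_iff hp.inList] at hgz
  obtain ⟨a, ha⟩ := hgz
  -- the commutator terms
  obtain ⟨C, hC, hw⟩ : ∃ C : ℤ, C.natAbs = 1 ∧ D.commTerms r s = [(z, C, 1, 1)] := by
    revert h7
    split
    · rename_i v C hc
      intro h7
      rw [Bool.and_eq_true, beq_iff_eq, beq_iff_eq] at h7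
      exact ⟨C, h7.2, by rw [hc, h7.1]⟩
    · intro h7
      exact absurd h7 (by decide)
  have hC' : ((C : K)) * ((C : K)) = 1 := by
    rcases Int.natAbs_eq_iff.1 hC with h | h <;> rw [h] <;> simp
  have hcw : ∀ u : K, ⁅(xG hp.inList s u)⁻¹, (xG hp.inList r (-1))⁻¹⁆ = xG hp.inList z ((C : K) * u) := by
    intro u
    rw [comm_xG hp hr hs h1 h2]
    unfold ChevalleyDatum.commWord
    rw [hw]
    simp only [List.map_cons, List.map_nil, wordG_cons, wordG_nil, mul_one, _root_.neg_neg, pow_one]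
  have hsz : ∀ u v : K, xG hp.inList z v * xG hp.inList s u = xG hp.inList s u * xG hp.inList z v := fun u v =>
    commute_of_empty hp hs hz h5 h6 h9 u v
  have hrz : ∀ u v : K, xG hp.inList z v * xG hp.inList r u = xG hp.inList r u * xG hp.inList z v := fun u v =>
    commute_of_empty hp hr hz h3 h4 h8 u v
  have hmem : ∀ (v : ℕ) (t : K), xG hp.inList v t ∈ D.group K := fun v t => xG_mem_group hp.inList v t
  have key : (⟨g, hg⟩ : D.group K) =
      ⁅(⟨xG hp.inList s ((C : K) * a), hmem _ _⟩ : D.group K)⁻¹, (⟨xG hp.inList r (-1), hmem _ _⟩ : D.group K)⁻¹⁆ := by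
    apply Subtype.ext
    have e1 : ((⁅(⟨xG hp.inList s ((C : K) * a), hmem _ _⟩ : D.group K)⁻¹,
        (⟨xG hp.inList r (-1), hmem _ _⟩ : D.group K)⁻¹⁆ : D.group K) : GL D.Idx K) =
        ⁅(xG hp.inList s ((C : K) * a))⁻¹, (xG hp.inList r (-1))⁻¹⁆ := rfl
    rw [e1, hcw, ← mul_assoc, hC', one_mul, ← ha]
  rw [key]
  refine commutator_mem_commutator (inv_mem ?_) (inv_mem ?_)
  · rw [mem_centralizer_iff]
    rintro ⟨x, hx⟩ hxz
    rw [SetLike.mem_coe, mem_subgroupOf, mem_rootSubgroup_iff hp.inList] at hxz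
    obtain ⟨v, hv⟩ := hxz
    apply Subtype.ext
    show x * xG hp.inList s _ = xG hp.inList s _ * x
    have hv' : x = xG hp.inList z v := hv
    rw [hv', hsz]
  · rw [mem_centralizer_iff]
    rintro ⟨x, hx⟩ hxz
    rw [SetLike.mem_coe, mem_subgroupOf, mem_rootSubgroup_iff hp.inList] at hxz
    obtain ⟨v, hv⟩ := hxz
    apply Subtype.ext
    show x * xG hp.inList r _ = xG hp.inList r _ * x
    have hv' : x = xG hp.inList z v := hv
    rw [hv', hrz]

/-- Commutative preimage of `X_i`, `|K| ≥ 8`. -/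
theorem abPre_of_card [Finite K] [CharP K 2] (hq : 4 < Nat.card K) {i : ℕ} (hi : i < D.rank) :
    AbPre ((D.rootSubgroup K (D.simple i)).subgroupOf (D.group K)) := by
  have hi' : D.simple i < D.nroots := by
    have := lt_rank hp ⟨i, by rw [← hp.rank_eq]; exact hi⟩
    exact RootVec.simple_lt hp.checked hi
  refine AbPre.of_field hq
    (fun a => (⟨xG hp.inList (D.simple i) a, xG_mem_group hp.inList _ _⟩ : D.group K)) ?_ ?_ ?_
  · intro a b
    exact Subtype.ext (xG_add hp.inList _ _ _).symm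
  · intro c hc
    obtain ⟨y, hy⟩ := sq_surjective c
    have hy0 : y ≠ 0 := by rintro rfl; exact hc (by rw [← hy, zero_mul])
    refine ⟨⟨hG hp.inList (D.simple i) y, hG_mem_group hp.inList _ _⟩, fun a => Subtype.ext ?_⟩
    show hG hp.inList (D.simple i) y * xG hp.inList (D.simple i) a * (hG hp.inList (D.simple i) y)⁻¹ = _
    rw [BruhatSplit.hG_simple_conj hp.inList hi hi' hy0, cartan_simple_self hp.checked hi, ← hy]
    congr 2
    rw [zpow_ofNat, pow_two]
  · rintro ⟨g, hg⟩ hgz
    rw [mem_subgroupOf, mem_rootSubgroup_iff hp.inList] at hgz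
    obtain ⟨a, ha⟩ := hgz
    exact ⟨a, Subtype.ext ha.symm⟩

variable [Finite K] [CharP K 2]

theorem noDouble_of_checks {p : ℕ} [Fact p.Prime] (hodd : Odd p) {b : K} (hb0 : b ≠ 0) (hb : orderOf b = p)
    (three : Bool) (hthree : three = true → 5 ≤ p) (hsep : sepB D three = true)
    (hab : ∀ i : Fin l, AbPre ((D.rootSubgroup K (D.simple i)).subgroupOf (D.group K))) :
    NoDouble ↥(D.group K) := by
  have : Fact (Nat.Prime 2) := ⟨Nat.prime_two⟩
  have hpp : p.Prime := Fact.out
  set cs := M.toCoxeterSystem with hcs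
  have : Finite M.Group := finite_W hp cs
  have R := rgd (K := K) hp cs 2
  have hbp : ∀ z : ℤ, (b ^ z) ^ p = 1 := fun z => by
    rw [← zpow_natCast, ← zpow_mul, mul_comm, zpow_mul, zpow_natCast, ← hb, pow_orderOf_eq_one, one_zpow]
  have hbz : ∀ z : ℤ, b ^ z = 1 ↔ (p : ℤ) ∣ z := zpow_eq_one_iff hb0 hb
  have hz0 : ∀ z : ℤ, b ^ z ≠ 0 := fun z => zpow_ne_zero z hb0
  have hsl : ∀ i : Fin l, D.simple i < D.nroots := fun i => RootVec.simple_lt hp.checked (lt_rank hp i)
  -- the `p`-torsion of the torus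
  set T' : Subgroup (D.group K) := (TT hp.inList K p).subgroupOf (D.group K) with hT'
  have hmemT : ∀ (i : Fin l) (z : ℤ), (⟨hG hp.inList (D.simple i) (b ^ z), hG_mem_group hp.inList _ _⟩ : D.group K) ∈ T' :=
    fun i z => hG_mem_TT hp.inList (hsl i) (hz0 z) (hbp z)
  have hact : ∀ (i : Fin l) (z : ℤ) {s : ℕ} (hs : s < D.nroots) (t : K),
      hG hp.inList (D.simple i) (b ^ z) * xG hp.inList s t * (hG hp.inList (D.simple i) (b ^ z))⁻¹ =
        xG hp.inList s (b ^ (z * D.cartan i s) * t) := by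
    intro i z s hs t
    rw [BruhatSplit.hG_simple_conj hp.inList (lt_rank hp i) hs (hz0 z), zpow_mul]
  have hX : ∀ {s : ℕ} (_ : s < D.nroots) (v : D.group K), v ∈ (XV D l K (vec D l s)).subgroupOf (D.group K) →
      ∃ t, (v : GL D.Idx K) = xG hp.inList s t := by
    intro s hs v hv
    rw [mem_subgroupOf, XV_vec hp K hs, mem_rootSubgroup_iff hp.inList] at hv
    exact hv
  refine noDouble_of_simple R (GG_eq_top_of_G1 (G1_eq_top hp cs)) hodd (T' := T') ?_ ?_ ?_ ?_ ?_ ?_
  · intro g hg
    exact hg.1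
  · rintro ⟨g, hg⟩
    refine ⟨1, Subtype.ext (Subtype.ext ?_)⟩
    show (g : GL D.Idx K) ^ p ^ 1 = 1
    rw [pow_one]; exact hg.2
  · -- `n i` normalises the torsion
    intro i
    rw [mem_normalizer_iff]
    intro t
    have h1 := (mem_normalizer_iff.1 (R.nsys.norm i) t)
    have h2 : ∀ g t : D.group K, (g * t * g⁻¹) ^ p = 1 ↔ t ^ p = 1 := by
      intro g t
      rw [conj_pow]
      constructor
      · intro h
        have e : t ^ p = g⁻¹ * (g * t ^ p * g⁻¹) * g := by group
        rw [e, h]; group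
      · intro h; rw [h]; group
    have h3 : ∀ t : D.group K, t ∈ T' ↔ t ∈ (D.diagonalSubgroup K).subgroupOf (D.group K) ∧ t ^ p = 1 := by
      intro t
      rw [hT', mem_subgroupOf, mem_TT, mem_subgroupOf]
      constructor
      · rintro ⟨ha, hb⟩; exact ⟨ha, Subtype.ext hb⟩
      · rintro ⟨ha, hb⟩; exact ⟨ha, congrArg Subtype.val hb⟩
    rw [h3, h3, h2]
    exact and_congr_left fun _ => h1
  · -- separation
    intro i y hy hne hne'
    obtain ⟨s, hs, rfl⟩ := (isRoot_iff hp cs y).1 hy
    have hs1 : s ≠ D.simple i := fun h0 => hne (by rw [h0, vec_simple hp])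
    have hs2 : s ≠ D.neg (D.simple i) := fun h0 => hne' (by rw [h0, vec_neg hp (hsl i), vec_simple hp])
    unfold sepB at hsep
    rw [List.all_eq_true] at hsep
    have h1 := hsep i (List.mem_range.2 (lt_rank hp i))
    rw [List.all_eq_true] at h1
    have h2 := h1 s (List.mem_range.2 hs)
    simp only [Bool.or_eq_true, beq_iff_eq, List.any_eq_true, List.mem_range, Bool.and_eq_true] at h2
    obtain ⟨j, hj, hm⟩ := h2.resolve_left (fun h3 => h3.elim hs1 hs2)
    set j' : Fin l := ⟨j, by rw [← hp.rank_eq]; exact hj⟩ with hj'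
    set m : ℤ := D.cartan i (D.simple i) * D.cartan j s - D.cartan j (D.simple i) * D.cartan i s with hmdef
    have hpm : ¬ (p : ℤ) ∣ m := by
      intro hd
      have hd' : p ∣ m.natAbs := Int.natCast_dvd.1 hd
      have h3 : 3 ≤ p := by
        have := hpp.two_le
        rcases hodd with ⟨k, hk⟩
        omega
      have hp4 : p ≠ 4 := by rintro rfl; exact absurd hpp (by norm_num)
      rcases hm with ((h4 | h4) | h4) | ⟨h4, h5⟩
      · rw [h4] at hd'; have := Nat.le_of_dvd one_pos hd'; omega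
      · rw [h4] at hd'; have := Nat.le_of_dvd two_pos hd'; omega
      · rw [h4] at hd'
        have h6 := Nat.le_of_dvd (by norm_num) hd'
        have h7 : p = 3 := by omega
        rw [h7] at hd'; omega
      · rw [h5] at hd'
        have := hthree h4
        have := Nat.le_of_dvd (by norm_num) hd'; omega
    -- the separating element
    set g1 : D.group K := ⟨hG hp.inList (D.simple i) (b ^ (-D.cartan j (D.simple i))), hG_mem_group hp.inList _ _⟩
    set g2 : D.group K := ⟨hG hp.inList (D.simple j') (b ^ (D.cartan i (D.simple i))), hG_mem_group hp.inList _ _⟩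
    have hconj : ∀ {s : ℕ} (_ : s < D.nroots) (t : K), ((g1 * g2 : D.group K) : GL D.Idx K) * xG hp.inList s t *
        ((g1 * g2 : D.group K) : GL D.Idx K)⁻¹ =
        xG hp.inList s (b ^ (D.cartan i (D.simple i) * D.cartan j s - D.cartan j (D.simple i) * D.cartan i s) * t) := by
      intro s hs t
      have e1 := hact i (-D.cartan j (D.simple i)) hs
      have e2 := hact j' (D.cartan i (D.simple i)) hs
      have e3 : ((g1 * g2 : D.group K) : GL D.Idx K) * xG hp.inList s t * ((g1 * g2 : D.group K) : GL D.Idx K)⁻¹ =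
          (g1 : GL D.Idx K) * ((g2 : GL D.Idx K) * xG hp.inList s t * (g2 : GL D.Idx K)⁻¹) * (g1 : GL D.Idx K)⁻¹ := by
        rw [Subgroup.coe_mul]; group
      rw [e3]
      have e4 : (g2 : GL D.Idx K) * xG hp.inList s t * (g2 : GL D.Idx K)⁻¹ = _ := e2 t
      rw [e4]
      have e5 := e1 (b ^ (D.cartan i (D.simple i) * D.cartan j' s) * t)
      have e6 : (g1 : GL D.Idx K) * xG hp.inList s (b ^ (D.cartan i (D.simple i) * D.cartan j' s) * t) *
        (g1 : GL D.Idx K)⁻¹ = _ := e5
      rw [e6, ← mul_assoc, ← zpow_add₀ hb0]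
      congr 3
      ring
    refine ⟨g1 * g2, mul_mem (hmemT i _) (hmemT j' _), ?_, ?_⟩
    · intro v hv
      obtain ⟨t, ht⟩ := hX (hsl i) v (by rw [vec_simple hp]; exact hv)
      apply Subtype.ext
      show ((g1 * g2 : D.group K) : GL D.Idx K) * (v : GL D.Idx K) = (v : GL D.Idx K) * ((g1 * g2 : D.group K) : GL D.Idx K)
      rw [ht]
      refine comm_of_scalar hp.inList (hconj (hsl i)) ?_ t
      have : D.cartan i (D.simple i) * D.cartan j (D.simple i) - D.cartan j (D.simple i) * D.cartan i (D.simple i) = 0 := by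
        ring
      rw [this, zpow_zero]
    · intro v hv hc
      obtain ⟨t, ht⟩ := hX hs v hv
      have h5 : ((g1 * g2 : D.group K) : GL D.Idx K) * (v : GL D.Idx K) * ((g1 * g2 : D.group K) : GL D.Idx K)⁻¹ =
          (v : GL D.Idx K) := by
        rw [mul_inv_eq_iff_eq_mul]
        exact congrArg Subtype.val hc
      rw [ht, hconj hs] at h5
      have h6 := xG_injective hp.inList hs h5
      have h7 : t = 0 := by
        by_contra ht0
        have h8 : b ^ m = 1 := mul_right_cancel₀ ht0 (h6.trans (one_mul t).symm)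
        exact hpm ((hbz m).1 h8)
      apply Subtype.ext
      rw [ht, h7, xG_zero]
      rfl
  · -- fixed point free
    intro i
    refine ⟨⟨hG hp.inList (D.simple i) (b ^ (1 : ℤ)), hG_mem_group hp.inList _ _⟩, hmemT i 1, fun v hv hc => ?_⟩
    obtain ⟨t, ht⟩ := hX (hsl i) v (by rw [vec_simple hp]; exact hv)
    have h5 : hG hp.inList (D.simple i) (b ^ (1 : ℤ)) * (v : GL D.Idx K) * (hG hp.inList (D.simple i) (b ^ (1 : ℤ)))⁻¹ =
        (v : GL D.Idx K) := by
      rw [mul_inv_eq_iff_eq_mul]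
      exact congrArg Subtype.val hc
    rw [ht, hact i 1 (hsl i)] at h5
    have h6 := xG_injective hp.inList (hsl i) h5
    have h7 : t = 0 := by
      by_contra ht0
      have h8 : b ^ (1 * D.cartan i (D.simple i)) = 1 := mul_right_cancel₀ ht0 (h6.trans (one_mul t).symm)
      rw [cartan_simple_self hp.checked (lt_rank hp i), one_mul, hbz] at h8
      have h9 : p ∣ 2 := by exact_mod_cast h8
      have h10 := (Nat.prime_dvd_prime_iff_eq hpp Nat.prime_two).1 h9
      rw [h10] at hodd
      exact absurd hodd (by decide)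
    apply Subtype.ext
    rw [ht, h7, xG_zero]
    rfl
  · intro i
    have h1 : (XV D l K (sr i)).subgroupOf (D.group K) = (D.rootSubgroup K (D.simple i)).subgroupOf (D.group K) := by
      rw [XV_sr hp]
    show AbPre ((XV D l K (sr i)).subgroupOf (D.group K))
    rw [h1]
    exact hab i

/-- All simple root groups are commutators: `|K| ≥ 4`. -/
theorem noDouble_of_commAll (hq : 2 < Nat.card K) (hsep : sepB D false = true) {w : List (ℕ × ℕ)}
    (hw : commAll D w = true) : NoDouble ↥(D.group K) := by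
  obtain ⟨p, hpf, b, hodd, hb0, hb⟩ := exists_odd_prime hq
  refine noDouble_of_checks hp hodd hb0 hb false (fun h => absurd h (by decide)) hsep fun i => ?_
  unfold commAll at hw
  rw [List.all_eq_true] at hw
  exact abPre_of_commB hp (RootVec.simple_lt hp.checked (lt_rank hp i)) (hw i (List.mem_range.2 (lt_rank hp i)))

end Main

section Types

variable (K : Type u) [Field K] [Finite K] [CharP K 2]

theorem noDouble_D4 (hq : 2 < Nat.card K) : NoDouble ↥(chevD4.group K) :=
  noDouble_of_commAll (l := 4) (M := coxeterD4) (by simp [IsType, typeList]) hq sep_D4 comm_D4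

theorem noDouble_F4 (hq : 2 < Nat.card K) : NoDouble ↥(chevF4.group K) :=
  noDouble_of_commAll (l := 4) (M := CoxeterMatrix.F₄) (by simp [IsType, typeList]) hq sep_F4 comm_F4

theorem noDouble_E6 (hq : 2 < Nat.card K) : NoDouble ↥(chevE6.group K) :=
  noDouble_of_commAll (l := 6) (M := CoxeterMatrix.E₆) (by simp [IsType, typeList]) hq sep_E6 comm_E6

theorem noDouble_E7 (hq : 2 < Nat.card K) : NoDouble ↥(chevE7.group K) :=
  noDouble_of_commAll (l := 7) (M := CoxeterMatrix.E₇) (by simp [IsType, typeList]) hq sep_E7 comm_E7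

theorem noDouble_E8 (hq : 2 < Nat.card K) : NoDouble ↥(chevE8.group K) :=
  noDouble_of_commAll (l := 8) (M := CoxeterMatrix.E₈) (by simp [IsType, typeList]) hq sep_E8 comm_E8

theorem noDouble_G2 (hq : 4 < Nat.card K) : NoDouble ↥(chevG2.group K) := by
  have hp : IsType chevG2 2 CoxeterMatrix.G₂ := by simp [IsType, typeList]
  obtain ⟨p, hpf, b, hodd, hp5, hb0, hb⟩ := exists_prime_five hq
  exact noDouble_of_checks hp hodd hb0 hb true (fun _ => hp5) sep_G2 fun i => abPre_of_card hp hq (lt_rank hp i)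

end Types

end Cfsg.Agent.KFacts.Mult.Chev
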