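import Cfsg.Agent.Schreier.ThreeD4
import Cfsg.Agent.KFacts.Mult.Chain

/-!
# ³D₄(q): relative root elements, torus action, height filtration
-/

set_option autoImplicit false

namespace Cfsg.Agent.KFacts.Mult.D4Base

open Cfsg.Lie
open Cfsg.Agent.Schreier.ThreeD4
open Cfsg.Agent.ChevalleyStructure.D4Fixed (sig coe_sig fix mem_fix twisted_le_fix twisted_induction)
open Cfsg.Agent.ChevalleyStructure.D4Cols (xU coe_xU wU)
open Cfsg.Agent.ChevalleyStructure
open Cfsg.Agent.ChevalleyStructure.D4Comm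
open Cfsg.Agent.ChevalleyStructure.D4CommTab
open Cfsg.Agent.ChevalleyStructure.D4Pos
open Cfsg.Agent.ChevalleyStructure.D4NCheck
open Cfsg.Agent.ChevalleyStructure.D4NConj (nR nR_def nG nG_conj nG_def hR hR_def nR_eq nR_inv xG_inv torG torG_conj
  torG_mul torG_one chi chi_def chi_ne_zero dv_def hR_eq_torG)
open Cfsg.Agent.ChevalleyStructure.SparseHDiag (cartanRS)
open Cfsg.Agent.ChevalleyStructure.TwistedU
open Cfsg.Agent.ChevalleyStructure.D4U
open Cfsg.Agent.ChevalleyStructure.D4RGD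
open Cfsg.Agent.ChevalleyStructure.D4Twisted
open scoped commutatorElement

section General
variable {K : Type*} [Field K]

/-! ### commutators of spans of root groups -/

/-- `[x_r, x_s]` lies in the span of `l` -/
def okc (l : List ℕ) (r s : ℕ) : Bool :=
  decide (12 ≤ r) && decide (r < 24) && decide (12 ≤ s) && decide (s < 24) &&
    (decide (s = r) || match cm r s with
      | none => true
      | some kc => l.contains kc.1)

theorem comm_mem {l : List ℕ} {r s : ℕ} (h : okc l r s = true) (t u : K) :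
    ⁅(xG r t : GL chevD4.Idx K), xG s u⁆ ∈ RS K l := by
  rw [okc, Bool.and_eq_true, Bool.and_eq_true, Bool.and_eq_true, Bool.and_eq_true, Bool.or_eq_true] at h
  obtain ⟨⟨⟨⟨h1, h2⟩, h3⟩, h4⟩, h5⟩ := h
  by_cases hrs : s = r
  · subst hrs
    have : ⁅(xG s t : GL chevD4.Idx K), xG s u⁆ = 1 := by
      rw [commutatorElement_eq_one_iff_mul_comm, ← xG_add, ← xG_add, add_comm]
    rw [this]
    exact one_mem _
  · rw [xG_comm (of_decide_eq_true h1) (of_decide_eq_true h2) (of_decide_eq_true h3) (of_decide_eq_true h4) hrs]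
    have h6 := h5.resolve_left (by simpa using hrs)
    unfold cval
    rcases hc : cm r s with _ | kc
    · exact Subgroup.one_mem _
    · rw [hc] at h6
      have h10 : kc.1 ∈ l := by simpa using h6
      exact mem_rspan (xG : ℕ → K → GL chevD4.Idx K) (S := {k | k ∈ l}) h10 _

theorem conj_mem' {l m : List ℕ} (h : (m.all fun r => l.all fun s => okc l r s) = true) {g : GL chevD4.Idx K}
    (hg : g ∈ RS K m) : ∀ v ∈ RS K l, g * v * g⁻¹ ∈ RS K l := by
  have base : ∀ r ∈ m, ∀ t : K, ∀ v ∈ RS K l, xG r t * v * (xG r t)⁻¹ ∈ RS K l := by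
    intro r hr t v hv
    refine conj_mem (x := (xG : ℕ → K → GL chevD4.Idx K)) (fun s hs t u => ?_) t hv
    exact comm_mem (List.all_eq_true.1 (List.all_eq_true.1 h r hr) s hs) t u
  let N : Subgroup (GL chevD4.Idx K) :=
    { carrier := {g | (∀ v ∈ RS K l, g * v * g⁻¹ ∈ RS K l) ∧ ∀ v ∈ RS K l, g⁻¹ * v * g ∈ RS K l}
      one_mem' := by simp
      mul_mem' := by
        rintro a b ⟨ha, ha'⟩ ⟨hb, hb'⟩
        refine ⟨fun v hv => ?_, fun v hv => ?_⟩
        · have e : a * b * v * (a * b)⁻¹ = a * (b * v * b⁻¹) * a⁻¹ := by group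
          rw [e]; exact ha _ (hb _ hv)
        · have e : (a * b)⁻¹ * v * (a * b) = b⁻¹ * (a⁻¹ * v * a) * b := by group
          rw [e]; exact hb' _ (ha' _ hv)
      inv_mem' := by
        rintro a ⟨ha, ha'⟩
        refine ⟨fun v hv => ?_, fun v hv => ?_⟩
        · rw [inv_inv]; exact ha' v hv
        · rw [inv_inv]; exact ha v hv }
  have hle : RS K m ≤ N := by
    refine rspan_le xG fun r hr t => ⟨base r hr t, fun v hv => ?_⟩
    have := base r hr (-t) v hv
    rwa [xG_neg, inv_inv] at this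
  exact (hle hg).1

/-- `[⟨l⟩, ⟨m⟩] ≤ ⟨l'⟩` -/
theorem comm_RS {l m l' : List ℕ} (h1 : (l.all fun r => l'.all fun s => okc l' r s) = true)
    (h2 : (m.all fun r => l'.all fun s => okc l' r s) = true)
    (h3 : (l.all fun r => m.all fun s => okc l' r s) = true) {v u : GL chevD4.Idx K} (hv : v ∈ RS K l)
    (hu : u ∈ RS K m) : ⁅v, u⁆ ∈ RS K l' := by
  -- first with `v = x_r(t)`
  have key1 : ∀ r ∈ l, ∀ t : K, ∀ u ∈ RS K m, ⁅(xG r t : GL chevD4.Idx K), u⁆ ∈ RS K l' := by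
    intro r hr t u hu
    refine Subgroup.closure_induction (p := fun u _ => ⁅(xG r t : GL chevD4.Idx K), u⁆ ∈ RS K l') ?_ ?_ ?_ ?_ hu
    · rintro _ ⟨s, hs, a, rfl⟩
      exact comm_mem (List.all_eq_true.1 (List.all_eq_true.1 h3 r hr) s hs) t a
    · rw [commutatorElement_one_right]; exact one_mem _
    · intro a b ha _ h4 h5
      have e : ⁅(xG r t : GL chevD4.Idx K), a * b⁆ = ⁅xG r t, a⁆ * (a * ⁅xG r t, b⁆ * a⁻¹) := by
        simp only [commutatorElement_def]; group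
      rw [e]
      exact mul_mem h4 (conj_mem' h2 ha _ h5)
    · intro a ha h4
      have e : ⁅(xG r t : GL chevD4.Idx K), a⁻¹⁆ = a⁻¹ * ⁅xG r t, a⁆⁻¹ * a⁻¹⁻¹ := by
        simp only [commutatorElement_def]; group
      rw [e]
      exact conj_mem' h2 (inv_mem ha) _ (inv_mem h4)
  refine Subgroup.closure_induction (p := fun v _ => ⁅v, u⁆ ∈ RS K l') ?_ ?_ ?_ ?_ hv
  · rintro _ ⟨r, hr, t, rfl⟩
    exact key1 r hr t u hu
  · rw [commutatorElement_one_left]; exact one_mem _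
  · intro a b ha _ h4 h5
    have e : ⁅a * b, u⁆ = a * ⁅b, u⁆ * a⁻¹ * ⁅a, u⁆ := by simp only [commutatorElement_def]; group
    rw [e]
    exact mul_mem (conj_mem' h1 ha _ h5) h4
  · intro a ha h4
    have e : ⁅a⁻¹, u⁆ = a⁻¹ * ⁅a, u⁆⁻¹ * a⁻¹⁻¹ := by simp only [commutatorElement_def]; group
    rw [e]
    exact conj_mem' h1 (inv_mem ha) _ (inv_mem h4)

/-! ### Levels -/

/-- `[X_{a+b}]` -/
def Cc (φ : K →+* K) (c : K) : GL chevD4.Idx K := xG 19 c * xG 16 (-φ c) * xG 15 (-φ (φ c))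

/-- `[X_{a+2b}]` -/
def Dd (φ : K →+* K) (d : K) : GL chevD4.Idx K := xG 21 d * xG 17 (-φ d) * xG 20 (φ (φ d))

theorem mulThree {G : Type*} [Group G] {a b c a' b' c' : G} (h1 : Commute b a') (h2 : Commute c a')
    (h3 : Commute c b') : a * a' * (b * b') * (c * c') = a * b * c * (a' * b' * c') := by
  calc a * a' * (b * b') * (c * c') = a * (a' * b) * b' * c * c' := by group
    _ = a * (b * a') * b' * c * c' := by rw [h1.eq]
    _ = a * b * a' * (b' * c) * c' := by group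
    _ = a * b * a' * (c * b') * c' := by rw [h3.eq]
    _ = a * b * (a' * c) * b' * c' := by group
    _ = a * b * (c * a') * b' * c' := by rw [h2.eq]
    _ = _ := by group

theorem Cc_add (φ : K →+* K) (c c' : K) : Cc φ (c + c') = Cc φ c * Cc φ c' := by
  unfold Cc
  rw [map_add, map_add, neg_add, neg_add, xG_add, xG_add, xG_add]
  exact mulThree (xG_commute (by decide +kernel) _ _) (xG_commute (by decide +kernel) _ _)
    (xG_commute (by decide +kernel) _ _)

theorem Dd_add (φ : K →+* K) (c c' : K) : Dd φ (c + c') = Dd φ c * Dd φ c' := by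
  unfold Dd
  rw [map_add, map_add, neg_add, xG_add, xG_add, xG_add]
  exact mulThree (xG_commute (by decide +kernel) _ _) (xG_commute (by decide +kernel) _ _)
    (xG_commute (by decide +kernel) _ _)

/-- the relative root elements: `a, b, a + b, a + 2b, a + 3b, 2a + 3b` -/
noncomputable def xx (φ : K →+* K) : Fin 6 → K → GL chevD4.Idx K
  | 0, a => xG 14 a
  | 1, b => D4Fixed.X φ b
  | 2, c => Cc φ c
  | 3, d => Dd φ d
  | 4, e => xG 22 e
  | 5, f => xG 23 f

theorem xx_add (φ : K →+* K) (i : Fin 6) (a b : K) : xx φ i (a + b) = xx φ i a * xx φ i b := by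
  fin_cases i
  · exact xG_add _ _ _
  · exact X_add _ _
  · exact Cc_add _ _ _
  · exact Dd_add _ _ _
  · exact xG_add _ _ _
  · exact xG_add _ _ _

theorem xx_zero (φ : K →+* K) (i : Fin 6) : xx φ i 0 = 1 := by
  have h := xx_add φ i 0 0
  rw [add_zero] at h
  exact (mul_eq_left (a := xx φ i 0)).1 h.symm

theorem xx_neg (φ : K →+* K) (i : Fin 6) (a : K) : xx φ i (-a) = (xx φ i a)⁻¹ := by
  rw [eq_inv_iff_mul_eq_one, ← xx_add, neg_add_cancel, xx_zero]

/-- the restriction on the parameters -/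
def dm (φ : K →+* K) (i : Fin 6) (a : K) : Prop := (i = 0 ∨ i = 4 ∨ i = 5) → φ a = a

/-- the characters of the torus -/
def ch (φ : K →+* K) (s l : K) : Fin 6 → K
  | 0 => s
  | 1 => l
  | 2 => s * l
  | 3 => s * (l * φ l)
  | 4 => s * (l * φ l * φ (φ l))
  | 5 => s * s * (l * φ l * φ (φ l))

theorem elt_eq_xx (φ : K →+* K) (a b c d e f : K) : elt φ a b c d e f =
    xx φ 0 a * xx φ 1 b * xx φ 2 c * xx φ 3 d * xx φ 4 e * xx φ 5 f := by
  rw [elt_eq]
  show _ = xG 14 a * D4Fixed.X φ b * Cc φ c * Dd φ d * xG 22 e * xG 23 f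
  unfold D4Fixed.X Cc Dd
  rw [xU_eq, xU_eq, xU_eq]

/-- the lists of the filtration -/
def Lv : ℕ → List ℕ
  | 0 => []
  | 1 => [23]
  | 2 => [22, 23]
  | 3 => [21, 17, 20, 22, 23]
  | 4 => [19, 16, 15, 21, 17, 20, 22, 23]
  | _ => ordA

/-- the position of the relative root in the filtration -/
def lev : Fin 6 → ℕ
  | 0 => 5
  | 1 => 5
  | 2 => 4
  | 3 => 3
  | 4 => 2
  | 5 => 1

theorem RS_mono {l m : List ℕ} (h : (l.all fun r => m.contains r) = true) : RS K l ≤ RS K m := by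
  apply rspan_mono
  intro r hr
  have := List.all_eq_true.1 h r hr
  simpa using this

theorem xG_mem_RS {l : List ℕ} {r : ℕ} (h : r ∈ l) (t : K) : xG r t ∈ RS K l :=
  mem_rspan xG (S := {k | k ∈ l}) h t

theorem xx_mem_RS (φ : K →+* K) (i : Fin 6) (a : K) : xx φ i a ∈ RS K (Lv (lev i)) := by
  fin_cases i
  · exact xG_mem_RS (by decide) _
  · show D4Fixed.X φ a ∈ RS K ordA
    unfold D4Fixed.X
    rw [xU_eq, xU_eq, xU_eq]
    exact mul_mem (mul_mem (xG_mem_RS (by decide) _) (xG_mem_RS (by decide) _)) (xG_mem_RS (by decide) _)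
  · exact mul_mem (mul_mem (xG_mem_RS (by decide) _) (xG_mem_RS (by decide) _)) (xG_mem_RS (by decide) _)
  · exact mul_mem (mul_mem (xG_mem_RS (by decide) _) (xG_mem_RS (by decide) _)) (xG_mem_RS (by decide) _)
  · exact xG_mem_RS (by decide) _
  · exact xG_mem_RS (by decide) _

/-- suffix lists: coordinates outside the suffix vanish -/
theorem lprod_suffix {l p : List ℕ} (hl : ordA = p ++ l) {g : GL chevD4.Idx K} (hg : g ∈ RS K l)
    {t : ℕ → K} (ht : g = lprod xG ordA t) : ∀ r ∈ p, t r = 0 := by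
  classical
  have hnd : ordA.Nodup := by decide
  have hgl : Good (xG : ℕ → K → GL chevD4.Idx K) l := by
    have h1 : Good (xG : ℕ → K → GL chevD4.Idx K) (p ++ l) := hl ▸ good_of_goodB ordA goodB_ordA
    clear hg hl ht hnd
    induction p with
    | nil => exact h1
    | cons r p ih => exact ih h1.2
  have hnl : l.Nodup := by rw [hl] at hnd; exact (List.nodup_append.1 hnd).2.1
  obtain ⟨t', ht'⟩ := exists_lprod xG_add hnl hgl hg
  let t'' : ℕ → K := fun r => if r ∈ p then 0 else t' r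
  have hdis : ∀ r ∈ l, r ∉ p := by
    rw [hl] at hnd
    intro r hr hrp
    exact (List.nodup_append.1 hnd).2.2 r hrp r hr rfl
  have e : lprod xG ordA t'' = lprod xG l t' := by
    rw [hl, lprod_append, lprod_congr xG (l := l) (t' := t') fun r hr => if_neg (hdis r hr)]
    have : lprod (xG : ℕ → K → GL chevD4.Idx K) p t'' = 1 := by
      have hz : ∀ r ∈ p, t'' r = 0 := fun r hr => if_pos hr
      clear_value t''
      clear hl hdis
      induction p with
      | nil => rfl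
      | cons r p ih =>
        rw [lprod_cons, hz r (by simp), xG_zero, one_mul]
        exact ih fun s hs => hz s (by simp [hs])
    rw [this, one_mul]
  intro r hr
  have h := lprod_inj ordA uniqB_ordA (t := t) (t' := t'') (by rw [← ht, ht', e]) r (by rw [hl]; simp [hr])
  rw [h]
  exact if_pos hr

end General

section Twisted
variable {K : Type*} [Field K] {q : ℕ} {φ : K →+* K}

theorem neg_xx (i : Fin 6) {a : K} (h : dm φ i a) : dm φ i (-a) := by
  intro hi; rw [map_neg, h hi]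

theorem dm_mul {i : Fin 6} {s l a : K} (hs : φ s = s) (hK3 : ∀ t : K, φ (φ (φ t)) = t) (h : dm φ i a) :
    dm φ i (ch φ s l i * a) := by
  intro hi
  rw [map_mul, h hi]
  congr 1
  rcases hi with rfl | rfl | rfl
  · exact hs
  · show φ (s * (l * φ l * φ (φ l))) = s * (l * φ l * φ (φ l))
    simp only [map_mul, hK3, hs]; ring
  · show φ (s * s * (l * φ l * φ (φ l))) = s * s * (l * φ l * φ (φ l))
    simp only [map_mul, hK3, hs]; ring

theorem xx_mem (hK3 : ∀ t : K, φ (φ (φ t)) = t) (hφ : ∀ x, φ x = x ^ q) (hle : twistedD4 K q ≤ fix φ) {i : Fin 6}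
    {a : K} (h : dm φ i a) : xx φ i a ∈ twistedD4 K q := by
  have key := fun {a b c d e f : K} (ha : φ a = a) (he : φ e = e) (hf : φ f = f) =>
    elt_mem (a := a) (b := b) (c := c) (d := d) (e := e) (f := f) hK3 hφ hle ha he hf
  have hz : φ 0 = 0 := map_zero φ
  fin_cases i
  · have := key (a := a) (b := 0) (c := 0) (d := 0) (e := 0) (f := 0) (h (Or.inl rfl)) hz hz
    rw [elt_eq_xx] at this
    simp only [xx_zero, mul_one, one_mul] at this
    exact this
  · have := key (a := 0) (b := a) (c := 0) (d := 0) (e := 0) (f := 0) hz hz hz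
    rw [elt_eq_xx] at this
    simp only [xx_zero, mul_one, one_mul] at this
    exact this
  · have := key (a := 0) (b := 0) (c := a) (d := 0) (e := 0) (f := 0) hz hz hz
    rw [elt_eq_xx] at this
    simp only [xx_zero, mul_one, one_mul] at this
    exact this
  · have := key (a := 0) (b := 0) (c := 0) (d := a) (e := 0) (f := 0) hz hz hz
    rw [elt_eq_xx] at this
    simp only [xx_zero, mul_one, one_mul] at this
    exact this
  · have := key (a := 0) (b := 0) (c := 0) (d := 0) (e := a) (f := 0) hz (h (Or.inr (Or.inl rfl))) hz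
    rw [elt_eq_xx] at this
    simp only [xx_zero, mul_one, one_mul] at this
    exact this
  · have := key (a := 0) (b := 0) (c := 0) (d := 0) (e := 0) (f := a) hz hz (h (Or.inr (Or.inr rfl)))
    rw [elt_eq_xx] at this
    simp only [xx_zero, mul_one, one_mul] at this
    exact this

/-! ### The torus -/

/-- torus elements -/
def hT (φ : K →+* K) (x y : K) : GL chevD4.Idx K := hR 14 x * hb φ y

theorem hT_conj {r : ℕ} (hr : r < 24) {x y : K} (hx : x ≠ 0) (hy : y ≠ 0) (u : K) :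
    hT φ x y * xG r u * (hT φ x y)⁻¹ = xG r (x ^ cartanRS chevD4 14 r * (y ^ cartanRS chevD4 18 r *
      (φ y ^ cartanRS chevD4 13 r * (φ (φ y) ^ cartanRS chevD4 12 r * u)))) := by
  have hy1 : φ y ≠ 0 := (map_ne_zero φ).2 hy
  have hy2 : φ (φ y) ≠ 0 := (map_ne_zero φ).2 hy1
  have e : hT φ x y * xG r u * (hT φ x y)⁻¹ = hR 14 x * (hR 18 y * (hR 13 (φ y) * (hR 12 (φ (φ y)) * xG r u *
      (hR 12 (φ (φ y)))⁻¹) * (hR 13 (φ y))⁻¹) * (hR 18 y)⁻¹) * (hR 14 x)⁻¹ := by
    unfold hT hb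
    group
  have h12 := hR_conj (r := 12) (s := r) (by norm_num) hr (Units.mk0 _ hy2)
  have h13 := hR_conj (r := 13) (s := r) (by norm_num) hr (Units.mk0 _ hy1)
  have h18 := hR_conj (r := 18) (s := r) (by norm_num) hr (Units.mk0 _ hy)
  have h14 := hR_conj (r := 14) (s := r) (by norm_num) hr (Units.mk0 _ hx)
  simp only [Units.val_mk0] at h12 h13 h18 h14
  rw [e, h12, h13, h18, h14]

theorem hT_mem (hφ : ∀ x, φ x = x ^ q) {x y : K} (hx : φ x = x) : hT φ x y ∈ twistedD4 K q :=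
  mul_mem (h14_mem hφ hx) (hb_mem hφ y)

theorem hT_diag {x y : K} (hx : x ≠ 0) (hy : y ≠ 0) : hT φ x y ∈ chevD4.diagonalSubgroup K :=
  mul_mem (hR_mem (by norm_num) hx) (hb_mem_diagonal φ hy)

theorem cart_tab : (List.range 24).map (fun r => (cartanRS chevD4 14 r, cartanRS chevD4 18 r, cartanRS chevD4 13 r,
    cartanRS chevD4 12 r)) = [(-1, 0, 0, 0), (1, -1, -1, -1), (0, -1, -1, 1), (0, -1, 1, -1), (-1, -1, 1, 1),
    (1, -2, 0, 0), (0, 1, -1, -1), (-1, 1, -1, 1), (-1, 1, 1, -1), (-2, 1, 1, 1), (1, 0, -2, 0), (1, 0, 0, -2),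
    (-1, 0, 0, 2), (-1, 0, 2, 0), (2, -1, -1, -1), (1, -1, -1, 1), (1, -1, 1, -1), (0, -1, 1, 1), (-1, 2, 0, 0),
    (1, 1, -1, -1), (0, 1, -1, 1), (0, 1, 1, -1), (-1, 1, 1, 1), (1, 0, 0, 0)] := by decide +kernel

theorem cart_get {r : ℕ} (hr : r < 24) : (cartanRS chevD4 14 r, cartanRS chevD4 18 r, cartanRS chevD4 13 r,
    cartanRS chevD4 12 r) = ((List.range 24).map (fun r => (cartanRS chevD4 14 r, cartanRS chevD4 18 r,
      cartanRS chevD4 13 r, cartanRS chevD4 12 r)))[r]'(by simpa using hr) := by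
  simp

/-- Independent coordinates on the torus: for `s ∈ F_q`, `s, m ≠ 0`, the characters take the values `ch s (m * m)`. -/
theorem exists_torus (hK3 : ∀ t : K, φ (φ (φ t)) = t) (hφ : ∀ x, φ x = x ^ q) {s m : K} (hs : φ s = s) (hs0 : s ≠ 0)
    (hm0 : m ≠ 0) : ∃ h ∈ twistedD4 K q, h ∈ chevD4.diagonalSubgroup K ∧
      ∀ (i : Fin 6) (a : K), h * xx φ i a * h⁻¹ = xx φ i (ch φ s (m * m) i * a) := by
  have hm1 : φ m ≠ 0 := (map_ne_zero φ).2 hm0
  have hm2 : φ (φ m) ≠ 0 := (map_ne_zero φ).2 hm1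
  obtain ⟨m1, hm1e⟩ : ∃ m1, m1 = φ m := ⟨_, rfl⟩
  obtain ⟨m2, hm2e⟩ : ∃ m2, m2 = φ (φ m) := ⟨_, rfl⟩
  rw [← hm1e] at hm1
  rw [← hm2e] at hm2
  have hm3 : φ m1 = m2 := by rw [hm1e, hm2e]
  have hm4 : φ m2 = m := by rw [hm2e, hK3]
  let N : K := m * m1 * m2
  have hN : φ N = N := by
    show φ (m * m1 * m2) = m * m1 * m2
    rw [map_mul, map_mul, hm3, hm4, ← hm1e]; ring
  have hN0 : N ≠ 0 := mul_ne_zero (mul_ne_zero hm0 hm1) hm2
  let x : K := s * s * (N * N)
  let y : K := s * N * m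
  let y1 : K := s * N * m1
  let y2 : K := s * N * m2
  have hx0 : x ≠ 0 := mul_ne_zero (mul_ne_zero hs0 hs0) (mul_ne_zero hN0 hN0)
  have hy0 : y ≠ 0 := mul_ne_zero (mul_ne_zero hs0 hN0) hm0
  have hxf : φ x = x := by
    show φ (s * s * (N * N)) = s * s * (N * N)
    rw [map_mul, map_mul, map_mul, hs, hN]
  have hy1 : φ y = y1 := by
    show φ (s * N * m) = _
    rw [map_mul, map_mul, hs, hN, ← hm1e]
  have hy2 : φ y1 = y2 := by
    show φ (s * N * m1) = _
    rw [map_mul, map_mul, hs, hN, hm3]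
  have tab : ∀ {r : ℕ} (hr : r < 24) {c1 c2 c3 c4 : ℤ},
      ((List.range 24).map (fun r => (cartanRS chevD4 14 r, cartanRS chevD4 18 r, cartanRS chevD4 13 r,
        cartanRS chevD4 12 r)))[r]? = some (c1, c2, c3, c4) →
      ∀ u, hT φ x y * xG r u * (hT φ x y)⁻¹ = xG r (x ^ c1 * (y ^ c2 * (y1 ^ c3 * (y2 ^ c4 * u)))) := by
    intro r hr c1 c2 c3 c4 h u
    rw [List.getElem?_eq_some_iff] at h
    obtain ⟨h5, h6⟩ := h
    rw [← cart_get hr] at h6
    simp only [Prod.mk.injEq] at h6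
    obtain ⟨rfl, rfl, rfl, rfl⟩ := h6
    have h7 := hT_conj (φ := φ) hr hx0 hy0 u
    rw [hy1, hy2] at h7
    exact h7
  have e14 := tab (r := 14) (by norm_num) (c1 := 2) (c2 := -1) (c3 := -1) (c4 := -1) (by rw [cart_tab]; rfl)
  have e18 := tab (r := 18) (by norm_num) (c1 := -1) (c2 := 2) (c3 := 0) (c4 := 0) (by rw [cart_tab]; rfl)
  have e13 := tab (r := 13) (by norm_num) (c1 := -1) (c2 := 0) (c3 := 2) (c4 := 0) (by rw [cart_tab]; rfl)
  have e12 := tab (r := 12) (by norm_num) (c1 := -1) (c2 := 0) (c3 := 0) (c4 := 2) (by rw [cart_tab]; rfl)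
  have e19 := tab (r := 19) (by norm_num) (c1 := 1) (c2 := 1) (c3 := -1) (c4 := -1) (by rw [cart_tab]; rfl)
  have e16 := tab (r := 16) (by norm_num) (c1 := 1) (c2 := -1) (c3 := 1) (c4 := -1) (by rw [cart_tab]; rfl)
  have e15 := tab (r := 15) (by norm_num) (c1 := 1) (c2 := -1) (c3 := -1) (c4 := 1) (by rw [cart_tab]; rfl)
  have e21 := tab (r := 21) (by norm_num) (c1 := 0) (c2 := 1) (c3 := 1) (c4 := -1) (by rw [cart_tab]; rfl)
  have e17 := tab (r := 17) (by norm_num) (c1 := 0) (c2 := -1) (c3 := 1) (c4 := 1) (by rw [cart_tab]; rfl)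
  have e20 := tab (r := 20) (by norm_num) (c1 := 0) (c2 := 1) (c3 := -1) (c4 := 1) (by rw [cart_tab]; rfl)
  have e22 := tab (r := 22) (by norm_num) (c1 := -1) (c2 := 1) (c3 := 1) (c4 := 1) (by rw [cart_tab]; rfl)
  have e23 := tab (r := 23) (by norm_num) (c1 := 1) (c2 := 0) (c3 := 0) (c4 := 0) (by rw [cart_tab]; rfl)
  simp only [zpow_neg_one, zpow_one, zpow_zero, one_mul, zpow_ofNat, pow_one, pow_zero] at e14 e18 e13 e12 e19 e16 e15 e21 e17 e20 e22 e23
  have cc : ∀ (g a b c : GL chevD4.Idx K), g * (a * b * c) * g⁻¹ = (g * a * g⁻¹) * (g * b * g⁻¹) * (g * c * g⁻¹) := by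
    intro g a b c; group
  have f14 : ∀ a, x ^ 2 * (y⁻¹ * (y1⁻¹ * (y2⁻¹ * a))) = s * a := by intro a; simp only [x, y, y1, y2, N]; field_simp
  have f18 : ∀ a, x⁻¹ * (y ^ 2 * a) = m * m * a := by intro a; simp only [x, y, N]; field_simp
  have f13 : ∀ a, x⁻¹ * (y1 ^ 2 * a) = m1 * m1 * a := by intro a; simp only [x, y1, N]; field_simp
  have f12 : ∀ a, x⁻¹ * (y2 ^ 2 * a) = m2 * m2 * a := by intro a; simp only [x, y2, N]; field_simp
  have f19 : ∀ a, x * (y * (y1⁻¹ * (y2⁻¹ * a))) = s * (m * m) * a := by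
    intro a; simp only [x, y, y1, y2, N]; field_simp
  have f16 : ∀ a, x * (y⁻¹ * (y1 * (y2⁻¹ * a))) = s * (m1 * m1) * a := by
    intro a; simp only [x, y, y1, y2, N]; field_simp
  have f15 : ∀ a, x * (y⁻¹ * (y1⁻¹ * (y2 * a))) = s * (m2 * m2) * a := by
    intro a; simp only [x, y, y1, y2, N]; field_simp
  have f21 : ∀ a, y * (y1 * (y2⁻¹ * a)) = s * (m * m * (m1 * m1)) * a := by
    intro a; simp only [y, y1, y2, N]; field_simp
  have f17 : ∀ a, y⁻¹ * (y1 * (y2 * a)) = s * (m1 * m1 * (m2 * m2)) * a := by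
    intro a; simp only [y, y1, y2, N]; field_simp
  have f20 : ∀ a, y * (y1⁻¹ * (y2 * a)) = s * (m2 * m2 * (m * m)) * a := by
    intro a; simp only [y, y1, y2, N]; field_simp
  have f22 : ∀ a, x⁻¹ * (y * (y1 * (y2 * a))) = s * (m * m * (m1 * m1) * (m2 * m2)) * a := by
    intro a; simp only [x, y, y1, y2, N]; field_simp
  have f23 : ∀ a, x * a = s * s * (m * m * (m1 * m1) * (m2 * m2)) * a := by
    intro a; simp only [x, N]; ring
  have hm5 : φ m = m1 := hm1e.symm
  clear_value x y y1 y2 N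
  refine ⟨hT φ x y, hT_mem hφ hxf, hT_diag hx0 hy0, fun i a => ?_⟩
  fin_cases i
  · show hT φ x y * xG 14 a * (hT φ x y)⁻¹ = xG 14 (s * a)
    rw [e14, f14]
  · show hT φ x y * D4Fixed.X φ a * (hT φ x y)⁻¹ = D4Fixed.X φ (m * m * a)
    unfold D4Fixed.X
    rw [xU_eq, xU_eq, xU_eq, xU_eq, xU_eq, xU_eq, cc, e18, e13, e12, f18, f13, f12]
    simp only [map_mul, hm5, hm3]
  · show hT φ x y * Cc φ a * (hT φ x y)⁻¹ = Cc φ (s * (m * m) * a)
    unfold Cc
    rw [cc, e19, e16, e15, f19, f16, f15]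
    simp only [map_mul, hm5, hm3, hs, mul_neg]
  · show hT φ x y * Dd φ a * (hT φ x y)⁻¹ = Dd φ (s * (m * m * φ (m * m)) * a)
    unfold Dd
    rw [cc, e21, e17, e20, f21, f17, f20]
    simp only [map_mul, hm5, hm3, hm4, hs, mul_neg]
  · show hT φ x y * xG 22 a * (hT φ x y)⁻¹ = xG 22 (s * (m * m * φ (m * m) * φ (φ (m * m))) * a)
    rw [e22, f22]
    simp only [map_mul, hm5, hm3]
  · show hT φ x y * xG 23 a * (hT φ x y)⁻¹ = xG 23 (s * s * (m * m * φ (m * m) * φ (φ (m * m))) * a)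
    rw [e23, f23]
    simp only [map_mul, hm5, hm3]

end Twisted

end Cfsg.Agent.KFacts.Mult.D4Base
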