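import Cfsg.Agent.KFacts.Mult.RGDW

/-!
# No invariant alternating forms on large finite fields of characteristic 2

* `eq_top_of_inv`: an additive subgroup `H` of index at most 2 of a finite field of characteristic 2 and order
  at least 8 which contains 1 and is closed under inversion is everything;
* `AbPre.of_field`: a subgroup `V = {e a | a ∈ F}` on which all multiplications of `F` are induced by
  conjugation has commutative preimage in every double cover, `|F| ≥ 8`.
-/

set_option autoImplicit false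

namespace Cfsg.Agent.KFacts.Mult.FieldAlt

open Subgroup Cfsg.Agent.KFacts.MulDef Cfsg.Agent.KFacts.MulTwo Cfsg.Agent.KFacts.Mult.WeightsTwo
  Cfsg.Agent.KFacts.Mult.RGDW

theorem hua {F : Type*} [Field F] {a b : F} (ha : a ≠ 0) (hb : b ≠ 0) (hab : a * b ≠ 1) :
    a - (a⁻¹ + (b⁻¹ - a)⁻¹)⁻¹ = a * a * b := by
  have h1 : b⁻¹ - a ≠ 0 := by
    intro h
    apply hab
    have h2 : b⁻¹ = a := sub_eq_zero.1 h
    rw [← h2, inv_mul_cancel₀ hb]
  have h1' : 1 - b * a ≠ 0 := by
    intro h
    apply hab
    have h2 := sub_eq_zero.1 h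
    rw [mul_comm]; exact h2.symm
  have e1 : b⁻¹ - a = (1 - b * a) / b := by field_simp
  have e2 : a⁻¹ + (b⁻¹ - a)⁻¹ = 1 / (a * (1 - b * a)) := by
    rw [e1]; field_simp; ring
  rw [e2]
  field_simp
  ring

theorem eq_top_of_inv {F : Type*} [Field F] [Finite F] [CharP F 2] (hq : 4 < Nat.card F) (H : AddSubgroup F)
    (h1 : (1 : F) ∈ H) (hinv : ∀ x ∈ H, x⁻¹ ∈ H) (hidx : ∀ a b : F, a ∉ H → b ∉ H → a + b ∈ H) : H = ⊤ := by
  classical
  have hmul2 : ∀ a ∈ H, ∀ b ∈ H, a * a * b ∈ H := by
    intro a ha b hb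
    by_cases ha0 : a = 0
    · rw [ha0]; simp
    by_cases hb0 : b = 0
    · rw [hb0]; simp
    by_cases hab : a * b = 1
    · rw [mul_assoc, hab, mul_one]; exact ha
    · rw [← hua ha0 hb0 hab]
      exact H.sub_mem ha (hinv _ (H.add_mem (hinv _ ha) (hinv _ (H.sub_mem (hinv _ hb) ha))))
  have hsq : ∀ a ∈ H, a * a ∈ H := fun a ha => by simpa using hmul2 a ha 1 h1
  have hsurj : ∀ x ∈ H, ∃ a ∈ H, a * a = x := by
    let f : H → H := fun a => ⟨a.1 * a.1, hsq a.1 a.2⟩
    have hf : Function.Injective f := by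
      rintro ⟨a, ha⟩ ⟨b, hb⟩ hab
      have h2 : a * a = b * b := congrArg Subtype.val hab
      have h3 : (a - b) ^ 2 = 0 := by
        rw [sub_pow_char, pow_two, pow_two, h2, sub_self]
      exact Subtype.ext (sub_eq_zero.1 (pow_eq_zero_iff (two_ne_zero) |>.1 h3))
    intro x hx
    obtain ⟨a, ha⟩ := (Finite.surjective_of_injective hf) ⟨x, hx⟩
    exact ⟨a.1, a.2, congrArg Subtype.val ha⟩
  have hmul : ∀ x ∈ H, ∀ y ∈ H, x * y ∈ H := by
    intro x hx y hy
    obtain ⟨a, ha, rfl⟩ := hsurj x hx
    exact hmul2 a ha y hy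
  let K : Subfield F :=
    { carrier := H
      mul_mem' := fun {x y} hx hy => hmul x hx y hy
      one_mem' := h1
      add_mem' := fun {x y} hx hy => H.add_mem hx hy
      zero_mem' := H.zero_mem
      neg_mem' := fun {x} hx => H.neg_mem hx
      inv_mem' := fun x hx => hinv x hx }
  have hK : ∀ x, x ∈ K ↔ x ∈ H := fun x => Iff.rfl
  by_contra hne
  obtain ⟨z, hz⟩ : ∃ z, z ∉ H := by
    by_contra hcon
    push Not at hcon
    exact hne (eq_top_iff.2 fun x _ => hcon x)
  have hKne : K ≠ ⊤ := by
    intro h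
    apply hz
    have : z ∈ K := by rw [h]; trivial
    exact this
  -- the order of `F`
  have hcard : Nat.card F = Nat.card K ^ Module.finrank K F := Module.natCard_eq_pow_finrank
  have hle : Nat.card F ≤ 2 * Nat.card K := by
    have h2 : Function.Injective (fun x : F => if hx : x ∈ H then (Sum.inl ⟨x, hx⟩ : K ⊕ K) else
        Sum.inr ⟨z + x, hidx z x hz hx⟩) := by
      intro x y hxy
      simp only at hxy
      by_cases hx : x ∈ H <;> by_cases hy : y ∈ H
      · rw [dif_pos hx, dif_pos hy] at hxy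
        exact congrArg Subtype.val (Sum.inl.inj hxy)
      · rw [dif_pos hx, dif_neg hy] at hxy
        exact absurd hxy (by simp)
      · rw [dif_neg hx, dif_pos hy] at hxy
        exact absurd hxy (by simp)
      · rw [dif_neg hx, dif_neg hy] at hxy
        exact add_left_cancel (congrArg Subtype.val (Sum.inr.inj hxy))
    have h3 := Nat.card_le_card_of_injective _ h2
    rw [Nat.card_sum] at h3
    omega
  have h2K : 2 ≤ Nat.card K := by
    have : Nontrivial K := inferInstance
    exact Finite.one_lt_card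
  have hk2 : 2 ≤ Module.finrank K F := by
    by_contra hlt
    have hpos : 0 < Module.finrank K F := Module.finrank_pos
    have h1' : Module.finrank K F = 1 := by omega
    rw [h1', pow_one] at hcard
    apply hKne
    rw [eq_top_iff]
    intro x _
    have h4 : Function.Surjective (Subtype.val : K → F) :=
      (Nat.bijective_iff_injective_and_card _).2 ⟨Subtype.val_injective, hcard.symm⟩ |>.2
    obtain ⟨y, rfl⟩ := h4 x
    exact y.2
  have h5 : Nat.card K ^ 2 ≤ Nat.card F := by
    rw [hcard]
    exact Nat.pow_le_pow_right (by omega) hk2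
  have h6 : Nat.card K ≤ 2 := by nlinarith
  omega

/-- **Commutative preimages, multiplications of a field of order at least 8.** -/
theorem AbPre.of_field {X : Type*} [Group X] {F : Type*} [Field F] [Finite F] [CharP F 2]
    (hq : 4 < Nat.card F) (e : F → X) (he : ∀ a b, e (a + b) = e a * e b)
    (hg : ∀ l : F, l ≠ 0 → ∃ g : X, ∀ a, g * e a * g⁻¹ = e (l * a)) {V : Subgroup X}
    (hV : ∀ v ∈ V, ∃ a, e a = v) : AbPre V := by
  intro L _ _ π c hd
  have he0 : e 0 = 1 := by
    have := he 0 0
    rw [add_zero] at this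
    exact mul_eq_left.1 this.symm
  have hecomm : ∀ a b, e a * e b = e b * e a := fun a b => by rw [← he, ← he, add_comm]
  obtain ⟨s, hs⟩ : ∃ s : F → L, ∀ a, π (s a) = e a := ⟨fun a => (hd.surj (e a)).choose,
    fun a => (hd.surj (e a)).choose_spec⟩
  -- the commutator only depends on the images
  have hdep : ∀ x x' y : L, π x = π x' → x * y = y * x → x' * y = y * x' := by
    intro x x' y hx h1
    have h2 : π (x⁻¹ * x') = 1 := by rw [map_mul, map_inv, hx, inv_mul_cancel]
    rcases (hd.ker _).1 h2 with h3 | h3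
    · rw [inv_mul_eq_one.1 h3] at h1; exact h1
    · rw [inv_mul_eq_iff_eq_mul] at h3
      rw [h3, mul_assoc, hd.cen y, ← mul_assoc, h1, mul_assoc]
  have hdep' : ∀ x y y' : L, π y = π y' → x * y = y * x → x * y' = y' * x := fun x y y' h1 h2 =>
    (hdep y y' x h1 h2.symm).symm
  -- `H`: the `b` with `s b` commuting with `s 1`
  let H : AddSubgroup F :=
    { carrier := {b | s 1 * s b = s b * s 1}
      zero_mem' := by
        show s 1 * s 0 = s 0 * s 1
        refine hdep' (s 1) 1 (s 0) ?_ ?_
        · rw [map_one, hs, he0]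
        · rw [mul_one, one_mul]
      add_mem' := by
        intro a b ha hb
        show s 1 * s (a + b) = s (a + b) * s 1
        refine hdep' (s 1) (s a * s b) (s (a + b)) ?_ ?_
        · rw [map_mul, hs, hs, hs, he]
        · rw [← mul_assoc, (ha : s 1 * s a = s a * s 1), mul_assoc, (hb : s 1 * s b = s b * s 1), mul_assoc]
      neg_mem' := by
        intro a ha
        rwa [CharTwo.neg_eq] }
  have hH : ∀ b, b ∈ H ↔ s 1 * s b = s b * s 1 := fun b => Iff.rfl
  have hconj : ∀ (l a b : F), l ≠ 0 → s a * s b = s b * s a → s (l * a) * s (l * b) = s (l * b) * s (l * a) := by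
    intro l a b hl hab
    obtain ⟨g, hg⟩ := hg l hl
    obtain ⟨g', rfl⟩ := hd.surj g
    have h1 : g' * s a * g'⁻¹ * (g' * s b * g'⁻¹) = g' * s b * g'⁻¹ * (g' * s a * g'⁻¹) := by
      have e1 : g' * s a * g'⁻¹ * (g' * s b * g'⁻¹) = g' * (s a * s b) * g'⁻¹ := by group
      rw [e1, hab]; group
    refine hdep _ _ _ ?_ (hdep' _ _ _ ?_ h1)
    · rw [map_mul, map_mul, map_inv, hs, hs, hg]
    · rw [map_mul, map_mul, map_inv, hs, hs, hg]
  have htop : H = ⊤ := by
    refine eq_top_of_inv hq H rfl ?_ ?_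
    · intro x hx
      rw [hH] at hx ⊢
      by_cases hx0 : x = 0
      · subst hx0; rwa [inv_zero]
      · have h1 := hconj x⁻¹ 1 x (inv_ne_zero hx0) hx
        rw [mul_one, inv_mul_cancel₀ hx0] at h1
        exact h1.symm
    · intro a b ha hb
      rw [hH] at ha hb ⊢
      have h1 : ∀ a, ¬ (s 1 * s a = s a * s 1) → s 1 * s a = s a * s 1 * c := by
        intro a ha
        rcases comm_or hd (x := s 1) (y := s a) (by rw [hs, hs]; exact hecomm _ _) with h2 | h2
        · exact absurd h2 ha
        · rw [h2, hd.cen]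
      refine hdep' (s 1) (s a * s b) (s (a + b)) (by rw [map_mul, hs, hs, hs, he]) ?_
      calc s 1 * (s a * s b) = (s 1 * s a) * s b := by rw [mul_assoc]
        _ = s a * s 1 * c * s b := by rw [h1 a ha]
        _ = s a * s 1 * (c * s b) := by rw [mul_assoc (s a * s 1)]
        _ = s a * s 1 * (s b * c) := by rw [hd.cen]
        _ = s a * (s 1 * s b) * c := by simp only [mul_assoc]
        _ = s a * (s b * s 1 * c) * c := by rw [h1 b hb]
        _ = s a * (s b * s 1) * (c * c) := by simp only [mul_assoc]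
        _ = s a * s b * s 1 := by rw [hd.sq, mul_one, mul_assoc]
  have hall : ∀ a b : F, s a * s b = s b * s a := by
    intro a b
    by_cases ha : a = 0
    · subst ha
      refine hdep 1 (s 0) (s b) ?_ ?_
      · rw [map_one, hs, he0]
      · rw [mul_one, one_mul]
    · have h1 : a⁻¹ * b ∈ H := by rw [htop]; trivial
      have h2 := hconj a 1 (a⁻¹ * b) ha h1
      rwa [mul_one, mul_inv_cancel_left₀ ha] at h2
  intro x y hx hy
  obtain ⟨a, ha⟩ := hV _ hx
  obtain ⟨b, hb⟩ := hV _ hy
  exact hdep (s a) x y (by rw [hs, ha]) (hdep' (s a) (s b) y (by rw [hs, hb]) (hall a b))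

end Cfsg.Agent.KFacts.Mult.FieldAlt
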