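import Cfsg.Agent.KFacts.Mult.RGDQ

/-!
# Splitting preimages of root groups: conjugation, the version of the main theorem with `Spl` on simple roots
-/

set_option autoImplicit false
set_option linter.unusedSectionVars false

namespace Cfsg.Agent.KFacts.Mult.RGDS

open Subgroup Cfsg.Agent.KFacts.MulDef Cfsg.Agent.KFacts.MulTwo Cfsg.Agent.KFacts.Mult.WeightsTwo
  Cfsg.Agent.KFacts.Mult.RGDW
open CoxeterSystem Cfsg.Agent.ChevalleyStructure.CoxeterGeom Cfsg.Agent.Tits.Roots Cfsg.Agent.Tits.Core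
  Cfsg.Agent.Nodes.Reps Cfsg.Agent.Nodes.BNOf Cfsg.Agent.Nodes.Bruhat
open scoped commutatorElement

theorem mem_normalizer_of_le {Y : Type*} [Group Y] [Finite Y] {T' : Subgroup Y} {g : Y}
    (h : ∀ t ∈ T', g * t * g⁻¹ ∈ T') : g ∈ normalizer (T' : Set Y) := by
  rw [mem_normalizer_iff_cj]
  have h1 : cj g T' ≤ T' := by
    intro u hu
    rw [mem_cj] at hu
    have e0 : u = g * (g⁻¹ * u * g) * g⁻¹ := by group
    rw [e0]
    exact h _ hu
  refine Subgroup.eq_of_le_of_card_ge h1 ?_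
  have h2 : Nat.card T' = Nat.card (cj g T') :=
    Nat.card_congr (T'.equivMapOfInjective _ (MulAut.conj g).injective).toEquiv
  exact h2.le

theorem Spl.conj {X : Type*} [Group X] {T V V₁ : Subgroup X} (h : Spl T V) {g : X}
    (hg : g ∈ normalizer (T : Set X)) (h1 : ∀ v ∈ V₁, g⁻¹ * v * g ∈ V) (h2 : ∀ v ∈ V, g * v * g⁻¹ ∈ V₁) :
    Spl T V₁ := by
  intro L _ _ π c hd
  obtain ⟨M, hcM, hMV, hVM, hTM⟩ := h L π c hd
  obtain ⟨k, rfl⟩ := hd.surj g
  refine ⟨M.map (MulAut.conj k).toMonoidHom, ?_, ?_, ?_, ?_⟩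
  · rintro ⟨m, hm, hmc⟩
    have e : k * m * k⁻¹ = c := hmc
    have e2 : m = c := by
      have : m = k⁻¹ * c * k := by rw [← e]; group
      rw [this, mul_assoc, hd.cen k, inv_mul_cancel_left]
    exact hcM (e2 ▸ hm)
  · rintro _ ⟨m, hm, rfl⟩
    have h3 := h2 _ (hMV hm)
    show π (k * m * k⁻¹) ∈ V₁
    rw [map_mul, map_mul, map_inv]
    exact h3
  · intro v hv
    have h3 : k⁻¹ * v * k ∈ V.comap π := by
      show π (k⁻¹ * v * k) ∈ V
      rw [map_mul, map_mul, map_inv]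
      exact h1 _ hv
    rcases hVM _ h3 with h4 | h4
    · left
      exact ⟨_, h4, by show k * (k⁻¹ * v * k) * k⁻¹ = v; group⟩
    · right
      refine ⟨_, h4, ?_⟩
      show k * (k⁻¹ * v * k * c) * k⁻¹ = v * c
      have e : k * (k⁻¹ * v * k * c) * k⁻¹ = v * (k * c * k⁻¹) := by group
      rw [e, ← hd.cen k, mul_inv_cancel_right]
  · rintro t ht _ ⟨m, hm, rfl⟩
    have h3 : k⁻¹ * t * k ∈ T.comap π := by
      show π (k⁻¹ * t * k) ∈ T
      rw [map_mul, map_mul, map_inv]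
      have := (mem_normalizer_iff.1 (inv_mem hg) (π t)).1 ht
      rwa [inv_inv] at this
    refine ⟨_, hTM _ h3 m hm, ?_⟩
    show k * (k⁻¹ * t * k * m * (k⁻¹ * t * k)⁻¹) * k⁻¹ = t * (k * m * k⁻¹) * t⁻¹
    group

variable {I W Y : Type*} [Fintype I] [DecidableEq I] [Group W] [Group Y] {M : CoxeterMatrix I}
  {cs : CoxeterSystem M W} {A : I → I → ℤ} {h : IsCartan M A} {T : Subgroup Y} {n : I → Y}
  {X : (I → ℤ) → Subgroup Y}

theorem spl_all {r : ℕ} (R : RGD cs h r T n X) {T' : Subgroup Y} (hN : ∀ i, n i ∈ normalizer (T' : Set Y))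
    (h1 : ∀ i, Spl T' (X (sr i))) {x : I → ℤ} (hx : IsRoot cs h x) : Spl T' (X x) := by
  obtain ⟨w, i, rfl⟩ := hx
  obtain ⟨g, hgN, hg⟩ := exists_lift_normalizer R hN w
  refine Spl.conj (h1 i) hgN (fun v hv => ?_) fun v hv => R.conj_mem hg (isRoot_sr cs h i) hv
  have := R.conj_mem' hg ⟨w, i, rfl⟩ hv
  rwa [rep_inv_apply] at this

/-- **No double covers, conditions on simple roots, with splittings.** -/
theorem noDouble_of_spl [Finite W] [Finite Y] (R : RGD cs h 2 T n X) (hG : GG cs h T X = ⊤) {p : ℕ}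
    [Fact p.Prime] (hp : Odd p) {T' : Subgroup Y} (hT' : T' ≤ T) (hTp : IsPGroup p T')
    (hN : ∀ i, n i ∈ normalizer (T' : Set Y))
    (h1 : ∀ i y, IsRoot cs h y → y ≠ sr i → y ≠ -sr i → Sep T' (X (sr i)) (X y))
    (h2 : ∀ i, Free T' (X (sr i))) (hs : ∀ i, Spl T' (X (sr i))) : NoDouble Y :=
  noDouble_of_rgd R hG hp hT' hTp
    (fun _ hx _ hy hxy => sep_all R hN h1 hx.1 hy.1 hxy.symm (ne_neg_of_pos hx hy))
    (fun _ hx => free_all R hN h2 hx.1) fun _ hx => spl_all R hN hs hx.1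

/-- `Spl` from a commutative preimage. -/
theorem spl_of_abPre {r : ℕ} [Fact r.Prime] (R : RGD cs h 2 T n X) (hr : Odd r) {T' : Subgroup Y} (hT' : T' ≤ T)
    (hTp : IsPGroup r T') {i : I} (h2 : Free T' (X (sr i))) (ha : AbPre (X (sr i))) : Spl T' (X (sr i)) := by
  refine Spl.of_comm hr hTp (R.pgrp i) ?_ ?_ ha
  · intro t ht v hv
    rw [← R.tor _ (isRoot_sr cs h i) t (hT' ht)]
    exact conj_mem_cj.2 hv
  · intro v hv hc
    obtain ⟨t, ht, ht2⟩ := h2
    exact ht2 v hv (hc t ht)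

end Cfsg.Agent.KFacts.Mult.RGDS
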