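import Cfsg.Agent.KFacts.Mult.WeightsTwo

/-!
# Splitting of the preimage of a Heisenberg root group (ODD D10, multipliers)

`V ≤ X` is a group with a homomorphism `κ` onto the additive group of a field `K` of characteristic 2 whose kernel
`Z` is central in `V` and contained in `[V, V]`. `Heis.spl`: if some element `m` of `N(V)` centralises `Z` and
acts on `V / Z` as a multiplication by a scalar `≠ 1`, some element `t` of odd order acts on `V / Z` as a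
multiplication by a scalar `≠ 1` and without fixed points on `Z`, and the multiplications by `u` and `1 + u` are
induced by elements commuting with `t` (`u (1 + u) (u² + u + 1) ≠ 0`), then the preimage of `V` in every double
cover splits, compatibly with all subgroups `T` centralising `t` and normalising `V` and `Z`.
-/

set_option autoImplicit false
set_option linter.unusedSectionVars false

namespace Cfsg.Agent.KFacts.Mult.Heis

open Subgroup Cfsg.Agent.KFacts.MulDef Cfsg.Agent.KFacts.MulTwo Cfsg.Agent.KFacts.Mult.Weights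
  Cfsg.Agent.KFacts.Mult.WeightsTwo
open scoped commutatorElement

universe u v w

section

variable {X : Type w} [Group X] {K : Type v} [Field K]

/-- `g` normalises `V` and acts on `V / Z` as the multiplication by `a`. -/
structure Acts (V : Subgroup X) (κ : X → K) (g : X) (a : K) : Prop where
  mem : ∀ x ∈ V, g * x * g⁻¹ ∈ V
  val : ∀ x ∈ V, κ (g * x * g⁻¹) = a * κ x

/-- See the header. -/
structure Data (V : Subgroup X) (κ : X → K) (μ t g₁ g₂ : X) (m l u : K) : Prop where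
  add : ∀ x ∈ V, ∀ y ∈ V, κ (x * y) = κ x + κ y
  surj : ∀ a, ∃ x ∈ V, κ x = a
  cen : ∀ z ∈ V, κ z = 0 → ∀ x ∈ V, z * x = x * z
  der : ∀ z ∈ V, κ z = 0 → z ∈ ⁅V, V⁆
  actμ : Acts V κ μ m
  hm : m ≠ 1
  centμ : ∀ z ∈ V, κ z = 0 → μ * z = z * μ
  actt : Acts V κ t l
  hl : l ≠ 1
  free : ∀ z ∈ V, κ z = 0 → t * z = z * t → z = 1
  odd : ∃ k : ℕ, Odd k ∧ t ^ k = 1
  act₁ : Acts V κ g₁ u
  act₂ : Acts V κ g₂ (1 + u)
  comm₁ : g₁ * t = t * g₁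
  comm₂ : g₂ * t = t * g₂
  u0 : u ≠ 0
  u1 : 1 + u ≠ 0
  u2 : u * u + u + 1 ≠ 0
  two : ∀ a : K, a + a = 0

variable {V : Subgroup X} {κ : X → K} {μ t g₁ g₂ : X} {m l u : K}

namespace Data

variable (h : Data V κ μ t g₁ g₂ m l u)

include h

theorem one : κ 1 = 0 := by
  have := h.add 1 V.one_mem 1 V.one_mem
  rw [mul_one] at this
  exact left_eq_add.1 this

theorem inv {x : X} (hx : x ∈ V) : κ x⁻¹ = -κ x := by
  have := h.add x hx x⁻¹ (inv_mem hx)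
  rw [mul_inv_cancel, h.one] at this
  exact (neg_eq_of_add_eq_zero_right this.symm).symm

variable {L : Type u} [Group L] {π : L →* X} {c : L} (hd : Dbl π c)

/-- The preimage of `Z`. -/
def Zt (_h : Data V κ μ t g₁ g₂ m l u) (π : L →* X) : Subgroup L where
  carrier := {x | π x ∈ V ∧ κ (π x) = 0}
  one_mem' := by
    rw [Set.mem_ofPred_eq, map_one]
    exact ⟨V.one_mem, _h.one⟩
  mul_mem' := by
    rintro x y ⟨hx, hx'⟩ ⟨hy, hy'⟩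
    rw [Set.mem_ofPred_eq, map_mul]
    exact ⟨mul_mem hx hy, by rw [_h.add _ hx _ hy, hx', hy', add_zero]⟩
  inv_mem' := by
    rintro x ⟨hx, hx'⟩
    rw [Set.mem_ofPred_eq, map_inv]
    exact ⟨inv_mem hx, by rw [_h.inv hx, hx', neg_zero]⟩

theorem mem_Zt {x : L} : x ∈ h.Zt π ↔ π x ∈ V ∧ κ (π x) = 0 := Iff.rfl

include hd

theorem map_c : π c = 1 := (hd.ker c).2 (Or.inr rfl)

theorem c_mem : c ∈ h.Zt π := by
  rw [mem_Zt, map_c h hd]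
  exact ⟨V.one_mem, h.one⟩

/-- elements with the same image -/
theorem eq_or {x y : L} (hxy : π x = π y) : x = y ∨ x = y * c := by
  have h1 : π (y⁻¹ * x) = 1 := by rw [map_mul, map_inv, hxy, inv_mul_cancel]
  rcases (hd.ker _).1 h1 with h2 | h2
  · left; exact (inv_mul_eq_one.1 h2).symm
  · right; exact inv_mul_eq_iff_eq_mul.1 h2

/-- `z` commutes with `[V~, V~]`. -/
theorem comm_der {z : L} (hz : z ∈ h.Zt π) {x : L} (hx : x ∈ ⁅V.comap π, V.comap π⁆) : x * z = z * x := by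
  have hc := Dbl_cz hd
  have h1 : ⁅V.comap π, V.comap π⁆ ≤ centralizer ({z} : Set L) := by
    rw [commutator_le]
    intro a ha b hb
    rw [mem_centralizer_singleton_iff]
    have ha' := comm_or hd (h.cen _ hz.1 hz.2 _ ha).symm
    have hb' := comm_or hd (h.cen _ hz.1 hz.2 _ hb).symm
    -- `a z a⁻¹ = e z`
    have key : ∀ a : L, (a * z = z * a ∨ a * z = c * (z * a)) → ∃ e : L, (∀ g : L, g * e = e * g) ∧
        a * z * a⁻¹ = e * z := by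
      rintro a (h | h)
      · exact ⟨1, fun g => by simp, by rw [one_mul, h, mul_inv_cancel_right]⟩
      · exact ⟨c, hc, by rw [h]; group⟩
    obtain ⟨e, he, hae⟩ := key a ha'
    obtain ⟨f, hf, hbf⟩ := key b hb'
    have e1 : a⁻¹ * z * a = e⁻¹ * z := by
      have h2 : z = a⁻¹ * (e * z) * a := by rw [← hae]; group
      have h3 : a⁻¹ * e = e * a⁻¹ := he _
      calc a⁻¹ * z * a = e⁻¹ * (e * a⁻¹ * z * a) := by group
        _ = e⁻¹ * (a⁻¹ * (e * z) * a) := by rw [← h3]; group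
        _ = e⁻¹ * z := by rw [← h2]
    have e2 : b⁻¹ * z * b = f⁻¹ * z := by
      have h2 : z = b⁻¹ * (f * z) * b := by rw [← hbf]; group
      have h3 : b⁻¹ * f = f * b⁻¹ := hf _
      calc b⁻¹ * z * b = f⁻¹ * (f * b⁻¹ * z * b) := by group
        _ = f⁻¹ * (b⁻¹ * (f * z) * b) := by rw [← h3]; group
        _ = f⁻¹ * z := by rw [← h2]
    have hf' : ∀ g : L, g * f⁻¹ = f⁻¹ * g := fun g => by
      have := hf g⁻¹
      calc g * f⁻¹ = (f * g⁻¹)⁻¹ := by group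
        _ = (g⁻¹ * f)⁻¹ := by rw [this]
        _ = f⁻¹ * g := by group
    have he' : ∀ g : L, g * e⁻¹ = e⁻¹ * g := fun g => by
      have := he g⁻¹
      calc g * e⁻¹ = (e * g⁻¹)⁻¹ := by group
        _ = (g⁻¹ * e)⁻¹ := by rw [this]
        _ = e⁻¹ * g := by group
    have e3 : ⁅a, b⁆ * z * ⁅a, b⁆⁻¹ = z := by
      rw [commutatorElement_def]
      calc a * b * a⁻¹ * b⁻¹ * z * (a * b * a⁻¹ * b⁻¹)⁻¹
          = a * (b * (a⁻¹ * (b⁻¹ * z * b) * a) * b⁻¹) * a⁻¹ := by group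
        _ = a * (b * ((a⁻¹ * f⁻¹) * z * a) * b⁻¹) * a⁻¹ := by rw [e2]; group
        _ = a * (b * (f⁻¹ * (a⁻¹ * z * a)) * b⁻¹) * a⁻¹ := by rw [hf']; group
        _ = a * ((b * f⁻¹) * (e⁻¹ * z) * b⁻¹) * a⁻¹ := by rw [e1]; group
        _ = a * (f⁻¹ * (b * e⁻¹) * z * b⁻¹) * a⁻¹ := by rw [hf' b]; group
        _ = a * (f⁻¹ * e⁻¹ * (b * z * b⁻¹)) * a⁻¹ := by rw [he' b]; group
        _ = a * (f⁻¹ * (e⁻¹ * f) * z) * a⁻¹ := by rw [hbf]; group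
        _ = a * (e⁻¹ * z) * a⁻¹ := by rw [hf e⁻¹]; group
        _ = (a * e⁻¹) * z * a⁻¹ := by group
        _ = e⁻¹ * (a * z * a⁻¹) := by rw [he' a]; group
        _ = z := by rw [hae]; group
    rwa [mul_inv_eq_iff_eq_mul] at e3
  exact mem_centralizer_singleton_iff.1 (h1 hx)

theorem exists_der {z : L} (hz : z ∈ h.Zt π) : ∃ x ∈ ⁅V.comap π, V.comap π⁆, z = x ∨ z = x * c := by
  have h1 : (⁅V.comap π, V.comap π⁆).map π = ⁅V, V⁆ := by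
    rw [Subgroup.map_commutator, Subgroup.map_comap_eq_self_of_surjective hd.surj]
  have h2 : π z ∈ (⁅V.comap π, V.comap π⁆).map π := by rw [h1]; exact h.der _ hz.1 hz.2
  obtain ⟨x, hx, hxz⟩ := h2
  exact ⟨x, hx, eq_or h hd hxz.symm⟩

theorem comm_Zt {z z' : L} (hz : z ∈ h.Zt π) (hz' : z' ∈ h.Zt π) : z * z' = z' * z := by
  obtain ⟨x, hx, rfl | rfl⟩ := exists_der h hd hz'
  · exact (comm_der h hd hz hx).symm
  · rw [← mul_assoc, ← comm_der h hd hz hx, mul_assoc, mul_assoc, Dbl_cz hd z]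

/-- `Z~` is central in `V~`. -/
theorem cen_Zt {z : L} (hz : z ∈ h.Zt π) {x : L} (hx : π x ∈ V) : z * x = x * z := by
  have hc := Dbl_cz hd
  obtain ⟨ν, hν⟩ := hd.surj μ
  have hm1 : m - 1 ≠ 0 := sub_ne_zero.2 h.hm
  obtain ⟨y0, hy0V, hy0⟩ := h.surj (κ (π x) / (m - 1))
  obtain ⟨y, rfl⟩ := hd.surj y0
  set y' := ν * y * ν⁻¹ with hy'
  have hy'V : π y' ∈ V := by
    rw [hy', map_mul, map_mul, map_inv, hν]; exact h.actμ.mem _ hy0V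
  have hy'κ : κ (π y') = m * κ (π y) := by
    rw [hy', map_mul, map_mul, map_inv, hν]; exact h.actμ.val _ hy0V
  -- `z` commutes with `y' y⁻¹`
  have hνz : ν * z * ν⁻¹ = z ∨ ν * z * ν⁻¹ = z * c := by
    apply eq_or h hd
    rw [map_mul, map_mul, map_inv, hν, h.centμ _ hz.1 hz.2, mul_inv_cancel_right]
  have h1 : z * (y' * y⁻¹) = y' * y⁻¹ * z := by
    have h2 : ∃ e : L, (∀ g : L, g * e = e * g) ∧ z * y * z⁻¹ = e * y := by
      rcases comm_or hd (h.cen _ hz.1 hz.2 _ hy0V) with h3 | h3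
      · exact ⟨1, fun g => by simp, by rw [h3, mul_inv_cancel_right, one_mul]⟩
      · exact ⟨c, hc, by rw [h3]; group⟩
    obtain ⟨e, he, h2⟩ := h2
    have h3 : z * y' * z⁻¹ = e * y' := by
      have h4 : (ν * z * ν⁻¹) * y' * (ν * z * ν⁻¹)⁻¹ = e * y' := by
        calc (ν * z * ν⁻¹) * y' * (ν * z * ν⁻¹)⁻¹ = ν * (z * y * z⁻¹) * ν⁻¹ := by rw [hy']; group
          _ = (ν * e) * y * ν⁻¹ := by rw [h2]; group
          _ = e * y' := by rw [he ν, hy']; group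
      rcases hνz with h5 | h5
      · rwa [h5] at h4
      · rw [h5] at h4
        rw [← h4, mul_assoc z c y', ← hc y', mul_inv_rev]
        calc z * y' * z⁻¹ = z * y' * (c * c⁻¹) * z⁻¹ := by group
          _ = z * (y' * c) * (c⁻¹ * z⁻¹) := by group
    have h4 : z * (y' * y⁻¹) * z⁻¹ = y' * y⁻¹ := by
      have he' : ∀ g : L, g * e⁻¹ = e⁻¹ * g := fun g => by
        have := he g⁻¹
        calc g * e⁻¹ = (e * g⁻¹)⁻¹ := by group
          _ = (g⁻¹ * e)⁻¹ := by rw [this]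
          _ = e⁻¹ * g := by group
      calc z * (y' * y⁻¹) * z⁻¹ = (z * y' * z⁻¹) * (z * y * z⁻¹)⁻¹ := by group
        _ = e * (y' * y⁻¹ * e⁻¹) := by rw [h3, h2]; group
        _ = y' * y⁻¹ := by rw [he' (y' * y⁻¹)]; group
    rwa [mul_inv_eq_iff_eq_mul] at h4
  -- the rest lies in `Z~`
  have h2 : (y' * y⁻¹)⁻¹ * x ∈ h.Zt π := by
    have hV1 : π (y' * y⁻¹) ∈ V := by rw [map_mul, map_inv]; exact mul_mem hy'V (inv_mem hy0V)
    refine ⟨by rw [map_mul, map_inv]; exact mul_mem (inv_mem hV1) hx, ?_⟩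
    rw [map_mul, map_inv, h.add _ (inv_mem hV1) _ hx, h.inv hV1, map_mul, map_inv,
      h.add _ hy'V _ (inv_mem hy0V), h.inv hy0V, hy'κ, hy0]
    field_simp
    ring
  have h3 := comm_Zt h hd hz h2
  calc z * x = z * (y' * y⁻¹) * ((y' * y⁻¹)⁻¹ * x) := by group
    _ = y' * y⁻¹ * (z * ((y' * y⁻¹)⁻¹ * x)) := by rw [h1]; group
    _ = x * z := by rw [h3]; group

/-! ### The lift of `t` -/

theorem exists_tau : ∃ τ : L, π τ = t ∧ ∃ k : ℕ, Odd k ∧ τ ^ k = 1 := by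
  obtain ⟨τ, hτ⟩ := hd.surj t
  obtain ⟨k, hk, htk⟩ := h.odd
  have h1 : π (τ ^ k) = 1 := by rw [map_pow, hτ, htk]
  rcases (hd.ker _).1 h1 with h2 | h2
  · exact ⟨τ, hτ, k, hk, h2⟩
  · refine ⟨τ * c, by rw [map_mul, hτ, map_c h hd, mul_one], k, hk, ?_⟩
    have h3 : (τ * c) ^ k = τ ^ k * c ^ k := (show Commute τ c from Dbl_cz hd τ).mul_pow k
    obtain ⟨j, rfl⟩ := hk
    rw [h3, h2, pow_succ c, pow_mul, pow_two, hd.sq, one_pow, one_mul, hd.sq]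

variable {τ : L} (hτ : π τ = t)

include hτ

theorem tau_comm (hk : ∃ k : ℕ, Odd k ∧ τ ^ k = 1) {g : L} (hg : π g * t = t * π g) : τ * g = g * τ := by
  obtain ⟨k, hk, h1⟩ := hk
  refine commute_of_odd hd.ne hd.sq (Dbl_cz hd) hk h1 (comm_or hd ?_)
  rw [hτ]; exact hg.symm

theorem tau_mem {x : L} (hx : x ∈ h.Zt π) : τ * x * τ⁻¹ ∈ h.Zt π := by
  refine ⟨?_, ?_⟩
  · rw [map_mul, map_mul, map_inv, hτ]; exact h.actt.mem _ hx.1
  · rw [map_mul, map_mul, map_inv, hτ, h.actt.val _ hx.1, hx.2, mul_zero]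

/-- `z ↦ [τ, z]` on `Z~` -/
def δ : h.Zt π →* h.Zt π where
  toFun z := ⟨τ * z.1 * τ⁻¹ * z.1⁻¹, mul_mem (tau_mem h hd hτ z.2) (inv_mem z.2)⟩
  map_one' := by ext; simp
  map_mul' := by
    rintro ⟨x, hx⟩ ⟨y, hy⟩
    ext
    show τ * (x * y) * τ⁻¹ * (x * y)⁻¹ = τ * x * τ⁻¹ * x⁻¹ * (τ * y * τ⁻¹ * y⁻¹)
    have h1 := comm_Zt h hd (inv_mem hx) (mul_mem (tau_mem h hd hτ hy) (inv_mem hy))
    calc τ * (x * y) * τ⁻¹ * (x * y)⁻¹ = τ * x * τ⁻¹ * (τ * y * τ⁻¹ * y⁻¹ * x⁻¹) := by group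
      _ = _ := by rw [← h1]; group

/-- the complement of `⟨c⟩` in `Z~` -/
def E : Subgroup L := (δ h hd hτ).range.map (h.Zt π).subtype

theorem mem_E {x : L} : x ∈ E h hd hτ ↔ ∃ z ∈ h.Zt π, τ * z * τ⁻¹ * z⁻¹ = x := by
  constructor
  · rintro ⟨_, ⟨⟨z, hz⟩, rfl⟩, rfl⟩
    exact ⟨z, hz, rfl⟩
  · rintro ⟨z, hz, rfl⟩
    exact ⟨_, ⟨⟨z, hz⟩, rfl⟩, rfl⟩

theorem E_le : E h hd hτ ≤ h.Zt π := by
  rintro _ ⟨x, -, rfl⟩
  exact x.2

theorem c_pow_odd {k : ℕ} (hk : Odd k) : c ^ k = c := by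
  obtain ⟨j, rfl⟩ := hk
  rw [pow_succ, pow_mul, pow_two, hd.sq, one_pow, one_mul]

theorem c_notMem (hk : ∃ k : ℕ, Odd k ∧ τ ^ k = 1) : c ∉ E h hd hτ := by
  intro hc
  obtain ⟨z, hz, h1⟩ := (mem_E h hd hτ).1 hc
  obtain ⟨k, hk, h2⟩ := hk
  have h3 : ∀ n : ℕ, τ ^ n * z * (τ ^ n)⁻¹ = c ^ n * z := by
    intro n
    induction n with
    | zero => simp
    | succ n ih =>
      have e1 : τ * z * τ⁻¹ = c * z := by rw [← h1]; group
      calc τ ^ (n + 1) * z * (τ ^ (n + 1))⁻¹ = τ * (τ ^ n * z * (τ ^ n)⁻¹) * τ⁻¹ := by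
            rw [pow_succ']; group
        _ = τ * (c ^ n * z) * τ⁻¹ := by rw [ih]
        _ = (τ * c ^ n) * z * τ⁻¹ := by group
        _ = c ^ n * (τ * z * τ⁻¹) := by
            rw [show τ * c ^ n = c ^ n * τ from ((show Commute τ c from Dbl_cz hd τ).pow_right n).eq]; group
        _ = c ^ (n + 1) * z := by rw [e1, pow_succ]; group
  have h4 := h3 k
  rw [h2, c_pow_odd h hd hτ hk] at h4
  have h5 : c = 1 := by
    have : z = c * z := by simpa using h4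
    exact right_eq_mul.1 this
  exact hd.ne h5

theorem mem_or [Finite L] (hk : ∃ k : ℕ, Odd k ∧ τ ^ k = 1) {z : L} (hz : z ∈ h.Zt π) :
    z ∈ E h hd hτ ∨ z * c ∈ E h hd hτ := by
  by_cases hz1 : z ∈ E h hd hτ
  · exact Or.inl hz1
  right
  -- the index of the range is the order of the kernel
  have hker : Nat.card (δ h hd hτ).ker ≤ 2 := by
    have h1 : ∀ x : (δ h hd hτ).ker, (x : h.Zt π).1 = 1 ∨ (x : h.Zt π).1 = c := by
      rintro ⟨⟨x, hx⟩, hx1⟩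
      have h2 : τ * x * τ⁻¹ * x⁻¹ = 1 := congrArg Subtype.val hx1
      have h3 : τ * x = x * τ := by
        rw [mul_inv_eq_one, mul_inv_eq_iff_eq_mul] at h2; exact h2
      have h4 : t * π x = π x * t := by rw [← hτ, ← map_mul, h3, map_mul]
      exact (hd.ker x).1 (h.free _ hx.1 hx.2 h4)
    classical
    let f : (δ h hd hτ).ker → Bool := fun x => decide ((x : h.Zt π).1 = 1)
    have hf : Function.Injective f := by
      intro x y hxy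
      have h5 : ((x : h.Zt π).1 = 1) ↔ ((y : h.Zt π).1 = 1) := by simpa [f] using hxy
      apply Subtype.ext; apply Subtype.ext
      rcases h1 x with h6 | h6
      · rw [h6, h5.1 h6]
      · rcases h1 y with h7 | h7
        · exact absurd ((h5.2 h7).symm.trans h6) hd.ne.symm
        · rw [h6, h7]
    have := Nat.card_le_card_of_injective f hf
    simpa using this
  have hidx : (δ h hd hτ).range.index ≤ 2 := by
    have h1 := Subgroup.card_mul_index (δ h hd hτ).range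
    have h2 := Subgroup.card_mul_index (δ h hd hτ).ker
    rw [Subgroup.index_ker] at h2
    have h3 : Nat.card (δ h hd hτ).range * (δ h hd hτ).range.index =
        Nat.card (δ h hd hτ).range * Nat.card (δ h hd hτ).ker := by
      rw [h1, ← h2, mul_comm]
    have h4 : 0 < Nat.card (δ h hd hτ).range := Nat.card_pos
    rw [Nat.eq_of_mul_eq_mul_left h4 h3]
    exact hker
  have hcE : (⟨c, c_mem h hd⟩ : h.Zt π) ∉ (δ h hd hτ).range := fun hcon =>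
    c_notMem h hd hτ hk ⟨_, hcon, rfl⟩
  have hzE : (⟨z, hz⟩ : h.Zt π) ∉ (δ h hd hτ).range := fun hcon => hz1 ⟨_, hcon, rfl⟩
  have hidx2 : (δ h hd hτ).range.index = 2 := by
    have h1 : (δ h hd hτ).range.index ≠ 1 := by
      rw [Ne, Subgroup.index_eq_one]
      intro h2
      rw [h2] at hcE
      exact hcE (mem_top _)
    have h2 : (δ h hd hτ).range.index ≠ 0 := Subgroup.index_ne_zero_of_finite
    omega
  have := (Subgroup.mul_mem_iff_of_index_two hidx2 (a := ⟨z, hz⟩) (b := ⟨c, c_mem h hd⟩)).2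
    (by simp only [hcE, hzE])
  exact ⟨_, this, rfl⟩

theorem sq_mem [Finite L] (hk : ∃ k : ℕ, Odd k ∧ τ ^ k = 1) {z : L} (hz : z ∈ h.Zt π) :
    z * z ∈ E h hd hτ := by
  rcases mem_or h hd hτ hk hz with h1 | h1
  · exact mul_mem h1 h1
  · have h2 := mul_mem h1 h1
    have h3 : z * c * (z * c) = z * z := by
      calc z * c * (z * c) = z * (c * z) * c := by group
        _ = z * z * (c * c) := by rw [← Dbl_cz hd z]; group
        _ = z * z := by rw [hd.sq, mul_one]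
    rwa [h3] at h2

/-- elements commuting with `τ` and normalising `Z~` normalise `E` -/
theorem conj_E {g : L} (hg : τ * g = g * τ) (hgZ : ∀ z ∈ h.Zt π, g * z * g⁻¹ ∈ h.Zt π) {x : L}
    (hx : x ∈ E h hd hτ) : g * x * g⁻¹ ∈ E h hd hτ := by
  obtain ⟨z, hz, rfl⟩ := (mem_E h hd hτ).1 hx
  refine (mem_E h hd hτ).2 ⟨g * z * g⁻¹, hgZ z hz, ?_⟩
  have h1 : τ⁻¹ * g = g * τ⁻¹ := by
    rw [inv_mul_eq_iff_eq_mul, ← mul_assoc, hg, mul_inv_cancel_right]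
  calc τ * (g * z * g⁻¹) * τ⁻¹ * (g * z * g⁻¹)⁻¹
      = (τ * g) * z * (g⁻¹ * (τ⁻¹ * g)) * z⁻¹ * g⁻¹ := by group
    _ = (g * τ) * z * (g⁻¹ * (g * τ⁻¹)) * z⁻¹ * g⁻¹ := by rw [hg, h1]
    _ = g * (τ * z * τ⁻¹ * z⁻¹) * g⁻¹ := by group

/-- such an element acts trivially on `Z~ / E` -/
theorem conj_mod [Finite L] (hk : ∃ k : ℕ, Odd k ∧ τ ^ k = 1) {g : L} (hg : τ * g = g * τ)
    (hgZ : ∀ z ∈ h.Zt π, g * z * g⁻¹ ∈ h.Zt π) {z : L}
    (hz : z ∈ h.Zt π) : z⁻¹ * (g * z * g⁻¹) ∈ E h hd hτ := by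
  rcases mem_or h hd hτ hk hz with h1 | h1
  · exact mul_mem (inv_mem h1) (conj_E h hd hτ hg hgZ h1)
  · have h2 := mul_mem (inv_mem h1) (conj_E h hd hτ hg hgZ h1)
    have h3 : (z * c)⁻¹ * (g * (z * c) * g⁻¹) = z⁻¹ * (g * z * g⁻¹) := by
      have e1 : ∀ y : L, c⁻¹ * y = y * c⁻¹ := fun y => by
        rw [inv_mul_eq_iff_eq_mul, ← mul_assoc, ← Dbl_cz hd y, mul_inv_cancel_right]
      calc (z * c)⁻¹ * (g * (z * c) * g⁻¹) = c⁻¹ * (z⁻¹ * g * z * c * g⁻¹) := by group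
        _ = z⁻¹ * g * z * (c * g⁻¹) * c⁻¹ := by rw [e1]; group
        _ = z⁻¹ * (g * z * g⁻¹) := by rw [← Dbl_cz hd g⁻¹]; group
    rwa [h3] at h2

omit hτ

/-! ### Commutators -/

theorem C_mem {x y : L} (hx : π x ∈ V) (hy : π y ∈ V) : x * y * x⁻¹ * y⁻¹ ∈ h.Zt π := by
  have hx' : π x⁻¹ ∈ V := by rw [map_inv]; exact inv_mem hx
  have hy' : π y⁻¹ ∈ V := by rw [map_inv]; exact inv_mem hy
  have h1 : π (x * y) ∈ V := by rw [map_mul]; exact mul_mem hx hy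
  have h2 : π (x * y * x⁻¹) ∈ V := by rw [map_mul]; exact mul_mem h1 hx'
  refine ⟨by rw [map_mul]; exact mul_mem h2 hy', ?_⟩
  rw [map_mul, h.add _ h2 _ hy', map_mul, h.add _ h1 _ hx', map_mul, h.add _ hx _ hy, map_inv, map_inv,
    h.inv hx, h.inv hy]
  ring

theorem C_mul_left {x x' y : L} (hx : π x ∈ V) (hx' : π x' ∈ V) (hy : π y ∈ V) :
    (x * x') * y * (x * x')⁻¹ * y⁻¹ = (x * y * x⁻¹ * y⁻¹) * (x' * y * x'⁻¹ * y⁻¹) := by
  have h1 := cen_Zt h hd (C_mem h hd hx' hy) (x := x * y * x⁻¹ * y⁻¹) (by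
    have := (C_mem h hd hx hy).1; exact this)
  have h2 := cen_Zt h hd (C_mem h hd hx' hy) hx
  calc (x * x') * y * (x * x')⁻¹ * y⁻¹ = x * (x' * y * x'⁻¹ * y⁻¹) * (y * x⁻¹ * y⁻¹) := by group
    _ = (x' * y * x'⁻¹ * y⁻¹) * (x * y * x⁻¹ * y⁻¹) := by rw [← h2]; group
    _ = _ := h1

theorem C_mul_right {x y y' : L} (hx : π x ∈ V) (hy : π y ∈ V) (hy' : π y' ∈ V) :
    x * (y * y') * x⁻¹ * (y * y')⁻¹ = (x * y * x⁻¹ * y⁻¹) * (x * y' * x⁻¹ * y'⁻¹) := by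
  have h2 := cen_Zt h hd (C_mem h hd hx hy') (x := y⁻¹) (by rw [map_inv]; exact inv_mem hy)
  calc x * (y * y') * x⁻¹ * (y * y')⁻¹ = x * y * x⁻¹ * ((x * y' * x⁻¹ * y'⁻¹) * y⁻¹) := by group
    _ = _ := by rw [h2]; group

theorem C_congr_left {x x' y : L} (hx : π x ∈ V) (hx' : π x' ∈ V) (hy : π y ∈ V) (hxx : κ (π x) = κ (π x')) :
    x * y * x⁻¹ * y⁻¹ = x' * y * x'⁻¹ * y⁻¹ := by
  have hz : x'⁻¹ * x ∈ h.Zt π := by
    refine ⟨by rw [map_mul, map_inv]; exact mul_mem (inv_mem hx') hx, ?_⟩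
    rw [map_mul, map_inv, h.add _ (inv_mem hx') _ hx, h.inv hx', hxx]
    ring
  have h1 := C_mul_left h hd hx' hz.1 hy
  rw [mul_inv_cancel_left] at h1
  rw [h1, cen_Zt h hd hz hy]
  group

theorem C_congr_right {x y y' : L} (hx : π x ∈ V) (hy : π y ∈ V) (hy' : π y' ∈ V) (hyy : κ (π y) = κ (π y')) :
    x * y * x⁻¹ * y⁻¹ = x * y' * x⁻¹ * y'⁻¹ := by
  have hz : y'⁻¹ * y ∈ h.Zt π := by
    refine ⟨by rw [map_mul, map_inv]; exact mul_mem (inv_mem hy') hy, ?_⟩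
    rw [map_mul, map_inv, h.add _ (inv_mem hy') _ hy, h.inv hy', hyy]
    ring
  have h1 := C_mul_right h hd hx hy' hz.1
  rw [mul_inv_cancel_left] at h1
  rw [h1, ← cen_Zt h hd hz hx]
  group

theorem exists_sect (a : K) : ∃ x : L, π x ∈ V ∧ κ (π x) = a := by
  obtain ⟨y, hy, hya⟩ := h.surj a
  obtain ⟨x, rfl⟩ := hd.surj y
  exact ⟨x, hy, hya⟩

theorem acts_lift {g : L} {a : K} (hg : Acts V κ (π g) a) {x : L} (hx : π x ∈ V) :
    π (g * x * g⁻¹) ∈ V ∧ κ (π (g * x * g⁻¹)) = a * κ (π x) := by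
  rw [map_mul, map_mul, map_inv]
  exact ⟨hg.mem _ hx, hg.val _ hx⟩

include hτ

/-- **`V~ / E` is abelian.** -/
theorem C_mem_E [Finite L] (hk : ∃ k : ℕ, Odd k ∧ τ ^ k = 1) {x y : L} (hx : π x ∈ V) (hy : π y ∈ V) :
    x * y * x⁻¹ * y⁻¹ ∈ E h hd hτ := by
  obtain ⟨γ₁, hγ₁⟩ := hd.surj g₁
  obtain ⟨γ₂, hγ₂⟩ := hd.surj g₂
  have hA₁ : Acts V κ (π γ₁) u := hγ₁ ▸ h.act₁
  have hA₂ : Acts V κ (π γ₂) (1 + u) := hγ₂ ▸ h.act₂
  have hc₁ : τ * γ₁ = γ₁ * τ := tau_comm h hd hτ hk (by rw [hγ₁]; exact h.comm₁)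
  have hc₂ : τ * γ₂ = γ₂ * τ := tau_comm h hd hτ hk (by rw [hγ₂]; exact h.comm₂)
  have hz₁ : ∀ z ∈ h.Zt π, γ₁ * z * γ₁⁻¹ ∈ h.Zt π := fun z hz =>
    ⟨(acts_lift h hd hA₁ hz.1).1, by rw [(acts_lift h hd hA₁ hz.1).2, hz.2, mul_zero]⟩
  have hz₂ : ∀ z ∈ h.Zt π, γ₂ * z * γ₂⁻¹ ∈ h.Zt π := fun z hz =>
    ⟨(acts_lift h hd hA₂ hz.1).1, by rw [(acts_lift h hd hA₂ hz.1).2, hz.2, mul_zero]⟩
  have hu0 := h.u0
  have hu1 := h.u1
  set w : K := (1 + u)⁻¹ + 1 + u⁻¹ with hw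
  have hw0 : w ≠ 0 := by
    intro h0
    apply h.u2
    have h1 : w * (u * (1 + u)) = u + u * (1 + u) + (1 + u) := by
      rw [hw]; field_simp
    rw [h0, zero_mul] at h1
    have h2 : u * u + u + 1 = u + u * (1 + u) + (1 + u) - (u + u) := by ring
    have h3 : (u : K) + u = 0 := by
      -- the characteristic is 2: `E` has index 2, but we only use `κ (x * x)`; see below
      exact h.two u
    rw [h2, ← h1, h3, sub_zero]
  set a' := κ (π x) / w with ha'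
  obtain ⟨x₁, hx₁, hk₁⟩ := exists_sect h hd (a' / (1 + u))
  obtain ⟨x₂, hx₂, hk₂⟩ := exists_sect h hd a'
  obtain ⟨x₃, hx₃, hk₃⟩ := exists_sect h hd (a' / u)
  obtain ⟨y₂, hy₂, hky₂⟩ := exists_sect h hd (u * κ (π y))
  have hx12 : π (x₁ * x₂) ∈ V := by rw [map_mul]; exact mul_mem hx₁ hx₂
  have hx123 : π (x₁ * x₂ * x₃) ∈ V := by rw [map_mul]; exact mul_mem hx12 hx₃
  have hyy : π (y * y₂) ∈ V := by rw [map_mul]; exact mul_mem hy hy₂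
  have e0 : x * y * x⁻¹ * y⁻¹ = (x₁ * y * x₁⁻¹ * y⁻¹) * (x₂ * y * x₂⁻¹ * y⁻¹) * (x₃ * y * x₃⁻¹ * y⁻¹) := by
    rw [← C_mul_left h hd hx₁ hx₂ hy, ← C_mul_left h hd hx12 hx₃ hy]
    refine C_congr_left h hd hx hx123 hy ?_
    rw [map_mul, h.add _ hx12 _ hx₃, map_mul, h.add _ hx₁ _ hx₂, hk₁, hk₂, hk₃]
    have h5 : κ (π x) = a' * w := by rw [ha']; field_simp
    rw [h5, hw]
    field_simp
  -- the action of `γ₂`
  have hgx := acts_lift h hd hA₂ hx₁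
  have hgy := acts_lift h hd hA₂ hy
  have e2 : γ₂ * (x₁ * y * x₁⁻¹ * y⁻¹) * γ₂⁻¹ = (x₂ * y * x₂⁻¹ * y⁻¹) * (x₂ * y₂ * x₂⁻¹ * y₂⁻¹) := by
    rw [← C_mul_right h hd hx₂ hy hy₂]
    have e3 : γ₂ * (x₁ * y * x₁⁻¹ * y⁻¹) * γ₂⁻¹ =
        (γ₂ * x₁ * γ₂⁻¹) * (γ₂ * y * γ₂⁻¹) * (γ₂ * x₁ * γ₂⁻¹)⁻¹ * (γ₂ * y * γ₂⁻¹)⁻¹ := by group
    rw [e3, C_congr_left h hd hgx.1 hx₂ hgy.1 (by rw [hgx.2, hk₁, hk₂]; field_simp),
      C_congr_right h hd hx₂ hgy.1 hyy (by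
        rw [hgy.2, map_mul, h.add _ hy _ hy₂, hky₂]; ring)]
  have hgx3 := acts_lift h hd hA₁ hx₃
  have hgy3 := acts_lift h hd hA₁ hy
  have e4 : γ₁ * (x₃ * y * x₃⁻¹ * y⁻¹) * γ₁⁻¹ = x₂ * y₂ * x₂⁻¹ * y₂⁻¹ := by
    have e3 : γ₁ * (x₃ * y * x₃⁻¹ * y⁻¹) * γ₁⁻¹ =
        (γ₁ * x₃ * γ₁⁻¹) * (γ₁ * y * γ₁⁻¹) * (γ₁ * x₃ * γ₁⁻¹)⁻¹ * (γ₁ * y * γ₁⁻¹)⁻¹ := by group
    rw [e3, C_congr_left h hd hgx3.1 hx₂ hgy3.1 (by rw [hgx3.2, hk₃, hk₂]; field_simp),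
      C_congr_right h hd hx₂ hgy3.1 hy₂ (by rw [hgy3.2, hky₂])]
  have m1 := C_mem h hd hx₁ hy
  have m2 := C_mem h hd hx₂ hy
  have m3 := C_mem h hd hx₃ hy
  have m4 := C_mem h hd hx₂ hy₂
  have p1 := conj_mod h hd hτ hk hc₂ hz₂ m1
  have p2 := conj_mod h hd hτ hk hc₁ hz₁ m3
  rw [e2] at p1
  rw [e4] at p2
  rw [e0]
  set A := x₁ * y * x₁⁻¹ * y⁻¹
  set B := x₂ * y * x₂⁻¹ * y⁻¹
  set C := x₃ * y * x₃⁻¹ * y⁻¹
  set D := x₂ * y₂ * x₂⁻¹ * y₂⁻¹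
  have mBD : B * D ∈ h.Zt π := mul_mem m2 m4
  have s1 := sq_mem h hd hτ hk mBD
  -- `A B C = (B D)² (A⁻¹ B D)⁻¹ (C⁻¹ D)⁻¹`
  have cAB : (A⁻¹ * (B * D))⁻¹ = (B * D)⁻¹ * A := by group
  have key : A * B * C = (B * D) * (B * D) * (A⁻¹ * (B * D))⁻¹ * (C⁻¹ * D)⁻¹ := by
    have k1 : B * D * A = A * (B * D) := comm_Zt h hd mBD m1
    have k2 : D * (D⁻¹ * C) = C := by group
    have k3 : D⁻¹ * C = C * D⁻¹ := comm_Zt h hd (inv_mem m4) m3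
    calc A * B * C = A * (B * D) * (D⁻¹ * C) := by group
      _ = B * D * A * (D⁻¹ * C) := by rw [k1]
      _ = _ := by group
  rw [key]
  exact mul_mem (mul_mem s1 (inv_mem p1)) (inv_mem p2)

/-! ### The complement -/

theorem tau_memV {x : L} (hx : π x ∈ V) : π (τ * x * τ⁻¹) ∈ V := by
  rw [map_mul, map_mul, map_inv, hτ]; exact h.actt.mem _ hx

theorem A_mem {x : L} (hx : π x ∈ V) : π (τ * x * τ⁻¹ * x⁻¹) ∈ V := by
  rw [map_mul, map_inv]; exact mul_mem (tau_memV h hd hτ hx) (inv_mem hx)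

theorem A_mul [Finite L] (hk : ∃ k : ℕ, Odd k ∧ τ ^ k = 1) {x y : L} (hx : π x ∈ V) (hy : π y ∈ V) :
    ∃ e ∈ E h hd hτ, (τ * x * τ⁻¹ * x⁻¹) * (τ * y * τ⁻¹ * y⁻¹) =
      τ * (x * y) * τ⁻¹ * (x * y)⁻¹ * e := by
  have hB := A_mem h hd hτ hy
  have h1 := C_mem_E h hd hτ hk hx hB
  refine ⟨_, inv_mem h1, ?_⟩
  have h2 := cen_Zt h hd (E_le h hd hτ h1) hB
  set B := τ * y * τ⁻¹ * y⁻¹ with hBdef
  calc τ * x * τ⁻¹ * x⁻¹ * B = τ * x * τ⁻¹ * x⁻¹ * ((x * B * x⁻¹ * B⁻¹) * B) * (x * B * x⁻¹ * B⁻¹)⁻¹ := by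
        rw [h2]; group
    _ = τ * x * τ⁻¹ * B * x⁻¹ * (x * B * x⁻¹ * B⁻¹)⁻¹ := by group
    _ = _ := by rw [hBdef]; group

/-- the complement of `⟨c⟩` in `V~` -/
def M [Finite L] (hk : ∃ k : ℕ, Odd k ∧ τ ^ k = 1) : Subgroup L where
  carrier := {m | ∃ x, π x ∈ V ∧ ∃ e ∈ E h hd hτ, m = τ * x * τ⁻¹ * x⁻¹ * e}
  one_mem' := ⟨1, by rw [map_one]; exact V.one_mem, 1, one_mem _, by group⟩
  mul_mem' := by
    rintro _ _ ⟨x, hx, e, he, rfl⟩ ⟨y, hy, f, hf, rfl⟩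
    obtain ⟨g, hg, h1⟩ := A_mul h hd hτ hk hx hy
    refine ⟨x * y, by rw [map_mul]; exact mul_mem hx hy, g * e * f, mul_mem (mul_mem hg he) hf, ?_⟩
    have h2 := cen_Zt h hd (E_le h hd hτ he) (A_mem h hd hτ hy)
    calc τ * x * τ⁻¹ * x⁻¹ * e * (τ * y * τ⁻¹ * y⁻¹ * f)
        = τ * x * τ⁻¹ * x⁻¹ * (e * (τ * y * τ⁻¹ * y⁻¹)) * f := by group
      _ = (τ * x * τ⁻¹ * x⁻¹) * (τ * y * τ⁻¹ * y⁻¹) * e * f := by rw [h2]; group
      _ = _ := by rw [h1]; group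
  inv_mem' := by
    rintro _ ⟨x, hx, e, he, rfl⟩
    have hx' : π x⁻¹ ∈ V := by rw [map_inv]; exact inv_mem hx
    obtain ⟨g, hg, h1⟩ := A_mul h hd hτ hk hx' hx
    refine ⟨x⁻¹, hx', e⁻¹ * g⁻¹, mul_mem (inv_mem he) (inv_mem hg), ?_⟩
    have h2 : τ * (x⁻¹ * x) * τ⁻¹ * (x⁻¹ * x)⁻¹ * g = g := by group
    rw [h2] at h1
    have h3 : (τ * x * τ⁻¹ * x⁻¹)⁻¹ = g⁻¹ * (τ * x⁻¹ * τ⁻¹ * x⁻¹⁻¹) := by
      rw [← h1]; group
    have h4 := cen_Zt h hd (E_le h hd hτ (mul_mem (inv_mem he) (inv_mem hg))) (A_mem h hd hτ hx')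
    rw [← h4, mul_inv_rev, h3]
    group

theorem mem_M [Finite L] (hk : ∃ k : ℕ, Odd k ∧ τ ^ k = 1) {m : L} :
    m ∈ M h hd hτ hk ↔ ∃ x, π x ∈ V ∧ ∃ e ∈ E h hd hτ, m = τ * x * τ⁻¹ * x⁻¹ * e := Iff.rfl

theorem tau_E {x : L} (hx : x ∈ E h hd hτ) : τ * x * τ⁻¹ ∈ E h hd hτ :=
  conj_E h hd hτ rfl (fun _ hz => tau_mem h hd hτ hz) hx

theorem c_notMem_M [Finite L] (hk : ∃ k : ℕ, Odd k ∧ τ ^ k = 1) : c ∉ M h hd hτ hk := by
  rintro ⟨x, hx, e, he, h1⟩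
  have h2 : τ * x * τ⁻¹ = c * e⁻¹ * x := by
    have h3 := cen_Zt h hd (E_le h hd hτ he) hx
    have h4 : τ * x * τ⁻¹ = c * e⁻¹ * x := by
      rw [h1]; group
    exact h4
  have h3 : ∀ n : ℕ, ∃ f ∈ E h hd hτ, τ ^ n * x * (τ ^ n)⁻¹ = c ^ n * f * x := by
    intro n
    induction n with
    | zero => exact ⟨1, one_mem _, by simp⟩
    | succ n ih =>
      obtain ⟨f, hf, ih⟩ := ih
      refine ⟨τ * f * τ⁻¹ * e⁻¹, mul_mem (tau_E h hd hτ hf) (inv_mem he), ?_⟩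
      calc τ ^ (n + 1) * x * (τ ^ (n + 1))⁻¹ = τ * (τ ^ n * x * (τ ^ n)⁻¹) * τ⁻¹ := by
            rw [pow_succ']; group
        _ = (τ * c ^ n) * f * x * τ⁻¹ := by rw [ih]; group
        _ = c ^ n * (τ * f * τ⁻¹) * (τ * x * τ⁻¹) := by
            rw [show τ * c ^ n = c ^ n * τ from ((show Commute τ c from Dbl_cz hd τ).pow_right n).eq]; group
        _ = c ^ n * ((τ * f * τ⁻¹) * c) * e⁻¹ * x := by rw [h2]; group
        _ = c ^ (n + 1) * (τ * f * τ⁻¹ * e⁻¹) * x := by rw [Dbl_cz hd, pow_succ]; group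
  obtain ⟨k, hko, hk1⟩ := hk
  obtain ⟨f, hf, h4⟩ := h3 k
  rw [hk1, c_pow_odd h hd hτ hko] at h4
  have h5 : c * f = 1 := by
    have : x = c * f * x := by simpa using h4
    exact right_eq_mul.1 this
  have h6 : c = f⁻¹ := eq_inv_of_mul_eq_one_left h5
  have h7 := inv_mem hf
  rw [← h6] at h7
  exact c_notMem h hd hτ ⟨k, hko, hk1⟩ h7

theorem cover_M [Finite L] (hk : ∃ k : ℕ, Odd k ∧ τ ^ k = 1) {v : L} (hv : π v ∈ V) :
    v ∈ M h hd hτ hk ∨ v * c ∈ M h hd hτ hk := by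
  have hl1 : l - 1 ≠ 0 := sub_ne_zero.2 h.hl
  obtain ⟨x, hx, hxk⟩ := exists_sect h hd (κ (π v) / (l - 1))
  have hA := A_mem h hd hτ hx
  have hz : (τ * x * τ⁻¹ * x⁻¹)⁻¹ * v ∈ h.Zt π := by
    refine ⟨by rw [map_mul, map_inv]; exact mul_mem (inv_mem hA) hv, ?_⟩
    rw [map_mul, map_inv, h.add _ (inv_mem hA) _ hv, h.inv hA]
    have h1 : κ (π (τ * x * τ⁻¹ * x⁻¹)) = κ (π v) := by
      rw [map_mul, h.add _ (tau_memV h hd hτ hx) _ (by rw [map_inv]; exact inv_mem hx), map_inv, h.inv hx,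
        map_mul, map_mul, map_inv, hτ, h.actt.val _ hx, hxk]
      field_simp
      ring
    rw [h1]; ring
  rcases mem_or h hd hτ hk hz with h1 | h1
  · exact Or.inl ⟨x, hx, _, h1, by group⟩
  · exact Or.inr ⟨x, hx, _, h1, by group⟩

end Data

/-- **The preimage of a Heisenberg group splits.** -/
theorem Data.spl (h : Data V κ μ t g₁ g₂ m l u) {T : Subgroup X} (hT : ∀ s ∈ T, s * t = t * s)
    (hTV : ∀ s ∈ T, ∀ x ∈ V, s * x * s⁻¹ ∈ V) (hTκ : ∀ s ∈ T, ∀ x ∈ V, κ x = 0 → κ (s * x * s⁻¹) = 0) :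
    Spl T V := by
  intro L _ _ π c hd
  obtain ⟨τ, hτ, hk⟩ := exists_tau h hd
  refine ⟨M h hd hτ hk, c_notMem_M h hd hτ hk, ?_, fun v hv => cover_M h hd hτ hk hv, ?_⟩
  · rintro _ ⟨x, hx, e, he, rfl⟩
    rw [mem_comap, map_mul]
    exact mul_mem (A_mem h hd hτ hx) (E_le h hd hτ he).1
  · rintro s hs _ ⟨x, hx, e, he, rfl⟩
    have hs' : π s ∈ T := hs
    have h1 : τ * s = s * τ := tau_comm h hd hτ hk (hT _ hs')
    have hsx : π (s * x * s⁻¹) ∈ V := by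
      rw [map_mul, map_mul, map_inv]; exact hTV _ hs' _ hx
    have hsE : s * e * s⁻¹ ∈ E h hd hτ := by
      refine conj_E h hd hτ h1 (fun z hz => ?_) he
      refine ⟨?_, ?_⟩
      · rw [map_mul, map_mul, map_inv]; exact hTV _ hs' _ hz.1
      · rw [map_mul, map_mul, map_inv]; exact hTκ _ hs' _ hz.1 hz.2
    refine ⟨s * x * s⁻¹, hsx, s * e * s⁻¹, hsE, ?_⟩
    have h2 : τ⁻¹ * s = s * τ⁻¹ := by
      rw [inv_mul_eq_iff_eq_mul, ← mul_assoc, h1, mul_inv_cancel_right]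
    calc s * (τ * x * τ⁻¹ * x⁻¹ * e) * s⁻¹ = (s * τ) * x * (s⁻¹ * (s * τ⁻¹)) * x⁻¹ * e * s⁻¹ := by group
      _ = (τ * s) * x * (s⁻¹ * (τ⁻¹ * s)) * x⁻¹ * e * s⁻¹ := by rw [h1, h2]
      _ = _ := by group

end

end Cfsg.Agent.KFacts.Mult.Heis
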