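import Cfsg.Agent.KFacts.Mult.Calc
import Cfsg.Agent.OddHalf.SL.Defs

/-!
# Central extensions of simply laced groups in characteristic 2 (helper827)

`Sys B Φ x`: root elements `x r a` (`r ∈ Φ`, `a ∈ F`) with the simply laced Steinberg relations without signs
(`Roots B Φ` of `OddHalf.SL.Defs`).

`exists_lift`: let `π : X → L` be a central extension such that lifts of `x r a` and `x s b` commute if `(r, s) ≥ 0`;
if the root system has "`three`" (for `(r, s) = 1` there is `m` with `(m, r) = (m, s) = 1`: rank at least 3) then the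
whole system lifts: `∃ T, Sys B Φ T ∧ ∀ r ∈ Φ, ∀ a, π (T r a) = x r a`.

`lc_pos` : lifts of `x r a` and `x s b` commute if `(r, s) > 0`; `lc_orth` : `(r, s) = 0` and there is `d` with
`(d, s) = 1`, `(d, r) = 0`; `lc_three_term` : the pair `e₁ + e₂, e₁ - e₂` in `D_n`.
-/

set_option autoImplicit false

namespace Cfsg.Agent.KFacts.Mult.Laced

open scoped commutatorElement
open Cfsg.Agent.OddHalf.SL.Defs Cfsg.Agent.KFacts.Mult.Calc

variable {X L V F : Type*} [Group X] [Group L] [AddCommGroup V] [Field F]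

/-- Simply laced root elements, characteristic `2` (no signs). -/
structure Sys (B : V → V → ℤ) (Φ : Set V) (x : V → F → L) : Prop where
  roots : Roots B Φ
  add : ∀ r ∈ Φ, ∀ a b, x r (a + b) = x r a * x r b
  comm : ∀ r ∈ Φ, ∀ s ∈ Φ, B r s = -1 → ∀ a b, ⁅x r a, x s b⁆ = x (r + s) (a * b)
  one : ∀ r ∈ Φ, ∀ s ∈ Φ, 0 ≤ B r s → ∀ a b, Commute (x r a) (x s b)

/-- "Rank at least three". -/
def Three (B : V → V → ℤ) (Φ : Set V) : Prop :=
  ∀ r ∈ Φ, ∀ s ∈ Φ, B r s = 1 → ∃ m ∈ Φ, B m r = 1 ∧ B m s = 1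

variable {B : V → V → ℤ} {Φ : Set V} {x : V → F → L}

namespace Sys

variable (S : Sys B Φ x)

include S

theorem zero {r : V} (hr : r ∈ Φ) : x r 0 = 1 := by
  have h1 := S.add r hr 0 0
  rw [add_zero] at h1
  exact left_eq_mul.1 h1

section Commuting

variable {π : X →* L} (h : CE π)

include h

/-- `s = s' + d` with `x_r` commuting with `x_s'` and `x_d`. -/
theorem lc_of_dec {r s' d : V} (hr : r ∈ Φ) (hs' : s' ∈ Φ) (hd : d ∈ Φ) (h1 : B s' d = -1) (h2 : 0 ≤ B r s')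
    (h3 : 0 ≤ B r d) (a b : F) : h.lc (x r a) (x (s' + d) b) = 1 := by
  have := S.comm s' hs' d hd h1 b 1
  rw [mul_one] at this
  rw [← this]
  exact h.lc_comm_eq_one (S.one r hr s' hs' h2 a b) (S.one r hr d hd h3 a 1)

/-- `(r, s) = 0` and there is `d` with `(d, s) = 1`, `(d, r) = 0`. -/
theorem lc_orth {r s : V} (hr : r ∈ Φ) (hs : s ∈ Φ) (h0 : B r s = 0) {d : V} (hd : d ∈ Φ) (h1 : B d s = 1)
    (h2 : B d r = 0) (a b : F) : h.lc (x r a) (x s b) = 1 := by
  have hR := S.roots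
  have hsd : s - d ∈ Φ := hR.sub_mem hs hd (by rw [hR.symm]; exact h1)
  have e : s = (s - d) + d := by abel
  rw [e]
  have h5 := hR.two d hd
  have h4 := hR.symm s d
  have h6 := hR.symm r d
  refine S.lc_of_dec h hr hsd hd ?_ ?_ ?_ a b
  · rw [hR.sub_left]; omega
  · rw [hR.sub_right]; omega
  · omega

/-- `(r, s) > 0`. -/
theorem lc_pos (h3 : Three B Φ) (hne : ∀ r ∈ Φ, ∃ s ∈ Φ, B s r = 1) {r s : V} (hr : r ∈ Φ) (hs : s ∈ Φ)
    (h0 : 0 < B r s) (a b : F) : h.lc (x r a) (x s b) = 1 := by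
  have hR := S.roots
  have h1 := hR.le r hr s hs
  rcases (show B r s = 1 ∨ B r s = 2 by omega) with h2 | h2
  · obtain ⟨m, hm, h4, h5⟩ := h3 r hr s hs h2
    have hsm : s - m ∈ Φ := hR.sub_mem hs hm (by rw [hR.symm]; exact h5)
    have e : s = (s - m) + m := by abel
    rw [e]
    have h6 := hR.two m hm
    have h7 := hR.symm s m
    have h8 := hR.symm r m
    refine S.lc_of_dec h hr hsm hm ?_ ?_ ?_ a b
    · rw [hR.sub_left]; omega
    · rw [hR.sub_right]; omega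
    · omega
  · have := hR.eq r hr s hs h2
    subst this
    obtain ⟨m, hm, h4⟩ := hne r hr
    have hsm : r - m ∈ Φ := hR.sub_mem hr hm (by rw [hR.symm]; exact h4)
    have e : r = (r - m) + m := by abel
    have h6 := hR.two m hm
    have h8 := hR.symm r m
    have := S.lc_of_dec h hr hsm hm (by rw [hR.sub_left]; omega) (by rw [hR.sub_right]; omega) (by omega) a b
    rwa [← e] at this

/-- Hall-Witt for root elements: `s = s₁ + d`, `u₁ = u + d`, `(u, s₁) ≥ 0`. -/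
theorem lc_move {s₁ d u : V} (hs : s₁ ∈ Φ) (hd : d ∈ Φ) (hu : u ∈ Φ) (h1 : B s₁ d = -1) (h2 : B u d = -1)
    (h3 : 0 ≤ B u s₁) (a b c : F) :
    h.lc (x u c) (x (s₁ + d) (a * b)) =
      h.lc (x s₁ a) (x (u + d) (c * b)) * h.lc (x (u + d) (c * b)) (x (s₁ + d) (a * b)) := by
  have := h.hw (a := x s₁ a) (b := x d b) (c := x u c) (S.one u hu s₁ hs h3 c a)
  rwa [S.comm s₁ hs d hd h1, S.comm u hu d hd h2] at this

/-- The three term relation in `D₄`, with the two other terms trivial. -/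
theorem lc_three_term {s₁ d u d' d'' : V} (hs₁ : s₁ ∈ Φ) (hd : d ∈ Φ) (hu : u ∈ Φ) (hd' : d' ∈ Φ) (hd'' : d'' ∈ Φ)
    (h1 : B s₁ d = -1) (h2 : B u d = -1) (h3 : B u s₁ = 0)
    (h4 : B s₁ d' = -1) (h5 : B s₁ d'' = -1) (h6 : B d d' = 0) (h7 : B d d'' = 0) (h8 : B d' d'' = 0)
    (hu' : u = s₁ + d' + d'')
    (k1 : ∀ a b : F, h.lc (x (u + d) a) (x (s₁ + d') b) = 1)
    (k2 : ∀ a b : F, h.lc (x u a) (x (s₁ + d + d'') b) = 1) (a b : F) :
    h.lc (x (u + d) a) (x (s₁ + d) b) = 1 := by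
  have hR := S.roots
  have t1 := hR.two _ hs₁
  have t2 := hR.two _ hd
  have t3 := hR.two _ hd'
  have t4 := hR.two _ hd''
  have y1 := hR.symm s₁ d
  have y2 := hR.symm s₁ d'
  have y3 := hR.symm s₁ d''
  have y4 := hR.symm d d'
  have y5 := hR.symm d d''
  have y6 := hR.symm d' d''
  have hs : s₁ + d ∈ Φ := hR.add _ hs₁ _ hd h1
  have hs' : s₁ + d' ∈ Φ := hR.add _ hs₁ _ hd' h4
  have hs'' : s₁ + d + d'' ∈ Φ := hR.add _ hs _ hd'' (by rw [hR.add_left]; omega)
  have hp : u + d ∈ Φ := hR.add _ hu _ hd h2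
  by_cases hb : b = 0
  · rw [hb, S.zero hs, h.lc_one_right]
  -- (i)
  have e1 := S.lc_move h hs₁ hd hu h1 h2 h3.ge b 1 a
  rw [mul_one, mul_one] at e1
  -- (ii)
  have e2 := S.lc_move h hs₁ hd' hs'' h4 (by rw [hR.add_left, hR.add_left]; omega)
    (by rw [hR.add_left, hR.add_left]; omega) b (a * b⁻¹) b
  have f1 : s₁ + d + d'' + d' = u + d := by rw [hu']; abel
  have f2 : b * (a * b⁻¹) = a := by field_simp
  rw [f1, f2, k1, mul_one] at e2
  -- (iii)
  have e3 := S.lc_move h hs hd'' hs' (by rw [hR.add_left]; omega) (by rw [hR.add_left]; omega)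
    (by rw [hR.add_left, hR.add_right, hR.add_right]; omega) b 1 a
  rw [mul_one, mul_one, ← hu', k2, mul_one] at e3
  -- together
  have g1 : h.lc (x u a) (x (s₁ + d) b) = h.lc (x s₁ b) (x (u + d) a) := by
    rw [h.lc_swap (x (s₁ + d) b) (x u a), ← e3, h.lc_swap (x (s₁ + d + d'') b) (x (s₁ + d') a), inv_inv, e2]
  rw [g1] at e1
  exact left_eq_mul.1 e1

end Commuting

/-! ### The lifted system -/

section Lift

variable {π : X →* L} (h : CE π) (h2 : (2 : F) = 0) (h3 : Three B Φ)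
  (hc : ∀ r ∈ Φ, ∀ s ∈ Φ, 0 ≤ B r s → ∀ a b, h.lc (x r a) (x s b) = 1)

include h hc

theorem lc_add_left {s u : V} (hs : s ∈ Φ) (hu : u ∈ Φ) (hsu : B s u = -1) (a a' b : F) :
    h.lc (x s (a + a')) (x u b) = h.lc (x s a) (x u b) * h.lc (x s a') (x u b) := by
  have hR := S.roots
  have hr := hR.add s hs u hu hsu
  have t := hR.two s hs
  rw [S.add s hs, h.lc_mul_left', S.comm s hs u hu hsu, hc s hs _ hr (by rw [hR.add_right]; omega), one_mul]
  have : Commute (h.lc (x s a) (x u b)) (h.lc (x s a') (x u b)) := by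
    apply h.commute_of_lc
    rw [h.map_lc, h.map_lc, S.comm s hs u hu hsu, S.comm s hs u hu hsu]
    exact hc _ hr _ hr (by rw [hR.two _ hr]; norm_num) _ _
  exact this.eq.symm

include h2

theorem lc_sq {s u : V} (hs : s ∈ Φ) (hu : u ∈ Φ) (hsu : B s u = -1) (a b : F) :
    h.lc (x s a) (x u b) * h.lc (x s a) (x u b) = 1 := by
  rw [← S.lc_add_left h hc hs hu hsu, ← two_mul, h2, zero_mul, S.zero hs, h.lc_one_left]

theorem lc_symm {s u : V} (hs : s ∈ Φ) (hu : u ∈ Φ) (hsu : B s u = -1) (a b : F) :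
    h.lc (x u b) (x s a) = h.lc (x s a) (x u b) := by
  rw [h.lc_swap (x s a) (x u b)]
  exact inv_eq_of_mul_eq_one_left (S.lc_sq h h2 hc hs hu hsu a b)

/-- the move without error term -/
theorem move {s₁ d u : V} (hs : s₁ ∈ Φ) (hd : d ∈ Φ) (hu : u ∈ Φ) (h4 : B s₁ d = -1) (h5 : B u d = -1)
    (h6 : B u s₁ = 0) (a b c : F) :
    h.lc (x (s₁ + d) (a * b)) (x u c) = h.lc (x s₁ a) (x (u + d) (c * b)) := by
  have hR := S.roots
  have t1 := hR.two d hd
  have y1 := hR.symm s₁ d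
  have y2 := hR.symm d u
  have hsd := hR.add _ hs _ hd h4
  have hud := hR.add _ hu _ hd h5
  have e := S.lc_move h hs hd hu h4 h5 h6.ge a b c
  rw [hc (u + d) hud (s₁ + d) hsd (by rw [hR.add_left, hR.add_right, hR.add_right]; omega), mul_one] at e
  rw [← e]
  exact (S.lc_symm h h2 hc hsd hu (by rw [hR.add_left, hR.symm s₁ u]; omega) _ _).symm

include h3

/-- `[x̂_s(a), x̂_u(b)]` depends only on `a b`. -/
theorem lc_prod {s u : V} (hs : s ∈ Φ) (hu : u ∈ Φ) (hsu : B s u = -1) (a b : F) :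
    h.lc (x s a) (x u b) = h.lc (x s (a * b)) (x u 1) := by
  have hR := S.roots
  -- `m` with `(m, s) = 1`, `(m, -u) = 1`
  obtain ⟨d, hd, h4, h5⟩ := h3 s hs (-u) (hR.neg_mem u hu) (by rw [hR.neg_right, hsu]; norm_num)
  rw [hR.neg_right] at h5
  have y1 := hR.symm s d
  have y2 := hR.symm u d
  have y3 := hR.symm u s
  have t1 := hR.two d hd
  have hs1 : s - d ∈ Φ := hR.sub_mem hs hd (by omega)
  have e : s = (s - d) + d := by abel
  have key := fun a b c => S.move h h2 hc hs1 hd hu (by rw [hR.sub_left]; omega) (by omega)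
    (by rw [hR.sub_right]; omega) a b c
  rw [← e] at key
  -- `key : [x_s (a b), x_u c] = [x_{s-d} a, x_{u+d} (c b)]`
  have k1 := key a 1 b
  have k2 := key a b 1
  rw [mul_one, mul_one] at k1
  rw [one_mul] at k2
  rw [k1, k2]

theorem lc_indep {s u s' u' : V} (hs : s ∈ Φ) (hu : u ∈ Φ) (hsu : B s u = -1) (hs' : s' ∈ Φ) (hu' : u' ∈ Φ)
    (hsu' : B s' u' = -1) (e : s + u = s' + u') (a : F) :
    h.lc (x s a) (x u 1) = h.lc (x s' a) (x u' 1) := by
  have hR := S.roots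
  have t1 := hR.two s hs
  have t2 := hR.two s' hs'
  have t3 := hR.two u hu
  have y1 := hR.symm s s'
  have y2 := hR.symm u s'
  have y3 := hR.symm s u
  have b1 := hR.le s hs s' hs'
  have b2 := hR.ge hu hs'
  have hr : B (s + u) s' = 1 := by rw [e, hR.add_left, hR.symm u']; omega
  rw [hR.add_left] at hr
  have b3 := hR.le u hu s' hs'
  -- `(s, s') + (u, s') = 1`
  have cases : B s s' = 2 ∨ B s s' = 1 ∨ B s s' = 0 ∨ B s s' = -1 := by omega
  rcases cases with h0 | h0 | h0 | h0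
  · have := hR.eq s hs s' hs' h0
    subst this
    rw [add_left_cancel e]
  · -- `s = s' + d`
    have hd : s - s' ∈ Φ := hR.sub_mem hs hs' h0
    have e1 : s' + (s - s') = s := by abel
    have e2 : u + (s - s') = u' := by
      have : u' = s + u - s' := by rw [e]; abel
      rw [this]; abel
    have := S.move h h2 hc hs' hd hu (by rw [hR.sub_right]; omega) (by rw [hR.sub_right]; omega) (by omega) a 1 1
    rwa [e1, e2, mul_one, mul_one] at this
  · -- `u = s' + d`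
    have hd : u - s' ∈ Φ := hR.sub_mem hu hs' (by omega)
    have e1 : s' + (u - s') = u := by abel
    have e2 : s + (u - s') = u' := by
      have : u' = s + u - s' := by rw [e]; abel
      rw [this]; abel
    have := S.move h h2 hc hs' hd hs (by rw [hR.sub_right]; omega) (by rw [hR.sub_right]; omega) (by omega) a 1 1
    rw [e1, e2, mul_one, mul_one] at this
    rw [← this, S.lc_symm h h2 hc hs hu hsu, S.lc_prod h h2 h3 hc hs hu hsu 1 a, one_mul]
  · have hus : u = s' := hR.eq u hu s' hs' (by omega)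
    subst hus
    have hsu2 : s = u' := by
      have e1 : s + u = u' + u := by rw [e]; abel
      exact add_right_cancel e1
    subst hsu2
    rw [← S.lc_symm h h2 hc hs hu hsu a 1, S.lc_prod h h2 h3 hc hu hs hsu' 1 a, one_mul]

/-- **The lifting theorem.** -/
theorem exists_lift (hne : ∀ r ∈ Φ, ∃ s ∈ Φ, B s r = 1) :
    ∃ T : V → F → X, Sys B Φ T ∧ ∀ r ∈ Φ, ∀ a, π (T r a) = x r a := by
  classical
  have hR := S.roots
  have hdec : ∀ r : V, ∃ s u : V, r ∈ Φ → (s ∈ Φ ∧ u ∈ Φ ∧ B s u = -1 ∧ s + u = r) := by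
    intro r
    by_cases hr : r ∈ Φ
    · obtain ⟨s, hs, h1⟩ := hne r hr
      refine ⟨s, r - s, fun _ => ⟨hs, hR.sub_mem hr hs (by rw [hR.symm]; exact h1), ?_, by abel⟩⟩
      rw [hR.sub_right, hR.two s hs]; omega
    · exact ⟨0, 0, fun h => absurd h hr⟩
  choose s0 u0 h0 using hdec
  refine ⟨fun r a => h.lc (x (s0 r) a) (x (u0 r) 1), ?_⟩
  have hT : ∀ s ∈ Φ, ∀ u ∈ Φ, B s u = -1 → ∀ a b,
      h.lc (x s a) (x u b) = h.lc (x (s0 (s + u)) (a * b)) (x (u0 (s + u)) 1) := by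
    intro s hs u hu hsu a b
    have hr := hR.add s hs u hu hsu
    obtain ⟨h4, h5, h6, h7⟩ := h0 _ hr
    rw [S.lc_prod h h2 h3 hc hs hu hsu]
    exact S.lc_indep h h2 h3 hc hs hu hsu h4 h5 h6 h7.symm _
  have hmap : ∀ r ∈ Φ, ∀ a, π (h.lc (x (s0 r) a) (x (u0 r) 1)) = x r a := by
    intro r hr a
    obtain ⟨h4, h5, h6, h7⟩ := h0 _ hr
    rw [h.map_lc, S.comm _ h4 _ h5 h6, h7, mul_one]
  refine ⟨⟨hR, ?_, ?_, ?_⟩, hmap⟩
  · intro r hr a b
    obtain ⟨h4, h5, h6, h7⟩ := h0 _ hr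
    exact S.lc_add_left h hc h4 h5 h6 a b 1
  · intro r hr s hs hrs a b
    show ⁅_, _⁆ = _
    rw [h.comm_eq, hmap r hr, hmap s hs, hT r hr s hs hrs]
  · intro r hr s hs hrs a b
    apply h.commute_of_lc
    rw [hmap r hr, hmap s hs]
    exact hc r hr s hs hrs a b

end Lift

end Sys

end Cfsg.Agent.KFacts.Mult.Laced
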