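import Cfsg.Agent.KFacts.Mult.LacedRGD
import Cfsg.Agent.KFacts.SLRow.Psl
import Cfsg.Agent.Nodes.CommA

/-!
# `PSL_m(q)`, `m ≥ 5`, `q` even, has no perfect double cover (helper827)
-/

set_option autoImplicit false
set_option linter.unusedSectionVars false

namespace Cfsg.Agent.KFacts.Mult.LacedA

open Matrix CoxeterSystem Cfsg.Agent.ChevalleyStructure.CoxeterGeom Cfsg.Agent.Tits.Roots Cfsg.Agent.Tits.Core
  Cfsg.Agent.Nodes.Reps Cfsg.Agent.Nodes.BNOf Cfsg.Agent.Nodes.RGDLib Cfsg.Agent.Nodes.RootsA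
  Cfsg.Agent.Nodes.RGDTypeA Cfsg.Agent.KFacts.ChevTwo Cfsg.Agent.KFacts.SLRow.TypeA Cfsg.Agent.KFacts.SLRow.Def
  Cfsg.Agent.KFacts.SLRow.Psl Cfsg.Agent.OddHalf.SL.Index Cfsg.Agent.KFacts.Mult.Laced
  Cfsg.Agent.KFacts.Mult.LacedEnd Cfsg.Agent.KFacts.MulDef Cfsg.Agent.KFacts.Mult.LacedRGD
open Cfsg.Agent.LieRecognition.BNCox (cA cA_apply)

variable {n : ℕ} {W : Type*} [Group W] (cs : CoxeterSystem (cA n) W) {A : Fin n → Fin n → ℤ}
  (h : IsCartan (cA n) A)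

include cs h in
theorem bf_rtA (a b : Fin (n + 1)) {c d : Fin (n + 1)} (hcd : c ≠ d) :
    Bf A (rtA a b) (rtA c d) = (if a = c then 1 else 0) - (if a = d then 1 else 0) - (if b = c then 1 else 0) +
      (if b = d then 1 else 0) := by
  have : Finite W := finite_W cs h
  rw [bf_eq_cpr (cs := cs) (h := h) (fun i j => (cA_ne i j).1) (fun i j => (cA_ne i j).2) _ (isRoot_rtA cs h hcd),
    Cfsg.Agent.Nodes.CommA.cpr_rtA cs h a b hcd]
  ring

theorem Q_rtA (hn : 4 ≤ n) {a b : Fin (n + 1)} (hab : a ≠ b) : Q cs h (rtA a b) := by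
  intro s hs h0
  obtain ⟨c, d, hcd, rfl⟩ := exists_of_isRoot cs h hs
  rw [bf_rtA cs h a b hcd] at h0
  have h1 : a ≠ c ∧ a ≠ d ∧ b ≠ c ∧ b ≠ d := by
    refine ⟨?_, ?_, ?_, ?_⟩ <;> (rintro rfl; split_ifs at h0 <;> simp_all)
  obtain ⟨e, he⟩ : ∃ e : Fin (n + 1), e ∉ ({a, b, c, d} : Finset (Fin (n + 1))) := by
    by_contra hcon
    push Not at hcon
    have h2 : (Finset.univ : Finset (Fin (n + 1))) ⊆ {a, b, c, d} := fun e _ => hcon e
    have h3 := Finset.card_le_card h2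
    rw [Finset.card_univ, Fintype.card_fin] at h3
    have h4 : ({a, b, c, d} : Finset (Fin (n + 1))).card ≤ 4 := Finset.card_le_four
    omega
  simp only [Finset.mem_insert, Finset.mem_singleton, not_or] at he
  obtain ⟨ha, hb, hc, hd⟩ := he
  refine ⟨rtA c e, isRoot_rtA cs h (Ne.symm hc), ?_, ?_⟩
  · rw [bf_rtA cs h c e hcd, if_pos rfl, if_neg hcd, if_neg hc, if_neg hd]; norm_num
  · rw [bf_rtA cs h c e hab, if_neg (Ne.symm h1.1), if_neg (Ne.symm h1.2.2.1), if_neg ha, if_neg hb]; norm_num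

/-- **`PSL_m(q)`, `m ≥ 5`, `q` even, has no perfect double cover.** -/
theorem noDouble_PSL {m : ℕ} (hm : 5 ≤ m) {F : Type*} [Field F] [Finite F] (h2 : (2 : F) = 0) :
    NoDouble (ProjectiveSpecialLinearGroup (Fin m) F) := by
  obtain ⟨n, rfl⟩ : ∃ n, m = n + 1 := ⟨m - 1, by omega⟩
  have : Fact (Nat.Prime 2) := ⟨Nat.prime_two⟩
  have : CharP F 2 := charP_two h2
  have two : ∀ t : F, t + t = 0 := CharTwo.add_self_eq_zero
  let cs : CoxeterSystem (cA n) (cA n).Group := (cA n).toCoxeterSystem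
  have hW : Finite (cA n).Group := finite_W cs (isCartan n)
  have D := data_PSL (F := F) two cs (isCartan n)
  have h01 : (⟨0, by omega⟩ : Fin (n + 1)) ≠ ⟨1, by omega⟩ := by
    intro e
    exact absurd (congrArg Fin.val e) (by norm_num)
  refine noDouble_of_root (rgd_psl (F := F) cs (isCartan n)) (sys (fun i j => (cA_ne i j).1) (fun i j => (cA_ne i j).2) D)
    h2 D.inj ?_ (fun i j => (cA_ne i j).1) (fun i j => (cA_ne i j).2) conn_cA (by rw [Fintype.card_fin]; omega)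
    (G1_psl_eq_top _ _) (isRoot_rtA cs (isCartan n) h01) (Q_rtA cs (isCartan n) (by omega) h01)
  intro x hx g
  constructor
  · rintro ⟨k, hk, rfl⟩
    obtain ⟨t, rfl⟩ := (mem_X_iff cs (isCartan n) hx k).1 hk
    exact ⟨t, rfl⟩
  · rintro ⟨t, rfl⟩
    exact ⟨_, (mem_X_iff cs (isCartan n) hx _).2 ⟨t, rfl⟩, rfl⟩

end Cfsg.Agent.KFacts.Mult.LacedA
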