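import Cfsg.Agent.KFacts.SLRow.OPlus

/-!
# `PΩ⁺_{2m}(q)`, `m ≥ 5`, `q` even, has no perfect double cover (helper827)
-/

set_option autoImplicit false
set_option linter.unusedSectionVars false

namespace Cfsg.Agent.KFacts.Mult.LacedD

open Cfsg
open CoxeterSystem Cfsg.Agent.ChevalleyStructure.CoxeterGeom Cfsg.Agent.Tits.Roots Cfsg.Agent.Tits.Core
  Cfsg.Agent.Nodes.Reps Cfsg.Agent.Nodes.BNOf Cfsg.Agent.Nodes.RGDLib Cfsg.Agent.OddHalf.SL
  Cfsg.Agent.OddHalf.SL.Index Cfsg.Agent.KFacts.Mult.Calc Cfsg.Agent.KFacts.Mult.Laced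
  Cfsg.Agent.KFacts.Mult.LacedEnd Cfsg.Agent.KFacts.MulDef Cfsg.Agent.KFacts.Mult.LacedRGD
  Cfsg.Agent.KFacts.SLRow.TypeD Cfsg.Agent.KFacts.SLRow.OPlus
open Cfsg.Agent.Nodes.TypeC (wt wt_apply ng ng_ng ng_fst ng_snd wt_ng)
open Cfsg.Agent.Nodes.TypeD
open Cfsg.Agent.LieClassical Cfsg.Agent.LieClassical.OrthCore Cfsg.Agent.LieClassical.OrthTrans
open Cfsg.Agent.LieClassical.OrthSimple Cfsg.Agent.LieClassical.OrthFinite
open Cfsg.Agent.LieClassical.OrthForms Cfsg.Agent.Nodes.WittInst Cfsg.Agent.TitsThree.KSideO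

variable {n : ℕ} {W : Type*} [Group W] {cs : CoxeterSystem (M n) W} {Y L F : Type*} [Group Y] [Group L] [Field F]
  {e : (Fin (n + 2) → ℤ) → F → L}

/-- orthogonal roots with disjoint indices -/
theorem lc_disj (S : Sys (Bf (A n)) {x | IsRoot cs (isCartan n) x} e) (hn : 3 ≤ n) {π : Y →* L} (h : CE π)
    {r s : Fin (n + 2) → ℤ} {a b c d : Fin (n + 2) × Bool} (hab : Ok a b) (hcd : Ok c d) (hac : Ok a c) (had : Ok a d)
    (hbc : Ok b c) (hbd : Ok b d) (er : ee r = wt a + wt b) (es : ee s = wt c + wt d) (u v : F) :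
    h.lc (e r u) (e s v) = 1 := by
  obtain ⟨k, hk⟩ : ∃ k : Fin (n + 2), k ∉ ({a.1, b.1, c.1, d.1} : Finset (Fin (n + 2))) := by
    by_contra hcon
    push Not at hcon
    have h3 := Finset.card_le_card (fun e _ => hcon e : (Finset.univ : Finset (Fin (n + 2))) ⊆ {a.1, b.1, c.1, d.1})
    rw [Finset.card_univ, Fintype.card_fin] at h3
    have h4 : ({a.1, b.1, c.1, d.1} : Finset (Fin (n + 2))).card ≤ 4 := Finset.card_le_four
    omega
  simp only [Finset.mem_insert, Finset.mem_singleton, not_or] at hk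
  obtain ⟨hka, hkb, hkc, hkd⟩ := hk
  have hck : Ok c (k, true) := fun h => hkc h.symm
  obtain ⟨t, ht, et⟩ := rt_of_ok (cs := cs) hck
  have hr : IsRoot cs (isCartan n) r := isRoot_iff.2 ⟨a, b, hab, er⟩
  have hs : IsRoot cs (isCartan n) s := isRoot_iff.2 ⟨c, d, hcd, es⟩
  refine S.lc_orth h hr hs ?_ ht ?_ ?_ u v
  · rw [bf_wt er es, dl_of_ne hac, dl_of_ne had, dl_of_ne hbc, dl_of_ne hbd]; rfl
  · rw [bf_wt et es, dl_self, dl_of_ne hcd, dl_of_ne (a := (k, true)) hkc, dl_of_ne (a := (k, true)) hkd]; rfl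
  · rw [bf_wt et er, dl_of_ne hac.symm, dl_of_ne hbc.symm, dl_of_ne (a := (k, true)) hka,
      dl_of_ne (a := (k, true)) hkb]; rfl

/-- the pair `w_a + w_b`, `w_a - w_b` -/
theorem lc_special (S : Sys (Bf (A n)) {x | IsRoot cs (isCartan n) x} e) (hn : 3 ≤ n) {π : Y →* L} (h : CE π)
    {r s : Fin (n + 2) → ℤ} {a b : Fin (n + 2) × Bool} (hab : Ok a b)
    (er : ee r = wt a + wt b) (es : ee s = wt a + wt (ng b)) (u v : F) : h.lc (e r u) (e s v) = 1 := by
  obtain ⟨k, hk⟩ : ∃ k : Fin (n + 2), k ∉ ({a.1, b.1} : Finset (Fin (n + 2))) := by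
    by_contra hcon
    push Not at hcon
    have h3 := Finset.card_le_card (fun e _ => hcon e : (Finset.univ : Finset (Fin (n + 2))) ⊆ {a.1, b.1})
    rw [Finset.card_univ, Fintype.card_fin] at h3
    have h4 : ({a.1, b.1} : Finset (Fin (n + 2))).card ≤ 2 := Finset.card_le_two
    omega
  obtain ⟨l, hl⟩ : ∃ l : Fin (n + 2), l ∉ ({a.1, b.1, k} : Finset (Fin (n + 2))) := by
    by_contra hcon
    push Not at hcon
    have h3 := Finset.card_le_card (fun e _ => hcon e : (Finset.univ : Finset (Fin (n + 2))) ⊆ {a.1, b.1, k})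
    rw [Finset.card_univ, Fintype.card_fin] at h3
    have h4 : ({a.1, b.1, k} : Finset (Fin (n + 2))).card ≤ 3 := Finset.card_le_three
    omega
  simp only [Finset.mem_insert, Finset.mem_singleton, not_or] at hk hl
  -- `a = e₁`, `b = e₃`, `c = e₂`, `f = e₄`
  let c : Fin (n + 2) × Bool := (k, true)
  let f : Fin (n + 2) × Bool := (l, true)
  have ac : Ok a c := fun h => hk.1 h.symm
  have bc : Ok b c := fun h => hk.2 h.symm
  have af : Ok a f := fun h => hl.1 h.symm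
  have bf : Ok b f := fun h => hl.2.1 h.symm
  have cf : Ok c f := fun h => hl.2.2 h.symm
  obtain ⟨s₁, hs₁, es₁⟩ := rt_of_ok (cs := cs) (a := c) (b := ng b) bc.symm
  obtain ⟨d, hd, ed⟩ := rt_of_ok (cs := cs) (a := a) (b := ng c) ac
  obtain ⟨w, hw, ew⟩ := rt_of_ok (cs := cs) (a := c) (b := b) bc.symm
  obtain ⟨d', hd', ed'⟩ := rt_of_ok (cs := cs) (a := b) (b := f) bf
  obtain ⟨d'', hd'', ed''⟩ := rt_of_ok (cs := cs) (a := b) (b := ng f) bf
  have e1 : r = w + d := ee_injective (by rw [ee_add, er, ew, ed, wt_ng]; abel)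
  have e2 : s = s₁ + d := ee_injective (by rw [ee_add, es, es₁, ed, wt_ng, wt_ng]; abel)
  have hu : w = s₁ + d' + d'' := ee_injective (by
    rw [ee_add, ee_add, ew, es₁, ed', ed'', wt_ng, wt_ng]; abel)
  have z : ∀ {x y : Fin (n + 2) × Bool}, Ok x y → dl x y = 0 := fun h => dl_of_ne h
  have z1 : ∀ {x y : Fin (n + 2) × Bool}, Ok x y → dl x (ng y) = 0 := fun h => dl_of_ne h
  have z2 : ∀ {x y : Fin (n + 2) × Bool}, Ok x y → dl (ng x) y = 0 := fun h => dl_of_ne h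
  have z3 : ∀ {x y : Fin (n + 2) × Bool}, Ok x y → dl (ng x) (ng y) = 0 := fun h => dl_of_ne h
  have z4 : ∀ x : Fin (n + 2) × Bool, dl (ng x) x = -1 := fun x => by
    have := dl_ng (ng x)
    rwa [ng_ng] at this
  rw [e1, e2]
  refine S.lc_three_term h hs₁ hd hw hd' hd'' ?_ ?_ ?_ ?_ ?_ ?_ ?_ ?_ hu ?_ ?_ u v
  · rw [bf_wt es₁ ed, z ac.symm, dl_ng, z2 hab.symm, z3 bc]; rfl
  · rw [bf_wt ew ed, z ac.symm, dl_ng, z hab.symm, z1 bc]; rfl
  · rw [bf_wt ew es₁, dl_self, z1 bc.symm, z bc, dl_ng]; rfl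
  · rw [bf_wt es₁ ed', z bc.symm, z cf, z4, z2 bf]; rfl
  · rw [bf_wt es₁ ed'', z bc.symm, z1 cf, z4, z3 bf]; rfl
  · rw [bf_wt ed ed', z hab, z af, z2 bc.symm, z2 cf]; rfl
  · rw [bf_wt ed ed'', z hab, z1 af, z2 bc.symm, z3 cf]; rfl
  · rw [bf_wt ed' ed'', dl_self, z1 bf, z bf.symm, dl_ng]; rfl
  · intro p q
    exact lc_disj S hn h hab cf ac af bc bf (by rw [← e1]; exact er)
      (by rw [ee_add, es₁, ed', wt_ng]; abel) p q
  · intro p q
    exact lc_disj S hn h bc.symm (c := a) (d := ng f) af ac.symm cf hab.symm bf ew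
      (by rw [ee_add, ee_add, es₁, ed, ed'', wt_ng, wt_ng, wt_ng]; abel) p q

/-- **Lifts of orthogonal root elements commute, type `D_m`, `m ≥ 5`.** -/
theorem lc_zero (S : Sys (Bf (A n)) {x | IsRoot cs (isCartan n) x} e) (hn : 3 ≤ n) {π : Y →* L} (h : CE π)
    {r s : Fin (n + 2) → ℤ} (hr : IsRoot cs (isCartan n) r) (hs : IsRoot cs (isCartan n) s) (h0 : Bf (A n) r s = 0)
    (u v : F) : h.lc (e r u) (e s v) = 1 := by
  obtain ⟨a, b, hab, er⟩ := exists_of_isRoot cs hr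
  obtain ⟨c, d, hcd, es⟩ := exists_of_isRoot cs hs
  have hba := hab.symm
  have hdc := hcd.symm
  rw [bf_wt er es] at h0
  have er' : ee r = wt b + wt a := er.trans (add_comm _ _)
  have es' : ee s = wt d + wt c := es.trans (add_comm _ _)
  rcases dl_cases a c with ⟨h1, k1⟩ | ⟨h1, k1⟩ | ⟨h1, k1⟩
  · subst h1
    rcases dl_cases b d with ⟨h4, k4⟩ | ⟨h4, k4⟩ | ⟨h4, k4⟩
    · exfalso
      rw [k1, k4, dl_of_ne hcd, dl_of_ne hba] at h0; omega
    · subst h4
      exact lc_special S hn h hab er es u v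
    · exfalso
      rw [k1, k4, dl_of_ne hcd, dl_of_ne hba] at h0; omega
  · subst h1
    have hcd' : Ok a d := hcd
    rcases dl_cases b d with ⟨h4, k4⟩ | ⟨h4, k4⟩ | ⟨h4, k4⟩
    · subst h4
      exact lc_special S hn h hba er' es' u v
    · exfalso
      rw [k1, k4, dl_of_ne hcd', dl_of_ne (a := b) (c := ng a) hba] at h0; omega
    · exfalso
      rw [k1, k4, dl_of_ne hcd', dl_of_ne (a := b) (c := ng a) hba] at h0; omega
  · rcases dl_cases a d with ⟨h2, k2⟩ | ⟨h2, k2⟩ | ⟨h2, k2⟩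
    · subst h2
      rcases dl_cases b c with ⟨h3, k3⟩ | ⟨h3, k3⟩ | ⟨h3, k3⟩
      · exfalso
        rw [k1, k2, k3, dl_of_ne hba] at h0; omega
      · subst h3
        exact lc_special S hn h hab er es' u v
      · exfalso
        rw [k1, k2, k3, dl_of_ne hba] at h0; omega
    · subst h2
      rcases dl_cases b c with ⟨h3, k3⟩ | ⟨h3, k3⟩ | ⟨h3, k3⟩
      · subst h3
        exact lc_special S hn h hba er' es u v
      · exfalso
        rw [k1, k2, k3, dl_of_ne (a := b) (c := ng a) hba] at h0; omega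
      · exfalso
        rw [k1, k2, k3, dl_of_ne (a := b) (c := ng a) hba] at h0; omega
    · rcases dl_cases b c with ⟨h3, k3⟩ | ⟨h3, k3⟩ | ⟨h3, k3⟩
      · subst h3
        exfalso
        rw [k1, k2, k3, dl_of_ne hcd] at h0; omega
      · subst h3
        have hbd : Ok b d := hcd
        exfalso
        rw [k1, k2, k3, dl_of_ne hbd] at h0; omega
      · rcases dl_cases b d with ⟨h4, k4⟩ | ⟨h4, k4⟩ | ⟨h4, k4⟩
        · exfalso; omega
        · exfalso; omega
        · exact lc_disj S hn h hab hcd h1 h2 h3 h4 er es u v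

/-- **`PΩ⁺_{2m}(q)`, `m ≥ 5`, `q` even, has no perfect double cover.** -/
theorem noDouble_OPlus {m : ℕ} (hm : 5 ≤ m) {F : Type*} [Field F] [Finite F] (h2 : (2 : F) = 0) :
    NoDouble (Cfsg.POmega F (Cfsg.quadFormPlus m F)) := by
  obtain ⟨n, rfl⟩ : ∃ n, m = n + 2 := ⟨m - 2, by omega⟩
  have : Fact (Nat.Prime 2) := ⟨Nat.prime_two⟩
  have : CharP F 2 := charP_two h2
  rw [← coe_plusForm]
  have hG : Good (plusForm (n + 2) F) := good_plus (by omega) F
  let cs := (M n).toCoxeterSystem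
  have hW : Finite (M n).Group := finite_W cs
  have R := rgdD_model (wplus (n + 2) F) hG (amb_plus _) (adm_plus _) (p := 2) cs
  have hgen := G1D_eq_top (wplus (n + 2) F) (toPOmega hG) (toPOmega_surjective hG) (adm_plus _) cs
  have S := sysK cs h2 (adm_plus (F := F) (n + 2)) (toPOmega hG)
  have h3 : 3 ≤ Fintype.card (Fin (n + 2)) := by rw [Fintype.card_fin]; omega
  intro Y _ _ π c hD
  have h : CE π := CE.of_ker hD.surj hD.cen fun y hy => (hD.ker y).1 hy
  refine false_of_orth S h2 (three (fun i j => (M_ne i j).1) (fun i j => (M_ne i j).2) (conn_D (by omega)) h3)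
    (fun r hr => exists_one (fun i j => (M_ne i j).1) (fun i j => (M_ne i j).2) (conn_D (by omega)) h3 hr) hth
    (X := XD (wplus (n + 2) F) (toPOmega hG)) (fun r hr g => mem_XD cs h2 (adm_plus _) _ hr g)
    (fun r hr _ a ha => inj_K cs h2 (adm_plus _) _ (ker_toPOmega hG) (by omega) hr ha)
    (OfRGD.dir (fun i j => (M_ne i j).1) (fun i j => (M_ne i j).2) R) ?_ hD h
    (fun r hr s hs h0 a b => lc_zero S (by omega) h hr hs h0 a b)
  rw [OfRGD.pos_eq]
  have : Finite (Cfsg.POmega F ⇑(plusForm (n + 2) F)) := Finite.of_surjective π hD.surj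
  exact odd_index R hgen

end Cfsg.Agent.KFacts.Mult.LacedD
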