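import Cfsg.Agent.KFacts.Mult.LacedD
import Cfsg.Agent.KFacts.Mult.LacedTor

/-!
# `PΩ⁺_{2m}(q)`, `q` even: `ChevTwo.Data`, no perfect double covers (helper827)

* `data_OPlus` : `ChevTwo.Data` of the root elements of `PΩ⁺` of helper507's root group datum;
* `noDouble_OPlus_two` : `m ≥ 3`, `q ≥ 4`;
* `oplus` : the literal row `LieND.oplus`.
-/

set_option autoImplicit false
set_option linter.unusedSectionVars false

namespace Cfsg.Agent.KFacts.Mult.LacedDRow

open Cfsg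
open CoxeterSystem Cfsg.Agent.ChevalleyStructure.CoxeterGeom Cfsg.Agent.Tits.Roots Cfsg.Agent.Tits.Core
  Cfsg.Agent.Nodes.Reps Cfsg.Agent.Nodes.BNOf Cfsg.Agent.Nodes.RGDLib Cfsg.Agent.OddHalf.SL
  Cfsg.Agent.OddHalf.SL.Index Cfsg.Agent.KFacts.Mult.Calc Cfsg.Agent.KFacts.Mult.Laced
  Cfsg.Agent.KFacts.Mult.LacedEnd Cfsg.Agent.KFacts.MulDef Cfsg.Agent.KFacts.Mult.LacedRGD
  Cfsg.Agent.KFacts.SLRow.TypeD Cfsg.Agent.KFacts.SLRow.OPlus Cfsg.Agent.KFacts.Mult.LacedTor
open Cfsg.Agent.Nodes.TypeD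
open Cfsg.Agent.LieClassical Cfsg.Agent.LieClassical.OrthCore Cfsg.Agent.LieClassical.OrthTrans
open Cfsg.Agent.LieClassical.OrthSimple Cfsg.Agent.LieClassical.OrthFinite
open Cfsg.Agent.LieClassical.OrthForms Cfsg.Agent.Nodes.WittInst Cfsg.Agent.TitsThree.KSideO

variable {n : ℕ} {F : Type*} [Field F]

theorem h4 (i j : Fin (n + 2)) : M n i j ≠ 4 := (M_ne i j).1

theorem h6 (i j : Fin (n + 2)) : M n i j ≠ 6 := (M_ne i j).2

/-- the coordinates of `PΩ⁺` -/
theorem data_OPlus (hn : 1 ≤ n) (h2 : (2 : F) = 0) (hG : Good (plusForm (n + 2) F)) {C : Type*} [Group C] [Finite C]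
    (cs : CoxeterSystem (M n) C) :
    ChevTwo.Data cs (isCartan n) (fun x t => toPOmega hG (eE (wplus (n + 2) F) x t)) :=
  data_of_sys h4 h6 (sysK cs h2 (adm_plus (F := F) (n + 2)) (toPOmega hG)) h2
    (fun x hx t ht => inj_K cs h2 (adm_plus _) _ (ker_toPOmega hG) hn hx ht)
    (fun r hr => exists_one h4 h6 (conn_D hn) (by rw [Fintype.card_fin]; omega) hr)

/-- `q ≥ 4` -/
theorem noDouble_OPlus_two [Finite F] {m : ℕ} (hm : 3 ≤ m) (h2 : (2 : F) = 0) {c : F} (hc : c ≠ 0) (hc1 : c ≠ 1) :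
    NoDouble (Cfsg.POmega F (Cfsg.quadFormPlus m F)) := by
  obtain ⟨n, rfl⟩ : ∃ n, m = n + 2 := ⟨m - 2, by omega⟩
  have : Fact (Nat.Prime 2) := ⟨Nat.prime_two⟩
  have : CharP F 2 := charP_two h2
  rw [← coe_plusForm]
  have hG : Good (plusForm (n + 2) F) := good_plus (by omega) F
  let cs := (M n).toCoxeterSystem
  have hW : Finite (M n).Group := finite_W cs
  have R := rgdD_model (wplus (n + 2) F) hG (amb_plus _) (adm_plus _) (p := 2) cs
  have hgen := G1D_eq_top (wplus (n + 2) F) (toPOmega hG) (toPOmega_surjective hG) (adm_plus _) cs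
  have S := sysK cs h2 (adm_plus (F := F) (n + 2)) (toPOmega hG)
  have hfin : Finite (Cfsg.POmega F ⇑(plusForm (n + 2) F)) := by
    have : Finite ↥(E (plusForm (n + 2) F)) := by
      have : Finite (((Fin (n + 2) ⊕ Fin (n + 2)) → F) ≃ₗ[F] ((Fin (n + 2) ⊕ Fin (n + 2)) → F)) :=
        Finite.of_injective (fun g : (((Fin (n + 2) ⊕ Fin (n + 2)) → F) ≃ₗ[F] ((Fin (n + 2) ⊕ Fin (n + 2)) → F)) =>
          (g : (((Fin (n + 2) ⊕ Fin (n + 2)) → F) → ((Fin (n + 2) ⊕ Fin (n + 2)) → F)))) DFunLike.coe_injective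
      infer_instance
    exact Finite.of_surjective _ (toPOmega_surjective hG)
  exact noDouble_of_two R S h2 (fun x hx t ht => inj_K cs h2 (adm_plus _) _ (ker_toPOmega hG) (by omega) hx ht)
    (fun x hx g => mem_XD cs h2 (adm_plus _) _ hx g) h4 h6 (conn_D (by omega)) (by rw [Fintype.card_fin]; omega) hgen
    hc hc1

/-- The literal row `LieND.oplus` of D9/D10. -/
theorem oplus : ∀ (F : Type) [Field F] [Fintype F] (a m : ℕ), 1 ≤ a → Fintype.card F = 2 ^ a → 4 ≤ m →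
    (m = 4 → 2 ≤ a) → NoDouble (POmega F (quadFormPlus m F)) := by
  intro F _ _ a m ha hF hm h4a
  have h2 : (2 : F) = 0 := by
    have h := FiniteField.cast_card_eq_zero F
    rw [hF, Nat.cast_pow] at h
    exact_mod_cast (pow_eq_zero_iff (by omega)).1 h
  by_cases hm5 : 5 ≤ m
  · exact LacedD.noDouble_OPlus hm5 h2
  · classical
    have ha2 := h4a (by omega)
    obtain ⟨c, hc⟩ : ∃ c : F, c ∉ ({0, 1} : Finset F) := by
      by_contra hcon
      push Not at hcon
      have h3 := Finset.card_le_card (fun e _ => hcon e : (Finset.univ : Finset F) ⊆ {0, 1})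
      rw [Finset.card_univ, hF] at h3
      have h5 : ({0, 1} : Finset F).card ≤ 2 := Finset.card_le_two
      have h6 : 2 ^ 2 ≤ 2 ^ a := Nat.pow_le_pow_right (by norm_num) ha2
      omega
    simp only [Finset.mem_insert, Finset.mem_singleton, not_or] at hc
    exact noDouble_OPlus_two (by omega) h2 hc.1 hc.2

end Cfsg.Agent.KFacts.Mult.LacedDRow
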