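import Cfsg.Agent.KFacts.Mult.Laced
import Cfsg.Agent.KFacts.MulDef
import Cfsg.Agent.OddHalf.SL.Bridge

/-!
# No perfect double covers of simply laced groups in characteristic 2 (helper827)

`false_of_lift`: if the root elements of a perfect double cover satisfy the relations then the cover is trivial.
`noDouble`: abstract theorem.
-/

set_option autoImplicit false
set_option linter.unusedSectionVars false

namespace Cfsg.Agent.KFacts.Mult.LacedEnd

open scoped commutatorElement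
open Cfsg.Agent.OddHalf.SL.Defs Cfsg.Agent.OddHalf.SL.Bridge Cfsg.Agent.KFacts.Mult.Calc Cfsg.Agent.KFacts.Mult.Laced
open Cfsg.Agent.KFacts.MulDef Cfsg.Agent.KFacts.MulTwo

variable {Y L V F : Type*} [Group Y] [Group L] [AddCommGroup V] [Field F]
  {B : V → V → ℤ} {Φ : Set V} {x : V → F → L}

/-- the root groups are direct with respect to the height -/
def Dir (ht : V →+ ℤ) (Φ : Set V) (X : V → Subgroup L) : Prop :=
  ∀ a ∈ Φ, 0 < ht a → X a ⊓ (⨆ b : V, ⨆ _ : b ∈ Φ ∧ ht a ≤ ht b ∧ b ≠ a, X b) = ⊥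

/-- `X r` consists of the root elements `x r a`. -/
def IsRG (Φ : Set V) (x : V → F → L) (X : V → Subgroup L) : Prop :=
  ∀ r ∈ Φ, ∀ g, g ∈ X r ↔ ∃ a, g = x r a

/-- the group generated by the first `k` root groups -/
def Vk (T : V → F → Y) (l : ℕ → V) (k : ℕ) : Subgroup Y := Subgroup.closure {g | ∃ i < k, ∃ a, g = T (l i) a}

theorem mem_Vk {T : V → F → Y} {l : ℕ → V} {k i : ℕ} (hi : i < k) (a : F) : T (l i) a ∈ Vk T l k :=
  Subgroup.subset_closure ⟨i, hi, a, rfl⟩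

theorem Vk_mono {T : V → F → Y} {l : ℕ → V} {k k' : ℕ} (hk : k ≤ k') : Vk T l k ≤ Vk T l k' :=
  Subgroup.closure_mono fun _ ⟨i, hi, a, h⟩ => ⟨i, hi.trans_le hk, a, h⟩

/-- If the root elements lift to root elements then there is no perfect double cover. -/
theorem false_of_lift [Finite Y] {π : Y →* L} {c : Y} (hD : Dbl π c) {T : V → F → Y} (ST : Sys B Φ T)
    (hT : ∀ r ∈ Φ, ∀ a, π (T r a) = x r a) (ht : V →+ ℤ) {X : V → Subgroup L} (hX : IsRG Φ x X)
    (inj : ∀ r ∈ Φ, 0 < ht r → ∀ a, x r a = 1 → a = 0) (dir : Dir ht Φ X) (hodd : ¬ 2 ∣ (pos ht Φ X).index) : False := by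
  classical
  have hR := ST.roots
  set P : Finset V := hR.fin.toFinset.filter (fun a => 0 < ht a) with hP
  have hmemP : ∀ a, a ∈ P ↔ a ∈ Φ ∧ 0 < ht a := fun a => by
    rw [hP, Finset.mem_filter, Set.Finite.mem_toFinset]
  obtain ⟨l, hl1, hl2, hl3, hl4⟩ := exists_enum (fun a => ht a) P
  have hΦ : ∀ i < P.card, l i ∈ Φ := fun i hi => ((hmemP _).1 (hl1 i hi)).1
  have hht : ∀ i < P.card, 0 < ht (l i) := fun i hi => ((hmemP _).1 (hl1 i hi)).2
  -- `T (l k)` normalises `Vk k`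
  have hnorm : ∀ k < P.card, ∀ a : F, ∀ v ∈ Vk T l k, T (l k) a * v * (T (l k) a)⁻¹ ∈ Vk T l k := by
    intro k hk a v hv
    unfold Vk at hv
    induction hv using Subgroup.closure_induction with
    | mem g hg =>
      obtain ⟨i, hi, b, rfl⟩ := hg
      have hiP := hi.trans hk
      have e : T (l k) a * T (l i) b * (T (l k) a)⁻¹ = ⁅T (l k) a, T (l i) b⁆ * T (l i) b := by
        rw [commutatorElement_def]; group
      rw [e]
      refine mul_mem ?_ (mem_Vk hi b)
      rcases lt_or_ge (B (l k) (l i)) 0 with hB | hB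
      · have hB2 : B (l k) (l i) = -1 := by
          have h1 := hR.ge (hΦ k hk) (hΦ i hiP)
          have h2 : B (l k) (l i) ≠ -2 := by
            intro h3
            have h4 := hR.eq_neg (hΦ k hk) (hΦ i hiP) h3
            have h5 := hht k hk
            rw [h4, map_neg] at h5
            have h6 := hht i hiP
            omega
          omega
        rw [ST.comm _ (hΦ k hk) _ (hΦ i hiP) hB2]
        have hs : l k + l i ∈ P := (hmemP _).2 ⟨hR.add _ (hΦ k hk) _ (hΦ i hiP) hB2, by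
          rw [map_add]; have := hht i hiP; have := hht k hk; omega⟩
        obtain ⟨j, hj, hjl⟩ := hl2 _ hs
        have hji : j < k := by
          by_contra hc
          have h1 : ht (l j) ≤ ht (l k) := hl4 k j (not_lt.1 hc) hj
          rw [hjl, map_add] at h1
          have := hht i hiP
          omega
        rw [← hjl]
        exact mem_Vk hji _
      · rw [commutatorElement_eq_one_iff_commute.2 (ST.one _ (hΦ k hk) _ (hΦ i hiP) hB a b)]
        exact one_mem _
    | one => rw [mul_one, mul_inv_cancel]; exact one_mem _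
    | mul g g' _ _ h1 h2 =>
      have e : T (l k) a * (g * g') * (T (l k) a)⁻¹ =
        (T (l k) a * g * (T (l k) a)⁻¹) * (T (l k) a * g' * (T (l k) a)⁻¹) := by group
      rw [e]; exact mul_mem h1 h2
    | inv g _ h1 =>
      have e : T (l k) a * g⁻¹ * (T (l k) a)⁻¹ = (T (l k) a * g * (T (l k) a)⁻¹)⁻¹ := by group
      rw [e]; exact inv_mem h1
  -- products
  have hprod : ∀ k < P.card, ∀ g ∈ Vk T l (k + 1), ∃ v ∈ Vk T l k, ∃ a, g = v * T (l k) a := by
    intro k hk g hg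
    have hneg : ∀ a, T (l k) (-a) = (T (l k) a)⁻¹ := by
      intro a
      rw [eq_inv_iff_mul_eq_one, ← ST.add _ (hΦ k hk), neg_add_cancel, ST.zero (hΦ k hk)]
    unfold Vk at hg
    induction hg using Subgroup.closure_induction with
    | mem g hg =>
      obtain ⟨i, hi, b, rfl⟩ := hg
      rcases Nat.lt_succ_iff_lt_or_eq.1 hi with h1 | h1
      · exact ⟨_, mem_Vk h1 b, 0, by rw [ST.zero (hΦ k hk), mul_one]⟩
      · subst h1
        exact ⟨1, one_mem _, b, by rw [one_mul]⟩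
    | one => exact ⟨1, one_mem _, 0, by rw [ST.zero (hΦ k hk), mul_one]⟩
    | mul g g' _ _ h1 h2 =>
      obtain ⟨v, hv, a, rfl⟩ := h1
      obtain ⟨v', hv', a', rfl⟩ := h2
      refine ⟨v * (T (l k) a * v' * (T (l k) a)⁻¹), mul_mem hv (hnorm k hk a v' hv'), a + a', ?_⟩
      rw [ST.add _ (hΦ k hk)]; group
    | inv g _ h1 =>
      obtain ⟨v, hv, a, rfl⟩ := h1
      refine ⟨T (l k) (-a) * v⁻¹ * (T (l k) (-a))⁻¹, hnorm k hk _ _ (inv_mem hv), -a, ?_⟩
      rw [hneg]; group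
  -- injectivity
  have hmapV : ∀ k, k ≤ P.card → ∀ v ∈ Vk T l k, ∀ K : Subgroup L, (∀ i < k, X (l i) ≤ K) → π v ∈ K := by
    intro k hk v hv K hK
    have : Vk T l k ≤ K.comap π := by
      unfold Vk
      rw [Subgroup.closure_le]
      rintro _ ⟨i, hi, a, rfl⟩
      show π _ ∈ K
      rw [hT _ (hΦ i (hi.trans_le hk))]
      exact hK i hi ((hX _ (hΦ i (hi.trans_le hk)) _).2 ⟨a, rfl⟩)
    exact this hv
  have hinj : ∀ k, k ≤ P.card → ∀ g ∈ Vk T l k, π g = 1 → g = 1 := by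
    intro k
    induction k with
    | zero =>
      intro _ g hg _
      have : Vk T l 0 = ⊥ := by
        unfold Vk
        rw [Subgroup.closure_eq_bot_iff]
        rintro _ ⟨i, hi, _⟩
        exact absurd hi (Nat.not_lt_zero i)
      rw [this] at hg
      exact Subgroup.mem_bot.1 hg
    | succ k ih =>
      intro hk g hg h1
      have hk' : k < P.card := hk
      obtain ⟨v, hv, a, rfl⟩ := hprod k hk' g hg
      rw [map_mul, hT _ (hΦ k hk')] at h1
      have h2 : x (l k) a ∈ X (l k) ⊓ (⨆ b : V, ⨆ _ : b ∈ Φ ∧ ht (l k) ≤ ht b ∧ b ≠ l k, X b) := by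
        refine Subgroup.mem_inf.2 ⟨(hX _ (hΦ k hk') _).2 ⟨a, rfl⟩, ?_⟩
        have h3 : x (l k) a = (π v)⁻¹ := (inv_eq_of_mul_eq_one_right h1).symm
        rw [h3]
        apply inv_mem
        refine hmapV k hk'.le v hv _ ?_
        intro i hi
        refine le_iSup₂_of_le (f := fun b (_ : b ∈ Φ ∧ ht (l k) ≤ ht b ∧ b ≠ l k) => X b) (l i)
          ⟨hΦ i (hi.trans hk'), hl4 i k hi.le hk', ?_⟩ le_rfl
        intro h
        exact absurd (hl3 i k (hi.trans hk') hk' h) hi.ne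
      rw [dir _ (hΦ k hk') (hht k hk'), Subgroup.mem_bot] at h2
      have h3 := inj _ (hΦ k hk') (hht k hk') a h2
      rw [h2, mul_one] at h1
      rw [h3, ST.zero (hΦ k hk'), mul_one]
      exact ih hk'.le v hv h1
  -- the end
  have hmapU : ∀ u ∈ pos ht Φ X, ∃ v ∈ Vk T l P.card, π v = u := by
    have : pos ht Φ X ≤ (Vk T l P.card).map π := by
      refine iSup₂_le fun a ha => ?_
      intro g hg
      obtain ⟨t, rfl⟩ := (hX a ha.1 g).1 hg
      obtain ⟨i, hi, rfl⟩ := hl2 a ((hmemP a).2 ha)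
      exact ⟨T (l i) t, mem_Vk hi t, hT _ ha.1 t⟩
    intro u hu
    obtain ⟨v, hv, e⟩ := this hu
    exact ⟨v, hv, e⟩
  have hidx : ¬ 2 ∣ ((pos ht Φ X).comap π).index := by
    rwa [Subgroup.index_comap_of_surjective _ hD.surj]
  have hπc : π c = 1 := (hD.ker c).2 (Or.inr rfl)
  refine hD.toCtr.false_of_compl (P := (pos ht Φ X).comap π) (P₁ := Vk T l P.card) ?_ hidx ?_ ?_
  · show π c ∈ pos ht Φ X
    rw [hπc]; exact one_mem _
  · intro hc
    exact hD.ne (hinj _ le_rfl c hc hπc)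
  · intro y hy
    obtain ⟨v, hv, e⟩ := hmapU (π y) hy
    have h1 : π (v⁻¹ * y) = 1 := by rw [map_mul, map_inv, e, inv_mul_cancel]
    rcases (hD.ker _).1 h1 with h2 | h2
    · left
      rw [inv_mul_eq_one.1 h2] at hv
      exact hv
    · right
      have : y = v * c := by rw [← h2]; group
      rw [this, hD.cen, mul_assoc, hD.sq, mul_one]
      exact hv

/-- **Simply laced groups of rank at least 3 in characteristic 2 have no perfect double covers**, if lifts of orthogonal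
root elements commute. -/
theorem false_of_orth [Finite Y] (S : Sys B Φ x) (h2 : (2 : F) = 0) (h3 : Three B Φ)
    (hne : ∀ r ∈ Φ, ∃ s ∈ Φ, B s r = 1) (ht : V →+ ℤ) {X : V → Subgroup L} (hX : IsRG Φ x X)
    (inj : ∀ r ∈ Φ, 0 < ht r → ∀ a, x r a = 1 → a = 0) (dir : Dir ht Φ X) (hodd : ¬ 2 ∣ (pos ht Φ X).index)
    {π : Y →* L} {c : Y} (hD : Dbl π c) (h : CE π)
    (horth : ∀ r ∈ Φ, ∀ s ∈ Φ, B r s = 0 → ∀ a b, h.lc (x r a) (x s b) = 1) : False := by
  have hc : ∀ r ∈ Φ, ∀ s ∈ Φ, 0 ≤ B r s → ∀ a b, h.lc (x r a) (x s b) = 1 := by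
    intro r hr s hs hrs a b
    rcases hrs.eq_or_lt with h1 | h1
    · exact horth r hr s hs h1.symm a b
    · exact S.lc_pos h h3 hne hr hs h1 a b
  obtain ⟨T, ST, hT⟩ := S.exists_lift h h2 h3 hc hne
  exact false_of_lift hD ST hT ht hX inj dir hodd

/-- Lifts of the root elements of `r` and `s` commute by one of: a decomposition, a torus element. -/
def Good (B : V → V → ℤ) (Φ : Set V) (x : V → F → L) (r s : V) : Prop :=
  (∃ d ∈ Φ, B d s = 1 ∧ B d r = 0) ∨ (∃ d ∈ Φ, B d r = 1 ∧ B d s = 0) ∨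
    ∃ t : L, ∃ μ : F, μ ≠ 1 ∧ (∀ a, t * x r a * t⁻¹ = x r (μ * a)) ∧ ∀ b, t * x s b * t⁻¹ = x s b

theorem Good.lc {r s : V} (hg : Good B Φ x r s) (S : Sys B Φ x) (hr : r ∈ Φ) (hs : s ∈ Φ) (h0 : B r s = 0)
    {π : Y →* L} (h : CE π) (a b : F) : h.lc (x r a) (x s b) = 1 := by
  rcases hg with ⟨d, hd, h1, h2⟩ | ⟨d, hd, h1, h2⟩ | ⟨t, μ, hμ, h1, h2⟩
  · exact S.lc_orth h hr hs h0 hd h1 h2 a b
  · rw [h.lc_swap, S.lc_orth h hs hr (by rw [S.roots.symm]; exact h0) hd h1 h2, inv_one]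
  · have hcomm := fun a b => S.one r hr s hs h0.ge a b
    -- `κ (μ a) = κ a`
    have key : ∀ a, h.lc (x r (μ * a)) (x s b) = h.lc (x r a) (x s b) := by
      intro a
      rw [← h1]
      exact h.lc_torus (hcomm a b) (h2 b)
    have hμ' : μ - 1 ≠ 0 := sub_ne_zero.2 hμ
    have e : μ * (a * (μ - 1)⁻¹) = a * (μ - 1)⁻¹ + a := by field_simp; ring
    have := key (a * (μ - 1)⁻¹)
    rw [e, S.add r hr, h.lc_mul_left (hcomm _ _)] at this
    exact left_eq_mul.1 this.symm

/-- The abstract theorem, all orthogonal pairs good. -/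
theorem noDouble_of_good (S : Sys B Φ x) (h2 : (2 : F) = 0) (h3 : Three B Φ)
    (hne : ∀ r ∈ Φ, ∃ s ∈ Φ, B s r = 1) (ht : V →+ ℤ) {X : V → Subgroup L} (hX : IsRG Φ x X)
    (inj : ∀ r ∈ Φ, 0 < ht r → ∀ a, x r a = 1 → a = 0) (dir : Dir ht Φ X) (hodd : ¬ 2 ∣ (pos ht Φ X).index)
    (hgood : ∀ r ∈ Φ, ∀ s ∈ Φ, B r s = 0 → Good B Φ x r s) : NoDouble L := by
  intro Y _ _ π c hD
  have h : CE π := CE.of_ker hD.surj hD.cen fun y hy => (hD.ker y).1 hy
  exact false_of_orth S h2 h3 hne ht hX inj dir hodd hD h fun r hr s hs h0 a b =>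
    (hgood r hr s hs h0).lc S hr hs h0 h a b

end Cfsg.Agent.KFacts.Mult.LacedEnd
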