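import Cfsg.Agent.KFacts.Mult.LacedEnd
import Cfsg.Agent.KFacts.ChevTwo
import Cfsg.Agent.OddHalf.SL.OfRGD
import Cfsg.Agent.Nodes.NormalForm
import Cfsg.Agent.Nodes.RGDLib

/-!
# No perfect double covers: simply laced root group data in characteristic 2 (helper827)

`sys` : helper640's `ChevTwo.Data` gives `Laced.Sys`; `odd_index`; `noDouble_of_rgd`.
-/

set_option autoImplicit false
set_option linter.unusedSectionVars false

namespace Cfsg.Agent.KFacts.Mult.LacedRGD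

open CoxeterSystem Cfsg.Agent.ChevalleyStructure.CoxeterGeom Cfsg.Agent.Tits.Roots Cfsg.Agent.Tits.Core
  Cfsg.Agent.Tits.RootComb Cfsg.Agent.Nodes.Comb Cfsg.Agent.Nodes.Reps Cfsg.Agent.Nodes.BNOf
  Cfsg.Agent.OddHalf.SL.Index Cfsg.Agent.OddHalf.SL Cfsg.Agent.KFacts Cfsg.Agent.KFacts.Mult.Laced
  Cfsg.Agent.KFacts.Mult.LacedEnd Cfsg.Agent.KFacts.MulDef Cfsg.Agent.Nodes.Bruhat
open scoped commutatorElement

variable {I W Y K : Type*} [Fintype I] [DecidableEq I] [Group W] [Group Y] [Field K] {M : CoxeterMatrix I}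
  {cs : CoxeterSystem M W} {A : I → I → ℤ} {h : IsCartan M A} {e : (I → ℤ) → K → Y}

theorem charP_two {K : Type*} [Field K] (h2 : (2 : K) = 0) : CharP K 2 := by
  rcases CharP.exists K with ⟨p, hcp⟩
  have h5 : ((2 : ℕ) : K) = 0 := by exact_mod_cast h2
  have h6 := (CharP.cast_eq_zero_iff K p 2).1 h5
  have hpp : p.Prime := (CharP.char_is_prime_or_zero K p).resolve_right (by rintro rfl; simp at h6)
  have : p = 2 := (Nat.prime_dvd_prime_iff_eq hpp Nat.prime_two).1 h6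
  rwa [this] at hcp

section Data

variable [Finite W] (h4 : ∀ i j, M i j ≠ 4) (h6 : ∀ i j, M i j ≠ 6)

include h4 h6

/-- The simply laced Steinberg relations. -/
theorem sys (D : ChevTwo.Data cs h e) : Sys (Bf A) {x | IsRoot cs h x} e where
  roots := roots cs h h4 h6
  add := D.add
  comm r hr s hs hrs a b := by
    have hR := roots cs h h4 h6
    exact D.comm1 r s hr hs (by rw [← bf_eq_cpr h4 h6 r hs]; exact hrs)
      (by rw [← bf_eq_cpr h4 h6 s hr, hR.symm]; exact hrs) a b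
  one r hr s hs hrs a b := by
    have hR := roots cs h h4 h6
    by_cases h1 : r = s
    · subst h1
      show e r a * e r b = e r b * e r a
      rw [← D.add r hr, ← D.add r hr, add_comm]
    · have h2 : r ≠ -s := by
        rintro rfl
        rw [hR.neg_left, hR.two s hs] at hrs
        omega
      exact commutatorElement_eq_one_iff_commute.1
        (D.comm0 r s hr hs h1 h2 (by rw [← bf_eq_cpr h4 h6 r hs]; exact hrs) a b)

end Data

/-- Every root has a neighbour at 60 degrees. -/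
theorem exists_one [Finite W] (h4 : ∀ i j, M i j ≠ 4) (h6 : ∀ i j, M i j ≠ 6)
    (hirr : ∀ J : Set I, J.Nonempty → Jᶜ.Nonempty → ∃ i ∈ J, ∃ j ∈ Jᶜ, M i j ≠ 2) (h3 : 3 ≤ Fintype.card I)
    {r : I → ℤ} (hr : r ∈ {x | IsRoot cs h x}) : ∃ s ∈ {x | IsRoot cs h x}, Bf A s r = 1 := by
  have hR := roots cs h h4 h6
  obtain ⟨c, hc, h1, h2⟩ := exists_outside h4 h6 hirr h3 r hr
  have h1 : Bf A c r ≠ 0 := by tauto
  have b1 := hR.le c hc r hr
  have b2 := hR.ge hc hr
  have n1 : Bf A c r ≠ 2 := fun e => h2 (by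
    rw [hR.eq c hc r hr e]; exact Submodule.subset_span (Set.mem_insert _ _))
  have n2 : Bf A c r ≠ -2 := fun e => h2 (by
    rw [hR.eq_neg hc hr e]; exact neg_mem (Submodule.subset_span (Set.mem_insert _ _)))
  rcases (show Bf A c r = 1 ∨ Bf A c r = -1 by omega) with e | e
  · exact ⟨c, hc, e⟩
  · exact ⟨-c, hR.neg_mem c hc, by rw [hR.neg_left, e]; norm_num⟩

/-- Restriction to a subgroup. -/
theorem sys_restrict {V K : Type*} [AddCommGroup V] [Field K] {B : V → V → ℤ} {Φ : Set V} {e : V → K → Y}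
    {H : Subgroup Y} {e' : V → K → ↥H} (he : ∀ x t, (e' x t : Y) = e x t) (S : Sys B Φ e) : Sys B Φ e' where
  roots := S.roots
  add r hr a b := Subtype.ext (by rw [Subgroup.coe_mul, he, he, he]; exact S.add r hr a b)
  comm r hr s hs hrs a b := Subtype.ext (by
    have := S.comm r hr s hs hrs a b
    rw [commutatorElement_def] at this ⊢
    rw [Subgroup.coe_mul, Subgroup.coe_mul, Subgroup.coe_mul, Subgroup.coe_inv, Subgroup.coe_inv, he, he, he]
    exact this)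
  one r hr s hs hrs a b := Subtype.ext (by
    rw [Subgroup.coe_mul, Subgroup.coe_mul, he, he]
    exact (S.one r hr s hs hrs a b).eq)

variable {T : Subgroup Y} {n : I → Y} {X : (I → ℤ) → Subgroup Y}

/-- The positive root groups generate a Sylow 2-subgroup. -/
theorem odd_index [Finite W] [Finite Y] (R : RGD cs h 2 T n X) (hG : Cfsg.Agent.Nodes.RGDLib.G1 cs h X = ⊤) :
    ¬ 2 ∣ (RGD.Sup X (RGD.Pos cs h)).index := by
  have : Fact (Nat.Prime 2) := ⟨Nat.prime_two⟩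
  have hGG : GG cs h T X = ⊤ := by
    rw [eq_top_iff, ← hG]
    exact iSup_le fun x => X_le_GG x.2
  have hU : IsPGroup 2 ↥(RGD.Sup X (RGD.Pos cs h)) := R.isPGroup_Upos
  obtain ⟨P, hP⟩ := hU.exists_le_sylow
  have := Cfsg.Agent.Nodes.NormalForm.eq_U_of_isPGroup R P.2 hP (by rw [hGG]; exact le_top)
  rw [← this]
  exact P.not_dvd_index

/-- **Simply laced root group data with coordinates, connected of rank at least 3: no perfect double cover** if the
orthogonal pairs are good. -/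
theorem noDouble_of_rgd [Finite W] [Finite Y] (R : RGD cs h 2 T n X) (S : Sys (Bf A) {x | IsRoot cs h x} e)
    (h2 : (2 : K) = 0) (inj : ∀ x, IsRoot cs h x → ∀ t, e x t = 1 → t = 0)
    (hX : ∀ x, IsRoot cs h x → ∀ g, g ∈ X x ↔ ∃ t, g = e x t)
    (h4 : ∀ i j, M i j ≠ 4) (h6 : ∀ i j, M i j ≠ 6)
    (hirr : ∀ J : Set I, J.Nonempty → Jᶜ.Nonempty → ∃ i ∈ J, ∃ j ∈ Jᶜ, M i j ≠ 2) (h3 : 3 ≤ Fintype.card I)
    (hG : Cfsg.Agent.Nodes.RGDLib.G1 cs h X = ⊤)
    (hgood : ∀ r ∈ {x | IsRoot cs h x}, ∀ s ∈ {x | IsRoot cs h x}, Bf A r s = 0 →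
      Good (Bf A) {x | IsRoot cs h x} e r s) : NoDouble Y := by
  refine noDouble_of_good S h2 (three h4 h6 hirr h3) ?_ hth (X := X) ?_ ?_ ?_ ?_ hgood
  · exact fun r hr => exists_one h4 h6 hirr h3 hr
  · exact fun r hr g => hX r hr g
  · exact fun r hr _ a ha => inj r hr a ha
  · exact OfRGD.dir h4 h6 R
  · rw [OfRGD.pos_eq]
    exact odd_index R hG

/-! ### Transport of the condition on orthogonal pairs -/

/-- the orthogonal pairs `(r, s)` can be decomposed -/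
def Q (cs : CoxeterSystem M W) (h : IsCartan M A) (r : I → ℤ) : Prop :=
  ∀ s, IsRoot cs h s → Bf A r s = 0 → ∃ d, IsRoot cs h d ∧ Bf A d s = 1 ∧ Bf A d r = 0

/-- The reflection in `r - s` maps `r` to `s`, if `(r, s) = 1`. -/
theorem exists_refl [Finite W] (h4 : ∀ i j, M i j ≠ 4) (h6 : ∀ i j, M i j ≠ 6) {r s : I → ℤ} (hr : IsRoot cs h r)
    (hs : IsRoot cs h s) (hrs : Bf A r s = 1) : ∃ w : W, rep cs h w r = s := by
  have hR := roots cs h h4 h6
  obtain ⟨w, i, e⟩ : IsRoot cs h (r - s) := hR.sub_mem hr hs hrs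
  refine ⟨w * cs.simple i * w⁻¹, ?_⟩
  have h1 : pairing A i (rep cs h w⁻¹ r) = 1 := by
    rw [← bf_sr, ← bf_rep (cs := cs) (h := h) h4 h6 w, rep_apply_inv, ← e, hR.sub_right, hR.two r hr, hrs]
    norm_num
  rw [rep_mul_apply, rep_mul_apply, rep_simple_eq, h1, one_smul, map_sub, rep_apply_inv, ← e]
  abel

theorem Q.step [Finite W] (h4 : ∀ i j, M i j ≠ 4) (h6 : ∀ i j, M i j ≠ 6) {r s : I → ℤ} (hr : IsRoot cs h r)
    (hs : IsRoot cs h s) (hrs : Bf A r s = 1) (hQ : Q cs h r) : Q cs h s := by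
  obtain ⟨w, rfl⟩ := exists_refl h4 h6 hr hs hrs
  intro t ht h0
  have h1 : Bf A r (rep cs h w⁻¹ t) = 0 := by
    rw [← bf_rep (cs := cs) (h := h) h4 h6 w, rep_apply_inv]; exact h0
  obtain ⟨d, hd, h2, h3⟩ := hQ _ (ht.act _) h1
  refine ⟨rep cs h w d, hd.act w, ?_, ?_⟩
  · rw [← bf_rep (cs := cs) (h := h) h4 h6 w, rep_apply_inv] at h2; exact h2
  · rw [bf_rep h4 h6]; exact h3

/-- **No perfect double cover** if the orthogonal pairs `(r₀, s)` can be decomposed for one root `r₀`. -/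
theorem noDouble_of_root [Finite W] [Finite Y] (R : RGD cs h 2 T n X) (S : Sys (Bf A) {x | IsRoot cs h x} e)
    (h2 : (2 : K) = 0) (inj : ∀ x, IsRoot cs h x → ∀ t, e x t = 1 → t = 0)
    (hX : ∀ x, IsRoot cs h x → ∀ g, g ∈ X x ↔ ∃ t, g = e x t)
    (h4 : ∀ i j, M i j ≠ 4) (h6 : ∀ i j, M i j ≠ 6)
    (hirr : ∀ J : Set I, J.Nonempty → Jᶜ.Nonempty → ∃ i ∈ J, ∃ j ∈ Jᶜ, M i j ≠ 2) (h3 : 3 ≤ Fintype.card I)
    (hG : Cfsg.Agent.Nodes.RGDLib.G1 cs h X = ⊤) {r₀ : I → ℤ} (hr₀ : IsRoot cs h r₀) (hQ : Q cs h r₀) :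
    NoDouble Y := by
  refine noDouble_of_rgd R S h2 inj hX h4 h6 hirr h3 hG ?_
  intro r hr s hs h0
  have hQr : Q cs h r := ind h4 h6 hirr (by omega) hr₀ hQ (fun r s hr hs hrs hq => hq.step h4 h6 hr hs hrs) hr
  exact Or.inl (hQr s hs h0)

end Cfsg.Agent.KFacts.Mult.LacedRGD
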