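import Mathlib
import Cfsg.Agent.Nodes.WittModel

/-!
# The root group datum of a Witt frame in any characteristic

`not_isPGroup` : the axiom `notp` of a root group datum follows from the others and `X_{-i} ≠ X_i`.
`rgd` : `WittRGD.rgd` without the hypothesis that `p` is odd; `rgdM` : the same for models (`PSp`, ...).
-/

set_option autoImplicit false
set_option linter.unusedSectionVars false

namespace Cfsg.Agent.KFacts.Mult.NotP

open Cfsg.Agent.ChevalleyStructure.CoxeterGeom Cfsg.Agent.Tits.Roots Cfsg.Agent.Nodes.TypeC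
open Cfsg.Agent.Nodes.Comb Cfsg.Agent.Nodes.Reps Cfsg.Agent.Nodes.WittRoot Cfsg.Agent.Nodes.BNOf
open Cfsg.Agent.Nodes.WittRGD Cfsg.Agent.Nodes.RGDLib Cfsg.Agent.Nodes.WittModel
open Cfsg.Agent.TitsThree Cfsg.Agent.TitsThree.Siegel Cfsg.Agent.TitsThree.WittFrame
  Cfsg.Agent.TitsThree.WittWeyl Cfsg.Agent.TitsThree.FrameCN
open scoped commutatorElement

theorem not_isPGroup {Y : Type*} [Group Y] [Finite Y] {p : ℕ} [Fact p.Prime] {Xp Xm T : Subgroup Y} {n : Y}
    (hT : (Nat.card T).Coprime p)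
    (hr : ∀ u ∈ Xm, u ≠ 1 → ∃ a ∈ Xp, ∃ t ∈ T, ∃ b ∈ Xp, u = a * t * n * b)
    (hcj : ∀ a ∈ Xp, n * a * n⁻¹ ∈ Xm) (hnn : n * n ∈ T) (hn : n ∈ Xp ⊔ Xm)
    (hne : ∃ a ∈ Xp, n * a * n⁻¹ ∉ Xp) : ¬ IsPGroup p ↥(Xp ⊔ Xm) := by
  intro hP
  set P : Subgroup Y := Xp ⊔ Xm with hPdef
  have hpP : Xp ≤ P := le_sup_left
  have hmP : Xm ≤ P := le_sup_right
  have hT1 : ∀ t ∈ T, t ∈ P → t = 1 := by
    intro t ht htP
    obtain ⟨k, hk⟩ := hP ⟨t, htP⟩
    have hk' : t ^ p ^ k = 1 := congrArg Subtype.val hk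
    have h1 : orderOf t ∣ p ^ k := orderOf_dvd_of_pow_eq_one hk'
    have h2 : orderOf t ∣ Nat.card T := by
      have := orderOf_dvd_natCard (⟨t, ht⟩ : T)
      rwa [Subgroup.orderOf_mk] at this
    have h3 : (Nat.card T).Coprime (p ^ k) := Nat.Coprime.pow_right k hT
    have h4 := Nat.eq_one_of_dvd_coprimes h3 h2 h1
    exact orderOf_eq_one_iff.1 h4
  have hnn1 : n * n = 1 := hT1 _ hnn (mul_mem hn hn)
  have hr1 : ∀ u ∈ Xm, u = 1 ∨ ∃ a ∈ Xp, ∃ b ∈ Xp, u = a * n * b := by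
    intro u hu
    by_cases h1 : u = 1
    · exact Or.inl h1
    · right
      obtain ⟨a, ha, t, ht, b, hb, e⟩ := hr u hu h1
      have h2 : t = 1 := by
        apply hT1 t ht
        have h3 : t = a⁻¹ * u * b⁻¹ * n⁻¹ := by rw [e]; group
        rw [h3]
        exact mul_mem (mul_mem (mul_mem (inv_mem (hpP ha)) (hmP hu)) (inv_mem (hpP hb))) (inv_mem hn)
      rw [h2, mul_one] at e
      exact ⟨a, ha, b, hb, e⟩
  -- the double coset decomposition
  have hdec : ∀ g ∈ P, g ∈ Xp ∨ ∃ a ∈ Xp, ∃ b ∈ Xp, g = a * n * b := by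
    have hstep : ∀ x, x ∈ Xp ∨ x ∈ Xm → ∀ y, (y ∈ Xp ∨ ∃ a ∈ Xp, ∃ b ∈ Xp, y = a * n * b) →
        (x * y ∈ Xp ∨ ∃ a ∈ Xp, ∃ b ∈ Xp, x * y = a * n * b) := by
      rintro x (hx | hx) y hy
      · rcases hy with hy | ⟨a, ha, b, hb, rfl⟩
        · exact Or.inl (mul_mem hx hy)
        · exact Or.inr ⟨x * a, mul_mem hx ha, b, hb, by group⟩
      · rcases hr1 x hx with rfl | ⟨a, ha, b, hb, rfl⟩
        · rwa [one_mul]
        · rcases hy with hy | ⟨a', ha', b', hb', rfl⟩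
          · exact Or.inr ⟨a, ha, b * y, mul_mem hb hy, by group⟩
          · have h1 : a * n * b * (a' * n * b') = a * (n * (b * a') * n⁻¹) * (n * n) * b' := by group
            rw [h1, hnn1, mul_one]
            rcases hr1 _ (hcj _ (mul_mem hb ha')) with h2 | ⟨a'', ha'', b'', hb'', h2⟩
            · left; rw [h2, mul_one]; exact mul_mem ha hb'
            · right
              rw [h2]
              exact ⟨a * a'', mul_mem ha ha'', b'' * b', mul_mem hb'' hb', by group⟩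
    intro g hg
    rw [hPdef, Subgroup.sup_eq_closure] at hg
    induction hg using Subgroup.closure_induction_left with
    | one => exact Or.inl (one_mem _)
    | mul_left x hx y _ hy => exact hstep x hx y hy
    | inv_mul_cancel x hx y _ hy =>
      refine hstep x⁻¹ ?_ y hy
      rcases hx with hx | hx
      · exact Or.inl (inv_mem hx)
      · exact Or.inr (inv_mem hx)
  obtain ⟨a₀, ha₀, hna₀⟩ := hne
  have hnX : n ∉ Xp := fun h => hna₀ (mul_mem (mul_mem h ha₀) (inv_mem h))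
  have hnil : Group.IsNilpotent P := hP.isNilpotent
  have h1 : Xp.subgroupOf P < ⊤ := by
    rw [lt_top_iff_ne_top]
    intro h2
    rw [Subgroup.subgroupOf_eq_top] at h2
    exact hnX (h2 hn)
  have h2 := (Group.normalizerCondition_of_isNilpotent (h := hnil)) _ h1
  obtain ⟨y, hy, hyU⟩ := SetLike.exists_of_lt h2
  have hy' : ∀ a ∈ Xp, (y : Y) * a * (y : Y)⁻¹ ∈ Xp := by
    intro a ha
    have h4 := (Subgroup.mem_normalizer_iff.1 hy ⟨a, hpP ha⟩).1 (Subgroup.mem_subgroupOf.2 ha)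
    exact Subgroup.mem_subgroupOf.1 h4
  rcases hdec y y.2 with h3 | ⟨a, ha, b, hb, h3⟩
  · exact hyU (Subgroup.mem_subgroupOf.2 h3)
  · apply hna₀
    have h4 := hy' (b⁻¹ * a₀ * b) (mul_mem (mul_mem (inv_mem hb) ha₀) hb)
    have h5 : n * a₀ * n⁻¹ = a⁻¹ * (y * (b⁻¹ * a₀ * b) * (y : Y)⁻¹) * a := by rw [h3]; group
    rw [h5]
    exact mul_mem (mul_mem (inv_mem ha) h4) ha

variable {F : Type*} [Field F] {V : Type*} [AddCommGroup V] [Module F V] {H : HForm F V} {n : ℕ}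
  {Fr : Frame H (Fin n)} {G0 : Subgroup (V ≃ₗ[F] V)} (hA : Amb Fr G0)

/-- the first vector of the pair is fixed by the simple root group -/
theorem rg_sr_apply (i : Fin n) {u : V ≃ₗ[F] V} (hu : u ∈ rg Fr (sr i)) : u (Fr.b (i, true)) = Fr.b (i, true) := by
  rw [rg_sr] at hu
  by_cases hi : (i : ℕ) + 1 < n
  · have hnx : nx i = (⟨i + 1, hi⟩, false) := by unfold nx; rw [dif_pos hi]
    have hne' : ((i, true) : Fin n × Bool).1 ≠ (nx i).1 := by rw [hnx]; simp [Fin.ext_iff]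
    rw [PG_ne Fr hne'] at hu
    obtain ⟨t, rfl⟩ := hu
    refine X_apply_of_ne Fr hne' (z := (i, true)) ?_ ?_ t
    · intro e; have := congrArg Prod.snd e; simp at this
    · rw [hnx]; intro e; have := congrArg Prod.fst e; simp [Fin.ext_iff] at this
  · have hnx : nx i = (i, true) := by unfold nx; rw [dif_neg hi]
    rw [hnx, PG_self] at hu
    obtain ⟨q, rfl⟩ := hu
    refine Z_apply_of_ne Fr (x := (i, true)) (z := (i, true)) ?_ q
    intro e; have := congrArg Prod.snd e; simp at this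

include hA

theorem conj_rg {p0 : Fr.Adm} (hp0 : p0.c ≠ 0) {W : Type*} [Group W] (cs : CoxeterSystem (CoxeterMatrix.B n) W)
    (i : Fin n) (x : Fin n → ℤ) (hx : IsRoot cs (isCartan n) x) :
    cj (nn Fr p0 i) (rg Fr x) = rg Fr (rep cs (isCartan n) (cs.simple i) x) := by
  obtain ⟨a, b, hab, e⟩ := exists_of_isRoot cs hx
  rw [rg_eq Fr hab e, rep_simple, rg_eq Fr (hab.sg i) (ee_refl_of e)]
  exact hA.cj_sg (nn_mem hA p0 i) (mono_nn hp0 i) hab

theorem notp [Finite V] {p : ℕ} [Fact p.Prime] [CharP F p] {p0 : Fr.Adm} (hp0 : p0.c ≠ 0) {W : Type*} [Group W]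
    (cs : CoxeterSystem (CoxeterMatrix.B n) W) (i : Fin n) :
    ¬ IsPGroup p ↥(rg Fr (sr i) ⊔ rg Fr (-sr i)) := by
  have : Finite (V ≃ₗ[F] V) := Finite.of_injective (fun g : V ≃ₗ[F] V => (g : V → V)) DFunLike.coe_injective
  have h1 : cj (nn Fr p0 i) (rg Fr (sr i)) = rg Fr (-sr i) := by
    rw [conj_rg hA hp0 cs i _ (isRoot_sr cs _ i), rep_simple_sr]
  refine not_isPGroup (T := Tor Fr G0) (n := nn Fr p0 i) (tcop hA) (fun u hu hne => Cfsg.Agent.Nodes.WittRGD.rk1 hA hp0 i hu hne) ?_ ?_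
    (nn_mem_sup p0 i) ?_
  · intro a ha
    rw [← h1]; exact conj_mem_cj.2 ha
  · have := (nsys hA hp0).rel i i
    rwa [(CoxeterMatrix.B n).diagonal, pow_one] at this
  · by_contra hcon
    push Not at hcon
    have h2 : rg Fr (-sr i) ≤ rg Fr (sr i) := by
      rw [← h1]
      rintro _ ⟨a, ha, rfl⟩
      exact hcon a ha
    have h3 : nn Fr p0 i ∈ rg Fr (sr i) := (sup_le le_rfl h2) (nn_mem_sup p0 i)
    have h4 := rg_sr_apply i h3
    obtain ⟨l, hl, e⟩ := mono_nn (Fr := Fr) hp0 i (i, true)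
    have h5 : ((i, true) : Fin n × Bool) ≠ sg i (i, true) := by
      by_cases hi : (i : ℕ) + 1 < n
      · rw [sg_up hi]; simp [Fin.ext_iff]
      · rw [sg_last hi]; simp
    exact not_prop h5 hl (h4.symm.trans e)

/-- **The root group datum of a Witt frame**, any characteristic. -/
theorem rgd [Finite V] {p : ℕ} [Fact p.Prime] [CharP F p] {p0 : Fr.Adm} (hp0 : p0.c ≠ 0)
    {W : Type*} [Group W] (cs : CoxeterSystem (CoxeterMatrix.B n) W) :
    RGD cs (isCartan n) p (Tor Fr G0) (nn Fr p0) (rg Fr) where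
  nsys := nsys hA hp0
  conj := conj_rg hA hp0 cs
  tor x hx t ht := by
    obtain ⟨a, b, hab, e⟩ := exists_of_isRoot cs hx
    rw [rg_eq Fr hab e]
    exact hA.cj_id ht.1 ht.2 hab
  comm x y hx hy hxy hxy' a ha b hb := comm_rg cs hx hy hxy hxy' ha hb
  rk1 i u hu hne := Cfsg.Agent.Nodes.WittRGD.rk1 hA hp0 i hu hne
  pgrp i := by rw [rg_sr]; exact isPGroup_PG _ _
  notp i := notp hA hp0 cs i
  tcop := tcop hA

omit hA

/-- **The root group datum of a model**, any characteristic. -/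
theorem rgdM {K : Type*} [Group K] (M : Model Fr K) (hA : Amb Fr M.I) [Finite V] {p : ℕ} [Fact p.Prime] [CharP F p]
    {p0 : Fr.Adm} (hp0 : p0.c ≠ 0) {W : Type*} [Group W] (cs : CoxeterSystem (CoxeterMatrix.B n) W) :
    RGD cs (isCartan n) p (Cfsg.Agent.Nodes.WittModel.T M) (nw M hA p0) (Cfsg.Agent.Nodes.WittModel.X M) := by
  have : Finite (V ≃ₗ[F] V) := Finite.of_injective (fun g : V ≃ₗ[F] V => (g : V → V)) DFunLike.coe_injective
  have : Finite W := finite_W cs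
  exact rgd_map_of_ker_le_center (rgd_restrict (rgd hA hp0 cs) M.I (fun x _ => hA.rg_le x)
    (fun i => nn_mem hA p0 i)) M.φ (ker_le_center M hA)

end Cfsg.Agent.KFacts.Mult.NotP
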