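import Cfsg.Agent.KFacts.Mult.WeightsTwo
import Cfsg.Agent.Nodes.NormalForm
import Cfsg.Agent.Nodes.RGDLib

/-!
# No double covers: groups with a root group datum in characteristic 2

* `noDouble_of_rgd`: from torus weights and splittings of the preimages of the root groups;
* `AbPre V`: the preimage of `V` in every double cover is commutative; invariance under conjugation;
  `AbPre.of_le_commutator`.
-/

set_option autoImplicit false
set_option linter.unusedSectionVars false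

namespace Cfsg.Agent.KFacts.Mult.RGDW

open Subgroup Cfsg.Agent.KFacts.MulDef Cfsg.Agent.KFacts.MulTwo Cfsg.Agent.KFacts.Mult.WeightsTwo
open CoxeterSystem Cfsg.Agent.ChevalleyStructure.CoxeterGeom Cfsg.Agent.Tits.Roots Cfsg.Agent.Tits.Core
  Cfsg.Agent.Tits.Exchange Cfsg.Agent.Nodes.Reps Cfsg.Agent.Nodes.BNOf Cfsg.Agent.Nodes.StabComb
  Cfsg.Agent.Nodes.Bruhat Cfsg.Agent.Nodes.OppDec Cfsg.Agent.Nodes.LeviDec Cfsg.Agent.Nodes.NormalForm
open scoped commutatorElement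

universe u v w

/-- The preimage of `V` in every double cover is commutative. -/
def AbPre {X : Type w} [Group X] (V : Subgroup X) : Prop :=
  ∀ (L : Type) [Group L] [Finite L] (π : L →* X) (c : L), Dbl π c → ∀ x y : L, π x ∈ V → π y ∈ V → x * y = y * x

theorem AbPre.of_le_commutator {X : Type w} [Group X] {V : Subgroup X}
    (h : V ≤ ⁅centralizer (V : Set X), centralizer (V : Set X)⁆) : AbPre V := by
  intro L _ _ π c hd x y hx hy
  exact comm_of_le_commutator hd h hx hy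

theorem AbPre.mono {X : Type w} [Group X] {V W : Subgroup X} (h : AbPre W) (hVW : V ≤ W) : AbPre V :=
  fun L _ _ π c hd x y hx hy => h L π c hd x y (hVW hx) (hVW hy)

theorem AbPre.conj {X : Type w} [Group X] {V W : Subgroup X} (h : AbPre V) (g : X)
    (hW : ∀ x ∈ W, g⁻¹ * x * g ∈ V) : AbPre W := by
  intro L _ _ π c hd x y hx hy
  obtain ⟨g', rfl⟩ := hd.surj g
  have h1 := h L π c hd (g'⁻¹ * x * g') (g'⁻¹ * y * g') (by simpa using hW _ hx) (by simpa using hW _ hy)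
  have h2 : g' * (g'⁻¹ * x * g' * (g'⁻¹ * y * g')) * g'⁻¹ = g' * (g'⁻¹ * y * g' * (g'⁻¹ * x * g')) * g'⁻¹ := by
    rw [h1]
  have e1 : g' * (g'⁻¹ * x * g' * (g'⁻¹ * y * g')) * g'⁻¹ = x * y := by group
  have e2 : g' * (g'⁻¹ * y * g' * (g'⁻¹ * x * g')) * g'⁻¹ = y * x := by group
  rw [e1, e2] at h2
  exact h2

variable {I W Y : Type*} [Fintype I] [DecidableEq I] [Group W] [Group Y] {M : CoxeterMatrix I}
  {cs : CoxeterSystem M W} {A : I → I → ℤ} {h : IsCartan M A} {T : Subgroup Y} {n : I → Y}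
  {X : (I → ℤ) → Subgroup Y}

/-- `AbPre` for the simple roots gives it for all roots. -/
theorem abPre_all {r : ℕ} (R : RGD cs h r T n X) (ha : ∀ i, AbPre (X (sr i))) {x : I → ℤ}
    (hx : IsRoot cs h x) : AbPre (X x) := by
  obtain ⟨w, i, rfl⟩ := hx
  obtain ⟨g, hg⟩ := exists_rp cs R.nsys w
  refine (ha i).conj g fun y hy => ?_
  have := R.conj_mem' hg ⟨w, i, rfl⟩ hy
  rwa [rep_inv_apply] at this

theorem GG_eq_top_of_G1 (hG : Cfsg.Agent.Nodes.RGDLib.G1 cs h X = ⊤) : GG cs h T X = ⊤ := by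
  rw [eq_top_iff, ← hG]
  exact le_sup_right

/-- **No double covers from a root group datum of characteristic 2.** -/
theorem noDouble_of_rgd [Finite W] [Finite Y] (R : RGD cs h 2 T n X) (hG : GG cs h T X = ⊤) {p : ℕ}
    [Fact p.Prime] (hp : Odd p) {T' : Subgroup Y} (hT' : T' ≤ T) (hTp : IsPGroup p T')
    (h1 : ∀ x ∈ RGD.Pos cs h, ∀ y ∈ RGD.Pos cs h, x ≠ y →
      ∃ t ∈ T', (∀ v ∈ X x, t * v = v * t) ∧ ∀ v ∈ X y, t * v = v * t → v = 1)
    (h2 : ∀ x ∈ RGD.Pos cs h, ∃ t ∈ T', ∀ v ∈ X x, t * v = v * t → v = 1)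
    (hs : ∀ x ∈ RGD.Pos cs h, Spl T' (X x)) : NoDouble Y := by
  have : Fact (Nat.Prime 2) := ⟨Nat.prime_two⟩
  have hW : WHyp p (RGD.Sup X (RGD.Pos cs h)) T' (fun x : RGD.Pos cs h => X x.1) :=
    { pg := R.isPGroup_Upos
      idx := by
        obtain ⟨P, hP⟩ := R.isPGroup_Upos.exists_le_sylow
        have h3 := eq_U_of_isPGroup R P.isPGroup' hP (by rw [hG]; exact le_top)
        rw [← h3]
        exact P.not_dvd_index
      tp := hTp
      odd := hp
      UT := fun t ht x hx => (mem_normalizer_iff.1 (R.T_le_normalizer_U (hT' ht)) x).1 hx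
      VU := fun x => RGD.le_Sup x.2
      VT := fun x t ht v hv => by
        rw [← R.tor x.1 x.2.1 t (hT' ht)]
        exact conj_mem_cj.2 hv
      gen := le_rfl
      fix := by
        intro x u hu hc
        have h3 : u ∈ RGD.Sup X (RGD.Pos cs h) ⊓
            centralizer ({t | t ∈ T' ∧ ∀ v ∈ X x.1, t * v = v * t} : Set Y) :=
          ⟨hu, mem_centralizer_iff.2 fun t ht => hc t ht.1 ht.2⟩
        rw [centralizer_U R (fun t ht => hT' ht.1)] at h3
        refine (RGD.Sup_le fun y hy => ?_ : RGD.Sup (fun y => X y ⊓ centralizer _) (RGD.Pos cs h) ≤ X x.1) h3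
        by_cases hxy : x.1 = y
        · subst hxy; exact inf_le_left
        · obtain ⟨t, ht, ht1, ht2⟩ := h1 x.1 x.2 y hy hxy
          rintro v ⟨hv, hvc⟩
          rw [ht2 v hv (mem_centralizer_iff.1 hvc t ⟨ht, ht1⟩)]
          exact one_mem _
      fixT := by
        intro u hu hc
        have h3 : u ∈ RGD.Sup X (RGD.Pos cs h) ⊓ centralizer (T' : Set Y) :=
          ⟨hu, mem_centralizer_iff.2 fun t ht => hc t ht⟩
        rw [centralizer_U R hT'] at h3
        have h4 : RGD.Sup (fun y => X y ⊓ centralizer (T' : Set Y)) (RGD.Pos cs h) ≤ ⊥ := by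
          refine RGD.Sup_le fun y hy => ?_
          obtain ⟨t, ht, ht2⟩ := h2 y hy
          rintro v ⟨hv, hvc⟩
          rw [ht2 v hv (mem_centralizer_iff.1 hvc t ht)]
          exact one_mem _
        exact mem_bot.1 (h4 h3) }
  exact hW.noDouble fun x => hs x.1 x.2

/-- The version with commutative preimages. -/
theorem noDouble_of_abPre [Finite W] [Finite Y] (R : RGD cs h 2 T n X) (hG : GG cs h T X = ⊤) {p : ℕ}
    [Fact p.Prime] (hp : Odd p) {T' : Subgroup Y} (hT' : T' ≤ T) (hTp : IsPGroup p T')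
    (h1 : ∀ x ∈ RGD.Pos cs h, ∀ y ∈ RGD.Pos cs h, x ≠ y →
      ∃ t ∈ T', (∀ v ∈ X x, t * v = v * t) ∧ ∀ v ∈ X y, t * v = v * t → v = 1)
    (h2 : ∀ x ∈ RGD.Pos cs h, ∃ t ∈ T', ∀ v ∈ X x, t * v = v * t → v = 1)
    (ha : ∀ i, AbPre (X (sr i))) : NoDouble Y := by
  refine noDouble_of_rgd R hG hp hT' hTp h1 h2 fun x hx => ?_
  refine Spl.of_comm hp hTp (R.pgrp' hx.1) ?_ ?_ (abPre_all R ha hx.1)
  · intro t ht v hv
    rw [← R.tor x hx.1 t (hT' ht)]
    exact conj_mem_cj.2 hv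
  · intro v hv hc
    obtain ⟨t, ht, ht2⟩ := h2 x hx
    exact ht2 v hv (hc t ht)

/-! ### Separating torus elements -/

/-- Some element of `T'` centralises `V` and acts fixed point freely on `V'`. -/
def Sep (T' V V' : Subgroup Y) : Prop :=
  ∃ t ∈ T', (∀ v ∈ V, t * v = v * t) ∧ ∀ v ∈ V', t * v = v * t → v = 1

/-- Some element of `T'` acts fixed point freely on `V`. -/
def Free (T' V : Subgroup Y) : Prop := ∃ t ∈ T', ∀ v ∈ V, t * v = v * t → v = 1

theorem comm_conj_iff (g t v : Y) : g * t * g⁻¹ * v = v * (g * t * g⁻¹) ↔ t * (g⁻¹ * v * g) = g⁻¹ * v * g * t := by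
  constructor
  · intro h1
    have e1 : t * (g⁻¹ * v * g) = g⁻¹ * (g * t * g⁻¹ * v) * g := by group
    rw [e1, h1]; group
  · intro h1
    have e1 : g * t * g⁻¹ * v = g * (t * (g⁻¹ * v * g)) * g⁻¹ := by group
    rw [e1, h1]; group

theorem Sep.conj {T' V V' V₁ V₁' : Subgroup Y} (hs : Sep T' V V') {g : Y}
    (hg : ∀ t ∈ T', g * t * g⁻¹ ∈ T') (h1 : ∀ v ∈ V₁, g⁻¹ * v * g ∈ V) (h2 : ∀ v ∈ V₁', g⁻¹ * v * g ∈ V') :
    Sep T' V₁ V₁' := by
  obtain ⟨t, ht, ha, hb⟩ := hs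
  refine ⟨g * t * g⁻¹, hg t ht, fun v hv => (comm_conj_iff g t v).2 (ha _ (h1 v hv)), fun v hv hc => ?_⟩
  have h3 := hb _ (h2 v hv) ((comm_conj_iff g t v).1 hc)
  have e : v = g * (g⁻¹ * v * g) * g⁻¹ := by group
  rw [e, h3]; group

theorem Free.conj {T' V V₁ : Subgroup Y} (hs : Free T' V) {g : Y}
    (hg : ∀ t ∈ T', g * t * g⁻¹ ∈ T') (h1 : ∀ v ∈ V₁, g⁻¹ * v * g ∈ V) : Free T' V₁ := by
  obtain ⟨t, ht, hb⟩ := hs
  refine ⟨g * t * g⁻¹, hg t ht, fun v hv hc => ?_⟩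
  have h3 := hb _ (h1 v hv) ((comm_conj_iff g t v).1 hc)
  have e : v = g * (g⁻¹ * v * g) * g⁻¹ := by group
  rw [e, h3]; group

/-- A lift of `w` normalising `T'`. -/
theorem exists_lift_normalizer {r : ℕ} (R : RGD cs h r T n X) {T' : Subgroup Y}
    (hN : ∀ i, n i ∈ normalizer (T' : Set Y)) (w : W) :
    ∃ g ∈ normalizer (T' : Set Y), Rp cs R.nsys w g := by
  obtain ⟨g, hgc, hg⟩ := exists_rp_closure (cs := cs) (hN := R.nsys) w
  refine ⟨g, (Subgroup.closure_le _).2 ?_ hgc, hg⟩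
  rintro _ ⟨i, rfl⟩
  exact hN i

theorem sep_all {r : ℕ} (R : RGD cs h r T n X) {T' : Subgroup Y} (hN : ∀ i, n i ∈ normalizer (T' : Set Y))
    (h1 : ∀ i y, IsRoot cs h y → y ≠ sr i → y ≠ -sr i → Sep T' (X (sr i)) (X y)) {x y : I → ℤ}
    (hx : IsRoot cs h x) (hy : IsRoot cs h y) (hxy : y ≠ x) (hxy' : y ≠ -x) : Sep T' (X x) (X y) := by
  obtain ⟨w, i, rfl⟩ := hx
  obtain ⟨g, hgN, hg⟩ := exists_lift_normalizer R hN w
  have h2 : rep cs h w (rep cs h w⁻¹ y) = y := by rw [← rep_mul_apply, mul_inv_cancel, map_one]; rfl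
  refine (h1 i (rep cs h w⁻¹ y) (hy.act _) (fun he => hxy ?_) (fun he => hxy' ?_)).conj (g := g)
    (fun t ht => (mem_normalizer_iff.1 hgN t).1 ht) (fun v hv => ?_) fun v hv => R.conj_mem' hg hy hv
  · rw [← h2, he]
  · rw [← h2, he, map_neg]
  · have := R.conj_mem' hg ⟨w, i, rfl⟩ hv
    rwa [rep_inv_apply] at this

theorem free_all {r : ℕ} (R : RGD cs h r T n X) {T' : Subgroup Y} (hN : ∀ i, n i ∈ normalizer (T' : Set Y))
    (h1 : ∀ i, Free T' (X (sr i))) {x : I → ℤ} (hx : IsRoot cs h x) : Free T' (X x) := by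
  obtain ⟨w, i, rfl⟩ := hx
  obtain ⟨g, hgN, hg⟩ := exists_lift_normalizer R hN w
  refine (h1 i).conj (g := g) (fun t ht => (mem_normalizer_iff.1 hgN t).1 ht) (fun v hv => ?_)
  have := R.conj_mem' hg ⟨w, i, rfl⟩ hv
  rwa [rep_inv_apply] at this

theorem ne_neg_of_pos {x y : I → ℤ} (hx : x ∈ RGD.Pos cs h) (hy : y ∈ RGD.Pos cs h) : y ≠ -x := by
  rintro rfl
  exact hx.1.not_pos_neg hx.2 (neg_nonneg.1 hy.2)

/-- **No double covers, conditions on simple roots.** -/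
theorem noDouble_of_simple [Finite W] [Finite Y] (R : RGD cs h 2 T n X) (hG : GG cs h T X = ⊤) {p : ℕ}
    [Fact p.Prime] (hp : Odd p) {T' : Subgroup Y} (hT' : T' ≤ T) (hTp : IsPGroup p T')
    (hN : ∀ i, n i ∈ normalizer (T' : Set Y))
    (h1 : ∀ i y, IsRoot cs h y → y ≠ sr i → y ≠ -sr i → Sep T' (X (sr i)) (X y))
    (h2 : ∀ i, Free T' (X (sr i))) (ha : ∀ i, AbPre (X (sr i))) : NoDouble Y :=
  noDouble_of_abPre R hG hp hT' hTp
    (fun _ hx _ hy hxy => sep_all R hN h1 hx.1 hy.1 hxy.symm (ne_neg_of_pos hx hy))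
    (fun _ hx => free_all R hN h2 hx.1) ha

end Cfsg.Agent.KFacts.Mult.RGDW
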