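import Cfsg.Agent.KFacts.RgdRigid
import Cfsg.Agent.KFacts.OddLift.OEight

/-!
# Automorphisms of `2².Ω₈⁺(2)`

* `exists_norm` : every automorphism of a finite group with a root group datum becomes, after multiplication by an inner
  automorphism, a frame automorphism (`Diag T X β σ`);
* `inner`, `center_inner` : an automorphism of `2².Ω₈⁺(2)` acting trivially on the kernel is inner.
-/

set_option autoImplicit false
set_option linter.unusedSectionVars false
set_option Elab.async false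

namespace Cfsg.Agent.KFacts.Mult.OEightInner

open Subgroup Cfsg Cfsg.Lie Cfsg.Agent.ChevalleyStructure.CoxeterGeom Cfsg.Agent.ChevalleyStructure.RootVec
  Cfsg.Agent.Tits.Roots Cfsg.Agent.Tits.Core Cfsg.Agent.Nodes.BNOf Cfsg.Agent.Nodes.Bruhat
  Cfsg.Agent.Nodes.RGDChev Cfsg.Agent.KFacts.En.Roots Cfsg.Agent.KFacts.En.Rel Cfsg.Agent.KFacts.Mult.Calc
  Cfsg.Agent.KFacts.Mult.Laced Cfsg.Agent.KFacts.Mult.LacedEnd Cfsg.Agent.KFacts.OddLift.ChevSys
  Cfsg.Agent.KFacts.OddLift.OEight Cfsg.Agent.KFacts.RgdAut Cfsg.Agent.KFacts.RgdDiag Cfsg.Agent.KFacts.RgdRigid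
open scoped commutatorElement Pointwise

universe u v

/-! ### Frame automorphisms -/

section Frame

variable {I W Y : Type*} [Fintype I] [DecidableEq I] [Group W] [Group Y] {M : CoxeterMatrix I}
  {cs : CoxeterSystem M W} {A : I → I → ℤ} {h : IsCartan M A} {p : ℕ} {T : Subgroup Y} {n : I → Y}
  {X : (I → ℤ) → Subgroup Y}

/-- every automorphism fixes the Sylow subgroup `P` after an inner correction -/
theorem exists_fix [Finite Y] [Fact p.Prime] (P : Sylow p Y) (α : MulAut Y) :
    ∃ g : Y, Fix (MulAut.conj g * α) (P : Subgroup Y) := by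
  obtain ⟨g, hg⟩ := MulAction.exists_smul_eq Y (α • P) P
  refine ⟨g, fun x => ?_⟩
  have h1 : ((g • α • P : Sylow p Y) : Subgroup Y) = MulAut.conj g • (α • (P : Subgroup Y)) := rfl
  rw [hg] at h1
  have h3 : (MulAut.conj g * α) x = MulAut.conj g • (α • x) := rfl
  rw [h3]
  constructor
  · intro h4
    rw [h1, Subgroup.smul_mem_pointwise_smul_iff, Subgroup.smul_mem_pointwise_smul_iff] at h4
    exact h4
  · intro h4
    rw [h1, Subgroup.smul_mem_pointwise_smul_iff, Subgroup.smul_mem_pointwise_smul_iff]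
    exact h4

/-- **The frame.** -/
theorem exists_norm [Finite W] [Finite Y] [Fact p.Prime] (R : RGD cs h p T n X) (hG : GG cs h T X = ⊤)
    (α : MulAut Y) : ∃ (g : Y) (σ : Equiv.Perm I), Diag T X (MulAut.conj g * α) σ := by
  obtain ⟨P, hP⟩ := R.isPGroup_Upos.exists_le_sylow
  have e := Nodes.NormalForm.eq_U_of_isPGroup R P.isPGroup' hP (by rw [hG]; exact le_top)
  obtain ⟨g, hg⟩ := exists_fix P α
  rw [e] at hg
  obtain ⟨u, hu, -, -, -, σ, hσ⟩ := exists_frame_pow R hG hg
  exact ⟨u * g, σ, by rwa [map_mul, mul_assoc]⟩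

end Frame

/-! ### Perfect groups -/

/-- an automorphism of a perfect group which is trivial modulo the centre is trivial -/
theorem eq_id {K : Type*} [Group K] (hK : commutator K = ⊤) {α : MulAut K}
    (hα : ∀ x, ∃ z ∈ center K, α x = z * x) (x : K) : α x = x := by
  have h1 : commutator K ≤ α.toMonoidHom.eqLocus (MonoidHom.id K) := by
    rw [commutator_def, Subgroup.commutator_le]
    intro a _ b _
    obtain ⟨z, hz, ez⟩ := hα a
    obtain ⟨w, hw, ew⟩ := hα b
    show α ⁅a, b⁆ = ⁅a, b⁆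
    rw [map_commutatorElement, ez, ew, commutatorElement_def, commutatorElement_def]
    have hz' := mem_center_iff.1 hz
    have hw' := mem_center_iff.1 hw
    have e1 : (z * a)⁻¹ = a⁻¹ * z⁻¹ := mul_inv_rev _ _
    have e2 : (w * b)⁻¹ = b⁻¹ * w⁻¹ := mul_inv_rev _ _
    have e3 : ∀ y, y * z⁻¹ = z⁻¹ * y := fun y => by
      rw [eq_inv_mul_iff_mul_eq, ← mul_assoc, ← hz' y, mul_inv_cancel_right]
    have e4 : ∀ y, y * w⁻¹ = w⁻¹ * y := fun y => by
      rw [eq_inv_mul_iff_mul_eq, ← mul_assoc, ← hw' y, mul_inv_cancel_right]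
    calc z * a * (w * b) * (z * a)⁻¹ * (w * b)⁻¹
        = z * (a * w) * b * (a⁻¹ * z⁻¹) * (b⁻¹ * w⁻¹) := by rw [e1, e2]; simp only [mul_assoc]
      _ = z * (w * a) * b * (z⁻¹ * a⁻¹) * (w⁻¹ * b⁻¹) := by rw [hw' a, e3, e4]
      _ = z * (w * (a * b * z⁻¹) * a⁻¹ * w⁻¹) * b⁻¹ := by simp only [mul_assoc]
      _ = z * (w * (z⁻¹ * (a * b)) * a⁻¹ * w⁻¹) * b⁻¹ := by rw [e3]
      _ = z * (w * z⁻¹) * (a * b * a⁻¹ * w⁻¹) * b⁻¹ := by simp only [mul_assoc]
      _ = z * (z⁻¹ * w) * (w⁻¹ * (a * b * a⁻¹)) * b⁻¹ := by rw [e3, e4]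
      _ = a * b * a⁻¹ * b⁻¹ := by group
  have h2 : x ∈ commutator K := by rw [hK]; exact mem_top x
  exact h1 h2

/-! ### The values at the simple roots -/

section Kap

variable {F : Type v} [Field F] [Finite F] [CharP F 2]
variable {K : Type u} [Group K] {f : K →* X F} (h : CE f)

include h

theorem kp_step {r s r' s' : ℕ} (i : ℕ) (hi : i < 4) (hr : r < 24) (hs : s < 24) (h0 : tb r s = 0)
    (h1 : rr i r = r') (h2 : rr i s = s') :
    kp h (vec chevD4 4 r') (vec chevD4 4 s') = kp h (vec chevD4 4 r) (vec chevD4 4 s) := by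
  have hr' : r < chevD4.nroots := hr
  have hs' : s < chevD4.nroots := hs
  have e1 := kp_rf h (vec_mem (l := 4) hr') (vec_mem (l := 4) hs') (by rw [bf_eq hr hs]; exact h0) ⟨i, hi⟩
  rw [rf_vec ty_D4.ty ⟨i, hi⟩ hr', rf_vec ty_D4.ty ⟨i, hi⟩ hs'] at e1
  change kp h (vec chevD4 4 (chevD4.reflectRoot i r)) (vec chevD4 4 (chevD4.reflectRoot i s)) = _ at e1
  rw [rr_eq i hi r hr, rr_eq i hi s hs, h1, h2] at e1
  exact e1

theorem kp_swap {r s : Fin 4 → ℤ} (hr : r ∈ Phi chevD4 4) (hs : s ∈ Phi chevD4 4) (h0 : bf chevD4 4 r s = 0) :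
    kp h s r = kp h r s := by
  have h1 : kp h s r = (kp h r s)⁻¹ := h.lc_swap _ _
  rw [h1]
  exact inv_eq_of_mul_eq_one_left (kp_sq h hr hs h0)

theorem kp_b : kp h (vec chevD4 4 18) (vec chevD4 4 13) = kp h (vec chevD4 4 17) (vec chevD4 4 20) := by
  have m : ∀ {r : ℕ}, r < 24 → vec chevD4 4 r ∈ Phi chevD4 4 := fun hr => vec_mem hr
  have e1 := kp_step h (r := 18) (s := 13) (r' := 19) (s' := 16) 1 (by norm_num) (by norm_num) (by norm_num)
    (by decide) (by decide) (by decide)
  have e2 := kp_step h (r := 19) (s := 16) (r' := 20) (s' := 17) 3 (by norm_num) (by norm_num) (by norm_num)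
    (by decide) (by decide) (by decide)
  rw [← e1, ← e2]
  exact kp_swap h (m (by norm_num)) (m (by norm_num)) (by rw [bf_eq (by norm_num) (by norm_num)]; decide)

theorem kp_a : kp h (vec chevD4 4 18) (vec chevD4 4 12) = kp h (vec chevD4 4 22) (vec chevD4 4 16) := by
  have e1 := kp_step h (r := 18) (s := 12) (r' := 19) (s' := 15) 1 (by norm_num) (by norm_num) (by norm_num)
    (by decide) (by decide) (by decide)
  have e2 := kp_step h (r := 19) (s := 15) (r' := 21) (s' := 17) 2 (by norm_num) (by norm_num) (by norm_num)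
    (by decide) (by decide) (by decide)
  have e3 := kp_step h (r := 21) (s := 17) (r' := 22) (s' := 16) 3 (by norm_num) (by norm_num) (by norm_num)
    (by decide) (by decide) (by decide)
  rw [← e1, ← e2, ← e3]

theorem kp_c : kp h (vec chevD4 4 13) (vec chevD4 4 12) = kp h (vec chevD4 4 22) (vec chevD4 4 19) := by
  have e1 := kp_step h (r := 13) (s := 12) (r' := 16) (s' := 15) 1 (by norm_num) (by norm_num) (by norm_num)
    (by decide) (by decide) (by decide)
  have e2 := kp_step h (r := 16) (s := 15) (r' := 21) (s' := 20) 0 (by norm_num) (by norm_num) (by norm_num)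
    (by decide) (by decide) (by decide)
  have e3 := kp_step h (r := 21) (s := 20) (r' := 22) (s' := 19) 3 (by norm_num) (by norm_num) (by norm_num)
    (by decide) (by decide) (by decide)
  rw [← e1, ← e2, ← e3]

end Kap

section Dist

variable {F : Type v} [Field F] [Finite F] [CharP F 2] [hF2 : Fact (Nat.card F = 2)]
variable {K : Type u} [Group K] [Finite K] {f : K →* X F}

/-- **The three values are pairwise different if the kernel has order 4.** -/
theorem dist (hK : commutator K = ⊤) (h : CE f) (h2 : IsPGroup 2 f.ker) (h4 : Nat.card f.ker = 4) :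
    kp h (vec chevD4 4 22) (vec chevD4 4 16) ≠ kp h (vec chevD4 4 17) (vec chevD4 4 20) ∧
    kp h (vec chevD4 4 22) (vec chevD4 4 16) ≠ kp h (vec chevD4 4 22) (vec chevD4 4 19) ∧
    kp h (vec chevD4 4 17) (vec chevD4 4 20) ≠ kp h (vec chevD4 4 22) (vec chevD4 4 19) := by
  have e := ker_eq hK h.surj h.cen h2
  have m : ∀ {r : ℕ}, r < 24 → vec chevD4 4 r ∈ Phi chevD4 4 := fun hr => vec_mem hr
  have ha : bf chevD4 4 (vec chevD4 4 22) (vec chevD4 4 16) = 0 := by
    rw [bf_eq (by norm_num) (by norm_num)]; decide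
  have hb : bf chevD4 4 (vec chevD4 4 17) (vec chevD4 4 20) = 0 := by
    rw [bf_eq (by norm_num) (by norm_num)]; decide
  have sa := kp_sq h (m (by norm_num)) (m (by norm_num)) ha
  have sb := kp_sq h (m (by norm_num)) (m (by norm_num)) hb
  have h3 := three_term h
  have hv : ∀ g ∈ vals h, g = kp h (vec chevD4 4 22) (vec chevD4 4 16) ∨
      g = kp h (vec chevD4 4 17) (vec chevD4 4 20) ∨ g = kp h (vec chevD4 4 22) (vec chevD4 4 19) := by
    rintro _ ⟨_, ⟨r, hr, rfl⟩, _, ⟨s, hs, rfl⟩, h0, rfl⟩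
    have hr' : r < 24 := hr
    have hs' : s < 24 := hs
    rw [bf_eq hr' hs'] at h0
    exact kp_cases h hr' hs' h0
  -- all values in a group of order at most 2
  have key : ∀ c : K, c * c = 1 → (∀ g ∈ vals h, g ∈ zpowers c) → False := by
    intro c hc hg
    have h5 : f.ker ≤ zpowers c := by
      rw [e]
      exact (closure_le _).2 hg
    have h6 : Nat.card ↥(zpowers c) ∣ 2 := by
      rw [Nat.card_zpowers]
      exact orderOf_dvd_of_pow_eq_one (by rw [pow_two]; exact hc)
    have h7 := Nat.le_of_dvd (by norm_num) h6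
    have h8 := Subgroup.card_le_of_le h5
    omega
  set κa := kp h (vec chevD4 4 22) (vec chevD4 4 16) with hκa
  set κb := kp h (vec chevD4 4 17) (vec chevD4 4 20) with hκb
  set κc := kp h (vec chevD4 4 22) (vec chevD4 4 19) with hκc
  refine ⟨fun he => ?_, fun he => ?_, fun he => ?_⟩
  · have hc1 : κc = 1 := by rw [← h3, he]; exact sb
    refine key κb sb fun g hg => ?_
    rcases hv g hg with h5 | h5 | h5
    · rw [h5, he]; exact mem_zpowers _
    · rw [h5]; exact mem_zpowers _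
    · rw [h5, hc1]; exact one_mem _
  · have hb1 : κb = 1 := by
      rw [← he] at h3
      exact mul_eq_right.1 h3
    refine key κa sa fun g hg => ?_
    rcases hv g hg with h5 | h5 | h5
    · rw [h5]; exact mem_zpowers _
    · rw [h5, hb1]; exact one_mem _
    · rw [h5, ← he]; exact mem_zpowers _
  · have ha1 : κa = 1 := by
      rw [← he] at h3
      exact mul_eq_left.1 h3
    refine key κb sb fun g hg => ?_
    rcases hv g hg with h5 | h5 | h5
    · rw [h5, ha1]; exact one_mem _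
    · rw [h5]; exact mem_zpowers _
    · rw [h5, ← he]; exact mem_zpowers _

end Dist

/-! ### The automorphisms -/

/-- the induced automorphism -/
theorem exists_induced {K L : Type*} [Group K] [Group L] [Finite L] {f : K →* L} (hf : Function.Surjective f)
    (α : MulAut K) (hα : ∀ z ∈ f.ker, α z ∈ f.ker) : ∃ β : MulAut L, ∀ x, β (f x) = f (α x) := by
  have hg : f.ker ≤ (f.comp α.toMonoidHom).ker := fun z hz => hα z hz
  set b : L →* L := f.liftOfSurjective hf ⟨f.comp α.toMonoidHom, hg⟩ with hbdef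
  have hb : ∀ x, b (f x) = f (α x) := fun x =>
    f.liftOfRightInverse_comp_apply _ _ ⟨f.comp α.toMonoidHom, hg⟩ x
  have hs : Function.Surjective b := by
    intro y
    obtain ⟨x, rfl⟩ := hf y
    exact ⟨f (α⁻¹ x), by rw [hb, MulAut.apply_inv_self]⟩
  exact ⟨MulEquiv.ofBijective b ⟨Finite.injective_iff_surjective.2 hs, hs⟩, hb⟩

/-- the indices of the simple roots -/
def sm (i : Fin 4) : ℕ := [18, 14, 13, 12].getD i 0

theorem sm_eq : ∀ i : Fin 4, chevD4.simple i = sm i := by decide +kernel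

theorem sm_lt : ∀ i : Fin 4, sm i < 24 := by decide

theorem sr_eq (i : Fin 4) : (sr i : Fin 4 → ℤ) = vec chevD4 4 (sm i) := by
  rw [← sm_eq, vec_simple ty_D4.ty i]

/-- the class of a pair of outer nodes -/
def cl (i j : Fin 4) : Fin 3 := if (i : ℕ) + j = 2 then 1 else if (i : ℕ) + j = 3 then 0 else 2

theorem mat2 : ∀ i j : Fin 4, coxeterD4 i j = 2 ↔ (i ≠ j ∧ i ≠ 1 ∧ j ≠ 1) := by
  intro i j
  fin_cases i <;> fin_cases j <;> decide

theorem perm_eq (σ : Equiv.Perm (Fin 4)) (h1 : σ 1 = 1)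
    (h2 : ∀ i j : Fin 4, i ≠ j → i ≠ 1 → j ≠ 1 → cl (σ i) (σ j) = cl i j) : σ = 1 := by
  revert σ
  decide

section Main

variable {F : Type v} [Field F] [Finite F] [CharP F 2] [hF2 : Fact (Nat.card F = 2)]

theorem sr_mem (i : Fin 4) : (sr i : Fin 4 → ℤ) ∈ Phi chevD4 4 := by
  rw [sr_eq]; exact vec_mem (sm_lt i)

theorem tb_outer : ∀ i j : Fin 4, i ≠ j → i ≠ 1 → j ≠ 1 → tb (sm i) (sm j) = 0 := by decide

theorem bf_outer {i j : Fin 4} (h1 : i ≠ j) (h2 : i ≠ 1) (h3 : j ≠ 1) : bf chevD4 4 (sr i) (sr j) = 0 := by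
  rw [sr_eq, sr_eq, bf_eq (sm_lt i) (sm_lt j)]
  exact tb_outer i j h1 h2 h3

/-- the three values -/
noncomputable def val {K : Type u} [Group K] {f : K →* X F} (h : CE f) (c : Fin 3) : K :=
  if c = 0 then kp h (vec chevD4 4 22) (vec chevD4 4 16) else if c = 1 then
    kp h (vec chevD4 4 17) (vec chevD4 4 20) else kp h (vec chevD4 4 22) (vec chevD4 4 19)

theorem kp_val {K : Type u} [Group K] {f : K →* X F} (h : CE f) {i j : Fin 4} (h1 : i ≠ j) (h2 : i ≠ 1)
    (h3 : j ≠ 1) : kp h (sr i) (sr j) = val h (cl i j) := by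
  have sw : ∀ {i j : Fin 4}, i ≠ j → i ≠ 1 → j ≠ 1 → kp h (sr i) (sr j) = kp h (sr j) (sr i) :=
    fun h1 h2 h3 => (kp_swap h (sr_mem _) (sr_mem _) (bf_outer h1 h2 h3)).symm
  have e02 : kp h (sr (0 : Fin 4)) (sr (2 : Fin 4)) = val h 1 := by
    rw [sr_eq, sr_eq]; exact kp_b h
  have e03 : kp h (sr (0 : Fin 4)) (sr (3 : Fin 4)) = val h 0 := by
    rw [sr_eq, sr_eq]; exact kp_a h
  have e23 : kp h (sr (2 : Fin 4)) (sr (3 : Fin 4)) = val h 2 := by
    rw [sr_eq, sr_eq]; exact kp_c h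
  fin_cases i <;> fin_cases j
  all_goals first
    | exact absurd rfl h1
    | exact absurd rfl h2
    | exact absurd rfl h3
    | exact e02
    | exact e03
    | exact e23
    | exact (sw (i := 2) (j := 0) (by decide) (by decide) (by decide)).trans e02
    | exact (sw (i := 3) (j := 0) (by decide) (by decide) (by decide)).trans e03
    | exact (sw (i := 3) (j := 2) (by decide) (by decide) (by decide)).trans e23

theorem val_inj {K : Type u} [Group K] [Finite K] {f : K →* X F} (hK : commutator K = ⊤) (h : CE f)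
    (h2 : IsPGroup 2 f.ker) (h4 : Nat.card f.ker = 4) : Function.Injective (val h) := by
  obtain ⟨d1, d2, d3⟩ := dist hK h h2 h4
  intro c d hcd
  fin_cases c <;> fin_cases d
  all_goals first
    | rfl
    | exact absurd hcd d1
    | exact absurd hcd.symm d1
    | exact absurd hcd d2
    | exact absurd hcd.symm d2
    | exact absurd hcd d3
    | exact absurd hcd.symm d3

/-- **Automorphisms of `2².Ω₈⁺(2)` acting trivially on the kernel are inner.** -/
theorem inner' {K : Type u} [Group K] [Finite K] (hK : commutator K = ⊤) {f : K →* X F}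
    (hf : Function.Surjective f) (hZ : f.ker ≤ center K) (h2 : IsPGroup 2 f.ker) (h4 : Nat.card f.ker = 4)
    (α : MulAut K) (hα : ∀ z ∈ f.ker, α z = z) : ∃ k, ∀ x, α x = k * x * k⁻¹ := by
  have h : CE f := ⟨hf, hZ⟩
  have : Fact (Nat.Prime 2) := ⟨Nat.prime_two⟩
  obtain ⟨β, hβ⟩ := exists_induced hf α fun z hz => by rw [hα z hz]; exact hz
  have hW := finite_W ty_D4.ty coxeterD4.toCoxeterSystem
  have R := rgd (K := F) ty_D4.ty coxeterD4.toCoxeterSystem 2
  have hG1 := G1_eq_top (K := F) ty_D4.ty coxeterD4.toCoxeterSystem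
  have hG := GG_eq_top (T := (chevD4.diagonalSubgroup F).subgroupOf (chevD4.group F)) hG1
  obtain ⟨g, σ, D⟩ := exists_norm R hG β
  obtain ⟨k, rfl⟩ := hf g
  -- the corrected automorphism
  have hβ' : ∀ x, (MulAut.conj (f k) * β) (f x) = f ((MulAut.conj k * α) x) := by
    intro x
    show f k * β (f x) * (f k)⁻¹ = f (k * α x * k⁻¹)
    rw [hβ, map_mul, map_mul, map_inv]
  have hα' : ∀ z ∈ f.ker, (MulAut.conj k * α) z = z := by
    intro z hz
    show k * α z * k⁻¹ = z
    rw [hα z hz, mem_center_iff.1 (hZ hz) k, mul_inv_cancel_right]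
  set β' := MulAut.conj (f k) * β with hβdef
  set α' := MulAut.conj k * α with hαdef
  -- the simple root elements
  have hx : ∀ i, β' (x (F := F) (sr i) 1) = x (sr (σ i)) 1 := by
    intro i
    have m1 : x (F := F) (sr i) 1 ∈ OddLift.ChevSys.X chevD4 4 F (sr i) := (isRG ty_D4 F _ (sr_mem i) _).2 ⟨1, rfl⟩
    have m2 : β' (x (F := F) (sr i) 1) ∈ OddLift.ChevSys.X chevD4 4 F (sr (σ i)) := (D.pos i _).2 m1
    obtain ⟨a, ha⟩ := (isRG ty_D4 F _ (sr_mem (σ i)) _).1 m2
    rcases eq_zero_or_one a with rfl | rfl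
    · exfalso
      rw [(sys ty_D4 F).zero (sr_mem (σ i)), map_eq_one_iff β' β'.injective] at ha
      exact one_ne_zero (inj ty_D4 F (sr_mem i) ha)
    · exact ha
  -- the diagram
  have hM := D.matrix (R := R)
  have hσ1 : σ 1 = 1 := by
    by_contra h1
    obtain ⟨j, hj⟩ : ∃ j : Fin 4, j ≠ 1 ∧ σ j ≠ σ 1 ∧ σ j ≠ 1 := by
      have : ∃ j : Fin 4, j ≠ 1 ∧ j ≠ σ.symm 1 := by
        revert h1
        generalize σ.symm 1 = t
        intro _
        revert t
        decide
      obtain ⟨j, hj1, hj2⟩ := this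
      exact ⟨j, hj1, fun h => hj1 (σ.injective h), fun h => hj2 (by rw [← h, Equiv.symm_apply_apply])⟩
    have e1 := hM j 1
    rw [(mat2 _ _).2 ⟨hj.2.1, hj.2.2, h1⟩] at e1
    exact ((mat2 _ _).1 e1.symm).2.2 rfl
  have hσ : σ = 1 := by
    refine perm_eq σ hσ1 fun i j hij hi hj => ?_
    have hij' : σ i ≠ σ j := fun h => hij (σ.injective h)
    have hi' : σ i ≠ 1 := fun h => hi (σ.injective (h.trans hσ1.symm))
    have hj' : σ j ≠ 1 := fun h => hj (σ.injective (h.trans hσ1.symm))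
    apply val_inj hK h h2 h4
    rw [← kp_val h hij' hi' hj', ← kp_val h hij hi hj]
    have e1 : ⁅α' (h.lift (x (sr i) 1)), α' (h.lift (x (sr j) 1))⁆ = kp h (sr (σ i)) (sr (σ j)) := by
      refine h.comm_eq' ?_ ?_
      · rw [← hβ', h.map_lift, hx]
      · rw [← hβ', h.map_lift, hx]
    rw [← e1, ← map_commutatorElement]
    exact hα' _ (kp_mem h (sr_mem i) (sr_mem j) (bf_outer hij hi hj))
  subst hσ
  have hone : β' = 1 := by
    refine Diag.eq_one R hG1 D fun i y hy => ?_
    obtain ⟨a, rfl⟩ := (isRG ty_D4 F _ (sr_mem i) _).1 hy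
    rcases eq_zero_or_one a with rfl | rfl
    · rw [(sys ty_D4 F).zero (sr_mem i), map_one]
    · exact hx i
  have hid : ∀ y, α' y = y := by
    refine eq_id hK fun y => ⟨α' y * y⁻¹, hZ ?_, by rw [inv_mul_cancel_right]⟩
    rw [MonoidHom.mem_ker, map_mul, ← hβ', hone, MulAut.one_apply, ← map_mul, mul_inv_cancel, map_one]
  refine ⟨k⁻¹, fun y => ?_⟩
  have e2 : k * α y * k⁻¹ = y := hid y
  calc α y = k⁻¹ * (k * α y * k⁻¹) * k := by group
    _ = k⁻¹ * y * k⁻¹⁻¹ := by rw [e2, inv_inv]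

end Main

/-- **Automorphisms of `2².Ω₈⁺(2)` acting trivially on the kernel are inner.** -/
theorem inner {F : Type v} [Field F] [Fintype F] (hF : Fintype.card F = 2) {K : Type u} [Group K] [Finite K]
    (hK : commutator K = ⊤) {π : K →* POmega F (quadFormPlus 4 F)} (hs : Function.Surjective π)
    (hc : π.ker ≤ center K) (hp : IsPGroup 2 π.ker) (h4 : Nat.card π.ker = 4) (α : MulAut K)
    (hα : ∀ z, π z = 1 → α z = z) : ∃ k : K, ∀ x, α x = k * x * k⁻¹ := by
  have : CharP F 2 := by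
    obtain ⟨p, hp⟩ := CharP.exists F
    have hpp : p.Prime := (CharP.char_is_prime_or_zero F p).resolve_right (CharP.char_ne_zero_of_finite F p)
    have h1 : p ∣ 2 := by rw [← hF]; exact CharP.cast_eq_zero_iff F p _ |>.1 (by simp)
    rcases (Nat.dvd_prime Nat.prime_two).1 h1 with h1 | h1
    · exact absurd h1 hpp.one_lt.ne'
    · rw [← h1]; exact hp
  have : Fact (Nat.card F = 2) := ⟨by rw [Nat.card_eq_fintype_card, hF]⟩
  obtain ⟨e'⟩ : Nonempty (↥(chevD4.group F) ≃* POmega F (quadFormPlus 4 F)) := S1082.result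
  have hker : (e'.symm.toMonoidHom.comp π).ker = π.ker := by
    ext x
    rw [MonoidHom.mem_ker, MonoidHom.mem_ker]
    show e'.symm (π x) = 1 ↔ _
    rw [map_eq_one_iff e'.symm e'.symm.injective]
  exact inner' (f := e'.symm.toMonoidHom.comp π) hK (e'.symm.surjective.comp hs) (by rw [hker]; exact hc)
    (by rw [hker]; exact hp) (by rw [hker]; exact h4) α (by rw [hker]; exact fun z hz => hα z hz)

/-- **The same for a group with centre of order 4.** -/
theorem center_inner {K : Type u} [Group K] [Finite K] (hperf : commutator K = ⊤)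
    (h4 : Nat.card ↥(center K) = 4)
    (hX : ∃ (F : Type) (_ : Field F) (_ : Fintype F), Fintype.card F = 2 ∧
      Nonempty (K ⧸ center K ≃* POmega F (quadFormPlus 4 F))) (α : MulAut K) (hα : ∀ z ∈ center K, α z = z) :
    ∃ k : K, ∀ x, α x = k * x * k⁻¹ := by
  obtain ⟨F, _, _, hF, ⟨f⟩⟩ := hX
  let π : K →* POmega F (quadFormPlus 4 F) := f.toMonoidHom.comp (QuotientGroup.mk' (center K))
  have hker : π.ker = center K := by
    ext x
    rw [MonoidHom.mem_ker]
    show f (QuotientGroup.mk' (center K) x) = 1 ↔ _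
    rw [map_eq_one_iff f f.injective, QuotientGroup.mk'_apply, QuotientGroup.eq_one_iff]
  have hs : Function.Surjective π := f.surjective.comp (QuotientGroup.mk'_surjective _)
  have hp : IsPGroup 2 π.ker := IsPGroup.of_card (n := 2) (by rw [hker, h4]; norm_num)
  refine inner hF hperf hs hker.le hp (by rw [hker]; exact h4) α fun z hz => hα z ?_
  rw [← hker]; exact hz

end Cfsg.Agent.KFacts.Mult.OEightInner
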