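import Cfsg.Agent.KFacts.Mult.OMinusTor
import Cfsg.Agent.KFacts.Mult.Num
import Cfsg.Agent.TitsThree.KSideO

/-!
# `PΩ⁻_{2m}(q)`, `q ≥ 4` even, `m ≥ 4`, has no double cover

`noDouble (F) [Finite F] [CharP F 2] (2 < |F|) (3 ≤ n) (anisotropic a b) : NoDouble (POmega F (quadFormMinus n F a b))`;
`ominus` : the literal field of `OddHalf.D9.MultOf.LieND` for `a ≥ 2`.
-/

set_option autoImplicit false
set_option linter.unusedSectionVars false

namespace Cfsg.Agent.KFacts.Mult.OMinus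

open QuadraticMap Subgroup
open Cfsg.Agent.LieClassical Cfsg.Agent.LieClassical.OrthCore Cfsg.Agent.LieClassical.OrthForms
  Cfsg.Agent.LieClassical.OrthTrans Cfsg.Agent.LieClassical.OrthSimple Cfsg.Agent.LieClassical.OrthFinite
open Cfsg.Agent.TitsThree.Siegel Cfsg.Agent.TitsThree.SiegelGen Cfsg.Agent.TitsThree.WittFrame
  Cfsg.Agent.TitsThree.WBridge Cfsg.Agent.TitsThree.KSideO Cfsg.Agent.TitsThree.StdData
open Cfsg.Agent.Nodes.TypeC Cfsg.Agent.Nodes.WittRoot
open Cfsg.Agent.KFacts.MulDef Cfsg.Agent.KFacts.Mult.WittW Cfsg.Agent.KFacts.Mult.OMinusAb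
  Cfsg.Agent.KFacts.Mult.OMinusTor Cfsg.Agent.KFacts.Mult.Num Cfsg.Agent.KFacts.Mult.WeightsTwo

section

variable (n : ℕ) (F : Type*) [Field F] (a b : F)
  (hab : ∀ z₁ z₂ : F, z₁ ^ 2 + a * z₁ * z₂ + b * z₂ ^ 2 = 0 → z₁ = 0 ∧ z₂ = 0)

/-- multiplication by `τ`, `τ² = a τ - b`, on the anisotropic part -/
def theta : ((Fin n ⊕ Fin n) ⊕ Fin 2 → F) →ₗ[F] ((Fin n ⊕ Fin n) ⊕ Fin 2 → F) where
  toFun v := Sum.elim (fun _ => 0) ![b * v (Sum.inr 1), v (Sum.inr 0) + a * v (Sum.inr 1)]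
  map_add' v w := by
    funext j
    rcases j with j | j
    · simp
    · fin_cases j
      · simp; ring
      · simp; ring
  map_smul' c v := by
    funext j
    rcases j with j | j
    · simp
    · fin_cases j
      · simp; ring
      · simp; ring

theorem theta_inl (v : (Fin n ⊕ Fin n) ⊕ Fin 2 → F) (j : Fin n ⊕ Fin n) : theta n F a b v (Sum.inl j) = 0 := rfl
theorem theta_zero (v : (Fin n ⊕ Fin n) ⊕ Fin 2 → F) : theta n F a b v (Sum.inr 0) = b * v (Sum.inr 1) := rfl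
theorem theta_one (v : (Fin n ⊕ Fin n) ⊕ Fin 2 → F) :
    theta n F a b v (Sum.inr 1) = v (Sum.inr 0) + a * v (Sum.inr 1) := rfl

theorem th [CharP F 2] : Th (toFrame (wminus n F a b hab)) (theta n F a b) a where
  V0 v _ := fun j => theta_inl n F a b v j
  refl p hp v hv := by
    have h2 : (2 : F) = 0 := CharTwo.two_eq_zero
    have hw : ∀ j, p.w (Sum.inl j) = 0 := p.ok.1
    have hv' : ∀ j, v (Sum.inl j) = 0 := hv
    have hc : p.c = -(minusForm n F a b) p.w := p.ok.2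
    have hc' : p.c = -(p.w (Sum.inr 0) ^ 2 + a * p.w (Sum.inr 0) * p.w (Sum.inr 1) + b * p.w (Sum.inr 1) ^ 2) := by
      rw [hc, coe_minusForm, quadFormMinus_apply]
      simp [hw]
    have hpol : ∀ u : (Fin n ⊕ Fin n) ⊕ Fin 2 → F, (∀ j, u (Sum.inl j) = 0) → (HO (minusForm n F a b)).h u p.w =
        2 * u (Sum.inr 0) * p.w (Sum.inr 0) + a * (u (Sum.inr 0) * p.w (Sum.inr 1) + u (Sum.inr 1) * p.w (Sum.inr 0)) +
          2 * b * u (Sum.inr 1) * p.w (Sum.inr 1) := by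
      intro u hu
      rw [HO_h, polar_minusForm]
      simp [hw, hu]
    have hε : (HO (minusForm n F a b)).ε = 1 := rfl
    rw [hε, hpol v hv', hpol _ (theta_inl n F a b v), theta_zero, theta_one, inv_one, one_mul]
    set v0 := v (Sum.inr 0)
    set v1 := v (Sum.inr 1)
    set w0 := p.w (Sum.inr 0) with hw0
    set w1 := p.w (Sum.inr 1) with hw1
    set c := p.c with hcdef
    funext j
    rcases j with j | j
    · simp only [Pi.add_apply, Pi.smul_apply, smul_eq_mul, theta_inl, hw, hv', mul_zero, add_zero]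
    · fin_cases j
      · show b * v1 + c⁻¹ * (2 * (b * v1) * w0 + a * (b * v1 * w1 + (v0 + a * v1) * w0) +
            2 * b * (v0 + a * v1) * w1) * w0 =
          a * (v0 + c⁻¹ * (2 * v0 * w0 + a * (v0 * w1 + v1 * w0) + 2 * b * v1 * w1) * w0) +
            b * (v1 + c⁻¹ * (2 * v0 * w0 + a * (v0 * w1 + v1 * w0) + 2 * b * v1 * w1) * w1)
        have hcc : c * c⁻¹ = 1 := mul_inv_cancel₀ hp
        have hmul : c * (b * v1 + c⁻¹ * (2 * (b * v1) * w0 + a * (b * v1 * w1 + (v0 + a * v1) * w0) +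
            2 * b * (v0 + a * v1) * w1) * w0) =
          c * (a * (v0 + c⁻¹ * (2 * v0 * w0 + a * (v0 * w1 + v1 * w0) + 2 * b * v1 * w1) * w0) +
            b * (v1 + c⁻¹ * (2 * v0 * w0 + a * (v0 * w1 + v1 * w0) + 2 * b * v1 * w1) * w1)) := by
          have e1 : c * (b * v1 + c⁻¹ * (2 * (b * v1) * w0 + a * (b * v1 * w1 + (v0 + a * v1) * w0) +
              2 * b * (v0 + a * v1) * w1) * w0) = c * b * v1 + (c * c⁻¹) * ((2 * (b * v1) * w0 +
              a * (b * v1 * w1 + (v0 + a * v1) * w0) + 2 * b * (v0 + a * v1) * w1) * w0) := by ring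
          have e2 : c * (a * (v0 + c⁻¹ * (2 * v0 * w0 + a * (v0 * w1 + v1 * w0) + 2 * b * v1 * w1) * w0) +
              b * (v1 + c⁻¹ * (2 * v0 * w0 + a * (v0 * w1 + v1 * w0) + 2 * b * v1 * w1) * w1)) =
              c * (a * v0 + b * v1) + (c * c⁻¹) * (a * ((2 * v0 * w0 + a * (v0 * w1 + v1 * w0) + 2 * b * v1 * w1) * w0) +
              b * ((2 * v0 * w0 + a * (v0 * w1 + v1 * w0) + 2 * b * v1 * w1) * w1)) := by ring
          rw [e1, e2, hcc, hc']
          linear_combination (-(v1 * w1 ^ 2 * b ^ 2) + v1 * w0 ^ 2 * b) * h2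
        exact mul_left_cancel₀ hp hmul
      · show (v0 + a * v1) + c⁻¹ * (2 * (b * v1) * w0 + a * (b * v1 * w1 + (v0 + a * v1) * w0) +
            2 * b * (v0 + a * v1) * w1) * w1 =
          a * (v1 + c⁻¹ * (2 * v0 * w0 + a * (v0 * w1 + v1 * w0) + 2 * b * v1 * w1) * w1) +
            ((v0 + c⁻¹ * (2 * v0 * w0 + a * (v0 * w1 + v1 * w0) + 2 * b * v1 * w1) * w0) +
              a * (v1 + c⁻¹ * (2 * v0 * w0 + a * (v0 * w1 + v1 * w0) + 2 * b * v1 * w1) * w1))
        have hcc : c * c⁻¹ = 1 := mul_inv_cancel₀ hp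
        have hmul : c * ((v0 + a * v1) + c⁻¹ * (2 * (b * v1) * w0 + a * (b * v1 * w1 + (v0 + a * v1) * w0) +
            2 * b * (v0 + a * v1) * w1) * w1) =
          c * (a * (v1 + c⁻¹ * (2 * v0 * w0 + a * (v0 * w1 + v1 * w0) + 2 * b * v1 * w1) * w1) +
            ((v0 + c⁻¹ * (2 * v0 * w0 + a * (v0 * w1 + v1 * w0) + 2 * b * v1 * w1) * w0) +
              a * (v1 + c⁻¹ * (2 * v0 * w0 + a * (v0 * w1 + v1 * w0) + 2 * b * v1 * w1) * w1))) := by
          have e1 : c * ((v0 + a * v1) + c⁻¹ * (2 * (b * v1) * w0 + a * (b * v1 * w1 + (v0 + a * v1) * w0) +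
              2 * b * (v0 + a * v1) * w1) * w1) = c * (v0 + a * v1) + (c * c⁻¹) * ((2 * (b * v1) * w0 +
              a * (b * v1 * w1 + (v0 + a * v1) * w0) + 2 * b * (v0 + a * v1) * w1) * w1) := by ring
          have e2 : c * (a * (v1 + c⁻¹ * (2 * v0 * w0 + a * (v0 * w1 + v1 * w0) + 2 * b * v1 * w1) * w1) +
              ((v0 + c⁻¹ * (2 * v0 * w0 + a * (v0 * w1 + v1 * w0) + 2 * b * v1 * w1) * w0) +
                a * (v1 + c⁻¹ * (2 * v0 * w0 + a * (v0 * w1 + v1 * w0) + 2 * b * v1 * w1) * w1))) =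
              c * (a * v1 + (v0 + a * v1)) + (c * c⁻¹) * (a * ((2 * v0 * w0 + a * (v0 * w1 + v1 * w0) +
                2 * b * v1 * w1) * w1) + (((2 * v0 * w0 + a * (v0 * w1 + v1 * w0) + 2 * b * v1 * w1) * w0) +
                a * ((2 * v0 * w0 + a * (v0 * w1 + v1 * w0) + 2 * b * v1 * w1) * w1))) := by ring
          rw [e1, e2, hcc, hc']
          linear_combination (v0 * w1 ^ 2 * b - v0 * w1 ^ 2 * a ^ 2 - 2 * v0 * w0 * w1 * a - v0 * w0 ^ 2) * h2
        exact mul_left_cancel₀ hp hmul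
  span u hu hu0 w hw := by
    have h2 : (2 : F) = 0 := CharTwo.two_eq_zero
    have hu' : ∀ j, u (Sum.inl j) = 0 := hu
    have hw' : ∀ j, w (Sum.inl j) = 0 := hw
    set u0 := u (Sum.inr 0) with hu0'
    set u1 := u (Sum.inr 1) with hu1'
    set w0 := w (Sum.inr 0) with hw0'
    set w1 := w (Sum.inr 1) with hw1'
    have hD : u0 ^ 2 + a * u0 * u1 - b * u1 ^ 2 ≠ 0 := by
      intro h0
      have h1 : u0 ^ 2 + a * u0 * u1 + b * u1 ^ 2 = 0 := by linear_combination h0 + b * u1 ^ 2 * h2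
      obtain ⟨h3, h4⟩ := hab _ _ h1
      apply hu0
      funext j
      rcases j with j | j
      · exact hu' j
      · fin_cases j
        · exact h3
        · exact h4
    set D := u0 ^ 2 + a * u0 * u1 - b * u1 ^ 2 with hDdef
    refine ⟨(w0 * (u0 + a * u1) - b * u1 * w1) / D, (u0 * w1 - u1 * w0) / D, ?_⟩
    funext j
    rcases j with j | j
    · simp only [Pi.add_apply, Pi.smul_apply, smul_eq_mul, theta_inl, hu', hw', mul_zero, add_zero]
    · fin_cases j
      · show w0 = (w0 * (u0 + a * u1) - b * u1 * w1) / D * u0 + (u0 * w1 - u1 * w0) / D * (b * u1)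
        field_simp
        rw [hDdef]; ring
      · show w1 = (w0 * (u0 + a * u1) - b * u1 * w1) / D * u1 + (u0 * w1 - u1 * w0) / D * (u0 + a * u1)
        field_simp
        rw [hDdef]; ring

theorem hV0 : ∀ v, (∀ x, (HO (minusForm n F a b)).h v ((toFrame (wminus n F a b hab)).b x) = 0) →
    v ∈ (toFrame (wminus n F a b hab)).V0 := by
  intro v hv j
  rcases j with j | j
  · have h1 := hv (j, false)
    change (HO (minusForm n F a b)).h v (Pi.single (Sum.inl (Sum.inr j)) 1) = 0 at h1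
    rw [HO_h, polar_minusForm] at h1
    simpa [Pi.single_apply] using h1
  · have h1 := hv (j, true)
    change (HO (minusForm n F a b)).h v (Pi.single (Sum.inl (Sum.inl j)) 1) = 0 at h1
    rw [HO_h, polar_minusForm] at h1
    simpa [Pi.single_apply] using h1

theorem oc : OC (HO (minusForm n F a b)) where
  σ _ := rfl
  ε := rfl

theorem adm_tr (x : F) : (Frame.Adm.tr x : (toFrame (wminus n F a b hab)).Adm) = 1 := by
  apply Frame.Adm.ext
  · rfl
  · change x - (1 : F)⁻¹ * x = 0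
    rw [inv_one, one_mul, sub_self]

theorem exists_p0 : ∃ p : (toFrame (wminus n F a b hab)).Adm, p.c ≠ 0 := by
  refine ⟨(embMinus n F a b hab).ngt ⟨(1, 0), -nf a b (1, 0), rfl⟩, ?_⟩
  change (1 : F)⁻¹ * (-nf a b (1, 0)) ≠ 0
  simp [nf]

end

/-- **`PΩ⁻_{2n+2}(q)`, `q ≥ 4` even, `n ≥ 3`, has no double cover.** -/
theorem noDouble (F : Type*) [Field F] [Finite F] [CharP F 2] (hq : 2 < Nat.card F) {n : ℕ} (hn : 3 ≤ n) (a b : F)
    (hab : ∀ z₁ z₂ : F, z₁ ^ 2 + a * z₁ * z₂ + b * z₂ ^ 2 = 0 → z₁ = 0 ∧ z₂ = 0) :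
    NoDouble (Cfsg.POmega F (Cfsg.quadFormMinus n F a b)) := by
  have hdata := exists_p0 n F a b hab
  obtain ⟨p0, hp0⟩ := hdata
  obtain ⟨p, hpf, l, hodd, hl0, hl⟩ := exists_odd_prime hq
  have hG : Good (minusForm n F a b) := by
    apply good_of_finite (nondeg_minusForm n F a b hab)
    rw [Module.finrank_fintype_fun_eq_card, Fintype.card_sum, Fintype.card_sum, Fintype.card_fin,
      Fintype.card_fin]
    omega
  have hh : Hyp (toFrame (wminus n F a b hab)) p0
      (T0 (toFrame (wminus n F a b hab)) (theta n F a b) (hV0 n F a b hab)) p l :=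
    { tor := torT (hV0 n F a b hab) (th n F a b hab) hp0
      aniso := fun w hw => (wminus n F a b hab).aniso w hw.1 hw.2
      c0 := hp0
      V0 := hV0 n F a b hab
      odd := hodd
      l0 := hl0
      lσ := rfl
      ord := hl }
  have hM : NoDouble (Cfsg.POmega F ⇑(minusForm n F a b)) := by
    let cs := (CoxeterMatrix.B n).toCoxeterSystem
    refine noDouble_model cs hh (by omega) (model (wminus n F a b hab) hG ⟨p0, hp0⟩) fun i => ?_
    apply spl_of_abPre' cs hh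
    have h3 := three_of_le hn
    by_cases hi : (i : ℕ) + 1 < n
    · have hne := Cfsg.Agent.KFacts.Mult.WittT.nx_ne hi
      obtain ⟨k, hk1, hk2⟩ := h3 i (nx i).1
      exact abPre_three cs (c := (k, true)) hk1.symm hk2 hne
    · have hnx : nx i = (i, true) := by unfold nx; rw [dif_neg hi]
      rw [hnx, PG_self]
      have C : Con (toFrame (wminus n F a b hab)) (Y0 (toFrame (wminus n F a b hab)) cs) := ⟨X_mem_Y0 cs, Z_mem_Y0 cs⟩
      exact abPre_Z C h3 (adm_tr n F a b hab) (torHyp (toFrame (wminus n F a b hab)) (oc n F a b) C ⟨l, hl0, hh.ne_one⟩) (i, true)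
  rw [coe_minusForm] at hM
  exact hM

/-- The literal field of `LieND`, `a ≥ 2`. -/
theorem ominus (F : Type) [Field F] [Fintype F] (a m : ℕ) (b c : F) (ha : 2 ≤ a) (hF : Fintype.card F = 2 ^ a)
    (hm : 4 ≤ m) (hbc : ∀ z₁ z₂ : F, z₁ ^ 2 + b * z₁ * z₂ + c * z₂ ^ 2 = 0 → z₁ = 0 ∧ z₂ = 0) :
    NoDouble (Cfsg.POmega F (Cfsg.quadFormMinus (m - 1) F b c)) := by
  have h2 : CharP F 2 := by
    have : Fact (Nat.Prime 2) := ⟨Nat.prime_two⟩
    exact charP_of_card_eq_prime_pow hF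
  refine noDouble F ?_ (by omega) b c hbc
  rw [Nat.card_eq_fintype_card, hF]
  calc 2 < 2 ^ 2 := by norm_num
    _ ≤ 2 ^ a := Nat.pow_le_pow_right (by norm_num) ha

end Cfsg.Agent.KFacts.Mult.OMinus
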