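import Cfsg.Agent.KFacts.Mult.WittW
import Cfsg.Agent.KFacts.Mult.Calc

/-!
# Commutative preimages of the root groups of an orthogonal Witt frame of characteristic 2, at least three indices

`Fr` a Witt frame with `Adm.tr = 1`, at least three indices, `I` a group containing all root elements.
If for every `x`, `y` with different index some `k` centralises all `X x (-y) t` and acts on `X x y` by a scalar
`≠ 1` (`TorHyp`), then the root groups of type II have commutative preimages in every double cover (`abPre_Z`):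
Hall-Witt for `[Z_x(p), [X_{x,-y}(1), Z_y(q)]]`.

`OC H` : `σ = id`, `ε = 1`. `torHyp` : `TorHyp` from a scalar `≠ 0, 1`.
-/

set_option autoImplicit false
set_option linter.unusedSectionVars false

namespace Cfsg.Agent.KFacts.Mult.OMinusAb

open Cfsg.Agent.KFacts.MulDef Cfsg.Agent.KFacts.Mult.RGDW Cfsg.Agent.KFacts.Mult.Calc
open Cfsg.Agent.Nodes.WittRoot
open Cfsg.Agent.TitsThree.Siegel Cfsg.Agent.TitsThree.WittFrame Cfsg.Agent.TitsThree.WittWeyl
open scoped commutatorElement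

variable {F : Type*} [Field F] {V : Type*} [AddCommGroup V] [Module F V] {H : HForm F V} {m : ℕ}
  (Fr : Frame H (Fin m)) (I : Subgroup (V ≃ₗ[F] V))

/-- `I` contains the root elements. -/
structure Con : Prop where
  X : ∀ x y t, Fr.X x y t ∈ I
  Z : ∀ x p, Fr.Z x p ∈ I

variable {Fr I} (C : Con Fr I)

/-- root elements of `I` -/
def Con.x (C : Con Fr I) (x y : Fin m × Bool) (t : F) : I := ⟨Fr.X x y t, C.X x y t⟩

/-- root elements of `I` -/
def Con.z (C : Con Fr I) (x : Fin m × Bool) (p : Fr.Adm) : I := ⟨Fr.Z x p, C.Z x p⟩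

theorem X_add (x y : Fin m × Bool) (s t : F) : C.x x y (s + t) = C.x x y s * C.x x y t :=
  Subtype.ext (Fr.X_add x y s t)

theorem comm_XX {x y z : Fin m × Bool} (hxy : x.1 ≠ y.1) (hyz : y.1 ≠ z.1) (hxz : x.1 ≠ z.1) (s t : F) :
    ⁅C.x x y s, C.x (neg y) z t⁆ = C.x x z (s * t) := by
  rw [commutatorElement_def, mul_inv_eq_iff_eq_mul]
  exact Subtype.ext (Fr.conj_X_X hxy hyz hxz s t)

theorem comm_XZ {x y : Fin m × Bool} (hxy : x.1 ≠ y.1) (t : F) (p : Fr.Adm) :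
    ⁅C.x x (neg y) t, C.z y p⁆ =
      C.z x (Frame.Adm.smul (H.σ t) p) * C.x x y (-(H.ε⁻¹ * Fr.η y * H.σ p.c * t)) := by
  rw [commutatorElement_def, mul_inv_eq_iff_eq_mul]
  exact Subtype.ext (Fr.conj_X_Z hxy t p)

theorem comm_ZZ {x y : Fin m × Bool} (hxy : x.1 ≠ y.1) (p q : Fr.Adm) :
    ⁅C.z x p, C.z y q⁆ = C.x x y (-(Fr.η y * H.σ (H.h p.w q.w))) := by
  have e := Fr.Z_mul_Z hxy p q
  have e' : Fr.Z x p * Fr.Z y q * (Fr.Z x p)⁻¹ = Fr.X x y (-(Fr.η y * H.σ (H.h p.w q.w))) * Fr.Z y q := by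
    rw [e]; group
  rw [commutatorElement_def, mul_inv_eq_iff_eq_mul]
  exact Subtype.ext e'

theorem commute_same (htr : ∀ a : F, (Frame.Adm.tr a : Fr.Adm) = 1) {x y : Fin m × Bool} (hxy : x.1 ≠ y.1)
    (s t : F) : Commute (C.x x y s) (C.x x (neg y) t) := by
  have e := Fr.X_mul_X_same hxy s t
  rw [htr, Fr.Z_one, one_mul] at e
  exact Subtype.ext e

theorem commute_XX {x y z u : Fin m × Bool} (h1 : z ≠ neg x) (h2 : z ≠ neg y) (h3 : u ≠ neg x)
    (h4 : u ≠ neg y) (s t : F) : Commute (C.x x y s) (C.x z u t) :=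
  Subtype.ext (Fr.commute_XX h1 h2 h3 h4 s t).eq

theorem commute_ZX {x y z : Fin m × Bool} (h1 : y ≠ neg x) (h2 : z ≠ neg x) (p : Fr.Adm) (t : F) :
    Commute (C.z x p) (C.x y z t) :=
  Subtype.ext (Fr.commute_ZX h1 h2 p t).eq

/-- at least three indices -/
def Three (m : ℕ) : Prop := ∀ i j : Fin m, ∃ k, k ≠ i ∧ k ≠ j

theorem three_of_le (hm : 3 ≤ m) : Three m := by
  intro i j
  by_contra hcon
  push Not at hcon
  have h1 : ∀ k : Fin m, k = i ∨ k = j := fun k => by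
    by_cases hk : k = i
    · exact Or.inl hk
    · exact Or.inr (hcon k hk)
  have h2 : (Finset.univ : Finset (Fin m)) ⊆ {i, j} := fun k _ => by simpa using h1 k
  have h3 := Finset.card_le_card h2
  have h4 : ({i, j} : Finset (Fin m)).card ≤ 2 := Finset.card_le_two
  rw [Finset.card_univ, Fintype.card_fin] at h3
  omega

theorem ne_neg_of {x y : Fin m × Bool} (h : x.1 ≠ y.1) : x ≠ neg y := fun e => h (by rw [e]; rfl)

variable {L : Type*} [Group L] {π : L →* I} (h : CE π)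

/-- torus elements separating `X x y` from `X x (-y)` -/
def TorHyp (C : Con Fr I) : Prop := ∀ x y : Fin m × Bool, x.1 ≠ y.1 → ∃ (k : I) (μ : F), μ ≠ 1 ∧
  (∀ s, k * C.x x y s * k⁻¹ = C.x x y (μ * s)) ∧ ∀ t, Commute (C.x x (neg y) t) k

include h

theorem lc_ZX (h3 : Three m) {x y : Fin m × Bool} (hxy : x.1 ≠ y.1) (p : Fr.Adm) (s : F) :
    h.lc (C.z x p) (C.x x y s) = 1 := by
  obtain ⟨k, hkx, hky⟩ := h3 x.1 y.1
  have e := comm_XX C (x := x) (y := (k, true)) (z := y) hkx.symm hky hxy s 1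
  rw [mul_one] at e
  rw [← e]
  apply h.lc_comm_eq_one
  · exact commute_ZX C (ne_neg_self x) (ne_neg_of hkx) p s
  · exact commute_ZX C (ne_neg_of (x := neg (k, true)) hkx) (ne_neg_of hxy.symm) p 1

theorem lc_XX (h3 : Three m) {x y : Fin m × Bool} (hxy : x.1 ≠ y.1) (s t : F) :
    h.lc (C.x x y s) (C.x x y t) = 1 := by
  obtain ⟨k, hkx, hky⟩ := h3 x.1 y.1
  have e := comm_XX C (x := x) (y := (k, true)) (z := y) hkx.symm hky hxy t 1
  rw [mul_one] at e
  rw [← e]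
  apply h.lc_comm_eq_one
  · exact commute_XX C (ne_neg_self x) (ne_neg_of hxy) (ne_neg_of hkx) (ne_neg_of hky) s t
  · exact commute_XX C (ne_neg_of (x := neg (k, true)) hkx) (ne_neg_of (x := neg (k, true)) hky)
      (ne_neg_of hxy.symm) (ne_neg_self y) s 1

theorem lc_orth (htr : ∀ a : F, (Frame.Adm.tr a : Fr.Adm) = 1) (ht : TorHyp C) {x y : Fin m × Bool}
    (hxy : x.1 ≠ y.1) (s t : F) : h.lc (C.x x (neg y) t) (C.x x y s) = 1 := by
  obtain ⟨k, μ, hμ, h1, h2⟩ := ht x y hxy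
  set r : F := (μ - 1)⁻¹ * s with hr
  have hμ' : μ - 1 ≠ 0 := sub_ne_zero.2 hμ
  have e : ⁅k, C.x x y r⁆ = C.x x y s := by
    rw [commutatorElement_def, h1, mul_inv_eq_iff_eq_mul, ← X_add]
    congr 1
    rw [hr]; field_simp; ring
  rw [← e]
  exact h.lc_comm_eq_one (h2 t) (commute_same C htr hxy r t).symm

theorem lc_ZZ (h3 : Three m) (htr : ∀ a : F, (Frame.Adm.tr a : Fr.Adm) = 1) (ht : TorHyp C)
    (x : Fin m × Bool) (p q : Fr.Adm) : h.lc (C.z x p) (C.z x q) = 1 := by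
  obtain ⟨k, hkx, -⟩ := h3 x.1 x.1
  set y : Fin m × Bool := (k, true) with hy
  have hxy : x.1 ≠ y.1 := hkx.symm
  have hc : Commute (C.z x p) (C.x x (neg y) 1) := commute_ZX C (ne_neg_self x) (ne_neg_of (x := neg y) hkx) p 1
  have e1 := comm_XZ C hxy 1 q
  rw [map_one, Frame.Adm.one_smul, mul_one] at e1
  have e2 := comm_ZZ C hxy p q
  have e3 := h.hw (b := C.z y q) hc
  rw [e1, e2] at e3
  have hcX : ∀ s, Commute (C.z x p) (C.x x y s) := fun s => commute_ZX C (ne_neg_self x) (ne_neg_of hkx) p s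
  have hcZ : ∀ s, Commute (C.x x y s) (C.x x y (-(H.ε⁻¹ * Fr.η y * H.σ q.c))) := fun s =>
    commute_XX C (ne_neg_self x) (ne_neg_of hxy) (ne_neg_of hkx) (ne_neg_self y) s _
  have e4 : ∀ s, h.lc (C.x x y s) (C.z x q) = 1 := fun s => by
    rw [h.lc_swap, lc_ZX C h h3 hxy q s, inv_one]
  rw [h.lc_mul_right (hcX _), lc_ZX C h h3 hxy, mul_one, lc_orth C h htr ht hxy, one_mul,
    h.lc_mul_right (hcZ _), e4, lc_XX C h h3 hxy, mul_one] at e3
  exact e3

omit h

/-- `CE` from `Dbl` -/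
theorem ce_of_dbl {c : L} (hd : Dbl π c) : CE π :=
  CE.of_ker hd.surj hd.cen fun x hx => (hd.ker x).1 hx

/-- The root groups of type II. -/
theorem abPre_Z (h3 : Three m) (htr : ∀ a : F, (Frame.Adm.tr a : Fr.Adm) = 1) (ht : TorHyp C) (x : Fin m × Bool) :
    AbPre ((ZG Fr x).subgroupOf I) := by
  intro L _ _ π c hd a b ha hb
  have h := ce_of_dbl hd
  obtain ⟨p, hp⟩ := ha
  obtain ⟨q, hq⟩ := hb
  have hp' : π a = C.z x p := Subtype.ext hp
  have hq' : π b = C.z x q := Subtype.ext hq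
  refine (h.commute_of_lc ?_).eq
  rw [hp', hq']
  exact lc_ZZ C h h3 htr ht x p q

/-! ### Torus elements -/

/-- orthogonal type -/
structure OC (H : HForm F V) : Prop where
  σ : ∀ a, H.σ a = a
  ε : H.ε = 1

section Tor

variable (Fr) (ho : OC H) [CharP F 2]

include ho in
omit [CharP F 2] in
theorem η_eq (x : Fin m × Bool) : Fr.η x = 1 := by
  rw [Frame.η, ho.ε]; simp

omit [CharP F 2] in
theorem inv_apply_of {g : V ≃ₗ[F] V} {u v : V} (h : g u = v) : g⁻¹ v = u := by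
  rw [← h]; exact g.symm_apply_apply u

theorem neg_vec {F : Type*} [Field F] {V : Type*} [AddCommGroup V] [Module F V] [CharP F 2] (v : V) : -v = v := by
  have h2 : (2 : F) = 0 := CharTwo.two_eq_zero
  have : v + v = 0 := by rw [← two_smul F v, h2, zero_smul]
  exact neg_eq_of_add_eq_zero_left this

omit [CharP F 2] in
theorem tX_self {x y : Fin m × Bool} (h : x.1 ≠ y.1) {t : F} (ht : t ≠ 0) :
    (nX Fr x y t * (nX Fr x y 1)⁻¹) (Fr.b x) = t • Fr.b x := by
  have e := nX_apply_neg Fr h (t := (1 : F)) one_ne_zero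
  rw [one_smul] at e
  rw [mul_apply', inv_apply_of e, nX_apply_neg Fr h ht]

include ho

theorem tX_other {x y : Fin m × Bool} (h : x.1 ≠ y.1) {t : F} (ht : t ≠ 0) :
    (nX Fr x y t * (nX Fr x y 1)⁻¹) (Fr.b y) = t • Fr.b y := by
  have e := nX_apply_neg' Fr h (t := (1 : F)) one_ne_zero
  have e' := nX_apply_neg' Fr h ht
  rw [neg_vec (F := F), η_eq Fr ho, η_eq Fr ho, ho.σ, ho.ε] at e e'
  simp only [inv_one, one_mul, one_smul] at e e'
  rw [mul_apply', inv_apply_of e, e']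

theorem tX_neg_other {x y : Fin m × Bool} (h : x.1 ≠ y.1) {t : F} (ht : t ≠ 0) :
    (nX Fr x y t * (nX Fr x y 1)⁻¹) (Fr.b (neg y)) = t⁻¹ • Fr.b (neg y) := by
  have e := nX_apply_self Fr h (t := (1 : F)) one_ne_zero
  have e' := nX_apply_self Fr h ht
  rw [neg_vec (F := F)] at e e'
  simp only [inv_one, one_smul] at e
  rw [mul_apply', inv_apply_of e, e']

/-- The torus elements separate `X x y` and `X x (-y)`. -/
theorem torHyp (C : Con Fr I) (hq : ∃ t : F, t ≠ 0 ∧ t ≠ 1) : TorHyp C := by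
  obtain ⟨t, ht, ht1⟩ := hq
  intro x y hxy
  have hn : ∀ t, nX Fr x y t ∈ I := fun t => mul_mem (mul_mem (C.X _ _ _) (C.X _ _ _)) (C.X _ _ _)
  have hmem : nX Fr x y t * (nX Fr x y 1)⁻¹ ∈ I := mul_mem (hn t) (inv_mem (hn 1))
  have hiso : H.IsIso (nX Fr x y t * (nX Fr x y 1)⁻¹) :=
    HForm.IsIso.mul H (isIso_nX Fr x y t) (HForm.IsIso.inv H (isIso_nX Fr x y 1))
  have hxy' : x.1 ≠ (neg y).1 := hxy
  refine ⟨⟨nX Fr x y t * (nX Fr x y 1)⁻¹, hmem⟩, t * t, ?_, ?_, ?_⟩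
  · intro h
    apply ht1
    have h2 : (t - 1) ^ 2 = 0 := by rw [sub_pow_char, pow_two, h]; simp
    exact sub_eq_zero.1 (pow_eq_zero_iff (two_ne_zero) |>.1 h2)
  · intro s
    have e := conj_X Fr hiso hxy hxy (tX_self Fr hxy ht) (tX_other Fr ho hxy ht) s
    rw [ho.σ, η_eq Fr ho, inv_one, mul_one, mul_one] at e
    exact Subtype.ext e
  · intro s
    have e := conj_X Fr hiso (x := x) (y := neg y) hxy' hxy' (tX_self Fr hxy ht) (tX_neg_other Fr ho hxy ht) s
    rw [ho.σ, η_eq Fr ho, inv_one, mul_one, mul_one, mul_inv_cancel₀ ht, one_mul] at e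
    exact Subtype.ext (mul_inv_eq_iff_eq_mul.1 e).symm

end Tor

end Cfsg.Agent.KFacts.Mult.OMinusAb
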