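import Cfsg.Agent.KFacts.Mult.WittTwo
import Cfsg.Agent.TitsThree.WBridge

/-!
# Spanning Witt frames; torus elements of a model (helper430)
-/

set_option autoImplicit false
set_option linter.unusedVariables false

namespace Cfsg.Agent.KFacts.Mult.WittTwo

open Cfsg.Agent.TitsThree.Siegel Cfsg.Agent.TitsThree.SiegelGen Cfsg.Agent.TitsThree.WittFrame
open Cfsg.Agent.TitsThree.WittWeyl Cfsg.Agent.TitsThree.WBridge
open Cfsg.Agent.TitsThree.FrameCN
open scoped commutatorElement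

section Span

variable {F : Type*} [Field F] {V : Type*} [AddCommGroup V] [Module F V] {H : HForm F V} {P : PQ H} {m : ℕ}
  (W : WFrame P m)

theorem eq_one_of_fix {g : V ≃ₗ[F] V} (h1 : ∀ x, g ((toFrame W).b x) = (toFrame W).b x)
    (h2 : ∀ w ∈ W.V0, g w = w) : g = 1 := by
  ext v
  obtain ⟨a, b, w, hw, rfl⟩ := W.span v
  have he : ∀ i, g (W.e i) = W.e i := fun i => h1 (i, true)
  have hf : ∀ i, g (W.f i) = W.f i := fun i => h1 (i, false)
  simp only [map_add, map_sum, map_smul, he, hf, h2 w hw]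
  rfl

theorem mem_V0 {v : V} (h : ∀ x, H.h v ((toFrame W).b x) = 0) : v ∈ (toFrame W).V0 := by
  obtain ⟨a, b, w, hw, rfl⟩ := W.span v
  have hsum : ∀ (f : Fin m → V) (u : V), H.h (∑ i, f i) u = ∑ i, H.h (f i) u := by
    intro f u
    let φ : V →+ F := { toFun := fun v => H.h v u, map_zero' := H.zero_left u, map_add' := fun x y => H.add_left x y u }
    exact map_sum φ f Finset.univ
  have ha : ∀ i, a i = 0 := by
    intro i
    have h1 : H.h (∑ i, a i • W.e i + ∑ i, b i • W.f i + w) (W.f i) = 0 := h (i, false)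
    rw [H.add_left, H.add_left, hsum, hsum, W.V0f w hw] at h1
    simp only [H.smul_left, W.ef, W.ff, mul_zero, Finset.sum_const_zero, add_zero] at h1
    simpa using h1
  have hb : ∀ i, b i = 0 := by
    intro i
    have h1 : H.h (∑ i, a i • W.e i + ∑ i, b i • W.f i + w) (W.e i) = 0 := h (i, true)
    rw [H.add_left, H.add_left, hsum, hsum, W.V0e w hw] at h1
    simp only [H.smul_left, W.ee, W.fe, mul_zero, Finset.sum_const_zero, add_zero, zero_add] at h1
    simpa [H.ε_ne] using h1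
  simp only [ha, hb, zero_smul, Finset.sum_const_zero, zero_add]
  exact hw

end Span

section Torus

variable {F : Type*} [Field F] {V : Type*} [AddCommGroup V] [Module F V] {H : HForm F V} {m : ℕ}
  {Fr : Frame H (Fin m)} {K : Type*} [Group K] (M : Model Fr K)

theorem model_conj_X (hε : H.ε = 1) (g : M.I) (hg : H.IsIso (g : V ≃ₗ[F] V)) {x y : Fin m × Bool} {l k : F}
    (hx : (g : V ≃ₗ[F] V) (Fr.b x) = l • Fr.b x) (hy : (g : V ≃ₗ[F] V) (Fr.b y) = k • Fr.b y) (s : F) :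
    M.φ g * M.X x y s * (M.φ g)⁻¹ = M.X x y (l * H.σ k * s) := by
  rw [Model.X, Model.X, ← map_mul, ← map_inv, ← map_mul]
  congr 1
  apply Subtype.ext
  show (g : V ≃ₗ[F] V) * Fr.X x y s * (g : V ≃ₗ[F] V)⁻¹ = Fr.X x y (l * H.σ k * s)
  by_cases h : x.1 ≠ y.1
  · rw [conj_X Fr hg h h hx hy, eta hε, inv_one, mul_one, mul_one]
  · rw [Frame.X, Frame.X, dif_neg h, dif_neg h]; simp

theorem model_conj_Z (g : M.I) (hg : H.IsIso (g : V ≃ₗ[F] V)) {x : Fin m × Bool} {l : F}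
    (hx : (g : V ≃ₗ[F] V) (Fr.b x) = l • Fr.b x) (p q : Fr.Adm) (hw : (g : V ≃ₗ[F] V) p.w = q.w) (hc : p.c = q.c) :
    M.φ g * M.Z x p * (M.φ g)⁻¹ = M.Z x (Frame.Adm.smul (H.σ l) q) := by
  rw [Model.Z, Model.Z, ← map_mul, ← map_inv, ← map_mul]
  congr 1
  apply Subtype.ext
  show (g : V ≃ₗ[F] V) * Fr.Z x p * (g : V ≃ₗ[F] V)⁻¹ = _
  exact conj_Z Fr hg hx p q hw hc

/-- `nX` in the model -/
def mnX (x y : Fin m × Bool) (t : F) : M.I :=
  ⟨nX Fr x y t, M.I.mul_mem (M.I.mul_mem (M.hX _ _ _) (M.hX _ _ _)) (M.hX _ _ _)⟩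

/-- `nZ` in the model -/
def mnZ (x : Fin m × Bool) (p : Fr.Adm) : M.I :=
  ⟨nZ Fr x p, M.I.mul_mem (M.I.mul_mem (M.hZ _ _) (M.hZ _ _)) (M.hZ _ _)⟩

end Torus

end Cfsg.Agent.KFacts.Mult.WittTwo
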