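import Cfsg.Agent.KFacts.Mult.OMinusTwo
import Cfsg.Agent.KFacts.Mult.WittSpan
import Cfsg.Agent.TitsThree.KSideO
import Cfsg.Agent.S0294

/-!
# `PΩ^-_{2n}(2)`, `n ≥ 4`, has no perfect double cover (helper430)
-/

set_option autoImplicit false
set_option linter.unusedVariables false

namespace Cfsg.Agent.KFacts.Mult.OMinusTwoInst

open Cfsg.Agent.TitsThree.Siegel Cfsg.Agent.TitsThree.SiegelGen Cfsg.Agent.TitsThree.WittFrame
open Cfsg.Agent.TitsThree.WittWeyl Cfsg.Agent.TitsThree.WBridge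
open Cfsg.Agent.TitsThree.FrameCN Cfsg.Agent.KFacts.Mult.ChainZ Cfsg.Agent.KFacts.Mult.WittTwo
open Cfsg.Agent.KFacts.Mult.OMinusTwo Cfsg.Agent.KFacts.MulDef
open scoped commutatorElement

section Gen

variable {F : Type*} [Field F] {V : Type*} [AddCommGroup V] [Module F V] {H : HForm F V} {m : ℕ}
  {Fr : Frame H (Fin m)} {K : Type*} [Group K] (M : Model Fr K)

/-- the element of order 3 -/
def tau (x0 : Fin m × Bool) (p1 p2 : Fr.Adm) : M.I := mnZ M x0 p1 * (mnZ M x0 p2)⁻¹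

theorem tau_apply (x0 : Fin m × Bool) (p1 p2 : Fr.Adm) {v w : V} (h : nZ Fr x0 p2 v = w) :
    (tau M x0 p1 p2 : V ≃ₗ[F] V) w = nZ Fr x0 p1 v := by
  show nZ Fr x0 p1 ((nZ Fr x0 p2)⁻¹ w) = _
  rw [← h]
  congr 1
  exact (nZ Fr x0 p2).symm_apply_apply v

variable {M}

/-- Construction of the data. -/
noncomputable def oData (h2 : (2 : F) = 0) (hε : H.ε = 1) (hσ : ∀ s, H.σ s = s) (hF : ∀ s : F, s = 0 ∨ s = 1)
    (p1 p2 : Fr.Adm) (c1 : p1.c = 1) (c2 : p2.c = 1) (c3 : (p1 * p2).c = 1)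
    (w1 : p1.w ≠ 0) (w2 : p2.w ≠ 0) (w3 : (p1 * p2).w ≠ 0) (h11 : H.h p1.w p1.w = 0) (h22 : H.h p2.w p2.w = 0)
    (h12 : H.h p1.w p2.w = 1) (sq1 : p1 * p1 = 1) (sq2 : p2 * p2 = 1) (comm : p2 * p1 = p1 * p2)
    (all : ∀ p : Fr.Adm, p = 1 ∨ p = p1 ∨ p = p2 ∨ p = p1 * p2)
    (hfix : ∀ g : V ≃ₗ[F] V, (∀ x, g (Fr.b x) = Fr.b x) → (∀ w ∈ Fr.V0, g w = w) → g = 1)
    (hex : ∀ w ∈ Fr.V0, ∃ c, Fr.ok w c) (x0 : Fin m × Bool) : OData M := by
  have h21 : H.h p2.w p1.w = 1 := by rw [H.swap p1.w p2.w, h12, hε, map_one, one_mul]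
  have hbx : ∀ p : Fr.Adm, p.c = 1 → nZ Fr x0 p (Fr.b x0) = Fr.b (neg x0) := by
    intro p hp
    rw [nZ_apply_self Fr x0 p (by rw [hp]; exact one_ne_zero), hε, eta hε, hp, map_one, inv_one, one_mul, one_mul,
      one_smul]
  have hbn : ∀ p : Fr.Adm, p.c = 1 → nZ Fr x0 p (Fr.b (neg x0)) = Fr.b x0 := by
    intro p hp
    rw [nZ_apply_neg Fr x0 p (by rw [hp]; exact one_ne_zero), eta hε, hp, one_mul, one_smul]
  have hb : ∀ z, (tau M x0 p1 p2 : V ≃ₗ[F] V) (Fr.b z) = Fr.b z := by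
    intro z
    by_cases h1 : z = x0
    · subst h1
      rw [tau_apply M z p1 p2 (hbn p2 c2), hbn p1 c1]
    by_cases h3 : z = neg x0
    · subst h3
      rw [tau_apply M x0 p1 p2 (hbx p2 c2), hbx p1 c1]
    · have h4 := fst_ne h1 h3
      rw [tau_apply M x0 p1 p2 (nZ_apply_of_ne Fr h4 p2), nZ_apply_of_ne Fr h4 p1]
  have hv : ∀ p : Fr.Adm, p.c = 1 → ∀ w ∈ Fr.V0, nZ Fr x0 p w = w + H.h w p.w • p.w := by
    intro p hp w hw
    rw [nZ_apply_V0 Fr x0 p (by rw [hp]; exact one_ne_zero) hw, hε, hp, inv_one, one_mul, one_mul]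
  have m1 := Fr.ok_mem p1.ok
  have m2 := Fr.ok_mem p2.ok
  have dbl : ∀ v : V, v + v = 0 := fun v => by rw [← two_smul F v, h2, zero_smul]
  have t1 : (tau M x0 p1 p2 : V ≃ₗ[F] V) p1.w = p2.w := by
    have e : nZ Fr x0 p2 (p1.w + p2.w) = p1.w := by
      rw [hv p2 c2 _ (Fr.V0.add_mem m1 m2), H.add_left, h12, h22, add_zero, one_smul, add_assoc, dbl, add_zero]
    rw [tau_apply M x0 p1 p2 e, hv p1 c1 _ (Fr.V0.add_mem m1 m2), H.add_left, h11, h21, zero_add, one_smul,
      add_comm p1.w p2.w, add_assoc, dbl, add_zero]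
  have t2 : (tau M x0 p1 p2 : V ≃ₗ[F] V) p2.w = p1.w + p2.w := by
    have e : nZ Fr x0 p2 p2.w = p2.w := by
      rw [hv p2 c2 _ m2, h22, zero_smul, add_zero]
    rw [tau_apply M x0 p1 p2 e, hv p1 c1 _ m2, h21, one_smul, add_comm]
  have t3 : (tau M x0 p1 p2 : V ≃ₗ[F] V) (p1.w + p2.w) = p1.w := by
    rw [map_add, t1, t2, add_comm, add_assoc, dbl, add_zero]
  have hiso : H.IsIso (tau M x0 p1 p2 : V ≃ₗ[F] V) :=
    HForm.IsIso.mul H (isIso_nZ Fr _ _) (HForm.IsIso.inv H (isIso_nZ Fr _ _))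
  have hcube : tau M x0 p1 p2 ^ 3 = 1 := by
    apply Subtype.ext
    refine hfix _ (fun x => ?_) (fun w hw => ?_)
    · show (tau M x0 p1 p2 : V ≃ₗ[F] V) ((tau M x0 p1 p2 : V ≃ₗ[F] V) ((tau M x0 p1 p2 : V ≃ₗ[F] V) (Fr.b x))) = _
      rw [hb, hb, hb]
    · show (tau M x0 p1 p2 : V ≃ₗ[F] V) ((tau M x0 p1 p2 : V ≃ₗ[F] V) ((tau M x0 p1 p2 : V ≃ₗ[F] V) w)) = _
      obtain ⟨c, hc⟩ := hex w hw
      rcases all ⟨w, c, hc⟩ with h | h | h | h
      · have : w = 0 := congrArg Frame.Adm.w h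
        rw [this, map_zero, map_zero, map_zero]
      · have : w = p1.w := congrArg Frame.Adm.w h
        rw [this, t1, t2, t3]
      · have : w = p2.w := congrArg Frame.Adm.w h
        rw [this, t2, t3, t1]
      · have : w = p1.w + p2.w := congrArg Frame.Adm.w h
        rw [this, t3, t1, t2]
  have tz : ∀ x (p q : Fr.Adm), (tau M x0 p1 p2 : V ≃ₗ[F] V) p.w = q.w → p.c = q.c →
      M.φ (tau M x0 p1 p2) * M.Z x p * (M.φ (tau M x0 p1 p2))⁻¹ = M.Z x q := by
    intro x p q h1 h3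
    have := model_conj_Z M (tau M x0 p1 p2) hiso (x := x) (l := 1) (by rw [hb, one_smul]) p q h1 h3
    rw [this, map_one, Frame.Adm.one_smul]
  exact
    { h2 := h2, hε := hε, hσ := hσ, hF := hF, p1 := p1, p2 := p2, c1 := c1, c2 := c2, c3 := c3, w1 := w1, w2 := w2
      w3 := w3, h11 := h11, h22 := h22, h12 := h12, sq1 := sq1, sq2 := sq2, comm := comm, all := all
      t := M.φ (tau M x0 p1 p2)
      t3 := by rw [← map_pow, hcube, map_one]
      tX := fun x y s => by
        rw [model_conj_X M hε (tau M x0 p1 p2) hiso (x := x) (y := y) (l := 1) (k := 1) (by rw [hb, one_smul])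
          (by rw [hb, one_smul]), map_one, one_mul, one_mul]
      tZ1 := fun x => tz x _ _ t1 (by rw [c1, c2])
      tZ2 := fun x => tz x _ _ t2 (by rw [c2, c3])
      tZ3 := fun x => tz x _ _ t3 (by rw [c1, c3]) }

end Gen

section Inst

open QuadraticMap
open Cfsg.Agent.LieClassical Cfsg.Agent.LieClassical.OrthCore Cfsg.Agent.LieClassical.OrthTrans
open Cfsg.Agent.LieClassical.OrthSimple Cfsg.Agent.LieClassical.OrthFinite
open Cfsg.Agent.LieClassical.OrthForms Cfsg.Agent.TitsThree.KSideO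

variable (m : ℕ) (F : Type*) [Field F] (a b : F)
  (hab : ∀ z₁ z₂ : F, z₁ ^ 2 + a * z₁ * z₂ + b * z₂ ^ 2 = 0 → z₁ = 0 ∧ z₂ = 0)

/-- the elements of the anisotropic plane -/
def vec (u v : F) : (Fin m ⊕ Fin m) ⊕ Fin 2 → F := Sum.elim (fun _ => 0) ![u, v]

theorem Q_vec (u v : F) : minusForm m F a b (vec m F u v) = u ^ 2 + a * u * v + b * v ^ 2 := by
  rw [coe_minusForm, quadFormMinus_apply]
  simp [vec]

theorem h_vec (u v u' v' : F) : (HO (minusForm m F a b)).h (vec m F u v) (vec m F u' v') =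
    2 * u * u' + a * (u * v' + v * u') + 2 * b * v * v' := by
  rw [HO_h, polar_minusForm]
  simp [vec]

/-- the admissible pairs -/
def adm (u v : F) : (toFrame (wminus m F a b hab)).Adm :=
  ⟨vec m F u v, -minusForm m F a b (vec m F u v), fun _ => rfl, rfl⟩

theorem adm_c (u v : F) : (adm m F a b hab u v).c = -(u ^ 2 + a * u * v + b * v ^ 2) := by
  rw [← Q_vec m F a b u v]; rfl

theorem adm_w (u v : F) : (adm m F a b hab u v).w = vec m F u v := rfl

theorem adm_ext {p q : (toFrame (wminus m F a b hab)).Adm} (h : p.w = q.w) : p = q := by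
  apply Frame.Adm.ext h
  have h1 : p.c = -(minusForm m F a b) p.w := p.ok.2
  have h2 : q.c = -(minusForm m F a b) q.w := q.ok.2
  rw [h1, h2, h]

theorem vec_add (u v u' v' : F) : vec m F u v + vec m F u' v' = vec m F (u + u') (v + v') := by
  funext j
  rcases j with j | j
  · simp [vec]
  · fin_cases j <;> simp [vec]

theorem vec_zero : vec m F 0 0 = 0 := by
  funext j
  rcases j with j | j
  · simp [vec]
  · fin_cases j <;> simp [vec]

theorem adm_mul (u v u' v' : F) :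
    adm m F a b hab u v * adm m F a b hab u' v' = adm m F a b hab (u + u') (v + v') := by
  apply adm_ext
  rw [Frame.Adm.mul_w]
  exact vec_add m F u v u' v'

theorem adm_zero : adm m F a b hab 0 0 = 1 := adm_ext m F a b hab (vec_zero m F)

theorem adm_surj (p : (toFrame (wminus m F a b hab)).Adm) : ∃ u v, p = adm m F a b hab u v := by
  have hw : ∀ j, p.w (Sum.inl j) = 0 := p.ok.1
  refine ⟨p.w (Sum.inr 0), p.w (Sum.inr 1), adm_ext m F a b hab ?_⟩
  funext j
  rcases j with j | j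
  · rw [hw]; rfl
  · fin_cases j <;> rfl

/-- the data for the minus form over the field with two elements -/
theorem exists_oData [Finite F] (hF2 : Nat.card F = 2) (hG : Good (minusForm m F a b)) (hm : 0 < m)
    (hp : ∃ p : (toFrame (wminus m F a b hab)).Adm, p.c ≠ 0) :
    Nonempty (OData (Cfsg.Agent.TitsThree.KSideO.model (wminus m F a b hab) hG hp)) := by
  have hF : ∀ s : F, s = 0 ∨ s = 1 := by
    intro s
    by_contra hcon
    push Not at hcon
    classical
    have : Fintype F := Fintype.ofFinite F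
    have h1 : ({0, 1, s} : Finset F).card ≤ Fintype.card F := Finset.card_le_univ _
    rw [← Nat.card_eq_fintype_card, hF2, Finset.card_insert_of_notMem, Finset.card_insert_of_notMem,
      Finset.card_singleton] at h1
    · omega
    · simp only [Finset.mem_singleton]; exact fun h => hcon.2 h.symm
    · simp only [Finset.mem_insert, Finset.mem_singleton, not_or]
      exact ⟨zero_ne_one, fun h => hcon.1 h.symm⟩
  have h2 : (2 : F) = 0 := by
    have h3 := hF (2 : F)
    rcases h3 with h3 | h3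
    · exact h3
    · exfalso
      have : (1 : F) + 1 = 1 := by rw [one_add_one_eq_two, h3]
      exact one_ne_zero (left_eq_add.1 this.symm)
  have h11 : (1 : F) + 1 = 0 := by rw [one_add_one_eq_two, h2]
  have hneg : (-1 : F) = 1 := by rw [neg_eq_iff_add_eq_zero, h11]
  have hb : b = 1 := by
    refine (hF b).resolve_left fun h => ?_
    have := (hab 0 1 (by rw [h]; ring)).2
    exact one_ne_zero this
  have ha : a = 1 := by
    refine (hF a).resolve_left fun h => ?_
    have := (hab 1 1 (by rw [h, hb]; linear_combination h2)).2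
    exact one_ne_zero this
  refine ⟨oData h2 rfl (fun _ => rfl) hF (adm m F a b hab 1 0) (adm m F a b hab 0 1) ?_ ?_ ?_ ?_ ?_ ?_ ?_ ?_ ?_ ?_ ?_ ?_
    ?_ (fun g h1 h3 => eq_one_of_fix _ h1 h3) (fun w hw => ⟨_, hw, rfl⟩) (⟨0, hm⟩, true)⟩
  · rw [adm_c]; simp [hneg]
  · rw [adm_c]; simp [hneg, hb]
  · rw [adm_mul, adm_c, ha, hb]; simp only [zero_add, add_zero]
    linear_combination (-2 : F) * h2
  · intro h
    have := congrFun h (Sum.inr 0)
    simp [adm_w, vec] at this
  · intro h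
    have := congrFun h (Sum.inr 1)
    simp [adm_w, vec] at this
  · intro h
    have := congrFun h (Sum.inr 0)
    simp [adm_w, vec] at this
  · rw [adm_w, h_vec, h2]; ring
  · rw [adm_w, h_vec, h2]; ring
  · rw [adm_w, adm_w, h_vec, h2, ha]; ring
  · rw [adm_mul, add_zero, h11, adm_zero]
  · rw [adm_mul, add_zero, h11, adm_zero]
  · rw [adm_mul, adm_mul, add_comm (0 : F), add_comm (1 : F) 0]
  · intro p
    obtain ⟨u, v, rfl⟩ := adm_surj m F a b hab p
    rw [adm_mul, add_zero, zero_add]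
    rcases hF u with rfl | rfl <;> rcases hF v with rfl | rfl
    · left; exact adm_zero m F a b hab
    · right; right; left; rfl
    · right; left; rfl
    · right; right; right; rfl

include hab in
theorem good_minus [Finite F] (hm : 3 ≤ m) : Good (minusForm m F a b) := by
  apply good_of_finite (nondeg_minusForm m F a b hab)
  rw [Module.finrank_fintype_fun_eq_card, Fintype.card_sum, Fintype.card_sum, Fintype.card_fin,
    Fintype.card_fin]
  omega

theorem exists_adm : ∃ p : (toFrame (wminus m F a b hab)).Adm, p.c ≠ 0 := by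
  refine ⟨adm m F a b hab 1 0, ?_⟩
  rw [adm_c]; simp

/-- the anisotropic plane has `|F| ^ 2` elements -/
theorem card_V0 : Nat.card (toFrame (wminus m F a b hab)).V0 = Nat.card F ^ 2 := by
  let e : (toFrame (wminus m F a b hab)).V0 ≃ (Fin 2 → F) :=
    { toFun := fun v j => v.1 (Sum.inr j)
      invFun := fun g => ⟨Sum.elim (fun _ => 0) g, fun _ => rfl⟩
      left_inv := by
        rintro ⟨v, hv⟩
        apply Subtype.ext
        funext j
        rcases j with j | j
        · exact (hv j).symm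
        · rfl
      right_inv := fun g => rfl }
  rw [Nat.card_congr e, Nat.card_fun, Nat.card_fin]

/-- arithmetic -/
theorem exists_odd_part {g N e P : ℕ} (h : g * N = 2 ^ e * P) (hg : ¬ 2 ∣ g) (hP : ¬ 2 ∣ P) :
    ∃ b, N = 2 ^ e * b ∧ ¬ 2 ∣ b := by
  have h1 : (2 ^ e).Coprime g := Nat.Coprime.pow_left _ ((Nat.Prime.coprime_iff_not_dvd Nat.prime_two).2 hg)
  have h2 : 2 ^ e ∣ N := h1.dvd_of_dvd_mul_left (h ▸ Dvd.intro _ rfl)
  obtain ⟨b, rfl⟩ := h2
  refine ⟨b, rfl, fun hb => hP ?_⟩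
  have h3 : g * b = P := by
    have : 2 ^ e * (g * b) = 2 ^ e * P := by rw [← h]; ring
    exact Nat.eq_of_mul_eq_mul_left (by positivity) this
  rw [← h3]
  exact Dvd.dvd.mul_left hb g

theorem nondeg_V0 {M : Model (toFrame (wminus m F a b hab)) (Cfsg.POmega F ⇑(minusForm m F a b))} (D : OData M) :
    ∀ w ∈ (toFrame (wminus m F a b hab)).V0,
      (∀ w' ∈ (toFrame (wminus m F a b hab)).V0, (HO (minusForm m F a b)).h w w' = 0) → w = 0 := by
  intro w hw h
  have m1 := Frame.ok_mem _ D.p1.ok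
  have m2 := Frame.ok_mem _ D.p2.ok
  rcases D.all ⟨w, _, hw, rfl⟩ with h1 | h1 | h1 | h1
  · exact congrArg Frame.Adm.w h1
  · exfalso
    have e : w = D.p1.w := congrArg Frame.Adm.w h1
    have := h D.p2.w m2
    rw [e, D.h12] at this
    exact one_ne_zero this
  · exfalso
    have e : w = D.p2.w := congrArg Frame.Adm.w h1
    have := h D.p1.w m1
    rw [e, D.h21] at this
    exact one_ne_zero this
  · exfalso
    have e : w = D.p1.w + D.p2.w := congrArg Frame.Adm.w h1
    have := h D.p1.w m1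
    rw [e, (HO (minusForm m F a b)).add_left, D.h11, D.h21, zero_add] at this
    exact one_ne_zero this

include hab in
/-- **`PΩ^-_{2(m+1)}(2)`, `m ≥ 3`, has no perfect double cover.** -/
theorem noDouble_minus [Finite F] (hF : Nat.card F = 2) (hm : 3 ≤ m) :
    NoDouble (Cfsg.POmega F (Cfsg.quadFormMinus m F a b)) := by
  have hcard : ∃ N', Nat.card (Cfsg.POmega F (Cfsg.quadFormMinus m F a b)) = 2 ^ ((m + 1) * m) * N' ∧ ¬ 2 ∣ N' := by
    have : Fintype F := Fintype.ofFinite F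
    have h1 := Cfsg.Agent.S0294.result (F := F) (q := 2) (by rw [← Nat.card_eq_fintype_card, hF]) (m + 1) (by omega)
      a b hab
    rw [Nat.add_sub_cancel, mul_assoc (2 ^ ((m + 1) * m))] at h1
    refine exists_odd_part h1 ?_ ?_
    · intro h
      have h2 : 2 ∣ 2 ^ (m + 1) + 1 := h.trans (Nat.gcd_dvd_right _ _)
      have h3 : 2 ∣ 2 ^ (m + 1) := dvd_pow_self 2 (by omega)
      omega
    · intro h
      rcases Nat.prime_two.dvd_mul.1 h with h2 | h2
      · have h3 : 2 ∣ 2 ^ (m + 1) := dvd_pow_self 2 (by omega)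
        omega
      · obtain ⟨i, -, h3⟩ := (Prime.dvd_finsetProd_iff Nat.prime_two.prime _).1 h2
        have h4 : 2 ∣ 2 ^ (2 * (i + 1)) := dvd_pow_self 2 (by omega)
        have h5 : 1 ≤ 2 ^ (2 * (i + 1)) := Nat.one_le_two_pow
        omega
  rw [← coe_minusForm] at hcard ⊢
  intro L _ _ π c hd
  have hfin : Finite (Cfsg.POmega F ⇑(minusForm m F a b)) := Finite.of_surjective π hd.surj
  obtain ⟨D⟩ := exists_oData m F a b hab hF (good_minus m F a b hab hm) (by omega) (exists_adm m F a b hab)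
  obtain ⟨N', h1, h2⟩ := hcard
  refine OData.noDouble D hm ?_ L π c hd
  refine not_dvd_index (isPGroup _ D.h2 (fun v hv => mem_V0 _ hv) (nondeg_V0 m F a b hab D) _) h1 h2 ?_
  have h3 := card_le (Cfsg.Agent.TitsThree.KSideO.model (wminus m F a b hab) (good_minus m F a b hab hm)
    (exists_adm m F a b hab)) (nondeg_V0 m F a b hab D) (fun w hw => ⟨_, hw, rfl⟩)
  have h4 : 1 ≤ Nat.card {c : F // (toFrame (wminus m F a b hab)).ok 0 c} :=
    Nat.one_le_iff_ne_zero.2 (@Nat.card_pos _ ⟨⟨0, Frame.ok_zero _⟩⟩ _).ne'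
  rw [card_V0, hF] at h3
  refine le_trans ?_ h3
  have h5 : (m + 1) * m = (m * m - m) + 2 * m := by
    have : m ≤ m * m := Nat.le_mul_self m
    have e : (m + 1) * m = m * m + m := by ring
    omega
  rw [h5, pow_add, pow_mul]
  exact Nat.mul_le_mul_left _ (Nat.le_mul_of_pos_right _ (Nat.pow_pos h4))

end Inst

end Cfsg.Agent.KFacts.Mult.OMinusTwoInst
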