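import Cfsg.Agent.KFacts.Mult.OMinus
import Cfsg.Agent.KFacts.Mult.OMinusTwoInst

/-!
# `PΩ⁻_{2m}(q)`, `q` even, `m ≥ 4`: the literal field `ominus` of `OddHalf.D9.MultOf.LieND`
-/

set_option autoImplicit false

namespace Cfsg.Agent.KFacts.Mult.OMinusLit

open Cfsg.Agent.KFacts.MulDef

/-- The literal field `ominus` of `LieND` (all `a ≥ 1`). -/
theorem ominus (F : Type) [Field F] [Fintype F] (a m : ℕ) (b c : F) (ha : 1 ≤ a) (hF : Fintype.card F = 2 ^ a)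
    (hm : 4 ≤ m) (hbc : ∀ z₁ z₂ : F, z₁ ^ 2 + b * z₁ * z₂ + c * z₂ ^ 2 = 0 → z₁ = 0 ∧ z₂ = 0) :
    NoDouble (Cfsg.POmega F (Cfsg.quadFormMinus (m - 1) F b c)) := by
  by_cases h1 : a = 1
  · subst h1
    have hc : Nat.card F = 2 := by rw [Nat.card_eq_fintype_card, hF, pow_one]
    exact OMinusTwoInst.noDouble_minus (m - 1) F b c hbc hc (by omega)
  · exact OMinus.ominus F a m b c (by omega) hF hm hbc

end Cfsg.Agent.KFacts.Mult.OMinusLit
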