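import Cfsg.Agent.KFacts.Mult.OMinusAb

/-!
# The torus of an orthogonal Witt frame of minus type, characteristic 2

`Th Fr θ β`: `θ` preserves `V0`, the reflections satisfy `r θ = (β + θ) r` on `V0`, and `u`, `θ u` span `V0` for
every `u ≠ 0`. `T0`: the good isometries fixing the lines of the frame and commuting with `θ` on `V0`;
`torT : TorT Fr p0 (T0 ..)`.
-/

set_option autoImplicit false
set_option linter.unusedSectionVars false

namespace Cfsg.Agent.KFacts.Mult.OMinusTor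

open Cfsg.Agent.ChevalleyStructure.CoxeterGeom Cfsg.Agent.Tits.Roots Cfsg.Agent.Nodes.TypeC
open Cfsg.Agent.Nodes.Comb Cfsg.Agent.Nodes.Reps Cfsg.Agent.Nodes.WittRoot Cfsg.Agent.Nodes.BNOf
  Cfsg.Agent.Nodes.WittRGD
open Cfsg.Agent.TitsThree.Siegel Cfsg.Agent.TitsThree.WittFrame Cfsg.Agent.TitsThree.WittWeyl
open Cfsg.Agent.KFacts.Mult.WittT Cfsg.Agent.KFacts.Mult.WittW Cfsg.Agent.KFacts.Mult.OMinusAb
open scoped commutatorElement

variable {F : Type*} [Field F] {V : Type*} [AddCommGroup V] [Module F V] {H : HForm F V} {n : ℕ}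
  (Fr : Frame H (Fin n))

/-- The data of `θ`. -/
structure Th (θ : V →ₗ[F] V) (β : F) : Prop where
  V0 : ∀ v ∈ Fr.V0, θ v ∈ Fr.V0
  refl : ∀ p : Fr.Adm, p.c ≠ 0 → ∀ v ∈ Fr.V0, θ v + (H.ε⁻¹ * p.c⁻¹ * H.h (θ v) p.w) • p.w =
    β • (v + (H.ε⁻¹ * p.c⁻¹ * H.h v p.w) • p.w) + θ (v + (H.ε⁻¹ * p.c⁻¹ * H.h v p.w) • p.w)
  span : ∀ u ∈ Fr.V0, u ≠ 0 → ∀ w ∈ Fr.V0, ∃ a b : F, w = a • u + b • θ u

/-- `g` preserves `V0`. -/
def PV (g : V ≃ₗ[F] V) : Prop := ∀ v ∈ Fr.V0, g v ∈ Fr.V0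

/-- `g` commutes with `θ` on `V0`. -/
def Cm (θ : V →ₗ[F] V) (g : V ≃ₗ[F] V) : Prop := ∀ v ∈ Fr.V0, g (θ v) = θ (g v)

/-- `g θ = (β + θ) g` on `V0`. -/
def An (θ : V →ₗ[F] V) (β : F) (g : V ≃ₗ[F] V) : Prop := ∀ v ∈ Fr.V0, g (θ v) = β • g v + θ (g v)

variable {Fr} {θ : V →ₗ[F] V} {β : F}

theorem PV.mul {g k : V ≃ₗ[F] V} (hg : PV Fr g) (hk : PV Fr k) : PV Fr (g * k) := fun v hv => hg _ (hk v hv)

theorem Cm.mul {g k : V ≃ₗ[F] V} (hg : Cm Fr θ g) (hk : Cm Fr θ k) (hk' : PV Fr k) : Cm Fr θ (g * k) := by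
  intro v hv
  rw [mul_apply', hk v hv, hg _ (hk' v hv)]; rfl

theorem An.mul_cm {g k : V ≃ₗ[F] V} (hg : An Fr θ β g) (hk : Cm Fr θ k) (hk' : PV Fr k) : An Fr θ β (g * k) := by
  intro v hv
  rw [mul_apply', hk v hv, hg _ (hk' v hv)]; rfl

theorem Cm.mul_an {g k : V ≃ₗ[F] V} (hg : Cm Fr θ g) (hk : An Fr θ β k) (hk' : PV Fr k) : An Fr θ β (g * k) := by
  intro v hv
  rw [mul_apply', hk v hv, map_add, map_smul, hg _ (hk' v hv)]; rfl

theorem An.mul [CharP F 2] {g k : V ≃ₗ[F] V} (hg : An Fr θ β g) (hk : An Fr θ β k) (hk' : PV Fr k) :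
    Cm Fr θ (g * k) := by
  intro v hv
  have h2 : (2 : F) = 0 := CharTwo.two_eq_zero
  rw [mul_apply', hk v hv, map_add, map_smul, hg _ (hk' v hv), ← add_assoc, ← add_smul]
  have : β + β = 0 := by rw [← two_mul, h2, zero_mul]
  rw [this, zero_smul, zero_add]; rfl

theorem Cm.inv {g : V ≃ₗ[F] V} (hg : Cm Fr θ g) (hg' : PV Fr g⁻¹) : Cm Fr θ g⁻¹ := by
  intro v hv
  have h1 := hg _ (hg' v hv)
  have h3 : ∀ v, g (g⁻¹ v) = v := fun v => g.apply_symm_apply v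
  have h4 : ∀ v, g⁻¹ (g v) = v := fun v => g.symm_apply_apply v
  rw [h3] at h1
  rw [← h1, h4]

theorem An.inv [CharP F 2] {g : V ≃ₗ[F] V} (hg : An Fr θ β g) (hg' : PV Fr g⁻¹) : An Fr θ β g⁻¹ := by
  intro v hv
  have h1 := hg _ (hg' v hv)
  have h3 : ∀ v, g (g⁻¹ v) = v := fun v => g.apply_symm_apply v
  have h4 : ∀ v, g⁻¹ (g v) = v := fun v => g.symm_apply_apply v
  rw [h3] at h1
  have h5 : θ v = g (θ (g⁻¹ v)) + β • v := by
    rw [h1, add_comm (β • v), add_assoc, ← add_smul]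
    have h2 : (2 : F) = 0 := CharTwo.two_eq_zero
    have : β + β = 0 := by rw [← two_mul, h2, zero_mul]
    rw [this, zero_smul, add_zero]
  rw [h5, map_add, h4, map_smul, add_comm]

theorem Cm.pow {g : V ≃ₗ[F] V} (hg : Cm Fr θ g) (hg' : PV Fr g) (k : ℕ) : Cm Fr θ (g ^ k) := by
  induction k with
  | zero => intro v _; rw [pow_zero]; rfl
  | succ k ih => rw [pow_succ]; exact ih.mul hg hg'

variable (hV0 : ∀ v, (∀ x, H.h v (Fr.b x) = 0) → v ∈ Fr.V0)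

/-! ### The Weyl elements -/

theorem pv_nX {x y : Fin n × Bool} (h : x.1 ≠ y.1) (t : F) : PV Fr (nX Fr x y t) := fun v hv => by
  rw [nX_apply_V0 Fr h hv]; exact hv

theorem cm_nX (hθ : Th Fr θ β) {x y : Fin n × Bool} (h : x.1 ≠ y.1) (t : F) : Cm Fr θ (nX Fr x y t) := fun v hv => by
  rw [nX_apply_V0 Fr h hv, nX_apply_V0 Fr h (hθ.V0 v hv)]

theorem pv_nZ (x : Fin n × Bool) {p : Fr.Adm} (hp : p.c ≠ 0) : PV Fr (nZ Fr x p) := fun v hv => by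
  rw [nZ_apply_V0 Fr x p hp hv]
  exact Submodule.add_mem _ hv (Submodule.smul_mem _ _ (Fr.ok_mem p.ok))

theorem an_nZ (hθ : Th Fr θ β) (x : Fin n × Bool) {p : Fr.Adm} (hp : p.c ≠ 0) : An Fr θ β (nZ Fr x p) :=
  fun v hv => by
  rw [nZ_apply_V0 Fr x p hp hv, nZ_apply_V0 Fr x p hp (hθ.V0 v hv)]
  exact hθ.refl p hp v hv

theorem pv_inv_nX {x y : Fin n × Bool} (h : x.1 ≠ y.1) (t : F) : PV Fr (nX Fr x y t)⁻¹ := fun v hv => by
  rw [inv_apply_of (nX_apply_V0 Fr h hv t)]; exact hv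

include hV0

/-- the permutation of `nZ` -/
theorem mono_nZ' (i : Fin n) {p : Fr.Adm} (hp : p.c ≠ 0) :
    Mono Fr (nZ Fr (i, true) p) (fun x => if x.1 = i then ng x else x) := by
  have h3 := H.ε_ne
  have hσ : H.σ p.c ≠ 0 := by simpa using hp
  have hη := Fr.η_ne (i, true)
  intro x
  by_cases h1 : x.1 = i
  · obtain ⟨j, s⟩ := x
    simp only at h1
    subst h1
    try dsimp only
    rw [if_pos rfl]
    cases s
    · exact ⟨Fr.η (j, true) * p.c, mul_ne_zero hη hp, nZ_apply_neg Fr (j, true) p hp⟩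
    · exact ⟨_, by simp [*], nZ_apply_self Fr (j, true) p hp⟩
  · refine ⟨1, one_ne_zero, ?_⟩
    try dsimp only
    rw [one_smul, if_neg h1]
    exact nZ_apply_of_ne Fr (x := (i, true)) (z := x) h1 p

theorem swap_swap (i : Fin n) (x : Fin n × Bool) :
    (fun x : Fin n × Bool => if x.1 = i then ng x else x) ((fun x : Fin n × Bool => if x.1 = i then ng x else x) x) = x := by
  by_cases h1 : x.1 = i
  · simp only [h1, if_true, ng_fst, ng_ng]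
  · simp only [h1, if_false]

theorem pv_inv_nZ [Finite V] (i : Fin n) {p : Fr.Adm} (hp : p.c ≠ 0) : PV Fr (nZ Fr (i, true) p)⁻¹ := fun _ hv =>
  Good.map_V0 hV0 (good_nZ (i, true) hp).inv ((mono_nZ' hV0 i hp).inv (swap_swap hV0 i)) (swap_swap hV0 i) hv

theorem pv_nn {p0 : Fr.Adm} (hp0 : p0.c ≠ 0) (i : Fin n) : PV Fr (nn Fr p0 i) := by
  unfold Cfsg.Agent.Nodes.WittRGD.nn
  split_ifs with h
  · exact pv_nX (nx_ne h) 1
  · exact pv_nZ _ hp0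

theorem pv_inv_nn [Finite V] {p0 : Fr.Adm} (hp0 : p0.c ≠ 0) (i : Fin n) : PV Fr (nn Fr p0 i)⁻¹ := by
  unfold Cfsg.Agent.Nodes.WittRGD.nn
  split_ifs with h
  · exact pv_inv_nX (nx_ne h) 1
  · exact pv_inv_nZ hV0 i hp0

/-! ### The torus -/

variable (Fr θ) in
/-- The torus. -/
def T0 [Finite V] (hV0 : ∀ v, (∀ x, H.h v (Fr.b x) = 0) → v ∈ Fr.V0) : Subgroup (V ≃ₗ[F] V) where
  carrier := {g | Good Fr g ∧ Mono Fr g id ∧ Cm Fr θ g}
  one_mem' := ⟨Good.one, Mono.one, fun _ _ => rfl⟩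
  mul_mem' := fun ⟨h1, h2, h3⟩ ⟨h4, h5, h6⟩ =>
    ⟨h1.mul h4, h2.mul h5, h3.mul h6 fun _ hv => Good.map_V0 hV0 h4 h5 (ρ := id) (fun _ => rfl) hv⟩
  inv_mem' := fun ⟨h1, h2, h3⟩ => ⟨h1.inv, h2.inv fun _ => rfl,
    h3.inv fun _ hv => Good.map_V0 hV0 h1.inv (h2.inv fun _ => rfl) (ρ := id) (fun _ => rfl) hv⟩

theorem cop [Finite V] [CharP F 2] (hθ : Th Fr θ β) : (Nat.card (T0 Fr θ hV0)).Coprime 2 := by
  have : Finite (V ≃ₗ[F] V) := Finite.of_injective (fun g : V ≃ₗ[F] V => (g : V → V)) DFunLike.coe_injective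
  have hp : Fact (Nat.Prime 2) := ⟨Nat.prime_two⟩
  rw [Nat.coprime_comm, Nat.prime_two.coprime_iff_not_dvd]
  intro hdvd
  obtain ⟨⟨g, hgT⟩, hg⟩ := exists_prime_orderOf_dvd_card' 2 hdvd
  have hgp : g ^ 2 = 1 := by
    have := pow_orderOf_eq_one (⟨g, hgT⟩ : T0 Fr θ hV0)
    rw [hg] at this
    exact congrArg Subtype.val this
  obtain ⟨h1, h2, h3⟩ := hgT
  have hb := Mono.apply_of_pow h2 hgp
  have hPV : PV Fr g := fun _ hv => Good.map_V0 hV0 h1 h2 (ρ := id) (fun _ => rfl) hv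
  have hgg : ∀ v, g (g v) = v := fun v => by
    rw [← mul_apply', ← pow_two, hgp]; rfl
  have hch : ∀ v : V, v + v = 0 := fun v => by
    have h2 : (2 : F) = 0 := CharTwo.two_eq_zero
    rw [← two_smul F v, h2, zero_smul]
  have key : g = 1 := by
    apply eq_one_of_fix' hV0 hb
    intro w hw
    by_contra hne
    set u := g w + w with hu
    have hu0 : u ≠ 0 := by
      intro h
      apply hne
      have h4 : g w = -w := eq_neg_of_add_eq_zero_left h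
      rw [h4, neg_vec (F := F)]
    have huV : u ∈ Fr.V0 := Submodule.add_mem _ (hPV w hw) hw
    have hgu : g u = u := by
      rw [hu, map_add, hgg, add_comm]
    have hgθ : g (θ u) = θ u := by rw [h3 u huV, hgu]
    obtain ⟨a, b, hab⟩ := hθ.span u huV hu0 w hw
    apply hne
    rw [hab, map_add, map_smul, map_smul, hgu, hgθ]
  subst key
  have h4 : (⟨1, ⟨h1, h2, h3⟩⟩ : T0 Fr θ hV0) = 1 := rfl
  rw [h4, orderOf_one] at hg
  exact absurd hg (by norm_num)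

theorem even_B {i j : Fin n} (hij : i ≠ j) (h : (¬ (i : ℕ) + 1 < n) ∨ ¬ (j : ℕ) + 1 < n) :
    ∃ k, CoxeterMatrix.B n i j = 2 * k := by
  have hi := i.2
  have hj := j.2
  have hne : (i : ℕ) ≠ j := fun e => hij (Fin.ext e)
  show ∃ k, (if i = j then 1 else (if (i : ℕ) = n - 1 ∧ (j : ℕ) = n - 2 ∨ (j : ℕ) = n - 1 ∧ (i : ℕ) = n - 2 then 4
    else (if (j : ℕ) + 1 = i ∨ (i : ℕ) + 1 = j then 3 else 2)) : ℕ) = 2 * k
  rw [if_neg hij]
  split_ifs with h1 h2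
  · exact ⟨2, rfl⟩
  · exfalso
    omega
  · exact ⟨1, rfl⟩

theorem cm_rel [Finite V] [CharP F 2] (hθ : Th Fr θ β) {p0 : Fr.Adm} (hp0 : p0.c ≠ 0) (i j : Fin n) :
    Cm Fr θ ((nn Fr p0 i * nn Fr p0 j) ^ CoxeterMatrix.B n i j) := by
  have hpi := pv_nn hV0 hp0 i
  have hpj := pv_nn hV0 hp0 j
  have hX : ∀ i : Fin n, (i : ℕ) + 1 < n → Cm Fr θ (nn Fr p0 i) := fun i hi => by
    unfold Cfsg.Agent.Nodes.WittRGD.nn; rw [if_pos hi]; exact cm_nX hθ (nx_ne hi) 1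
  have hZ : ∀ i : Fin n, ¬ (i : ℕ) + 1 < n → An Fr θ β (nn Fr p0 i) := fun i hi => by
    unfold Cfsg.Agent.Nodes.WittRGD.nn; rw [if_neg hi]; exact an_nZ hθ _ hp0
  by_cases h1 : (i : ℕ) + 1 < n
  · by_cases h2 : (j : ℕ) + 1 < n
    · exact ((hX i h1).mul (hX j h2) hpj).pow (hpi.mul hpj) _
    · have hij : i ≠ j := by rintro rfl; exact h2 h1
      obtain ⟨k, hk⟩ := even_B hV0 hij (Or.inr h2)
      have h3 : An Fr θ β (nn Fr p0 i * nn Fr p0 j) := (hX i h1).mul_an (hZ j h2) hpj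
      rw [hk, pow_mul, pow_two]
      exact (h3.mul h3 (hpi.mul hpj)).pow ((hpi.mul hpj).mul (hpi.mul hpj)) _
  · by_cases h2 : (j : ℕ) + 1 < n
    · have hij : i ≠ j := by rintro rfl; exact h1 h2
      obtain ⟨k, hk⟩ := even_B hV0 hij (Or.inl h1)
      have h3 : An Fr θ β (nn Fr p0 i * nn Fr p0 j) := (hZ i h1).mul_cm (hX j h2) hpj
      rw [hk, pow_mul, pow_two]
      exact (h3.mul h3 (hpi.mul hpj)).pow ((hpi.mul hpj).mul (hpi.mul hpj)) _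
    · exact ((hZ i h1).mul (hZ j h2) hpj).pow (hpi.mul hpj) _

/-- **The torus.** -/
theorem torT [Finite V] [CharP F 2] (hθ : Th Fr θ β) {p0 : Fr.Adm} (hp0 : p0.c ≠ 0) :
    TorT Fr p0 (T0 Fr θ hV0) where
  good g hg := hg.1
  mono g hg := hg.2.1
  norm i g hg := by
    obtain ⟨h1, h2, h3⟩ := hg
    have hPg : PV Fr g := fun _ hv => Good.map_V0 hV0 h1 h2 (ρ := id) (fun _ => rfl) hv
    have hPi := pv_inv_nn hV0 hp0 i
    refine ⟨((good_nn hp0 i).mul h1).mul (good_nn hp0 i).inv, ?_, ?_⟩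
    · exact (((mono_nn hp0 i).mul h2).mul ((mono_nn hp0 i).inv (sg_sg i))).congr fun x => sg_sg i x
    · by_cases hi : (i : ℕ) + 1 < n
      · have hX : Cm Fr θ (nn Fr p0 i) := by
          unfold Cfsg.Agent.Nodes.WittRGD.nn; rw [if_pos hi]; exact cm_nX hθ (nx_ne hi) 1
        exact (hX.mul h3 hPg).mul (hX.inv hPi) hPi
      · have hZ : An Fr θ β (nn Fr p0 i) := by
          unfold Cfsg.Agent.Nodes.WittRGD.nn; rw [if_neg hi]; exact an_nZ hθ _ hp0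
        exact (hZ.mul_cm h3 hPg).mul (hZ.inv hPi) hPi
  rel i j := ⟨((good_nn hp0 i).mul (good_nn hp0 j)).pow _,
    (((mono_nn hp0 i).mul (mono_nn hp0 j)).pow _).congr fun x => sg_braid i j x, cm_rel hV0 hθ hp0 i j⟩
  qX i hi t ht := by
    refine ⟨(good_nX (nx_ne hi) t).mul (good_nX (nx_ne hi) 1).inv, ?_, ?_⟩
    · exact ((mono_nX hi ht).mul ((mono_nX hi one_ne_zero).inv (sg_sg i))).congr fun x => sg_sg i x
    · exact (cm_nX hθ (nx_ne hi) t).mul ((cm_nX hθ (nx_ne hi) 1).inv (pv_inv_nX (nx_ne hi) 1))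
        (pv_inv_nX (nx_ne hi) 1)
  qZ i p q hp hq := by
    refine ⟨(good_nZ (i, true) hp).mul (good_nZ (i, true) hq).inv, ?_, ?_⟩
    · exact ((mono_nZ' hV0 i hp).mul ((mono_nZ' hV0 i hq).inv (swap_swap hV0 i))).congr fun x => swap_swap hV0 i x
    · exact (an_nZ hθ _ hp).mul ((an_nZ hθ _ hq).inv (pv_inv_nZ hV0 i hq)) (pv_inv_nZ hV0 i hq)
  cop := cop hV0 hθ

end Cfsg.Agent.KFacts.Mult.OMinusTor
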