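import Cfsg.Agent.KFacts.Mult.WittCount

/-!
# `O^-_{2n}(2)`, `n ≥ 4`: no perfect double cover (helper430)

Commutators of lifts of root elements.
-/

set_option autoImplicit false
set_option linter.unusedVariables false

namespace Cfsg.Agent.KFacts.Mult.OMinusTwo

open Cfsg.Agent.TitsThree.Siegel Cfsg.Agent.TitsThree.WittFrame Cfsg.Agent.TitsThree.WittWeyl
open Cfsg.Agent.TitsThree.FrameCN Cfsg.Agent.KFacts.Mult.ChainZ Cfsg.Agent.KFacts.Mult.WittTwo
open Cfsg.Agent.KFacts.Mult.Calc Cfsg.Agent.KFacts.MulDef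
open scoped commutatorElement

variable {F : Type*} [Field F] {V : Type*} [AddCommGroup V] [Module F V] {H : HForm F V} {m : ℕ}
  {Fr : Frame H (Fin m)} {K : Type*} [Group K]

/-- The data: `F` has two elements, `V0` is the anisotropic plane, `t` the rotation of order 3 of `V0`. -/
structure OData (M : Model Fr K) where
  h2 : (2 : F) = 0
  hε : H.ε = 1
  hσ : ∀ s, H.σ s = s
  hF : ∀ s : F, s = 0 ∨ s = 1
  p1 : Fr.Adm
  p2 : Fr.Adm
  c1 : p1.c = 1
  c2 : p2.c = 1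
  c3 : (p1 * p2).c = 1
  w1 : p1.w ≠ 0
  w2 : p2.w ≠ 0
  w3 : (p1 * p2).w ≠ 0
  h11 : H.h p1.w p1.w = 0
  h22 : H.h p2.w p2.w = 0
  h12 : H.h p1.w p2.w = 1
  sq1 : p1 * p1 = 1
  sq2 : p2 * p2 = 1
  comm : p2 * p1 = p1 * p2
  all : ∀ p : Fr.Adm, p = 1 ∨ p = p1 ∨ p = p2 ∨ p = p1 * p2
  t : K
  t3 : t ^ 3 = 1
  tX : ∀ x y s, t * M.X x y s * t⁻¹ = M.X x y s
  tZ1 : ∀ x, t * M.Z x p1 * t⁻¹ = M.Z x p2
  tZ2 : ∀ x, t * M.Z x p2 * t⁻¹ = M.Z x (p1 * p2)
  tZ3 : ∀ x, t * M.Z x (p1 * p2) * t⁻¹ = M.Z x p1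

namespace OData

variable {M : Model Fr K} (D : OData M)

include D

theorem h21 : H.h D.p2.w D.p1.w = 1 := by
  rw [H.swap D.p1.w D.p2.w, D.h12, D.hε, map_one, one_mul]

theorem hpp (p : Fr.Adm) : H.h p.w p.w = 0 := by
  rcases D.all p with rfl | rfl | rfl | rfl
  · exact H.zero_left _
  · exact D.h11
  · exact D.h22
  · rw [Frame.Adm.mul_w, H.add_left, H.add_right, H.add_right, D.h11, D.h22, D.h12, D.h21, zero_add, add_zero,
      one_add_one_eq_two, D.h2]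

theorem hc {p : Fr.Adm} (hp : p ≠ 1) : p.c = 1 := by
  rcases D.all p with rfl | rfl | rfl | rfl
  · exact absurd rfl hp
  · exact D.c1
  · exact D.c2
  · exact D.c3

theorem commX (x y : Fin m × Bool) (s : F) : Commute D.t (M.X x y s) := by
  have := D.tX x y s
  rw [mul_inv_eq_iff_eq_mul] at this
  exact this

/-- every element `Z_x(p)` is a commutator `[t, Z_x(p')]` -/
theorem exists_br (x : Fin m × Bool) (p : Fr.Adm) : ∃ p', ⁅D.t, M.Z x p'⁆ = M.Z x p := by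
  rcases D.all p with rfl | rfl | rfl | rfl
  · exact ⟨1, by rw [Z_one, commutatorElement_one_right]⟩
  · refine ⟨D.p2, ?_⟩
    rw [commutatorElement_def, D.tZ2, ← Z_inv, ← Z_mul]
    congr 1
    rw [inv_eq_of_mul_eq_one_left D.sq2, mul_assoc, D.sq2, mul_one]
  · refine ⟨D.p1 * D.p2, ?_⟩
    rw [commutatorElement_def, D.tZ3, ← Z_inv, ← Z_mul]
    congr 1
    rw [mul_inv_rev, inv_eq_of_mul_eq_one_left D.sq2, inv_eq_of_mul_eq_one_left D.sq1, D.comm, ← mul_assoc,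
      D.sq1, one_mul]
  · refine ⟨D.p1, ?_⟩
    rw [commutatorElement_def, D.tZ1, ← Z_inv, ← Z_mul]
    congr 1
    rw [inv_eq_of_mul_eq_one_left D.sq1, D.comm]

/-- (R4) -/
theorem brXZ {x y : Fin m × Bool} (hxy : x.1 ≠ y.1) {p : Fr.Adm} (hp : p ≠ 1) :
    ⁅M.X x (neg y) 1, M.Z y p⁆ = M.Z x p * M.X x y 1 := by
  rw [br_XZ M D.h2 D.hε hxy, map_one, Frame.Adm.one_smul, D.hc hp, map_one, one_mul]

theorem ZZcomm {x y : Fin m × Bool} (hxy : x.1 ≠ y.1) (p : Fr.Adm) : Commute (M.Z x p) (M.Z y p) := by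
  rw [← commutatorElement_eq_one_iff_commute, br_ZZ M D.h2 D.hε hxy, D.hpp, map_zero, X_zero]

theorem brZZ {x y : Fin m × Bool} (hxy : x.1 ≠ y.1) : ⁅M.Z x D.p1, M.Z y D.p2⁆ = M.X x y 1 := by
  rw [br_ZZ M D.h2 D.hε hxy, D.h12, map_one]

theorem Xsym {x y : Fin m × Bool} (hxy : x.1 ≠ y.1) (s : F) : M.X x y s = M.X y x s := by
  rw [X_swap M D.h2 D.hε hxy, D.hσ]

section CE

variable {L : Type*} [Group L] {π : L →* K} (ce : CE π)

/-- (K1) -/
theorem k1 {x y z : Fin m × Bool} (h1 : x ≠ neg z) (h2 : y ≠ neg z) (s : F) (p : Fr.Adm) :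
    ce.lc (M.X x y s) (M.Z z p) = 1 := by
  obtain ⟨p', hp'⟩ := D.exists_br z p
  rw [← hp']
  exact ce.lc_comm_eq_one (D.commX x y s).symm (M.commute_ZX h1 h2 p' s).symm

theorem k1' {x y z : Fin m × Bool} (h1 : x ≠ neg z) (h2 : y ≠ neg z) (s : F) (p : Fr.Adm) :
    ce.lc (M.Z z p) (M.X x y s) = 1 := by
  rw [ce.lc_swap, D.k1 ce h1 h2, inv_one]

/-- good pairs -/
theorem k7 {x y z w : Fin m × Bool} (hzw : z.1 ≠ w.1) (h1 : z ≠ neg x) (h2 : z ≠ neg y) (h3 : w ≠ neg x)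
    (h4 : w ≠ neg y) (s t : F) : ce.lc (M.X x y s) (M.X z w t) = 1 := by
  rcases D.hF t with rfl | rfl
  · rw [X_zero, ce.lc_one_right]
  rw [← D.brZZ hzw]
  have e : ∀ {a b : Fin m × Bool}, a ≠ neg b → b ≠ neg a := by
    rintro a b h rfl
    exact h (TitsThree.WittFrame.neg_neg a).symm
  exact ce.lc_comm_eq_one (M.commute_ZX (e h1) (e h2) _ s).symm (M.commute_ZX (e h3) (e h4) _ s).symm

/-- (K2) -/
theorem k2 {x y z : Fin m × Bool} (hxy : x.1 ≠ y.1) (hxz : x.1 ≠ z.1) (hyz : y.1 ≠ z.1) (p : Fr.Adm) :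
    ce.lc (M.Z y p) (M.Z x p) = 1 := by
  by_cases hp : p = 1
  · rw [hp, Z_one, Z_one, ce.lc_self]
  have n1 : ∀ {a b : Fin m × Bool}, a.1 ≠ b.1 → a ≠ neg b := by
    rintro a b h rfl; exact h rfl
  have e := ce.lc_comm_eq_one (l := M.Z y p) (u := M.X x (neg z) 1) (v := M.Z z p)
    (M.commute_ZX (n1 hxy) (n1 (a := neg z) (b := y) hyz.symm) p 1) (D.ZZcomm hyz p)
  rw [D.brXZ hxz hp] at e
  have hc : Commute (M.Z y p) (M.X x z 1) := M.commute_ZX (n1 hxy) (n1 hyz.symm) p 1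
  rw [ce.lc_mul_right hc, D.k1' ce (n1 hxy) (n1 hyz.symm), mul_one] at e
  exact e

omit D in
theorem n1 {a b : Fin m × Bool} (h : a.1 ≠ b.1) : a ≠ neg b := by
  rintro rfl; exact h rfl

theorem mulL {x y : Fin m × Bool} (hxy : x.1 ≠ y.1) (p p' q : Fr.Adm) :
    ce.lc (M.Z x (p * p')) (M.Z y q) = ce.lc (M.Z x p') (M.Z y q) * ce.lc (M.Z x p) (M.Z y q) := by
  rw [Z_mul, ce.lc_mul_left', br_ZZ M D.h2 D.hε hxy, D.k1' ce (ne_neg_self x) (n1 hxy.symm), one_mul]

theorem mulR {x y : Fin m × Bool} (hxy : x.1 ≠ y.1) (p q q' : Fr.Adm) :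
    ce.lc (M.Z x p) (M.Z y (q * q')) = ce.lc (M.Z x p) (M.Z y q) * ce.lc (M.Z x p) (M.Z y q') := by
  rw [Z_mul, ce.lc_mul_right', br_ZZ M D.h2 D.hε hxy, D.k1' ce (n1 hxy) (ne_neg_self y), mul_one]

/-- the lift of `X_{x,y}(1)` -/
noncomputable def om (x y : Fin m × Bool) : L := ce.lc (M.Z x D.p1) (M.Z y D.p2)

theorem map_om {x y : Fin m × Bool} (hxy : x.1 ≠ y.1) : π (D.om ce x y) = M.X x y 1 := by
  rw [om, ce.map_lc, D.brZZ hxy]

theorem om_sq {x y : Fin m × Bool} (hxy : x.1 ≠ y.1) : D.om ce x y * D.om ce x y = 1 := by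
  have := D.mulL ce hxy D.p1 D.p1 D.p2
  rw [D.sq1, Z_one, ce.lc_one_left] at this
  exact this.symm

variable (hm : 3 ≤ m)

include hm in
omit D in
theorem exists_third (i j : Fin m) : ∃ k, i ≠ k ∧ j ≠ k := by
  classical
  obtain ⟨k, hk⟩ : ∃ k, k ∉ ({i, j} : Finset (Fin m)) := by
    by_contra hcon
    push Not at hcon
    have h1 : (Finset.univ : Finset (Fin m)) ⊆ {i, j} := fun k _ => hcon k
    have h2 := Finset.card_le_card h1
    rw [Finset.card_univ, Fintype.card_fin] at h2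
    have h3 := Finset.card_le_two (a := i) (b := j)
    omega
  simp only [Finset.mem_insert, Finset.mem_singleton, not_or] at hk
  exact ⟨k, Ne.symm hk.1, Ne.symm hk.2⟩

include hm

theorem k2' {x y : Fin m × Bool} (hxy : x.1 ≠ y.1) (p : Fr.Adm) : ce.lc (M.Z x p) (M.Z y p) = 1 := by
  obtain ⟨k, h1, h2⟩ := exists_third hm x.1 y.1
  exact D.k2 ce (x := y) (y := x) (z := (k, true)) hxy.symm h2 h1 p

/-- (K3) -/
theorem f21 {x y : Fin m × Bool} (hxy : x.1 ≠ y.1) : ce.lc (M.Z x D.p2) (M.Z y D.p1) = D.om ce x y := by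
  have h1 := D.k2' ce hm hxy (D.p1 * D.p2)
  rw [D.mulL ce hxy, D.mulR ce hxy, D.mulR ce hxy, D.k2' ce hm hxy, D.k2' ce hm hxy, mul_one, one_mul] at h1
  rw [eq_inv_of_mul_eq_one_left h1]
  exact inv_eq_of_mul_eq_one_left (D.om_sq ce hxy)

theorem f_cases {x y : Fin m × Bool} (hxy : x.1 ≠ y.1) (p q : Fr.Adm) :
    ce.lc (M.Z x p) (M.Z y q) = 1 ∨ ce.lc (M.Z x p) (M.Z y q) = D.om ce x y := by
  have e1 : ce.lc (M.Z x D.p1) (M.Z y D.p2) = D.om ce x y := rfl
  have e2 := D.f21 ce hm hxy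
  have e3 := fun p => D.k2' ce hm hxy p
  have e4 := D.om_sq ce hxy
  rcases D.all p with rfl | rfl | rfl | rfl <;> rcases D.all q with rfl | rfl | rfl | rfl <;>
    simp only [Z_one, CE.lc_one_left, CE.lc_one_right, e1, e2, e3, D.mulL ce hxy, D.mulR ce hxy, e4, mul_one, one_mul,
      true_or, or_true]

theorem om_symm {x y : Fin m × Bool} (hxy : x.1 ≠ y.1) : D.om ce y x = D.om ce x y := by
  rw [← D.f21 ce hm hxy, ce.lc_swap, ← om, inv_eq_of_mul_eq_one_left (D.om_sq ce hxy.symm)]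

/-- (K5) -/
theorem k5 {x y z : Fin m × Bool} (hxy : x.1 ≠ y.1) (hyz : y.1 ≠ z.1) (hxz : x.1 ≠ z.1) :
    ce.lc (M.X x y 1) (M.X (neg y) z 1) = D.om ce x z := by
  have hzy : z.1 ≠ (neg y).1 := hyz.symm
  have e0 : ⁅M.Z z D.p1, M.Z (neg y) D.p2⁆ = M.X z (neg y) 1 := D.brZZ hzy
  have h1 := ce.hw (c := M.X x y 1) (a := M.Z z D.p1) (b := M.Z (neg y) D.p2)
    (M.commute_ZX (n1 hxz) (n1 hyz) _ _).symm
  rw [e0] at h1
  have hp2 : D.p2 ≠ 1 := by
    intro e
    apply D.w2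
    rw [e]; rfl
  have e1 : ⁅M.X x y 1, M.Z (neg y) D.p2⁆ = M.Z x D.p2 * M.X x (neg y) 1 := by
    have := D.brXZ (M := M) (x := x) (y := neg y) hxy hp2
    rwa [TitsThree.WittFrame.neg_neg] at this
  rw [e1] at h1
  have c1 : Commute (M.Z z D.p1) (M.X x (neg y) 1) := M.commute_ZX (n1 hxz) (n1 (a := neg y) hyz) _ _
  rw [ce.lc_mul_right c1, D.k1' ce (n1 hxz) (n1 (a := neg y) hyz), mul_one] at h1
  have hne : neg y ≠ neg (neg y) := by
    intro h'; have := congrArg Prod.snd h'; simp [neg] at this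
  have c2 : Commute (M.X x (neg y) 1) (M.X z (neg y) 1) :=
    M.commute_XX (n1 hxz.symm) (n1 (b := neg y) hyz.symm) (n1 (a := neg y) hxy.symm) hne _ _
  rw [ce.lc_mul_left c2, D.k7 ce hzy (n1 hxz.symm) (n1 (b := neg y) hyz.symm) (n1 (a := neg y) hxy.symm) hne, mul_one,
    D.k1' ce (n1 hxz.symm) (n1 (a := neg y) hxy.symm), mul_one] at h1
  rw [D.Xsym (x := neg y) hyz, h1]
  show D.om ce z x = _
  exact D.om_symm ce hm hxz

/-- (K8) -/
theorem k8 {x y z : Fin m × Bool} (hxy : x.1 ≠ y.1) (hyz : y.1 ≠ z.1) (hxz : x.1 ≠ z.1) :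
    ce.lc (M.X y z 1) (M.X y (neg z) 1) = 1 := by
  have e1 : ⁅M.X y (neg x) 1, M.X x z 1⁆ = M.X y z 1 := by
    have := br_XX M (x := y) (y := neg x) (z := z) hxy.symm hxz hyz 1 1
    rwa [TitsThree.WittFrame.neg_neg, mul_one] at this
  have e2 : ⁅M.X y (neg x) 1, M.X x (neg z) 1⁆ = M.X y (neg z) 1 := by
    have := br_XX M (x := y) (y := neg x) (z := neg z) hxy.symm hxz hyz 1 1
    rwa [TitsThree.WittFrame.neg_neg, mul_one] at this
  have e3 : ⁅M.X x z 1, M.X y (neg z) 1⁆ = M.X x y 1 := by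
    rw [D.Xsym (x := y) (y := neg z) hyz]
    have := br_XX M (x := x) (y := z) (z := y) hxz hyz.symm hxy 1 1
    rwa [mul_one] at this
  have e4 : ⁅M.X y z 1, M.X x (neg z) 1⁆ = M.X y x 1 := by
    rw [D.Xsym (x := x) (y := neg z) hxz]
    have := br_XX M (x := y) (y := z) (z := x) hyz hxz.symm hxy.symm 1 1
    rwa [mul_one] at this
  have dcomm : ∀ {a b : Fin m × Bool}, a.1 ≠ b.1 → Commute (M.X a b 1) (M.X a (neg b) 1) := by
    intro a b hab
    rw [← commutatorElement_eq_one_iff_commute, br_same M D.hε hab]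
    have : (Frame.Adm.tr (H.σ 1 * 1) : Fr.Adm) = 1 := by
      apply Frame.Adm.ext
      · rfl
      · rw [Frame.Adm.tr_c, D.hσ, D.hσ, D.hε]; simp
    rw [this, Z_one]
  have c1 : M.X y (neg x) 1 * M.X x z 1 * (M.X y (neg x) 1)⁻¹ = M.X y z 1 * M.X x z 1 := by
    rw [← e1, commutatorElement_def, inv_mul_cancel_right]
  have c2 : M.X y (neg x) 1 * M.X x (neg z) 1 * (M.X y (neg x) 1)⁻¹ = M.X y (neg z) 1 * M.X x (neg z) 1 := by
    rw [← e2, commutatorElement_def, inv_mul_cancel_right]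
  have h1 := ce.conj_lc (ce.lift (M.X y (neg x) 1)) (M.X x z 1) (M.X x (neg z) 1)
  rw [ce.map_lift, c1, c2, ce.lc_comm (dcomm hxz), mul_inv_cancel_right] at h1
  have e5 : ⁅M.X x z 1, M.X y (neg z) 1 * M.X x (neg z) 1⁆ = M.X x y 1 := by
    have h3 : ⁅M.X x z 1, M.X x (neg z) 1⁆ = 1 := commutatorElement_eq_one_iff_commute.2 (dcomm hxz)
    have h4 : ⁅M.X x z 1, M.X y (neg z) 1 * M.X x (neg z) 1⁆ =
      ⁅M.X x z 1, M.X y (neg z) 1⁆ * (M.X y (neg z) 1 * ⁅M.X x z 1, M.X x (neg z) 1⁆ * (M.X y (neg z) 1)⁻¹) := by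
      simp only [commutatorElement_def]; group
    rw [h4, h3, mul_one, mul_inv_cancel, mul_one, e3]
  have f1 : ce.lc (M.X y z 1) (M.X x y 1) = 1 := D.k7 ce hxy (n1 hxy) (n1 hxz) (ne_neg_self y) (n1 hyz) _ _
  have f2 : ce.lc (M.X y (neg z) 1) (M.X y x 1) = 1 :=
    D.k7 ce hxy.symm (ne_neg_self y) (n1 (b := neg z) hyz) (n1 hxy) (n1 (b := neg z) hxz) _ _
  have f3 : ce.lc (M.X x z 1) (M.X y (neg z) 1) = D.om ce x y := by
    rw [D.Xsym (x := y) (y := neg z) hyz]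
    exact D.k5 ce hm hxz hyz.symm hxy
  have f4 : ce.lc (M.X y z 1) (M.X x (neg z) 1) = D.om ce x y := by
    rw [D.Xsym (x := x) (y := neg z) hxz, D.k5 ce hm hyz hxz.symm hxy.symm, D.om_symm ce hm hxy]
  rw [ce.lc_mul_left', e5, f1, one_mul, ce.lc_mul_right', ce.lc_mul_right', f3, f4, e4, f2,
    commutatorElement_eq_one_iff_commute.2 (dcomm hxz), ce.lc_one_right, mul_one, mul_one] at h1
  have g1 := ce.lc_comm (dcomm hxz) (D.om ce x y)
  have g2 := ce.lc_comm (dcomm hyz) (D.om ce x y)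
  rw [g1, mul_assoc, ← g2, ← mul_assoc (D.om ce x y), D.om_sq ce hxy, one_mul] at h1
  exact left_eq_mul.1 h1

/-- (K9) -/
theorem k9 {x y : Fin m × Bool} (hxy : x.1 ≠ y.1) (p q : Fr.Adm) : ce.lc (M.Z x p) (M.Z x q) = 1 := by
  by_cases hp : p = 1
  · rw [hp, Z_one, ce.lc_one_left]
  by_cases hq : q = 1
  · rw [hq, Z_one, ce.lc_one_right]
  obtain ⟨k, h1, h2⟩ := exists_third hm x.1 y.1
  set z : Fin m × Bool := (k, true)
  have hxz : x.1 ≠ z.1 := h1
  have hw := ce.hw (c := M.Z x p) (a := M.X x (neg z) 1) (b := M.Z z q)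
    (M.commute_ZX (ne_neg_self x) (n1 (a := neg z) hxz.symm) _ _)
  have hz0 := D.k8 ce hm (x := y) hxy.symm hxz h2
  rw [D.brXZ hxz hq, br_ZZ M D.h2 D.hε hxz] at hw
  have c1 : Commute (M.Z x p) (M.X x z 1) := M.commute_ZX (ne_neg_self x) (n1 hxz.symm) _ _
  rw [ce.lc_mul_right c1, D.k1' ce (ne_neg_self x) (n1 hxz.symm), mul_one] at hw
  have key : ∀ s : F, ce.lc (M.X x (neg z) 1) (M.X x z s) * ce.lc (M.X x z s) (M.Z x q * M.X x z 1) = 1 := by
    intro s
    have c2 : Commute (M.X x z s) (M.X x z 1) :=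
      M.commute_XX (ne_neg_self x) (n1 hxz) (n1 hxz.symm) (ne_neg_self z) _ _
    rw [ce.lc_mul_right c2, D.k1 ce (ne_neg_self x) (n1 hxz.symm), one_mul]
    rcases D.hF s with rfl | rfl
    · rw [X_zero, ce.lc_one_right, ce.lc_one_left, one_mul]
    · rw [ce.lc_self, mul_one, ce.lc_swap, hz0, inv_one]
  rw [key] at hw
  exact hw

end CE

/-! ### The chain -/

theorem eq_one_of_w {p : Fr.Adm} (hp : p.w = 0) : p = 1 := by
  rcases D.all p with rfl | rfl | rfl | rfl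
  · rfl
  · exact absurd hp D.w1
  · exact absurd hp D.w2
  · exact absurd hp D.w3

theorem gens_cases {k : ℕ} {a : K} (ha : a ∈ gens M k) :
    (∃ x y, Ps x y ∧ pos x < pos y ∧ key m (pos x) (pos y) = k ∧ a = M.X x y 1) ∨
    (∃ x p, x.2 = true ∧ key m (pos x) m = k ∧ a = M.Z x p) ∨ a = 1 := by
  rcases WittTwo.gens_cases M ha with ⟨x, y, s, h1, h2, h3, h4⟩ | ⟨x, p, h1, h2, h3⟩ | ⟨x, p, h1, h2, h3, h4⟩
  · rcases D.hF s with rfl | rfl
    · right; right; rw [h4, X_zero]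
    · left; exact ⟨x, y, h1, h2, h3, h4⟩
  · right; left; exact ⟨x, p, h1, h2, h3⟩
  · right; right; rw [h4, D.eq_one_of_w h2, Z_one]

section Chain

variable {L : Type*} [Group L] {π : L →* K} (ce : CE π) (hm : 3 ≤ m)

/-- `W` contains the lifts `om x y` of key `< k`. -/
def Sp (W : Subgroup L) (k : ℕ) : Prop := ∀ x y, Ps x y → key m (pos x) (pos y) < k → D.om ce x y ∈ W

variable {c : L} (hd : Dbl π c) {T V₁ U : Subgroup K} {W : Subgroup L}

include hm in
theorem XX1 {x y w : Fin m × Bool} (h1 : Ps x y) (h2 : Ps (neg y) w) :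
    ce.lc (M.X x y 1) (M.X (neg y) w 1) = 1 ∨
      (Ps x w ∧ ce.lc (M.X x y 1) (M.X (neg y) w 1) = D.om ce x w) := by
  have e := pos_add_neg y
  have l1 := h1.2
  have l2 := h2.2
  have h3 : w ≠ neg x := by
    rintro rfl
    have := pos_add_neg x
    omega
  have hyw : y.1 ≠ w.1 := h2.1
  by_cases hxw : x = w
  · subst hxw
    left
    rw [D.Xsym (x := neg y) (y := x) hyw]
    obtain ⟨k, h4, h5⟩ := exists_third hm x.1 y.1
    exact D.k8 ce hm (x := (k, true)) h4.symm h1.1 h5.symm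
  · right
    have hxw' : x.1 ≠ w.1 := by
      refine fst_ne hxw fun h => h3 ?_
      rw [h, TitsThree.WittFrame.neg_neg]
    exact ⟨⟨hxw', by omega⟩, D.k5 ce hm h1.1 hyw hxw'⟩

include hm in
theorem cmXX {k : ℕ} (hs : D.Sp ce W k) {x y z w : Fin m × Bool} (h1 : Ps x y) (h2 : Ps z w)
    (hk : ∀ j, j < key m (pos x) (pos y) → j < key m (pos z) (pos w) → j < k) :
    CM π W (M.X x y 1) (M.X z w 1) := by
  have main : ∀ {x y z w : Fin m × Bool}, Ps x y → Ps z w →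
      (∀ j, j < key m (pos x) (pos y) → j < key m (pos z) (pos w) → j < k) → z = neg y →
      CM π W (M.X x y 1) (M.X z w 1) := by
    rintro x y _ w h1 h2 hk rfl
    rcases D.XX1 ce hm h1 h2 with h3 | ⟨h3, h4⟩
    · exact CM.of_lc_one ce h3
    · refine CM.of_lc ce ?_
      rw [h4]
      have e := pos_add_neg y
      have l1 := h1.2
      have l2 := h2.2
      refine hs x w h3 (hk _ ?_ ?_)
      · exact key_lt_of_lt (pos_le _) (pos_le _) (by omega)
      · exact key_lt_of_lt' (pos_le _) (pos_le _) (by omega)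
  by_cases a1 : z = neg y
  · exact main h1 h2 hk a1
  by_cases a2 : z = neg x
  · rw [D.Xsym h1.1]
    exact main h1.symm h2 (by rw [key_comm]; exact hk) a2
  by_cases a3 : w = neg y
  · rw [D.Xsym h2.1]
    exact main h1 h2.symm (by rw [key_comm (pos w)]; exact hk) a3
  by_cases a4 : w = neg x
  · rw [D.Xsym h1.1, D.Xsym h2.1]
    exact main h1.symm h2.symm (by rw [key_comm (pos y), key_comm (pos w)]; exact hk) a4
  exact CM.of_lc_one ce (D.k7 ce h2.1 a2 a1 a4 a3 1 1)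

include hm in
theorem cmZZ {k : ℕ} (hs : D.Sp ce W k) {x y : Fin m × Bool} (h1 : x.2 = true) (h2 : y.2 = true) (p q : Fr.Adm)
    (hk : ∀ j, j < key m (pos x) m → j < key m (pos y) m → j < k) :
    CM π W (M.Z x p) (M.Z y q) := by
  have l1 := (pos_lt_iff x).2 h1
  have l2 := (pos_lt_iff y).2 h2
  by_cases hxy : x = y
  · subst hxy
    obtain ⟨k, h4, h5⟩ := exists_third hm x.1 x.1
    exact CM.of_lc_one ce (D.k9 ce hm (y := (k, true)) h4 p q)
  · have hxy' : x.1 ≠ y.1 := fst_ne hxy (by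
      rintro rfl
      simp [neg] at h1
      rw [h2] at h1; exact absurd h1 (by simp))
    rcases D.f_cases ce hm hxy' p q with h | h
    · exact CM.of_lc_one ce h
    · refine CM.of_lc ce ?_
      rw [h]
      refine hs x y ⟨hxy', by omega⟩ (hk _ ?_ ?_)
      · exact key_lt_of_lt (pos_le _) (by omega) l2
      · rw [key_comm (pos x)]; exact key_lt_of_lt (pos_le _) (by omega) l1

include hd ce in
theorem cmXZ {k n : ℕ} (hn : n = (2 * m + 1) * (2 * m + 1)) (hT : D.t ∈ T) (hW : Chain.Cpl π c (Vk (gens M) n) T (Vk (gens M) k) W)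
    {x y z : Fin m × Bool} (h1 : Ps x y) (h2 : z.2 = true) (p : Fr.Adm)
    (hk : ∀ j, j < key m (pos x) (pos y) → j < key m (pos z) m → j < k) :
    CM π W (M.X x y 1) (M.Z z p) := by
  have lz := (pos_lt_iff z).2 h2
  have main : ∀ {x y : Fin m × Bool}, Ps x y →
      (∀ j, j < key m (pos x) (pos y) → j < key m (pos z) m → j < k) → y = neg z →
      CM π W (M.X x y 1) (M.Z z p) := by
    rintro x _ h1 hk rfl
    have e := pos_add_neg z
    have l1 := h1.2
    have hx : x.2 = true := (pos_lt_iff x).1 (by omega)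
    obtain ⟨p', hp'⟩ := D.exists_br z p
    have hZU : ∀ q, M.Z z q ∈ Vk (gens M) n := fun q => by
      rw [hn]; exact mem_Vk (key_lt_bound (pos_le _) (by omega)) (Z_mem_gens M h2 q)
    refine (CM.of_torus hd hW (h := D.t) (x' := M.Z z p') (v := 1) hT ?_ (D.commX _ _ _).eq ?_ (one_mem _) (hZU _) ?_
      ?_).symm
    · rw [hn]; exact mem_Vk (key_lt_bound (pos_le _) (pos_le _)) (X_mem_gens M h1 1)
    · rw [hp', mul_one]
    · have : D.t * M.Z z p' * D.t⁻¹ = ⁅D.t, M.Z z p'⁆ * M.Z z p' := by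
        rw [commutatorElement_def, inv_mul_cancel_right]
      rw [this, hp']
      exact mul_mem (hZU _) (hZU _)
    · rw [← commutatorElement_inv]
      refine inv_mem ?_
      by_cases hp1 : p' = 1
      · rw [hp1, Z_one, commutatorElement_one_right]; exact one_mem _
      rw [D.brXZ (x := x) (y := z) h1.1 hp1]
      refine mul_mem (mem_Vk (hk _ ?_ ?_) (Z_mem_gens M hx p')) (mem_Vk (hk _ ?_ ?_) (X_mem_gens M (x := x) (y := z) ?_ 1))
      · exact key_lt_of_lt (pos_le _) (pos_le _) (by omega)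
      · exact key_lt_of_lt' (by omega) (pos_le _) (by omega)
      · exact key_lt_of_lt (pos_le _) (pos_le _) (by omega)
      · rw [key_comm]; exact key_lt_of_lt (pos_le _) (by omega) (by omega)
      · exact ⟨h1.1, by omega⟩
  by_cases a1 : y = neg z
  · exact main h1 hk a1
  by_cases a2 : x = neg z
  · rw [D.Xsym h1.1]
    exact main h1.symm (by rw [key_comm (pos y)]; exact hk) a2
  exact CM.of_lc_one ce (D.k1 ce a2 a1 1 p)

end Chain

theorem conj_Z_mem {s : K} (hs : s ∈ Subgroup.zpowers D.t) (x : Fin m × Bool) (p : Fr.Adm) :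
    ∃ q, s * M.Z x p * s⁻¹ = M.Z x q := by
  have h1 : ∀ n : ℕ, ∀ p, ∃ q, D.t ^ n * M.Z x p * (D.t ^ n)⁻¹ = M.Z x q := by
    intro n
    induction n with
    | zero => exact fun p => ⟨p, by simp⟩
    | succ n ih =>
      intro p
      obtain ⟨q, hq⟩ := ih p
      have h2 : ∃ r, D.t * M.Z x q * D.t⁻¹ = M.Z x r := by
        rcases D.all q with rfl | rfl | rfl | rfl
        · exact ⟨1, by rw [Z_one, mul_one, mul_inv_cancel]⟩
        · exact ⟨_, D.tZ1 x⟩
        · exact ⟨_, D.tZ2 x⟩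
        · exact ⟨_, D.tZ3 x⟩
      obtain ⟨r, hr⟩ := h2
      refine ⟨r, ?_⟩
      rw [← hr, ← hq, pow_succ']; group
  obtain ⟨z, rfl⟩ := Subgroup.mem_zpowers_iff.1 hs
  have h3 : D.t ^ z = D.t ^ (z % 3).toNat := by
    have h4 : (0 : ℤ) ≤ z % 3 := Int.emod_nonneg _ (by norm_num)
    have h5 : D.t ^ (z % 3).toNat = D.t ^ (z % 3) := by
      rw [← zpow_natCast, Int.toNat_of_nonneg h4]
    rw [h5]
    conv_lhs => rw [← Int.emod_add_mul_ediv z 3]
    rw [zpow_add, zpow_mul]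
    have : D.t ^ (3 : ℤ) = 1 := by exact_mod_cast D.t3
    rw [this, one_zpow, mul_one]
  rw [h3]
  exact h1 _ p

theorem odd_card : Odd (Nat.card (Subgroup.zpowers D.t)) := by
  rw [Nat.card_zpowers]
  have h1 := orderOf_dvd_of_pow_eq_one D.t3
  rcases (Nat.dvd_prime Nat.prime_three).1 h1 with h | h <;> rw [h] <;> decide

theorem commX' {s : K} (hs : s ∈ Subgroup.zpowers D.t) (x y : Fin m × Bool) (u : F) : Commute s (M.X x y u) := by
  obtain ⟨z, rfl⟩ := Subgroup.mem_zpowers_iff.1 hs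
  exact (D.commX x y u).zpow_left z

/-- **No perfect double cover.** -/
theorem noDouble (hm : 3 ≤ m) (hidx : ¬ 2 ∣ (Vk (gens M) ((2 * m + 1) * (2 * m + 1))).index) : NoDouble K := by
  intro L _ _ π c hd
  have ce : CE π := CE.of_ker hd.surj hd.cen fun x hx => (hd.ker x).1 hx
  have hfin : Finite K := Finite.of_surjective π hd.surj
  obtain ⟨i0⟩ : Nonempty (Fin m) := ⟨⟨0, by omega⟩⟩
  have other : ∀ x : Fin m × Bool, ∃ y : Fin m × Bool, x.1 ≠ y.1 := fun x => by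
    obtain ⟨k, h1, -⟩ := exists_third hm x.1 x.1
    exact ⟨(k, true), h1⟩
  set n := (2 * m + 1) * (2 * m + 1) with hn
  have om_sym : ∀ x y, Ps x y → D.om ce y x = D.om ce x y := fun x y h => D.om_symm ce hm h.1
  refine false_of_chain hd (T := Subgroup.zpowers D.t) D.odd_card n (gens M)
    (fun k => {s | ∃ x y, Ps x y ∧ pos x < pos y ∧ key m (pos x) (pos y) = k ∧ s = D.om ce x y}) hidx ?_ ?_ ?_
  · -- the torus
    intro k hk s hs g hg
    rcases D.gens_cases hg with ⟨x, y, h1, h2, h3, rfl⟩ | ⟨x, p, h1, h2, rfl⟩ | rfl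
    · rw [(D.commX' hs x y 1).eq, mul_inv_cancel_right]
      exact mem_Vk (Nat.lt_succ_self k) hg
    · obtain ⟨q, hq⟩ := D.conj_Z_mem hs x p
      rw [hq, ← h2]
      exact mem_Vk (Nat.lt_succ_self _) (Z_mem_gens M h1 q)
    · rw [mul_one, mul_inv_cancel]; exact one_mem _
  · -- pairs
    intro k hk W hW hspec g hg l hl g' hg'
    have hs : D.Sp ce W k := by
      intro x y h1 h2
      rcases lt_trichotomy (pos x) (pos y) with h3 | h3 | h3
      · exact hspec _ h2 _ ⟨x, y, h1, h3, rfl, rfl⟩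
      · exact absurd (congrArg Prod.fst (pos_inj h3)) h1.1
      · rw [om_sym y x h1.symm]
        exact hspec _ h2 _ ⟨y, x, h1.symm, h3, key_comm _ _, rfl⟩
    rcases D.gens_cases hg with ⟨x, y, h1, h2, h3, rfl⟩ | ⟨x, p, h1, h2, rfl⟩ | rfl
    · rcases D.gens_cases hg' with ⟨x', y', h1', h2', h3', rfl⟩ | ⟨x', p', h1', h2', rfl⟩ | rfl
      · exact D.cmXX ce hm hs h1 h1' fun j hj _ => by rw [h3] at hj; exact hj
      · exact D.cmXZ ce hd hn (Subgroup.mem_zpowers _) hW h1 h1' p' fun j hj _ => by rw [h3] at hj; exact hj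
      · exact CM.of_lc_one ce (ce.lc_one_right _)
    · rcases D.gens_cases hg' with ⟨x', y', h1', h2', h3', rfl⟩ | ⟨x', p', h1', h2', rfl⟩ | rfl
      · exact (D.cmXZ ce hd hn (Subgroup.mem_zpowers _) hW h1' h1 p fun j _ hj => by rw [h2] at hj; exact hj).symm
      · exact D.cmZZ ce hm hs h1 h1' p p' fun j hj _ => by rw [h2] at hj; exact hj
      · exact CM.of_lc_one ce (ce.lc_one_right _)
    · exact CM.of_lc_one ce (ce.lc_one_left _)
  · -- kinds
    intro k hk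
    by_cases hX : ∃ x y : Fin m × Bool, Ps x y ∧ pos x < pos y ∧ key m (pos x) (pos y) = k
    · right
      obtain ⟨x, y, h1, h2, h3⟩ := hX
      have uniq : ∀ x' y' : Fin m × Bool, Ps x' y' → pos x' < pos y' → key m (pos x') (pos y') = k → x' = x ∧ y' = y := by
        intro x' y' h1' h2' h3'
        rcases key_inj (pos_le _) (pos_le _) (pos_le _) (pos_le _) (h3'.trans h3.symm) with ⟨e1, e2⟩ | ⟨e1, e2⟩
        · exact ⟨pos_inj e1, pos_inj e2⟩
        · omega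
      refine ⟨M.X x y 1, D.om ce x y, ⟨by rw [← h3]; exact X_mem_gens M h1 1, ?_⟩, D.map_om ce h1.1, D.om_sq ce h1.1,
        ?_, ?_, ?_⟩
      · intro g hg
        rcases D.gens_cases hg with ⟨x', y', h1', h2', h3', rfl⟩ | ⟨x', p', h1', h2', rfl⟩ | rfl
        · right
          obtain ⟨rfl, rfl⟩ := uniq x' y' h1' h2' h3'
          rfl
        · exfalso
          rcases key_inj (by omega) (pos_le _) (pos_le _) (pos_le _) (h2'.trans h3.symm) with ⟨e1, e2⟩ | ⟨e1, e2⟩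
          · exact pos_ne _ e2.symm
          · exact pos_ne _ e2.symm
        · left; rfl
      · ext s
        constructor
        · rintro ⟨x', y', h1', h2', h3', rfl⟩
          obtain ⟨rfl, rfl⟩ := uniq x' y' h1' h2' h3'
          rfl
        · rintro rfl
          exact ⟨x, y, h1, h2, h3, rfl⟩
      · intro h
        rw [← h3] at h
        exact one_ne_zero (indep_X M h1 h2 h)
      · -- the torus fixes the lift
        have h5 : Subgroup.zpowers D.t ≤ (Subgroup.centralizer {D.om ce x y}).map π := by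
          rw [Subgroup.zpowers_le]
          refine ⟨ce.lift D.t, ?_, ce.map_lift _⟩
          rw [SetLike.mem_coe, Subgroup.mem_centralizer_singleton_iff]
          have h6 := ce.conj_lc (ce.lift D.t) (M.Z x D.p1) (M.Z y D.p2)
          rw [ce.map_lift, D.tZ1, D.tZ2, D.mulR ce h1.1, D.f21 ce hm h1.1, D.k2' ce hm h1.1, mul_one] at h6
          exact (mul_inv_eq_iff_eq_mul.1 h6)
        intro s hs t' ht'
        obtain ⟨t1, ht1, e1⟩ := h5 hs
        rw [SetLike.mem_coe, Subgroup.mem_centralizer_singleton_iff] at ht1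
        rw [Chain.conj_eq hd (ht'.trans e1.symm), ht1, mul_inv_cancel_right]
    · left
      refine ⟨?_, ?_⟩
      · ext s
        simp only [Set.mem_ofPred_eq, Set.mem_empty_iff_false, iff_false]
        rintro ⟨x, y, h1, h2, h3, -⟩
        exact hX ⟨x, y, h1, h2, h3⟩
      · intro g hg
        rcases D.gens_cases hg with ⟨x, y, h1, h2, h3, rfl⟩ | ⟨x, p, h1, h2, rfl⟩ | rfl
        · exact absurd ⟨x, y, h1, h2, h3⟩ hX
        · obtain ⟨p', hp'⟩ := D.exists_br x p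
          refine ⟨D.t, Subgroup.mem_zpowers _, M.Z x p', ?_, 1, one_mem _, ?_⟩
          · rw [← h2]; exact mem_Vk (Nat.lt_succ_self _) (Z_mem_gens M h1 p')
          · rw [mul_one, ← commutatorElement_def, hp']
        · exact ⟨1, one_mem _, 1, one_mem _, 1, one_mem _, by simp⟩

end OData

end Cfsg.Agent.KFacts.Mult.OMinusTwo
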