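import Cfsg.Agent.KFacts.Mult.RGDW

/-!
# Splitting preimages with an action of a group of odd order

`Spl.of_notMem`: let `D` be of odd order, normalising `V`, with an element acting fixed point freely on `V`.  If, in every
double cover, the central involution `c` does not lie in the commutator group of the preimage of `V`, then the preimage
of `V` splits with a complement normalised by `D`.
-/

set_option autoImplicit false

namespace Cfsg.Agent.KFacts.Mult.OddSpl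

open Subgroup Cfsg.Agent.KFacts.MulDef Cfsg.Agent.KFacts.MulTwo Cfsg.Agent.KFacts.Mult.WeightsTwo
  Cfsg.Agent.KFacts.Mult.RGDW
open scoped commutatorElement

universe u

variable {X : Type u} [Group X]

/-- A complex character of `A` with value `-1` at an involution outside the commutator group. -/
theorem exists_char {L : Type*} [Group L] [Finite L] {A : Subgroup L} {c : L} (hc : c ∈ A) (hcc : c * c = 1)
    (hn : c ∉ ⁅A, A⁆) : ∃ φ : A →* ℂˣ, φ ⟨c, hc⟩ = -1 := by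
  have h1 : (Abelianization.of (⟨c, hc⟩ : A)) ≠ 1 := by
    intro h
    apply hn
    have h2 : (⟨c, hc⟩ : A) ∈ commutator A := by
      have := (QuotientGroup.eq_one_iff (N := commutator A) (⟨c, hc⟩ : A)).1 h
      exact this
    have h3 : (⟨c, hc⟩ : A).1 ∈ (commutator A).map A.subtype := ⟨_, h2, rfl⟩
    rw [Subgroup.map_subtype_commutator] at h3
    exact h3
  obtain ⟨φ, hφ⟩ := CommGroup.exists_apply_ne_one_of_hasEnoughRootsOfUnity (Abelianization A) ℂ h1
  refine ⟨φ.comp Abelianization.of, ?_⟩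
  have h4 : (φ (Abelianization.of (⟨c, hc⟩ : A))) ^ 2 = 1 := by
    rw [← map_pow, ← map_pow, pow_two]
    have : (⟨c, hc⟩ : A) * ⟨c, hc⟩ = 1 := Subtype.ext hcc
    rw [this, map_one, map_one]
  have h5 := congrArg Units.val h4
  rw [Units.val_pow_eq_pow_val, Units.val_one, sq_eq_one_iff] at h5
  rcases h5 with h5 | h5
  · exact absurd (Units.ext h5) hφ
  · exact Units.ext (by rw [Units.val_neg, Units.val_one]; exact h5)

theorem conj_eq_of_map_eq {L : Type*} [Group L] {π : L →* X} {c : L} (hd : Dbl π c) {x y : L} (h : π x = π y)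
    (a : L) : x * a * x⁻¹ = y * a * y⁻¹ := by
  have h2 : π (y⁻¹ * x) = 1 := by rw [map_mul, map_inv, h, inv_mul_cancel]
  rcases (hd.ker _).1 h2 with h3 | h3
  · rw [inv_mul_eq_one] at h3
    rw [h3]
  · rw [inv_mul_eq_iff_eq_mul] at h3
    rw [h3]
    calc y * c * a * (y * c)⁻¹ = y * (c * a) * c⁻¹ * y⁻¹ := by group
      _ = y * (a * c) * c⁻¹ * y⁻¹ := by rw [hd.cen a]
      _ = y * a * y⁻¹ := by group

/-- Two elements with the same image. -/
theorem eq_or_of_map_eq {L : Type*} [Group L] {π : L →* X} {c : L} (hd : Dbl π c) {x y : L} (h : π x = π y) :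
    x = y ∨ x = y * c := by
  have h2 : π (y⁻¹ * x) = 1 := by rw [map_mul, map_inv, h, inv_mul_cancel]
  rcases (hd.ker _).1 h2 with h3 | h3
  · left; exact (inv_mul_eq_one.1 h3).symm
  · right; exact inv_mul_eq_iff_eq_mul.1 h3

/-- **The splitting criterion.** -/
theorem exists_split {L : Type*} [Group L] [Finite L] {π : L →* X} {c : L} (hd : Dbl π c) {D V : Subgroup X}
    (hD : Odd (Nat.card D)) (hDV : ∀ t ∈ D, ∀ v ∈ V, t * v * t⁻¹ ∈ V)
    (hfix : ∃ t ∈ D, ∀ v ∈ V, t * v = v * t → v = 1) (hc : c ∉ ⁅V.comap π, V.comap π⁆) :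
    ∃ M : Subgroup L, c ∉ M ∧ M ≤ V.comap π ∧ (∀ v ∈ V.comap π, v ∈ M ∨ v * c ∈ M) ∧
      ∀ t ∈ D.comap π, ∀ m ∈ M, t * m * t⁻¹ ∈ M := by
  classical
  have : Finite X := Finite.of_surjective π hd.surj
  set A : Subgroup L := V.comap π with hA
  have hcA : c ∈ A := by
    rw [hA, mem_comap, (hd.ker c).2 (Or.inr rfl)]; exact V.one_mem
  obtain ⟨φ, hφ⟩ := exists_char hcA hd.sq hc
  have : Fintype D := Fintype.ofFinite D
  let s : X → L := fun x => (hd.surj x).choose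
  have hs : ∀ x, π (s x) = x := fun x => (hd.surj x).choose_spec
  have hmem : ∀ x : L, π x ∈ D → ∀ a ∈ A, x * a * x⁻¹ ∈ A := by
    intro x hx a ha
    rw [hA, mem_comap, map_mul, map_mul, map_inv]
    exact hDV _ hx _ ha
  let cj : ∀ d : D, A →* A := fun d =>
    { toFun := fun a => ⟨s d * a * (s d)⁻¹, hmem _ (by rw [hs]; exact d.2) a a.2⟩
      map_one' := Subtype.ext (by show s d * 1 * (s d)⁻¹ = 1; rw [mul_one, mul_inv_cancel])
      map_mul' := fun a b => Subtype.ext (by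
        show s d * (a.1 * b.1) * (s d)⁻¹ = s d * a.1 * (s d)⁻¹ * (s d * b.1 * (s d)⁻¹)
        group) }
  let Φ : A →* ℂˣ := ∏ d : D, φ.comp (cj d)
  have hΦ : ∀ a, Φ a = ∏ d : D, φ (cj d a) := fun a => MonoidHom.finset_prod_apply _ _ _
  have hΦc : Φ ⟨c, hcA⟩ = -1 := by
    rw [hΦ]
    have h1 : ∀ d : D, φ (cj d ⟨c, hcA⟩) = -1 := by
      intro d
      have : cj d ⟨c, hcA⟩ = ⟨c, hcA⟩ := Subtype.ext (by
        show s d * c * (s d)⁻¹ = c
        rw [← hd.cen, mul_inv_cancel_right])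
      rw [this, hφ]
    rw [Finset.prod_congr rfl fun d _ => h1 d, Finset.prod_const, Finset.card_univ, ← Nat.card_eq_fintype_card,
      hD.neg_one_pow]
  have hinv : ∀ (g : L) (hg : π g ∈ D) (a : A), Φ ⟨g * a * g⁻¹, hmem g hg a a.2⟩ = Φ a := by
    intro g hg a
    rw [hΦ, hΦ]
    refine Fintype.prod_equiv (Equiv.mulRight ⟨π g, hg⟩) _ _ fun d => ?_
    congr 1
    apply Subtype.ext
    show s d * (g * a * g⁻¹) * (s d)⁻¹ = s ((d * ⟨π g, hg⟩ : D) : X) * a * (s ((d * ⟨π g, hg⟩ : D) : X))⁻¹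
    have e1 : s d * (g * a * g⁻¹) * (s d)⁻¹ = (s d * g) * a * (s d * g)⁻¹ := by group
    rw [e1]
    apply conj_eq_of_map_eq hd
    rw [map_mul, hs, hs]
    rfl
  refine ⟨Φ.ker.map A.subtype, ?_, map_subtype_le _, ?_, ?_⟩
  · rintro ⟨k, hk, hkc⟩
    have h1 : k = ⟨c, hcA⟩ := Subtype.ext hkc
    have hk' : Φ k = 1 := MonoidHom.mem_ker.1 hk
    rw [h1, hΦc] at hk'
    have h2 := congrArg Units.val hk'
    simp only [Units.val_neg, Units.val_one] at h2
    norm_num at h2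
  · intro v hv
    obtain ⟨t, ht, hfix⟩ := hfix
    let f : V → V := fun w => ⟨t * w.1 * t⁻¹ * (w.1)⁻¹, mul_mem (hDV t ht _ w.2) (inv_mem w.2)⟩
    have hinj : Function.Injective f := by
      rintro ⟨v, hv⟩ ⟨w, hw⟩ hvw
      have h1 : t * v * t⁻¹ * v⁻¹ = t * w * t⁻¹ * w⁻¹ := congrArg Subtype.val hvw
      have h2 : t * (w⁻¹ * v) = w⁻¹ * v * t := by
        have e1 : t * (w⁻¹ * v) = t * w⁻¹ * t⁻¹ * (t * v * t⁻¹ * v⁻¹) * v * t := by group
        rw [e1, h1]; group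
      have h3 := hfix _ (mul_mem (inv_mem hw) hv) h2
      exact Subtype.ext (inv_mul_eq_one.1 h3).symm
    obtain ⟨w, hw⟩ := Finite.surjective_of_injective hinj ⟨π v, hv⟩
    have hw1 : t * w.1 * t⁻¹ * (w.1)⁻¹ = π v := congrArg Subtype.val hw
    have hwA : s w.1 ∈ A := by rw [hA, mem_comap, hs]; exact w.2
    have htD : π (s t) ∈ D := by rw [hs]; exact ht
    let y : A := ⟨s t * s w.1 * (s t)⁻¹, hmem _ htD _ hwA⟩ * ⟨s w.1, hwA⟩⁻¹
    have hy : Φ y = 1 := by
      have h5 := hinv (s t) htD ⟨s w.1, hwA⟩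
      show Φ (⟨s t * s w.1 * (s t)⁻¹, hmem _ htD _ hwA⟩ * ⟨s w.1, hwA⟩⁻¹) = 1
      rw [map_mul, map_inv, h5, mul_inv_cancel]
    have hπ : π v = π y.1 := by
      rw [← hw1]
      show _ = π (s t * s w.1 * (s t)⁻¹ * (s w.1)⁻¹)
      rw [map_mul, map_mul, map_mul, map_inv, map_inv, hs, hs]
    rcases eq_or_of_map_eq hd hπ with h6 | h6
    · left
      exact ⟨y, MonoidHom.mem_ker.2 hy, h6.symm⟩
    · right
      refine ⟨y, MonoidHom.mem_ker.2 hy, ?_⟩
      show y.1 = v * c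
      rw [h6, mul_assoc, hd.sq, mul_one]
  · rintro g hg _ ⟨m, hm, rfl⟩
    refine ⟨⟨g * m * g⁻¹, hmem g hg m m.2⟩, MonoidHom.mem_ker.2 ?_, rfl⟩
    rw [hinv g hg m]
    exact MonoidHom.mem_ker.1 hm

/-- **Splitting, all double covers.** -/
theorem Spl.of_notMem {D V : Subgroup X}
    (hD : Odd (Nat.card D)) (hDV : ∀ t ∈ D, ∀ v ∈ V, t * v * t⁻¹ ∈ V)
    (hfix : ∃ t ∈ D, ∀ v ∈ V, t * v = v * t → v = 1)
    (h : ∀ (L : Type) [Group L] [Finite L] (π : L →* X) (c : L), Dbl π c → c ∉ ⁅V.comap π, V.comap π⁆) :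
    Spl D V := fun L _ _ π c hd => exists_split hd hD hDV hfix (h L π c hd)

theorem Spl.of_abPre {D V : Subgroup X}
    (hD : Odd (Nat.card D)) (hDV : ∀ t ∈ D, ∀ v ∈ V, t * v * t⁻¹ ∈ V)
    (hfix : ∃ t ∈ D, ∀ v ∈ V, t * v = v * t → v = 1) (h : AbPre V) : Spl D V := by
  refine Spl.of_notMem hD hDV hfix fun L _ _ π c hd hc => hd.ne ?_
  have h1 : ⁅V.comap π, V.comap π⁆ = ⊥ := by
    rw [Subgroup.commutator_eq_bot_iff_le_centralizer]
    intro x hx
    rw [mem_centralizer_iff]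
    exact fun y hy => h L π c hd y x hy hx
  rw [h1, mem_bot] at hc
  exact hc

theorem Spl.mono {D T V : Subgroup X} (h : Spl D V) (hT : T ≤ D) : Spl T V := by
  intro L _ _ π c hd
  obtain ⟨M, h1, h2, h3, h4⟩ := h L π c hd
  exact ⟨M, h1, h2, h3, fun t ht => h4 t (hT ht)⟩

end Cfsg.Agent.KFacts.Mult.OddSpl
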