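import Cfsg.Agent.KFacts.MulDef

/-!
# `NoDouble` passes to quotients by normal subgroups of odd order
-/

set_option autoImplicit false

namespace Cfsg.Agent.KFacts.Mult.Surj

open Subgroup Cfsg.Agent.KFacts.MulDef Cfsg.Agent.KFacts.MulTwo
open scoped commutatorElement

universe u v w

theorem noDouble_of_surj {X : Type v} {Y : Type w} [Group X] [Group Y] [Finite X] (hX : commutator X = ⊤)
    (h : NoDouble X) (f : X →* Y) (hf : Function.Surjective f) (hodd : Odd (Nat.card f.ker)) : NoDouble Y := by
  intro L _ _ π c hd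
  let P : Subgroup (L × X) :=
    { carrier := {a | π a.1 = f a.2}
      one_mem' := by simp
      mul_mem' := fun {a b} ha hb => by
        show π (a * b).1 = f (a * b).2
        rw [Prod.fst_mul, Prod.snd_mul, map_mul, map_mul, (ha : π a.1 = f a.2), (hb : π b.1 = f b.2)]
      inv_mem' := fun {a} ha => by
        show π (a⁻¹).1 = f (a⁻¹).2
        rw [Prod.fst_inv, Prod.snd_inv, map_inv, map_inv, (ha : π a.1 = f a.2)] }
  have hP : ∀ a, a ∈ P ↔ π a.1 = f a.2 := fun a => Iff.rfl
  let p1 : P →* L := (MonoidHom.fst L X).comp P.subtype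
  let p2 : P →* X := (MonoidHom.snd L X).comp P.subtype
  have hp1 : ∀ a : P, p1 a = a.1.1 := fun a => rfl
  have hp2 : ∀ a : P, p2 a = a.1.2 := fun a => rfl
  have hs1 : Function.Surjective p1 := by
    intro l
    obtain ⟨x, hx⟩ := hf (π l)
    exact ⟨⟨(l, x), hx.symm⟩, rfl⟩
  have hs2 : Function.Surjective p2 := by
    intro x
    obtain ⟨l, hl⟩ := hd.surj (f x)
    exact ⟨⟨(l, x), hl⟩, rfl⟩
  have hπc : π c = 1 := (hd.ker c).2 (Or.inr rfl)
  let c' : P := ⟨(c, 1), by rw [hP]; simp [hπc]⟩
  -- the commutator subgroup maps onto both factors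
  have hD1 : ∀ l : L, ∃ d ∈ commutator P, p1 d = l := by
    intro l
    have h1 : (commutator P).map p1 = ⊤ := by
      rw [commutator_def, Subgroup.map_commutator, Subgroup.map_top_of_surjective _ hs1, ← commutator_def, hd.perf]
    have h2 : l ∈ (commutator P).map p1 := by rw [h1]; trivial
    exact h2
  have hD2 : ∀ x : X, ∃ d ∈ commutator P, p2 d = x := by
    intro x
    have h1 : (commutator P).map p2 = ⊤ := by
      rw [commutator_def, Subgroup.map_commutator, Subgroup.map_top_of_surjective _ hs2, ← commutator_def, hX]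
    have h2 : x ∈ (commutator P).map p2 := by rw [h1]; trivial
    exact h2
  have hc' : c' ∈ commutator P := by
    obtain ⟨d, hd', hd1⟩ := hD1 c
    have hz : d.1.2 ∈ f.ker := by
      rw [MonoidHom.mem_ker, ← (hP d.1).1 d.2, ← hp1, hd1, hπc]
    have hm : d.1.2 ^ Nat.card f.ker = 1 := by
      have := pow_card_eq_one' (x := (⟨d.1.2, hz⟩ : f.ker))
      exact congrArg Subtype.val this
    have hc1 : c ^ Nat.card f.ker = c := by
      obtain ⟨k, hk⟩ := hodd
      rw [hk, pow_succ, pow_mul, pow_two, hd.sq, one_pow, one_mul]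
    have h1 : d ^ Nat.card f.ker = c' := by
      apply Subtype.ext
      apply Prod.ext
      · show (d.1 ^ Nat.card f.ker).1 = c
        rw [Prod.pow_fst, ← hp1, hd1, hc1]
      · show (d.1 ^ Nat.card f.ker).2 = 1
        rw [Prod.pow_snd, hm]
    rw [← h1]
    exact pow_mem hd' _
  have : Finite P := inferInstance
  refine h.false (L := P) (π := p2) (c := c') ?_
  exact
    { ne := fun h1 => hd.ne (congrArg (fun a : P => a.1.1) h1)
      sq := Subtype.ext (Prod.ext hd.sq (by show (1 : X) * 1 = 1; rw [one_mul]))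
      cen := fun a => Subtype.ext (Prod.ext (hd.cen a.1.1) (by show (1 : X) * a.1.2 = a.1.2 * 1; rw [one_mul, mul_one]))
      perf := by
        rw [eq_top_iff]
        intro a _
        obtain ⟨d, hd', hd2⟩ := hD2 a.1.2
        have h1 : (a * d⁻¹).1.2 = 1 := by
          show a.1.2 * (d.1.2)⁻¹ = 1
          rw [← hp2 d, hd2, mul_inv_cancel]
        have h2 : π (a * d⁻¹).1.1 = 1 := by
          rw [(hP (a * d⁻¹).1).1 (a * d⁻¹).2, h1, map_one]
        have h3 : a * d⁻¹ ∈ commutator P := by
          rcases (hd.ker _).1 h2 with h4 | h4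
          · have : a * d⁻¹ = 1 := Subtype.ext (Prod.ext h4 h1)
            rw [this]; exact one_mem _
          · have : a * d⁻¹ = c' := Subtype.ext (Prod.ext h4 h1)
            rw [this]; exact hc'
        have h4 : a = a * d⁻¹ * d := by group
        rw [h4]
        exact mul_mem h3 hd'
      surj := hs2
      ker := fun a => by
        rw [hp2]
        constructor
        · intro h1
          have h2 : π a.1.1 = 1 := by rw [(hP a.1).1 a.2, h1, map_one]
          rcases (hd.ker _).1 h2 with h3 | h3
          · left; exact Subtype.ext (Prod.ext h3 h1)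
          · right; exact Subtype.ext (Prod.ext h3 h1)
        · rintro (rfl | rfl)
          · rfl
          · rfl }

end Cfsg.Agent.KFacts.Mult.Surj
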