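import Cfsg.Agent.KFacts.Mult.RGDW
import Cfsg.Agent.KFacts.Mult.Surj

/-!
# Perfectness, odd centre and central quotients for groups with a root group datum of characteristic 2
-/

set_option autoImplicit false
set_option linter.unusedSectionVars false

namespace Cfsg.Agent.KFacts.Mult.RGDQ

open Subgroup Cfsg.Agent.KFacts.MulDef Cfsg.Agent.KFacts.MulTwo Cfsg.Agent.KFacts.Mult.WeightsTwo
  Cfsg.Agent.KFacts.Mult.RGDW Cfsg.Agent.KFacts.Mult.Surj
open CoxeterSystem Cfsg.Agent.ChevalleyStructure.CoxeterGeom Cfsg.Agent.Tits.Roots Cfsg.Agent.Tits.Core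
  Cfsg.Agent.Tits.Exchange Cfsg.Agent.Nodes.Reps Cfsg.Agent.Nodes.BNOf Cfsg.Agent.Nodes.StabComb
  Cfsg.Agent.Nodes.Bruhat Cfsg.Agent.Nodes.OppDec Cfsg.Agent.Nodes.LeviDec Cfsg.Agent.Nodes.NormalForm
open scoped commutatorElement

variable {I W Y Y' : Type*} [Fintype I] [DecidableEq I] [Group W] [Group Y] [Group Y'] {M : CoxeterMatrix I}
  {cs : CoxeterSystem M W} {A : I → I → ℤ} {h : IsCartan M A} {T : Subgroup Y} {n : I → Y}
  {X : (I → ℤ) → Subgroup Y}

/-- A subgroup with a fixed point free automorphism induced by an inner one lies in the commutator subgroup. -/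
theorem Free.le_commutator [Finite Y] {T' V : Subgroup Y} (hf : Free T' V) (hn : ∀ t ∈ T', ∀ v ∈ V, t * v * t⁻¹ ∈ V) :
    V ≤ commutator Y := by
  obtain ⟨t, ht, hfix⟩ := hf
  let f : V → V := fun v => ⟨t * v.1 * t⁻¹ * (v.1)⁻¹, mul_mem (hn t ht _ v.2) (inv_mem v.2)⟩
  have hinj : Function.Injective f := by
    rintro ⟨v, hv⟩ ⟨w, hw⟩ hvw
    have h1 : t * v * t⁻¹ * v⁻¹ = t * w * t⁻¹ * w⁻¹ := congrArg Subtype.val hvw
    have h2 : t * (w⁻¹ * v) = w⁻¹ * v * t := by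
      have e1 : t * (w⁻¹ * v) = t * w⁻¹ * t⁻¹ * (t * v * t⁻¹ * v⁻¹) * v * t := by group
      rw [e1, h1]; group
    have h3 := hfix _ (mul_mem (inv_mem hw) hv) h2
    exact Subtype.ext (inv_mul_eq_one.1 h3).symm
  intro v hv
  obtain ⟨w, hw⟩ := Finite.surjective_of_injective hinj ⟨v, hv⟩
  have h1 : t * w.1 * t⁻¹ * (w.1)⁻¹ = v := congrArg Subtype.val hw
  rw [← h1, commutator_def]
  exact commutator_mem_commutator (mem_top t) (mem_top w.1)

theorem perfect_of_free [Finite Y] {r : ℕ} (R : RGD cs h r T n X) (hG : Cfsg.Agent.Nodes.RGDLib.G1 cs h X = ⊤)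
    {T' : Subgroup Y} (hT' : T' ≤ T) (h2 : ∀ x, IsRoot cs h x → Free T' (X x)) : commutator Y = ⊤ := by
  rw [eq_top_iff, ← hG]
  refine RGD.Sup_le fun x hx => Free.le_commutator (h2 x hx) ?_
  intro t ht v hv
  rw [← R.tor x hx t (hT' ht)]
  exact conj_mem_cj.2 hv

/-- The centre has odd order. -/
theorem odd_card_of_le_center [Finite W] [Finite Y] (R : RGD cs h 2 T n X) (hG : GG cs h T X = ⊤)
    {T' : Subgroup Y} (hT' : T' ≤ T) (h2 : ∀ x ∈ RGD.Pos cs h, Free T' (X x)) {Z : Subgroup Y} (hZ : Z ≤ center Y) :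
    Odd (Nat.card Z) := by
  have : Fact (Nat.Prime 2) := ⟨Nat.prime_two⟩
  rw [← Nat.not_even_iff_odd, even_iff_two_dvd]
  intro hd
  obtain ⟨⟨z, hz⟩, ho⟩ := exists_prime_orderOf_dvd_card' 2 hd
  have hz2 : z * z = 1 := by
    have := pow_orderOf_eq_one (⟨z, hz⟩ : Z)
    rw [ho, pow_two] at this
    exact congrArg Subtype.val this
  have hz1 : z ≠ 1 := by
    rintro rfl
    have : (⟨1, hz⟩ : Z) = 1 := rfl
    rw [this, orderOf_one] at ho
    exact absurd ho (by norm_num)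
  apply hz1
  have hzc : ∀ g : Y, g * z = z * g := fun g => mem_center_iff.1 (hZ hz) g
  -- `z ∈ U`
  have hU : z ∈ RGD.Sup X (RGD.Pos cs h) := by
    have h3 : zpowers z ≤ normalizer (RGD.Sup X (RGD.Pos cs h) : Set Y) := by
      rw [zpowers_le, mem_normalizer_iff]
      intro x
      rw [← hzc, mul_inv_cancel_right]
    have hp : IsPGroup 2 ↥(RGD.Sup X (RGD.Pos cs h) ⊔ zpowers z) := by
      refine IsPGroup.to_sup_of_normal_left' R.isPGroup_Upos ?_ h3
      rintro ⟨x, k, rfl⟩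
      refine ⟨1, Subtype.ext ?_⟩
      show (z ^ k) ^ 2 ^ 1 = 1
      rw [pow_one, ← zpow_natCast, ← zpow_mul, mul_comm, zpow_mul]
      norm_num [zpow_ofNat, pow_two, hz2]
    have h4 := eq_U_of_isPGroup R hp le_sup_left (by rw [hG]; exact le_top)
    rw [← h4]
    exact (le_sup_right : zpowers z ≤ _) (mem_zpowers z)
  -- `z` centralises `T'`
  have h3 : z ∈ RGD.Sup X (RGD.Pos cs h) ⊓ centralizer (T' : Set Y) :=
    ⟨hU, mem_centralizer_iff.2 fun t _ => hzc t⟩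
  rw [centralizer_U R hT'] at h3
  have h4 : RGD.Sup (fun y => X y ⊓ centralizer (T' : Set Y)) (RGD.Pos cs h) ≤ ⊥ := by
    refine RGD.Sup_le fun y hy => ?_
    obtain ⟨t, ht, ht2⟩ := h2 y hy
    rintro v ⟨hv, hvc⟩
    rw [ht2 v hv (mem_centralizer_iff.1 hvc t ht)]
    exact one_mem _
  exact mem_bot.1 (h4 h3)

/-- **Central quotients.** -/
theorem noDouble_quot [Finite W] [Finite Y] (R : RGD cs h 2 T n X) (hG : Cfsg.Agent.Nodes.RGDLib.G1 cs h X = ⊤)
    {T' : Subgroup Y} (hT' : T' ≤ T) (h2 : ∀ x, IsRoot cs h x → Free T' (X x)) (hN : NoDouble Y)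
    (f : Y →* Y') (hf : Function.Surjective f) (hker : f.ker ≤ center Y) : NoDouble Y' :=
  noDouble_of_surj (perfect_of_free R hG hT' h2) hN f hf
    (odd_card_of_le_center R (GG_eq_top_of_G1 hG) hT' (fun x hx => h2 x hx.1) hker)

end Cfsg.Agent.KFacts.Mult.RGDQ
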