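import Mathlib

/-!
# Products of root groups in rank two

`Hyp Y m`: subgroups `Y 1, …, Y m` with the commutator relations `[Y k, Y l] ≤ ⟨Y r | k < r < l⟩` and
`Y k ∩ ⟨Y r | k < r⟩ = 1`.  Orders, decompositions, fixed points of elements normalising all `Y k`.
-/

set_option autoImplicit false

namespace Cfsg.Agent.KFacts.Mult.RankTwoProd

open Subgroup
open scoped commutatorElement

variable {G : Type*} [Group G]

/-- `⟨Y k, …, Y m⟩` -/
def W (Y : ℕ → Subgroup G) (m k : ℕ) : Subgroup G := ⨆ r ∈ Set.Icc k m, Y r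

/-- The hypotheses. -/
structure Hyp (Y : ℕ → Subgroup G) (m : ℕ) : Prop where
  comm : ∀ k l, 1 ≤ k → k < l → l ≤ m → ∀ x ∈ Y k, ∀ y ∈ Y l, ⁅x, y⁆ ∈ ⨆ r ∈ Set.Ioo k l, Y r
  inter : ∀ k, 1 ≤ k → k ≤ m → Y k ⊓ W Y m (k + 1) = ⊥

variable {Y : ℕ → Subgroup G} {m : ℕ}

theorem le_W {k r : ℕ} (h1 : k ≤ r) (h2 : r ≤ m) : Y r ≤ W Y m k :=
  le_iSup₂_of_le (f := fun (r : ℕ) (_ : r ∈ Set.Icc k m) => Y r) r ⟨h1, h2⟩ le_rfl

theorem W_le {k : ℕ} {S : Subgroup G} (h : ∀ r, k ≤ r → r ≤ m → Y r ≤ S) : W Y m k ≤ S :=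
  iSup₂_le fun r hr => h r hr.1 hr.2

theorem W_mono {k l : ℕ} (h : k ≤ l) : W Y m l ≤ W Y m k := W_le fun _ h1 h2 => le_W (h.trans h1) h2

theorem W_top {k : ℕ} (h : m < k) : W Y m k = ⊥ := by
  rw [eq_bot_iff]
  exact W_le fun r h1 h2 => by omega

theorem W_eq {k : ℕ} (h : k ≤ m) : W Y m k = Y k ⊔ W Y m (k + 1) := by
  apply le_antisymm
  · refine W_le fun r h1 h2 => ?_
    rcases h1.eq_or_lt with rfl | h3
    · exact le_sup_left
    · exact (le_W h3 h2).trans le_sup_right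
  · exact sup_le (le_W le_rfl h) (W_mono (Nat.le_succ k))

namespace Hyp

variable (H : Hyp Y m)

include H in
theorem conj_W {k : ℕ} (h1 : 1 ≤ k) {x : G} (hx : x ∈ Y k) {v : G} (hv : v ∈ W Y m (k + 1)) :
    x * v * x⁻¹ ∈ W Y m (k + 1) := by
  have h2 : W Y m (k + 1) ≤ (W Y m (k + 1)).comap (MulAut.conj x).toMonoidHom := by
    refine W_le fun r hr1 hr2 y hy => ?_
    show x * y * x⁻¹ ∈ W Y m (k + 1)
    have h3 := H.comm k r h1 hr1 hr2 x hx y hy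
    have h4 : ⁅x, y⁆ ∈ W Y m (k + 1) :=
      (iSup₂_le fun s hs => le_W hs.1 (hs.2.le.trans hr2) : (⨆ s ∈ Set.Ioo k r, Y s) ≤ W Y m (k + 1)) h3
    have e : x * y * x⁻¹ = ⁅x, y⁆ * y := by rw [commutatorElement_def]; group
    rw [e]
    exact mul_mem h4 (le_W hr1 hr2 hy)
  exact h2 hv

include H in
theorem le_normalizer {k : ℕ} (h1 : 1 ≤ k) : Y k ≤ normalizer (W Y m (k + 1) : Set G) := by
  intro x hx
  rw [mem_normalizer_iff]
  intro v
  constructor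
  · exact fun hv => H.conj_W h1 hx hv
  · intro hv
    have := H.conj_W h1 (inv_mem hx) hv
    simpa [mul_assoc] using this

include H in
theorem exists_mul {k : ℕ} (h1 : 1 ≤ k) (h2 : k ≤ m) {u : G} (hu : u ∈ W Y m k) :
    ∃ x ∈ Y k, ∃ v ∈ W Y m (k + 1), x * v = u := by
  rw [W_eq h2, ← SetLike.mem_coe, Subgroup.coe_mul_of_left_le_normalizer_right _ _ (H.le_normalizer h1)] at hu
  exact hu

include H in
theorem unique {k : ℕ} (h1 : 1 ≤ k) (h2 : k ≤ m) {x x' v v' : G} (hx : x ∈ Y k) (hx' : x' ∈ Y k)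
    (hv : v ∈ W Y m (k + 1)) (hv' : v' ∈ W Y m (k + 1)) (h : x * v = x' * v') : x = x' ∧ v = v' := by
  have h3 : x'⁻¹ * x = v' * v⁻¹ := by
    rw [inv_mul_eq_iff_eq_mul, ← mul_assoc, ← h, mul_inv_cancel_right]
  have h4 : x'⁻¹ * x ∈ Y k ⊓ W Y m (k + 1) :=
    Subgroup.mem_inf.2 ⟨mul_mem (inv_mem hx') hx, by rw [h3]; exact mul_mem hv' (inv_mem hv)⟩
  rw [H.inter k h1 h2, mem_bot] at h4
  have h5 : x = x' := (inv_mul_eq_one.1 h4).symm
  subst h5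
  exact ⟨rfl, mul_left_cancel h⟩

include H in
theorem card_W {k : ℕ} (h1 : 1 ≤ k) (h2 : k ≤ m) :
    Nat.card (W Y m k) = Nat.card (Y k) * Nat.card (W Y m (k + 1)) := by
  rw [← Nat.card_prod]
  refine (Nat.card_congr (Equiv.ofBijective (fun p : Y k × W Y m (k + 1) =>
    (⟨p.1.1 * p.2.1, mul_mem (le_W le_rfl h2 p.1.2) (W_mono (Nat.le_succ k) p.2.2)⟩ : W Y m k)) ⟨?_, ?_⟩)).symm
  · rintro ⟨x, v⟩ ⟨x', v'⟩ h
    obtain ⟨h3, h4⟩ := H.unique h1 h2 x.2 x'.2 v.2 v'.2 (congrArg Subtype.val h)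
    exact Prod.ext (Subtype.ext h3) (Subtype.ext h4)
  · rintro ⟨u, hu⟩
    obtain ⟨x, hx, v, hv, h3⟩ := H.exists_mul h1 h2 hu
    exact ⟨(⟨x, hx⟩, ⟨v, hv⟩), Subtype.ext h3⟩

include H in
/-- An element normalising all `Y k` and acting fixed point freely on all but one of them. -/
theorem mem_of_fixed {t : G} (ht : ∀ k, 1 ≤ k → k ≤ m → ∀ x ∈ Y k, t * x * t⁻¹ ∈ Y k) {i : ℕ}
    (hfree : ∀ k, 1 ≤ k → k ≤ m → k ≠ i → ∀ x ∈ Y k, t * x = x * t → x = 1) :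
    ∀ (n k : ℕ), k + n = m + 1 → 1 ≤ k → ∀ u ∈ W Y m k, t * u = u * t → u ∈ Y i ∧ (i < k → u = 1) := by
  have htW : ∀ k, 1 ≤ k → ∀ v ∈ W Y m k, t * v * t⁻¹ ∈ W Y m k := by
    intro k hk v hv
    have h2 : W Y m k ≤ (W Y m k).comap (MulAut.conj t).toMonoidHom :=
      W_le fun r hr1 hr2 y hy => le_W hr1 hr2 (ht r (hk.trans hr1) hr2 y hy)
    exact h2 hv
  intro n
  induction n with
  | zero =>
    intro k hk h1 u hu _
    rw [W_top (by omega), mem_bot] at hu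
    subst hu
    exact ⟨one_mem _, fun _ => rfl⟩
  | succ n ih =>
    intro k hk h1 u hu hc
    have h2 : k ≤ m := by omega
    obtain ⟨x, hx, v, hv, rfl⟩ := H.exists_mul h1 h2 hu
    have h3 : (t * x * t⁻¹) * (t * v * t⁻¹) = x * v := by
      have e : (t * x * t⁻¹) * (t * v * t⁻¹) = t * (x * v) * t⁻¹ := by group
      rw [e, hc, mul_inv_cancel_right]
    obtain ⟨h4, h5⟩ := H.unique h1 h2 (ht k h1 h2 x hx) hx (htW (k + 1) (by omega) v hv) hv h3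
    have h4' : t * x = x * t := by
      nth_rw 2 [← h4]; group
    have h5' : t * v = v * t := by
      nth_rw 2 [← h5]; group
    obtain ⟨h6, h7⟩ := ih (k + 1) (by omega) (by omega) v hv h5'
    by_cases hki : k = i
    · subst hki
      rw [h7 (Nat.lt_succ_self k), mul_one]
      exact ⟨hx, fun h => absurd h (lt_irrefl k)⟩
    · have h8 := hfree k h1 h2 hki x hx h4'
      subst h8
      rw [one_mul]
      exact ⟨h6, fun h => h7 (by omega)⟩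

include H in
theorem mem_of_fixed' {t : G} (ht : ∀ k, 1 ≤ k → k ≤ m → ∀ x ∈ Y k, t * x * t⁻¹ ∈ Y k) {i : ℕ}
    (hfree : ∀ k, 1 ≤ k → k ≤ m → k ≠ i → ∀ x ∈ Y k, t * x = x * t → x = 1) {u : G} (hu : u ∈ W Y m 1)
    (hc : t * u = u * t) : u ∈ Y i := (H.mem_of_fixed ht hfree m 1 (by omega) le_rfl u hu hc).1

end Hyp

end Cfsg.Agent.KFacts.Mult.RankTwoProd
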