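import Mathlib
import Cfsg.Agent.TitsThree.WittFrame
import Cfsg.Agent.KFacts.Mult.RelBase

/-!
# Root elements of `Sp_{2n}(2)`, `n ≥ 4`, lift to every double cover

`CSys X Z` : root elements `X x y` (root `e_x + e_y`, `x`, `y` signed indices) and `Z x` (root `2 e_x`) with the
relations of `Sp_{2n}(2)`.

`exists_lift` : if `π : L → G` has kernel `{1, c}`, `c` central, and there are at least four indices, then the whole
system lifts: `∃ T U, CSys T U ∧ π T = X ∧ π U = Z`.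
-/

set_option autoImplicit false
set_option linter.unusedSectionVars false

namespace Cfsg.Agent.KFacts.Mult.RelC

open Cfsg.Agent.TitsThree.WittFrame Cfsg.Agent.KFacts.Mult.RelBase
open scoped commutatorElement

/-! ### Group identities -/

section ident

variable {L : Type*} [Group L]

/-- `⁅a, ⁅b, c⁆⁆ = ⁅⁅a, b⁆, c⁆` -/
theorem hw {a b c : L} (h1 : a * c = c * a) (h2 : ⁅b, c⁆ * c = c * ⁅b, c⁆) (h3 : ⁅b, c⁆ * ⁅a, b⁆ = ⁅a, b⁆ * ⁅b, c⁆) :
    ⁅a, ⁅b, c⁆⁆ = ⁅⁅a, b⁆, c⁆ := by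
  have e1 : a * ⁅b, c⁆ * a⁻¹ = ⁅a, b⁆ * (⁅b, c⁆ * c) * ⁅a, b⁆⁻¹ * c⁻¹ := by
    have h4 : a * c * a⁻¹ = c := by rw [h1, mul_inv_cancel_right]
    have h4' : a * c⁻¹ * a⁻¹ = c⁻¹ := by
      have : a * c⁻¹ * a⁻¹ = (a * c * a⁻¹)⁻¹ := by group
      rw [this, h4]
    calc a * ⁅b, c⁆ * a⁻¹ = (a * b * a⁻¹) * (a * c * a⁻¹) * (a * b * a⁻¹)⁻¹ * (a * c⁻¹ * a⁻¹) := by
          rw [commutatorElement_def]; group
      _ = (a * b * a⁻¹) * c * (a * b * a⁻¹)⁻¹ * c⁻¹ := by rw [h4, h4']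
      _ = ⁅a, b⁆ * (⁅b, c⁆ * c) * ⁅a, b⁆⁻¹ * c⁻¹ := by
          rw [commutatorElement_def, commutatorElement_def]; group
  have e2 : ⁅a, ⁅b, c⁆⁆ = a * ⁅b, c⁆ * a⁻¹ * ⁅b, c⁆⁻¹ := commutatorElement_def _ _
  rw [e2, e1, h2]
  have h5 : ⁅b, c⁆ * ⁅a, b⁆⁻¹ = ⁅a, b⁆⁻¹ * ⁅b, c⁆ := (Commute.inv_right (show Commute ⁅b, c⁆ ⁅a, b⁆ from h3)).eq
  have h6 : ⁅b, c⁆ * c⁻¹ = c⁻¹ * ⁅b, c⁆ := (Commute.inv_right (show Commute ⁅b, c⁆ c from h2)).eq
  calc ⁅a, b⁆ * (c * ⁅b, c⁆) * ⁅a, b⁆⁻¹ * c⁻¹ * ⁅b, c⁆⁻¹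
      = ⁅a, b⁆ * c * (⁅b, c⁆ * ⁅a, b⁆⁻¹) * c⁻¹ * ⁅b, c⁆⁻¹ := by simp only [mul_assoc]
    _ = ⁅a, b⁆ * c * ⁅a, b⁆⁻¹ * (⁅b, c⁆ * c⁻¹) * ⁅b, c⁆⁻¹ := by rw [h5]; simp only [mul_assoc]
    _ = ⁅a, b⁆ * c * ⁅a, b⁆⁻¹ * c⁻¹ := by rw [h6]; group
    _ = ⁅⁅a, b⁆, c⁆ := (commutatorElement_def _ _).symm

theorem comm_mul_self {a b : L} : ⁅a, b⁆ * b = a * b * a⁻¹ := by rw [commutatorElement_def]; group

/-- The identity for the long root elements. -/
theorem hwZ {a b c ζ t s s' m : L} (h1 : a * c = c * a) (hm : ⁅a, b⁆ = m) (hbc : ⁅b, c⁆ = ζ * t) (hat : ⁅a, t⁆ = s')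
    (hmt : ⁅m, t⁆ = s) (hζm : ζ * m = m * ζ) (hζt : ζ * t = t * ζ) (hζs : ζ * s' = s' * ζ) (hζc : ζ * c = c * ζ)
    (htc : t * c = c * t) (hsc : s * c = c * s) (hss : s * s' = s' * s) (hs : s * s = 1) (hs' : s' * s' = 1) :
    ⁅a, ζ⁆ * s = ⁅m, c⁆ * s' := by
  have e1 : a * (ζ * t) * a⁻¹ = m * (ζ * t * c) * m⁻¹ * c⁻¹ := by
    have h4 : a * c * a⁻¹ = c := by rw [h1, mul_inv_cancel_right]
    have h4' : a * c⁻¹ * a⁻¹ = c⁻¹ := by
      have : a * c⁻¹ * a⁻¹ = (a * c * a⁻¹)⁻¹ := by group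
      rw [this, h4]
    calc a * (ζ * t) * a⁻¹ = (a * b * a⁻¹) * (a * c * a⁻¹) * (a * b * a⁻¹)⁻¹ * (a * c⁻¹ * a⁻¹) := by
          rw [← hbc, commutatorElement_def]; group
      _ = (a * b * a⁻¹) * c * (a * b * a⁻¹)⁻¹ * c⁻¹ := by rw [h4, h4']
      _ = ⁅a, b⁆ * (⁅b, c⁆ * c) * ⁅a, b⁆⁻¹ * c⁻¹ := by
          rw [commutatorElement_def, commutatorElement_def]; group
      _ = m * (ζ * t * c) * m⁻¹ * c⁻¹ := by rw [hm, hbc]
  have e2 : a * (ζ * t) * a⁻¹ = ⁅a, ζ⁆ * ζ * (s' * t) := by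
    rw [← hat, commutatorElement_def, commutatorElement_def]; group
  have e3 : ⁅a, ζ⁆ * ζ * (s' * t) = m * (ζ * t * c) * m⁻¹ * c⁻¹ := e2.symm.trans e1
  -- move `ζ` to the right
  have c1 : Commute ζ m := hζm
  have c2 : Commute ζ t := hζt
  have c3 : Commute ζ s' := hζs
  have c4 : Commute ζ c := hζc
  have e4 : m * (ζ * t * c) * m⁻¹ * c⁻¹ = m * t * c * m⁻¹ * c⁻¹ * ζ := by
    have h5 : ζ * (t * c * m⁻¹ * c⁻¹) = (t * c * m⁻¹ * c⁻¹) * ζ :=
      (((c2.mul_right c4).mul_right c1.inv_right).mul_right c4.inv_right).eq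
    calc m * (ζ * t * c) * m⁻¹ * c⁻¹ = m * (ζ * (t * c * m⁻¹ * c⁻¹)) := by simp only [mul_assoc]
      _ = m * t * c * m⁻¹ * c⁻¹ * ζ := by rw [h5]; simp only [mul_assoc]
  have e5 : ⁅a, ζ⁆ * ζ * (s' * t) = ⁅a, ζ⁆ * (s' * t) * ζ := by
    rw [mul_assoc, (c3.mul_right c2).eq, ← mul_assoc]
  rw [e4, e5] at e3
  have e6 : ⁅a, ζ⁆ * (s' * t) = m * t * c * m⁻¹ * c⁻¹ := mul_right_cancel e3
  -- `t m⁻¹ t⁻¹ = m⁻¹ s`
  have e7 : t * m⁻¹ = m⁻¹ * s * t := by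
    rw [← hmt, commutatorElement_def]; group
  have c5 : Commute t c := htc
  have c6 : Commute s c := hsc
  have e8 : m * t * c * m⁻¹ * c⁻¹ = ⁅m, c⁆ * s * t := by
    calc m * t * c * m⁻¹ * c⁻¹ = m * (t * c) * m⁻¹ * c⁻¹ := by simp only [mul_assoc]
      _ = m * (c * t) * m⁻¹ * c⁻¹ := by rw [htc]
      _ = m * c * (t * m⁻¹) * c⁻¹ := by simp only [mul_assoc]
      _ = m * c * (m⁻¹ * s * t) * c⁻¹ := by rw [e7]
      _ = m * c * m⁻¹ * ((s * t) * c⁻¹) := by simp only [mul_assoc]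
      _ = m * c * m⁻¹ * (c⁻¹ * (s * t)) := by rw [((c6.mul_left c5).inv_right).eq]
      _ = ⁅m, c⁆ * s * t := by rw [commutatorElement_def]; simp only [mul_assoc]
  rw [e8, ← mul_assoc] at e6
  have e9 : ⁅a, ζ⁆ * s' = ⁅m, c⁆ * s := mul_right_cancel e6
  calc ⁅a, ζ⁆ * s = ⁅a, ζ⁆ * (s' * s') * s := by rw [hs', mul_one]
    _ = (⁅a, ζ⁆ * s') * (s' * s) := by simp only [mul_assoc]
    _ = (⁅m, c⁆ * s) * (s * s') := by rw [e9, hss]
    _ = ⁅m, c⁆ * (s * s) * s' := by simp only [mul_assoc]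
    _ = ⁅m, c⁆ * s' := by rw [hs, mul_one]

end ident

/-! ### The system -/

variable {ι : Type*} [DecidableEq ι] {G L : Type*} [Group G] [Group L]

/-- The relations of the root elements of `Sp_{2n}(2)`. -/
structure CSys (X : ι × Bool → ι × Bool → G) (Z : ι × Bool → G) : Prop where
  sqX : ∀ x y, x.1 ≠ y.1 → X x y * X x y = 1
  sqZ : ∀ x, Z x * Z x = 1
  swap : ∀ x y, x.1 ≠ y.1 → X x y = X y x
  comXX : ∀ x y z u, x.1 ≠ y.1 → z.1 ≠ u.1 → z ≠ neg x → z ≠ neg y → u ≠ neg x → u ≠ neg y →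
    X x y * X z u = X z u * X x y
  comXX' : ∀ x y, x.1 ≠ y.1 → X x y * X x (neg y) = X x (neg y) * X x y
  comZX : ∀ x y z, y.1 ≠ z.1 → y ≠ neg x → z ≠ neg x → Z x * X y z = X y z * Z x
  comZZ : ∀ x y, x.1 ≠ y.1 → Z x * Z y = Z y * Z x
  br : ∀ x y z, x.1 ≠ y.1 → y.1 ≠ z.1 → x.1 ≠ z.1 → ⁅X x y, X (neg y) z⁆ = X x z
  brZ : ∀ x y, x.1 ≠ y.1 → ⁅X x (neg y), Z y⁆ = Z x * X x y

theorem comm_congr {π : L →* G} {c : L} (hk : Ker2 π c) {a a' b b' : L} (h1 : π a = π a') (h2 : π b = π b') :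
    ⁅a, b⁆ = ⁅a', b'⁆ := by
  obtain ⟨z, hz, -, rfl⟩ := hk.exists_cen h1
  obtain ⟨w, hw, -, rfl⟩ := hk.exists_cen h2
  have hz' : Commute z⁻¹ b'⁻¹ := ((show Commute z b' from hz b').inv_left).inv_right
  rw [commutatorElement_def, commutatorElement_def, mul_inv_rev, mul_inv_rev]
  calc z * a' * (w * b') * (a'⁻¹ * z⁻¹) * (b'⁻¹ * w⁻¹)
      = z * a' * (w * b') * a'⁻¹ * (z⁻¹ * b'⁻¹) * w⁻¹ := by simp only [mul_assoc]
    _ = z * a' * (w * b') * a'⁻¹ * (b'⁻¹ * z⁻¹) * w⁻¹ := by rw [hz'.eq]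
    _ = z * (a' * w) * b' * a'⁻¹ * b'⁻¹ * z⁻¹ * w⁻¹ := by simp only [mul_assoc]
    _ = z * (w * a') * b' * a'⁻¹ * b'⁻¹ * z⁻¹ * w⁻¹ := by rw [hw a']
    _ = (z * w) * (a' * b' * a'⁻¹ * b'⁻¹) * (z⁻¹ * w⁻¹) := by simp only [mul_assoc]
    _ = a' * b' * a'⁻¹ * b'⁻¹ := by
      generalize a' * b' * a'⁻¹ * b'⁻¹ = g
      have h3 : (z * w) * g = g * (w * z) := by
        rw [mul_assoc, hw g, ← mul_assoc, hz g, mul_assoc, hz w]
      rw [h3]; group

/-- At least four indices. -/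
def Four (ι : Type*) : Prop := ∀ a b d : ι, ∃ u, u ≠ a ∧ u ≠ b ∧ u ≠ d

omit [DecidableEq ι] in
theorem neg2 (x : ι × Bool) : neg (neg x) = x := Cfsg.Agent.TitsThree.WittFrame.neg_neg x

omit [DecidableEq ι] in
theorem ne_neg_of {x y : ι × Bool} (h : x.1 ≠ y.1) : x ≠ neg y := fun e => h (by rw [e, neg_fst])

omit [DecidableEq ι] in
theorem ne_neg_self (x : ι × Bool) : x ≠ neg x := by
  intro e
  have := congrArg Prod.snd e
  rw [neg_snd] at this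
  cases hx : x.2 <;> rw [hx] at this <;> simp at this

omit [DecidableEq ι] in
theorem eq_or_neg {x y : ι × Bool} (h : x.1 = y.1) : x = y ∨ x = neg y := by
  obtain ⟨a, s⟩ := x
  obtain ⟨b, t⟩ := y
  simp only at h
  subst h
  cases s <;> cases t <;> simp [neg]

section LCfacts

variable {X : ι × Bool → ι × Bool → G} {Z : ι × Bool → G} {π : L →* G} {c : L}
  (S : CSys X Z) (hk : Ker2 π c) (hX : ∀ x y, X x y ∈ π.range) (hZ : ∀ x, Z x ∈ π.range) (h4 : Four ι)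

include S hk hX h4

theorem lcZX {x y z : ι × Bool} (hxy : x.1 ≠ y.1) (hx : x ≠ neg z) (hy : y ≠ neg z) : LC π (Z z) (X x y) := by
  obtain ⟨u, hux, huy, huz⟩ := h4 x.1 y.1 z.1
  have e := S.br x (u, true) y hux.symm huy hxy
  rw [← e]
  refine LC.commutator hk (hX _ _) (hX _ _) ?_ ?_
  · exact S.comZX z x (u, true) hux.symm hx (ne_neg_of huz)
  · exact S.comZX z (neg (u, true)) y huy (ne_neg_of huz) hy

include hZ

theorem lcXX_disj {x y z u : ι × Bool} (hxy : x.1 ≠ y.1) (hzu : z.1 ≠ u.1) (hxz : x.1 ≠ z.1) (hxu : x.1 ≠ u.1)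
    (hyz : y.1 ≠ z.1) (hyu : y.1 ≠ u.1) : LC π (X x y) (X z u) := by
  have e := S.brZ z u hzu
  have h1 : LC π (X x y) (Z z * X z u) := by
    rw [← e]
    refine LC.commutator hk (hX _ _) (hZ _) ?_ ?_
    · refine S.comXX x y z (neg u) hxy hzu (ne_neg_of hxz.symm) (ne_neg_of hyz.symm) (ne_neg_of ?_) (ne_neg_of ?_)
      · exact hxu.symm
      · exact hyu.symm
    · exact (S.comZX u x y hxy (ne_neg_of hxu) (ne_neg_of hyu)).symm
  exact LC.of_mul_left' (hZ _) h1 (lcZX S hk hX h4 hxy (ne_neg_of hxz) (ne_neg_of hyz)).symm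

omit hZ in
theorem lcXX_60 {x y z : ι × Bool} (hxy : x.1 ≠ y.1) (hxz : x.1 ≠ z.1) (hyz : y.1 ≠ z.1) :
    LC π (X x y) (X x z) := by
  obtain ⟨u, hux, huy, huz⟩ := h4 x.1 y.1 z.1
  have e := S.br x (u, true) z hux.symm huz hxz
  rw [← e]
  refine LC.commutator hk (hX _ _) (hX _ _) ?_ ?_
  · exact S.comXX x y x (u, true) hxy hux.symm (ne_neg_self x) (ne_neg_of hxy) (ne_neg_of hux) (ne_neg_of huy)
  · exact S.comXX x y (neg (u, true)) z hxy huz (ne_neg_of hux) (ne_neg_of huy) (ne_neg_of hxz.symm)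
      (ne_neg_of hyz.symm)

theorem lcZZ {x y : ι × Bool} (hxy : x.1 ≠ y.1) : LC π (Z x) (Z y) := by
  obtain ⟨u, hux, huy, -⟩ := h4 x.1 y.1 y.1
  have e := S.brZ y (u, true) huy.symm
  have h1 : LC π (Z x) (Z y * X y (u, true)) := by
    rw [← e]
    refine LC.commutator hk (hX _ _) (hZ _) ?_ ?_
    · exact S.comZX x y (neg (u, true)) huy.symm (ne_neg_of hxy.symm) (ne_neg_of hux)
    · exact S.comZZ x (u, true) hux.symm
  exact LC.of_mul_right (hX _ _) h1 (lcZX S hk hX h4 huy.symm (ne_neg_of hxy.symm) (ne_neg_of hux))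

theorem sqX_lift {x y : ι × Bool} (hxy : x.1 ≠ y.1) : SqOne π (X x y) := by
  obtain ⟨u, hux, huy, -⟩ := h4 x.1 y.1 y.1
  have e := S.br x (u, true) y hux.symm huy hxy
  refine SqOne.of_conj hk (u := X (neg (u, true)) y) (g := X x (u, true)) (hX _ _) (hX _ _) ?_ ?_ (S.sqX _ _ huy)
  · rw [← comm_mul_self, e]
  · rw [S.swap _ _ hxy, S.swap _ y huy]
    exact lcXX_60 S hk hX h4 hxy.symm huy.symm hux.symm

theorem sqZ_lift [Nontrivial ι] (x : ι × Bool) : SqOne π (Z x) := by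
  obtain ⟨u, hu⟩ := exists_ne x.1
  have e := S.brZ x (u, true) hu.symm
  have hlc : LC π (Z x) (X x (u, true)) := lcZX S hk hX h4 hu.symm (ne_neg_self x) (ne_neg_of hu)
  have h1 : SqOne π (Z x * X x (u, true)) := by
    refine SqOne.of_conj hk (u := Z (u, true)) (g := X x (neg (u, true))) (hZ _) (hX _ _) ?_ ?_ (S.sqZ _)
    · rw [← comm_mul_self, e]
    · refine LC.mul_left (hZ _) (lcZZ S hk hX hZ h4 hu.symm) ?_
      exact (lcZX S hk hX h4 hu.symm (ne_neg_of hu.symm) (ne_neg_self _)).symm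
  have h2 := sqX_lift S hk hX hZ h4 (x := x) (y := (u, true)) hu.symm
  obtain ⟨b, hb⟩ := hX x (u, true)
  intro a ha
  have h3 := h1 (a * b) (by rw [map_mul, ha, hb])
  have h4' := hlc a b ha hb
  have h5 := h2 b hb
  calc a * a = a * a * (b * b) := by rw [h5, mul_one]
    _ = a * (a * b) * b := by simp only [mul_assoc]
    _ = a * (b * a) * b := by rw [h4']
    _ = a * b * (a * b) := by simp only [mul_assoc]
    _ = 1 := h3

end LCfacts

/-! ### The lifts -/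

section lift

variable {X : ι × Bool → ι × Bool → G} {Z : ι × Bool → G} {π : L →* G} {c : L}
  {lX : ι × Bool → ι × Bool → L} {lZ : ι × Bool → L}

/-- The data of this section: a system, a double cover, arbitrary lifts. -/
structure Dat (X : ι × Bool → ι × Bool → G) (Z : ι × Bool → G) (π : L →* G) (c : L)
    (lX : ι × Bool → ι × Bool → L) (lZ : ι × Bool → L) : Prop where
  S : CSys X Z
  hk : Ker2 π c
  hlX : ∀ x y, π (lX x y) = X x y
  hlZ : ∀ x, π (lZ x) = Z x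
  h4 : Four ι

variable (D : Dat X Z π c lX lZ)

/-- `⁅x̂_{x + z}, x̂_{y - z}⁆` -/
def P (lX : ι × Bool → ι × Bool → L) (x z y : ι × Bool) : L := ⁅lX x z, lX (neg z) y⁆

include D

theorem Dat.hX (x y : ι × Bool) : X x y ∈ π.range := ⟨_, D.hlX x y⟩

theorem Dat.hZ (x : ι × Bool) : Z x ∈ π.range := ⟨_, D.hlZ x⟩

theorem map_P {x y z : ι × Bool} (hxy : x.1 ≠ y.1) (hxz : x.1 ≠ z.1) (hzy : z.1 ≠ y.1) :
    π (P lX x z y) = X x y := by
  rw [P, map_commutatorElement, D.hlX, D.hlX, D.S.br x z y hxz hzy hxy]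

theorem P_indep {x y z z' : ι × Bool} (hxy : x.1 ≠ y.1) (hxz : x.1 ≠ z.1) (hzy : z.1 ≠ y.1) (hxz' : x.1 ≠ z'.1)
    (hzy' : z'.1 ≠ y.1) (hzz : z.1 ≠ z'.1) : P lX x z y = P lX x z' y := by
  have hbc : π ⁅lX (neg z) z', lX (neg z') y⁆ = X (neg z) y := by
    rw [map_commutatorElement, D.hlX, D.hlX, D.S.br (neg z) z' y hzz hzy' hzy]
  have hab : π ⁅lX x z, lX (neg z) z'⁆ = X x z' := by
    rw [map_commutatorElement, D.hlX, D.hlX, D.S.br x z z' hxz hzz hxz']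
  have h1 := hw (a := lX x z) (b := lX (neg z) z') (c := lX (neg z') y)
    (lcXX_disj D.S D.hk D.hX D.hZ D.h4 (x := x) (y := z) (z := neg z') (u := y) hxz hzy' hxz' hxy hzz hzy _ _
      (D.hlX _ _) (D.hlX _ _))
    (by
      refine (?_ : LC π (X (neg z) y) (X (neg z') y)) _ _ hbc (D.hlX _ _)
      rw [D.S.swap (neg z) y hzy, D.S.swap (neg z') y hzy']
      exact lcXX_60 D.S D.hk D.hX D.h4 hzy.symm hzy'.symm hzz)
    (lcXX_disj D.S D.hk D.hX D.hZ D.h4 (x := neg z) (y := y) (z := x) (u := z') hzy hxz' hxz.symm hzz hxy.symm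
      hzy'.symm _ _ hbc hab)
  calc P lX x z y = ⁅lX x z, ⁅lX (neg z) z', lX (neg z') y⁆⁆ :=
        comm_congr D.hk rfl (by rw [hbc]; exact D.hlX _ _)
    _ = ⁅⁅lX x z, lX (neg z) z'⁆, lX (neg z') y⁆ := h1
    _ = P lX x z' y := comm_congr D.hk (by rw [hab]; exact (D.hlX _ _).symm) rfl

/-- The lift of `X x y`. -/
noncomputable def T (D : Dat X Z π c lX lZ) (x y : ι × Bool) : L :=
  P lX x ((D.h4 x.1 y.1 y.1).choose, true) y

theorem T_eq {x y z : ι × Bool} (hxy : x.1 ≠ y.1) (hxz : x.1 ≠ z.1) (hzy : z.1 ≠ y.1) : T D x y = P lX x z y := by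
  obtain ⟨h1, h2, -⟩ := (D.h4 x.1 y.1 y.1).choose_spec
  set w := (D.h4 x.1 y.1 y.1).choose with hw
  show P lX x (w, true) y = _
  by_cases h : w = z.1
  · obtain ⟨u, hux, huy, huz⟩ := D.h4 x.1 y.1 z.1
    rw [P_indep D (z := (w, true)) (z' := (u, true)) hxy h1.symm h2 hux.symm huy (by rw [h]; exact huz.symm),
      P_indep D (z := (u, true)) (z' := z) hxy hux.symm huy hxz hzy huz]
  · exact P_indep D hxy h1.symm h2 hxz hzy h

theorem map_T {x y : ι × Bool} (hxy : x.1 ≠ y.1) : π (T D x y) = X x y := by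
  obtain ⟨h1, h2, -⟩ := (D.h4 x.1 y.1 y.1).choose_spec
  exact map_P D hxy h1.symm h2

theorem T_sq {x y : ι × Bool} (hxy : x.1 ≠ y.1) : T D x y * T D x y = 1 :=
  sqX_lift D.S D.hk D.hX D.hZ D.h4 hxy _ (map_T D hxy)

/-- commutators of arbitrary lifts -/
theorem br_lift {x y z : ι × Bool} (hxy : x.1 ≠ y.1) (hyz : y.1 ≠ z.1) (hxz : x.1 ≠ z.1) {a b : L}
    (ha : π a = X x y) (hb : π b = X (neg y) z) : ⁅a, b⁆ = T D x z := by
  rw [T_eq D hxz hxy hyz]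
  exact comm_congr D.hk (by rw [ha, D.hlX]) (by rw [hb, D.hlX])

theorem T_swap {x y : ι × Bool} (hxy : x.1 ≠ y.1) : T D x y = T D y x := by
  obtain ⟨u, hux, huy, -⟩ := D.h4 x.1 y.1 y.1
  have h1 : T D x y = ⁅lX x (u, true), lX (neg (u, true)) y⁆ := T_eq D hxy hux.symm huy
  have h2 : ⁅lX (neg (u, true)) y, lX x (u, true)⁆ = T D y x := by
    refine br_lift D (x := y) (y := neg (u, true)) (z := x) huy.symm hux hxy.symm ?_ ?_
    · rw [D.hlX, D.S.swap _ y huy]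
    · rw [D.hlX, neg2, D.S.swap x _ hux.symm]
  have h3 : T D x y = (T D y x)⁻¹ := by
    rw [h1, ← h2, commutatorElement_inv]
  rw [h3]
  exact inv_eq_of_mul_eq_one_left (T_sq D hxy.symm)

theorem lcXX_T {x y z u : ι × Bool} (hxy : x.1 ≠ y.1) (hzu : z.1 ≠ u.1) (h1 : z ≠ neg x) (h2 : z ≠ neg y)
    (h3 : u ≠ neg x) (h5 : u ≠ neg y) : T D x y * T D z u = T D z u * T D x y := by
  -- cases on the common indices
  have key60 : ∀ {x y u : ι × Bool}, x.1 ≠ y.1 → x.1 ≠ u.1 → u ≠ neg y → T D x y * T D x u = T D x u * T D x y := by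
    intro x y u hxy hxu huy
    by_cases h : y.1 = u.1
    · rcases eq_or_neg h.symm with rfl | h'
      · rfl
      · exact absurd h' huy
    · exact lcXX_60 D.S D.hk D.hX D.h4 hxy hxu h _ _ (map_T D hxy) (map_T D hxu)
  by_cases hzx : z.1 = x.1
  · rcases eq_or_neg hzx with rfl | h
    · exact key60 hxy hzu h5
    · exact absurd h h1
  by_cases hzy : z.1 = y.1
  · rcases eq_or_neg hzy with rfl | h
    · rw [T_swap D hxy]
      exact key60 hxy.symm hzu h3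
    · exact absurd h h2
  by_cases hux : u.1 = x.1
  · rcases eq_or_neg hux with rfl | h
    · rw [T_swap D hzu]
      exact key60 hxy hzu.symm h2
    · exact absurd h h3
  by_cases huy : u.1 = y.1
  · rcases eq_or_neg huy with rfl | h
    · rw [T_swap D hzu, T_swap D hxy]
      exact key60 hxy.symm hzu.symm h1
    · exact absurd h h5
  exact lcXX_disj D.S D.hk D.hX D.hZ D.h4 hxy hzu (Ne.symm hzx) (Ne.symm hux) (Ne.symm hzy) (Ne.symm huy) _ _
    (map_T D hxy) (map_T D hzu)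

/-- `⁅x̂_{x - y}, ẑ_y⁆ x̃_{x + y}`, a lift of `Z x` -/
noncomputable def Q (D : Dat X Z π c lX lZ) (x y : ι × Bool) : L := ⁅lX x (neg y), lZ y⁆ * T D x y

theorem map_Q {x y : ι × Bool} (hxy : x.1 ≠ y.1) : π (Q D x y) = Z x := by
  rw [Q, map_mul, map_commutatorElement, D.hlX, D.hlZ, map_T D hxy, D.S.brZ x y hxy, mul_assoc,
    D.S.sqX _ _ hxy, mul_one]

theorem Q_indep {x y y' : ι × Bool} (hxy : x.1 ≠ y.1) (hxy' : x.1 ≠ y'.1) (hyy : y.1 ≠ y'.1) :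
    Q D x y = Q D x y' := by
  have hS := D.S
  have hbc : π ⁅lX y (neg y'), lZ y'⁆ = Z y * X y y' := by
    rw [map_commutatorElement, D.hlX, D.hlZ, hS.brZ y y' hyy]
  set ζ := ⁅lX y (neg y'), lZ y'⁆ * T D y y' with hζ
  have hπζ : π ζ = Z y := by
    rw [hζ, map_mul, hbc, map_T D hyy, mul_assoc, hS.sqX _ _ hyy, mul_one]
  have hm : π ⁅lX x (neg y), lX y (neg y')⁆ = X x (neg y') := by
    have := hS.br x (neg y) (neg y') hxy hyy hxy'
    rw [neg2] at this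
    rw [map_commutatorElement, D.hlX, D.hlX, this]
  have h1 := hwZ (a := lX x (neg y)) (b := lX y (neg y')) (c := lZ y') (ζ := ζ) (t := T D y y')
    (s := T D x y) (s' := T D x y') (m := ⁅lX x (neg y), lX y (neg y')⁆)
    ((lcZX hS D.hk D.hX D.h4 (x := x) (y := neg y) (z := y') hxy (ne_neg_of hxy') (ne_neg_of hyy)).symm _ _
      (D.hlX _ _) (D.hlZ _)) rfl
    (by rw [hζ, mul_assoc, T_sq D hyy, mul_one])
    (br_lift D (x := x) (y := neg y) (z := y') hxy hyy hxy' (D.hlX _ _) (by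
      rw [map_T D hyy, neg2]))
    (br_lift D (x := x) (y := neg y') (z := y) hxy' hyy.symm hxy hm (by
      rw [map_T D hyy, neg2, hS.swap _ _ hyy]))
    (lcZX hS D.hk D.hX D.h4 (x := x) (y := neg y') (z := y) hxy' (ne_neg_of hxy) (ne_neg_of hyy.symm) _ _ hπζ hm)
    (lcZX hS D.hk D.hX D.h4 (x := y) (y := y') (z := y) hyy (ne_neg_self y) (ne_neg_of hyy.symm) _ _ hπζ
      (map_T D hyy))
    (lcZX hS D.hk D.hX D.h4 (x := x) (y := y') (z := y) hxy' (ne_neg_of hxy) (ne_neg_of hyy.symm) _ _ hπζ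
      (map_T D hxy'))
    (lcZZ hS D.hk D.hX D.hZ D.h4 hyy _ _ hπζ (D.hlZ _))
    ((lcZX hS D.hk D.hX D.h4 (x := y) (y := y') (z := y') hyy (ne_neg_of hyy) (ne_neg_self _)).symm _ _
      (map_T D hyy) (D.hlZ _))
    ((lcZX hS D.hk D.hX D.h4 (x := x) (y := y) (z := y') hxy (ne_neg_of hxy') (ne_neg_of hyy)).symm _ _
      (map_T D hxy) (D.hlZ _))
    (lcXX_T D hxy hxy' (ne_neg_self x) (ne_neg_of hxy) (ne_neg_of hxy'.symm) (ne_neg_of hyy.symm))
    (T_sq D hxy) (T_sq D hxy')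
  rw [Q, Q, comm_congr D.hk (a := lX x (neg y)) (b := lZ y) rfl (by rw [D.hlZ, hπζ] : π (lZ y) = π ζ), h1]
  congr 1
  exact comm_congr D.hk (by rw [hm, D.hlX]) rfl

/-- The lift of `Z x`. -/
noncomputable def U (D : Dat X Z π c lX lZ) (x : ι × Bool) : L := Q D x ((D.h4 x.1 x.1 x.1).choose, true)

theorem U_eq {x y : ι × Bool} (hxy : x.1 ≠ y.1) : U D x = Q D x y := by
  obtain ⟨h1, -, -⟩ := (D.h4 x.1 x.1 x.1).choose_spec
  set w := (D.h4 x.1 x.1 x.1).choose with hw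
  show Q D x (w, true) = _
  by_cases h : w = y.1
  · obtain ⟨u, hux, huy, -⟩ := D.h4 x.1 y.1 y.1
    rw [Q_indep D (y := (w, true)) (y' := (u, true)) h1.symm hux.symm (by rw [h]; exact huy.symm),
      Q_indep D (y := (u, true)) (y' := y) hux.symm hxy huy]
  · exact Q_indep D h1.symm hxy h

theorem map_U (x : ι × Bool) : π (U D x) = Z x := map_Q D (D.h4 x.1 x.1 x.1).choose_spec.1.symm

/-- commutators of arbitrary lifts -/
theorem brZ_lift {x y : ι × Bool} (hxy : x.1 ≠ y.1) {a b : L} (ha : π a = X x (neg y)) (hb : π b = Z y) :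
    ⁅a, b⁆ = U D x * T D x y := by
  rw [U_eq D hxy, Q, mul_assoc, T_sq D hxy, mul_one]
  exact comm_congr D.hk (by rw [ha, D.hlX]) (by rw [hb, D.hlZ])

/-- **The lifted system.** -/
theorem csys [Nontrivial ι] : CSys (T D) (U D) := by
  have hS := D.S
  have sqU : ∀ x, U D x * U D x = 1 := fun x => sqZ_lift hS D.hk D.hX D.hZ D.h4 x _ (map_U D x)
  have comZX : ∀ x y z : ι × Bool, y.1 ≠ z.1 → y ≠ neg x → z ≠ neg x → U D x * T D y z = T D y z * U D x :=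
    fun x y z hyz h1 h2 => lcZX hS D.hk D.hX D.h4 hyz h1 h2 _ _ (map_U D x) (map_T D hyz)
  refine ⟨fun x y h => T_sq D h, sqU, fun x y h => T_swap D h,
    fun x y z u h1 h2 h3 h4 h5 h6 => lcXX_T D h1 h2 h3 h4 h5 h6, ?_, comZX,
    fun x y h => lcZZ hS D.hk D.hX D.hZ D.h4 h _ _ (map_U D x) (map_U D y), ?_, ?_⟩
  · intro x y hxy
    have hxy' : x.1 ≠ (neg y).1 := hxy
    -- `⁅T x (-y), U y⁆ = U x * T x y`
    have e1 : ⁅T D x (neg y), U D y⁆ = U D x * T D x y := brZ_lift D hxy (map_T D hxy') (map_U D y)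
    set t := T D x (neg y) with ht
    set s := T D x y with hs
    set u := U D y
    set v := U D x
    have ht2 : t * t = 1 := T_sq D hxy'
    have hs2 : s * s = 1 := T_sq D hxy
    have hv2 : v * v = 1 := sqU x
    have hvt : v * t = t * v := comZX x x (neg y) hxy' (ne_neg_self x) (ne_neg_of hxy.symm)
    have hvs : v * s = s * v := comZX x x y hxy (ne_neg_self x) (ne_neg_of hxy.symm)
    have hti : t⁻¹ = t := inv_eq_of_mul_eq_one_left ht2
    have e2 : u * t * u⁻¹ = t * (v * s) := by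
      rw [← e1, commutatorElement_def, hti]
      calc u * t * u⁻¹ = (t * t) * (u * t * u⁻¹) := by rw [ht2, one_mul]
        _ = t * (t * u * t * u⁻¹) := by simp only [mul_assoc]
    have e3 : (t * (v * s)) * (t * (v * s)) = 1 := by
      rw [← e2]
      calc u * t * u⁻¹ * (u * t * u⁻¹) = u * (t * t) * u⁻¹ := by group
        _ = 1 := by rw [ht2]; group
    have e4 : (t * (v * s)) * (t * (v * s)) = t * s * (t * s) := by
      calc (t * (v * s)) * (t * (v * s)) = t * v * (s * t) * (v * s) := by simp only [mul_assoc]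
        _ = t * (v * (s * t)) * (v * s) := by simp only [mul_assoc]
        _ = t * ((s * t) * v) * (v * s) := by
            rw [show v * (s * t) = (s * t) * v from ((show Commute v s from hvs).mul_right hvt).eq]
        _ = t * (s * t) * (v * v) * s := by simp only [mul_assoc]
        _ = t * s * (t * s) := by rw [hv2, mul_one]; simp only [mul_assoc]
    rw [e4] at e3
    have e5 : t * s = (t * s)⁻¹ := (inv_eq_of_mul_eq_one_left e3).symm
    rw [mul_inv_rev, hti, inv_eq_of_mul_eq_one_left hs2] at e5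
    exact e5.symm
  · exact fun x y z h1 h2 h3 => br_lift D h1 h2 h3 (map_T D h1) (map_T D h2)
  · exact fun x y h => brZ_lift D h (map_T D (show x.1 ≠ (neg y).1 from h)) (map_U D y)

end lift

/-- **Root elements of `Sp_{2n}(2)`, `n ≥ 4`, lift to every double cover with their relations.** -/
theorem exists_lift [Nontrivial ι] {X : ι × Bool → ι × Bool → G} {Z : ι × Bool → G} (S : CSys X Z) {π : L →* G} {c : L}
    (hk : Ker2 π c) (hX : ∀ x y, X x y ∈ π.range) (hZ : ∀ x, Z x ∈ π.range) (h4 : Four ι) :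
    ∃ (T : ι × Bool → ι × Bool → L) (U : ι × Bool → L), CSys T U ∧ (∀ x y, x.1 ≠ y.1 → π (T x y) = X x y) ∧
      ∀ x, π (U x) = Z x := by
  choose lX hlX using hX
  choose lZ hlZ using hZ
  have D : Dat X Z π c lX lZ := ⟨S, hk, hlX, hlZ, h4⟩
  exact ⟨T D, U D, csys D, fun x y h => map_T D h, map_U D⟩

end Cfsg.Agent.KFacts.Mult.RelC
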