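import Mathlib
import Cfsg.Agent.Nodes.WittRoot
import Cfsg.Agent.KFacts.Mult.RelC

/-!
# The root groups of a system `CSys T U` indexed by the roots of type `C_n`

`rgc T U x` : the root group `{1, T a b}` or `{1, U a}` of the root `x`; `comm_rgc` : all commutator relations.
-/

set_option autoImplicit false
set_option linter.unusedSectionVars false

namespace Cfsg.Agent.KFacts.Mult.RelCRoot

open Cfsg.Agent.ChevalleyStructure.CoxeterGeom Cfsg.Agent.Tits.Roots Cfsg.Agent.Nodes.TypeC
open Cfsg.Agent.Nodes.Comb Cfsg.Agent.Nodes.Reps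
open Cfsg.Agent.KFacts.Mult.RelC
open scoped commutatorElement

variable {L : Type*} [Group L] {n : ℕ} (T : Fin n × Bool → Fin n × Bool → L) (U : Fin n × Bool → L)

/-- The root group of a pair of signed indices. -/
def PGc (a b : Fin n × Bool) : Subgroup L := if a = b then Subgroup.zpowers (U a) else Subgroup.zpowers (T a b)

theorem PGc_self (a : Fin n × Bool) : PGc T U a a = Subgroup.zpowers (U a) := if_pos rfl

theorem PGc_ne {a b : Fin n × Bool} (h : a.1 ≠ b.1) : PGc T U a b = Subgroup.zpowers (T a b) :=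
  if_neg fun h' => h (congrArg Prod.fst h')

/-- The root group of a root. -/
def rgc (x : Fin n → ℤ) : Subgroup L :=
  ⨆ q : {q : (Fin n × Bool) × (Fin n × Bool) // Ok q.1 q.2 ∧ ee x = wt q.1 + wt q.2}, PGc T U q.1.1 q.1.2

variable {T U} (S : CSys T U)

include S

theorem PGc_swap {a b : Fin n × Bool} (h : Ok a b) : PGc T U a b = PGc T U b a := by
  rcases h with h | rfl
  · rw [PGc_ne T U h, PGc_ne T U h.symm, S.swap a b h]
  · rfl

theorem rgc_eq {x : Fin n → ℤ} {a b : Fin n × Bool} (hab : Ok a b) (e : ee x = wt a + wt b) :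
    rgc T U x = PGc T U a b := by
  apply le_antisymm
  · refine iSup_le ?_
    rintro ⟨⟨c, d⟩, hcd, e'⟩
    rcases wt_add_eq hab hcd (e.symm.trans e') with ⟨rfl, rfl⟩ | ⟨rfl, rfl⟩
    · exact le_rfl
    · exact (PGc_swap S hcd).le
  · exact le_iSup (fun q : {q : (Fin n × Bool) × (Fin n × Bool) // Ok q.1 q.2 ∧ ee x = wt q.1 + wt q.2} =>
      PGc T U q.1.1 q.1.2) ⟨(a, b), hab, e⟩

omit S in
theorem mem_zpowers_sq {e g : L} (he : e * e = 1) (hg : g ∈ Subgroup.zpowers e) : g = 1 ∨ g = e := by
  obtain ⟨k, rfl⟩ := Subgroup.mem_zpowers_iff.1 hg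
  rcases Int.even_or_odd' k with ⟨j, rfl | rfl⟩
  · left; rw [zpow_mul, zpow_ofNat, pow_two, he, one_zpow]
  · right; rw [zpow_add, zpow_mul, zpow_ofNat, pow_two, he, one_zpow, one_mul, zpow_one]

theorem mem_T {a b : Fin n × Bool} (h : a.1 ≠ b.1) {g : L} (hg : g ∈ PGc T U a b) : g = 1 ∨ g = T a b := by
  rw [PGc_ne T U h] at hg
  exact mem_zpowers_sq (S.sqX a b h) hg

theorem mem_U {a : Fin n × Bool} {g : L} (hg : g ∈ PGc T U a a) : g = 1 ∨ g = U a := by
  rw [PGc_self] at hg
  exact mem_zpowers_sq (S.sqZ a) hg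

section Comm

variable {W : Type*} [Group W] (cs : CoxeterSystem (CoxeterMatrix.B n) W)

theorem PGc_le_btw {x y : Fin n → ℤ} {u v : Fin n × Bool} (huv : Ok u v) {m c d : ℤ} (hm : 0 < m) (hc : 0 < c)
    (hd : 0 < d) (e : m • (wt u + wt v) = c • ee x + d • ee y) :
    PGc T U u v ≤ btw cs (isCartan n) (rgc T U) x y := by
  obtain ⟨z, hz, ez⟩ := rt_of_ok (cs := cs) huv
  rw [← rgc_eq S huv ez]
  refine le_btw_of ⟨hz, m, c, d, hm, hc, hd, ee_injective ?_⟩
  rw [ee_smul, ee_add, ee_smul, ee_smul, ez, e]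

theorem comm_TU {x y : Fin n → ℤ} {a b : Fin n × Bool} (hab : a.1 ≠ b.1) (ex : ee x = wt a + wt (ng b))
    (ey : ee y = wt b + wt b) : ⁅T a (ng b), U b⁆ ∈ btw cs (isCartan n) (rgc T U) x y := by
  have e1 : ⁅T a (ng b), U b⁆ = U a * T a b := S.brZ a b hab
  rw [e1]
  refine mul_mem ?_ ?_
  · refine PGc_le_btw S cs (u := a) (v := a) (Or.inr rfl) (m := 1) (c := 2) (d := 1) one_pos (by norm_num) one_pos ?_ ?_
    · rw [ex, ey, one_smul, one_smul, two_smul, wt_ng]; abel
    · rw [PGc_self]; exact Subgroup.mem_zpowers _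
  · refine PGc_le_btw S cs (u := a) (v := b) (Or.inl hab) (m := 1) (c := 1) (d := 1) one_pos one_pos one_pos ?_ ?_
    · rw [ex, ey, one_smul, one_smul, one_smul, wt_ng]; abel
    · rw [PGc_ne T U hab]; exact Subgroup.mem_zpowers _

theorem comm_TT_ne {x y : Fin n → ℤ} {a b d : Fin n × Bool} (hab : a.1 ≠ b.1) (hbd : b.1 ≠ d.1) (had : a.1 ≠ d.1)
    (ex : ee x = wt a + wt b) (ey : ee y = wt (ng b) + wt d) :
    ⁅T a b, T (ng b) d⁆ ∈ btw cs (isCartan n) (rgc T U) x y := by
  have e1 : ⁅T a b, T (ng b) d⁆ = T a d := S.br a b d hab hbd had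
  rw [e1]
  refine PGc_le_btw S cs (u := a) (v := d) (Or.inl had) (m := 1) (c := 1) (d := 1) one_pos one_pos one_pos ?_ ?_
  · rw [ex, ey, one_smul, one_smul, one_smul, wt_ng]; abel
  · rw [PGc_ne T U had]; exact Subgroup.mem_zpowers _

/-- commutators of two root elements of type I -/
theorem comm_TT {x y : Fin n → ℤ} {a b c d : Fin n × Bool} (hab : a.1 ≠ b.1) (hcd : c.1 ≠ d.1) (hc : c = ng b)
    (ex : ee x = wt a + wt b) (ey : ee y = wt c + wt d) (hxy : x ≠ -y) :
    ⁅T a b, T c d⁆ ∈ btw cs (isCartan n) (rgc T U) x y := by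
  subst hc
  by_cases had : a.1 = d.1
  · by_cases had' : d = a
    · subst had'
      have e1 : T d b * T d (ng b) = T d (ng b) * T d b := S.comXX' _ _ hab
      rw [S.swap _ _ hcd, commutatorElement_eq_one_iff_mul_comm.2 e1]
      exact one_mem _
    · exfalso
      have h1 : d = ng a := by
        obtain ⟨a, s⟩ := a
        obtain ⟨d, t⟩ := d
        simp only at had
        subst had
        cases s <;> cases t <;> simp_all [ng]
      apply hxy
      apply ee_injective
      rw [ee_neg, ex, ey, h1, wt_ng, wt_ng]; abel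
  · exact comm_TT_ne S cs hab hcd had ex ey

theorem comm_rgc {x y : Fin n → ℤ} (hx : IsRoot cs (isCartan n) x) (hy : IsRoot cs (isCartan n) y) (hxy : x ≠ y)
    (hxy' : x ≠ -y) {g k : L} (hg : g ∈ rgc T U x) (hk : k ∈ rgc T U y) :
    ⁅g, k⁆ ∈ btw cs (isCartan n) (rgc T U) x y := by
  obtain ⟨a, b, hab, ex⟩ := exists_of_isRoot cs hx
  obtain ⟨c, d, hcd, ey⟩ := exists_of_isRoot cs hy
  rw [rgc_eq S hab ex] at hg
  rw [rgc_eq S hcd ey] at hk
  have hsymm : ∀ {g k : L}, ⁅k, g⁆ ∈ btw cs (isCartan n) (rgc T U) y x →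
      ⁅g, k⁆ ∈ btw cs (isCartan n) (rgc T U) x y := by
    intro g k h1
    have h2 : ⁅g, k⁆ = ⁅k, g⁆⁻¹ := (commutatorElement_inv k g).symm
    rw [h2]
    refine inv_mem ?_
    refine (iSup_le fun z => ?_ : btw cs (isCartan n) (rgc T U) y x ≤ _) h1
    exact le_btw_of z.2.symm
  rcases hab with hab | rfl
  · rcases mem_T S hab hg with rfl | rfl
    · rw [commutatorElement_one_left]; exact one_mem _
    rcases hcd with hcd | rfl
    · rcases mem_T S hcd hk with rfl | rfl
      · rw [commutatorElement_one_right]; exact one_mem _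
      by_cases h1 : c = ng b
      · exact comm_TT S cs hab hcd h1 ex ey hxy'
      by_cases h2 : c = ng a
      · rw [S.swap _ _ hab]
        exact comm_TT S cs hab.symm hcd h2 (by rw [ex, add_comm]) ey hxy'
      by_cases h3 : d = ng b
      · rw [S.swap _ _ hcd]
        exact comm_TT S cs hab hcd.symm h3 ex (by rw [ey, add_comm]) hxy'
      by_cases h4 : d = ng a
      · rw [S.swap _ _ hab, S.swap _ _ hcd]
        exact comm_TT S cs hab.symm hcd.symm h4 (by rw [ex, add_comm]) (by rw [ey, add_comm]) hxy'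
      rw [commutatorElement_eq_one_iff_mul_comm.2 (S.comXX a b c d hab hcd h2 h1 h4 h3)]
      exact one_mem _
    · rcases mem_U S hk with rfl | rfl
      · rw [commutatorElement_one_right]; exact one_mem _
      by_cases h1 : b = ng c
      · subst h1
        exact comm_TU S (a := a) (b := c) cs hab ex ey
      by_cases h2 : a = ng c
      · subst h2
        rw [S.swap _ _ hab]
        exact comm_TU S (a := b) (b := c) cs hab.symm (by rw [ex, add_comm]) ey
      rw [commutatorElement_eq_one_iff_mul_comm.2 (S.comZX c a b hab h2 h1).symm]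
      exact one_mem _
  · rcases mem_U S hg with rfl | rfl
    · rw [commutatorElement_one_left]; exact one_mem _
    rcases hcd with hcd | rfl
    · rcases mem_T S hcd hk with rfl | rfl
      · rw [commutatorElement_one_right]; exact one_mem _
      apply hsymm
      by_cases h1 : d = ng a
      · subst h1
        exact comm_TU S (a := c) (b := a) cs hcd ey ex
      by_cases h2 : c = ng a
      · subst h2
        rw [S.swap _ _ hcd]
        exact comm_TU S (a := d) (b := a) cs hcd.symm (by rw [ey, add_comm]) ex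
      rw [commutatorElement_eq_one_iff_mul_comm.2 (S.comZX a c d hcd h2 h1).symm]
      exact one_mem _
    · rcases mem_U S hk with rfl | rfl
      · rw [commutatorElement_one_right]; exact one_mem _
      have hne : a.1 ≠ c.1 := by
        intro h1
        by_cases h2 : a = c
        · subst h2
          exact hxy (ee_injective (ex.trans ey.symm))
        · have h3 : a = ng c := by
            obtain ⟨a, s⟩ := a
            obtain ⟨c, t⟩ := c
            simp only at h1
            subst h1
            cases s <;> cases t <;> simp_all [ng]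
          apply hxy'
          apply ee_injective
          rw [ee_neg, ex, ey, h3, wt_ng]; abel
      rw [commutatorElement_eq_one_iff_mul_comm.2 (S.comZZ a c hne)]
      exact one_mem _

end Comm

end Cfsg.Agent.KFacts.Mult.RelCRoot
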