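import Mathlib
import Cfsg.Agent.TitsThree.KInstSp
import Cfsg.Agent.KFacts.MulDef
import Cfsg.Agent.KFacts.Mult.Asm
import Cfsg.Agent.KFacts.Mult.NotP
import Cfsg.Agent.KFacts.Mult.RelCRoot

/-!
# `PSp_{2n}(2)`, `n ≥ 4`, has no perfect double cover

`amb` : the ambient structure of the symplectic frame (root group datum: `rgdSp`, every characteristic);
`csysSp` : the relations `CSys` of the root elements, `|F| = 2`;
`noDouble_psp_two` : `NoDouble (PSp n F)`, `|F| = 2`, `n ≥ 4`.
-/

set_option autoImplicit false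
set_option linter.unusedSectionVars false

namespace Cfsg.Agent.KFacts.Mult.SpTwo

open Cfsg Cfsg.Agent.ClassicalGeometry.SympBasic
open Cfsg.Agent.ChevalleyStructure.CoxeterGeom Cfsg.Agent.Tits.Roots Cfsg.Agent.Nodes.TypeC
open Cfsg.Agent.Nodes.Comb Cfsg.Agent.Nodes.Reps Cfsg.Agent.Nodes.WittRoot Cfsg.Agent.Nodes.BNOf
open Cfsg.Agent.Nodes.BNOf.RGD Cfsg.Agent.Nodes.Bruhat
open Cfsg.Agent.TitsThree Cfsg.Agent.TitsThree.Siegel Cfsg.Agent.TitsThree.WittFrame
  Cfsg.Agent.TitsThree.FrameCN Cfsg.Agent.TitsThree.SpIdent Cfsg.Agent.TitsThree.SpGen Cfsg.Agent.TitsThree.KInstSp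
open Cfsg.Agent.KFacts.MulTwo Cfsg.Agent.KFacts.MulDef Cfsg.Agent.KFacts.Mult.RelBase
  Cfsg.Agent.KFacts.Mult.RelC Cfsg.Agent.KFacts.Mult.RelCRoot Cfsg.Agent.KFacts.Mult.Asm
open scoped commutatorElement

variable {n : ℕ} {F : Type*} [Field F]

theorem amb (n : ℕ) (F : Type*) [Field F] : Amb (frame n F) (model n F).I where
  iso g hg := hg
  ok g _ w c hw _ := by
    have h0 : w = 0 := hw
    rw [h0, map_zero]; exact rfl
  X_mem a b t := (model n F).hX a b t
  Z_mem a p := (model n F).hZ a p
  V0 v hv := by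
    show v ∈ (⊥ : Submodule F _)
    rw [Submodule.mem_bot]
    funext j
    rcases j with i | i
    · have h1 : sympForm n F v (Pi.single (Sum.inr i) 1) = 0 := hv (i, true)
      rw [sympForm_single_inr_right] at h1
      exact neg_eq_zero.1 h1
    · have h1 : sympForm n F v (Pi.single (Sum.inl i) 1) = 0 := hv (i, false)
      rwa [sympForm_single_inl_right] at h1
  aniso v hv _ := (Submodule.mem_bot F).1 hv
  ok_aniso w hw := hw

/-- The root group datum of `PSp`. -/
theorem rgdSp [Finite F] {p : ℕ} [Fact p.Prime] [CharP F p] {W : Type*} [Group W]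
    (cs : CoxeterSystem (CoxeterMatrix.B n) W) :
    RGD cs (isCartan n) p (Cfsg.Agent.Nodes.WittModel.T (model n F))
      (Cfsg.Agent.Nodes.WittModel.nw (model n F) (amb n F) (adm 1)) (Cfsg.Agent.Nodes.WittModel.X (model n F)) :=
  NotP.rgdM (model n F) (amb n F) (p0 := adm 1) (show (1 : F) ≠ 0 from one_ne_zero) cs

/-! ### The relations -/

section maps

variable {ι : Type*} [DecidableEq ι] {G G' : Type*} [Group G] [Group G']

theorem CSys.map {X : ι × Bool → ι × Bool → G} {Z : ι × Bool → G} (S : CSys X Z) (f : G →* G') :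
    CSys (fun x y => f (X x y)) (fun x => f (Z x)) where
  sqX x y h := by rw [← map_mul, S.sqX x y h, map_one]
  sqZ x := by rw [← map_mul, S.sqZ x, map_one]
  swap x y h := by rw [S.swap x y h]
  comXX x y z u h1 h2 h3 h4 h5 h6 := by rw [← map_mul, S.comXX x y z u h1 h2 h3 h4 h5 h6, map_mul]
  comXX' x y h := by rw [← map_mul, S.comXX' x y h, map_mul]
  comZX x y z h1 h2 h3 := by rw [← map_mul, S.comZX x y z h1 h2 h3, map_mul]
  comZZ x y h := by rw [← map_mul, S.comZZ x y h, map_mul]
  br x y z h1 h2 h3 := by rw [← map_commutatorElement, S.br x y z h1 h2 h3]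
  brZ x y h := by rw [← map_commutatorElement, S.brZ x y h, map_mul]

theorem CSys.of_map {X : ι × Bool → ι × Bool → G} {Z : ι × Bool → G} (f : G →* G') (hf : Function.Injective f)
    (S : CSys (fun x y => f (X x y)) (fun x => f (Z x))) : CSys X Z where
  sqX x y h := hf (by rw [map_mul, S.sqX x y h, map_one])
  sqZ x := hf (by rw [map_mul, S.sqZ x, map_one])
  swap x y h := hf (S.swap x y h)
  comXX x y z u h1 h2 h3 h4 h5 h6 := hf (by rw [map_mul, map_mul]; exact S.comXX x y z u h1 h2 h3 h4 h5 h6)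
  comXX' x y h := hf (by rw [map_mul, map_mul]; exact S.comXX' x y h)
  comZX x y z h1 h2 h3 := hf (by rw [map_mul, map_mul]; exact S.comZX x y z h1 h2 h3)
  comZZ x y h := hf (by rw [map_mul, map_mul]; exact S.comZZ x y h)
  br x y z h1 h2 h3 := hf (by rw [map_commutatorElement]; exact S.br x y z h1 h2 h3)
  brZ x y h := hf (by rw [map_commutatorElement, map_mul]; exact S.brZ x y h)

end maps

section two

variable (h2 : ∀ t : F, t + t = 0)

include h2

theorem neg_self (t : F) : -t = t := neg_eq_of_add_eq_zero_left (h2 t)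

theorem eta (x : Fin n × Bool) : (frame n F).η x = 1 := by
  unfold Frame.η
  split_ifs
  · rw [form_ε]; exact neg_self h2 1
  · rfl

theorem csysV : CSys (fun x y => (frame n F).X x y 1) (fun x => (frame n F).Z x (adm 1)) where
  sqX x y _ := by rw [← Frame.X_add, h2, Frame.X_zero]
  sqZ x := by
    rw [← Frame.Z_mul, ← adm_add, h2]
    exact (frame n F).Z_one x
  swap x y h := by
    rw [(frame n F).X_swap h, eta h2, eta h2, form_ε, form_σ]
    congr 1
    rw [neg_self h2, neg_self h2 (1 : F), inv_one]; ring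
  comXX x y z u _ _ h3 h4 h5 h6 := ((frame n F).commute_XX h3 h4 h5 h6 1 1).eq
  comXX' x y h := by
    have e := (frame n F).X_mul_X_same h (1 : F) 1
    have e2 : (Frame.Adm.tr ((form n F).σ (1 : F) * 1 * ((frame n F).η (neg y))⁻¹) : (frame n F).Adm) = 1 := by
      ext
      · rfl
      · rw [Frame.Adm.tr_c, form_ε, form_σ, form_σ, neg_self h2 (1 : F)]
        show _ = (0 : F)
        rw [inv_one]; ring
    rw [e2, Frame.Z_one, one_mul] at e
    exact e
  comZX x y z _ h1 h2' := ((frame n F).commute_ZX h1 h2' (adm 1) 1).eq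
  comZZ x y h := by
    have e := (frame n F).Z_mul_Z h (adm 1) (adm 1)
    have e2 : (form n F).h (adm (1 : F) : (frame n F).Adm).w (adm (1 : F) : (frame n F).Adm).w = 0 :=
      sympForm_zero_left _
    rw [e2, map_zero, mul_zero, neg_zero, Frame.X_zero, one_mul] at e
    exact e
  br x y z h1 h2' h3 := by
    rw [commutatorElement_def, (frame n F).conj_X_X h1 h2' h3, mul_one, mul_inv_cancel_right]
  brZ x y h := by
    rw [commutatorElement_def, (frame n F).conj_X_Z h, eta h2, form_ε, form_σ, mul_inv_cancel_right]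
    congr 1
    · congr 1
      exact Frame.Adm.one_smul _
    · congr 1
      show -((-1 : F)⁻¹ * 1 * 1 * 1) = 1
      rw [neg_self h2 (1 : F), inv_one, mul_one, mul_one, mul_one, neg_self h2]

/-- **The relations of the root elements of `PSp`.** -/
theorem csysK : CSys (fun x y => (model n F).X x y 1) (fun x => (model n F).Z x (adm 1)) :=
  CSys.map (X := fun x y => (⟨(frame n F).X x y 1, (model n F).hX x y 1⟩ : (model n F).I))
    (Z := fun x => (⟨(frame n F).Z x (adm 1), (model n F).hZ x (adm 1)⟩ : (model n F).I))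
    (CSys.of_map (model n F).I.subtype (model n F).I.subtype_injective (csysV h2)) (model n F).φ

end two

/-! ### The theorem -/

/-- The root groups of `K`, `|F| = 2`. -/
theorem X_eq (h2 : ∀ t : F, t + t = 0) (hF : ∀ t : F, t = 0 ∨ t = 1) {W : Type*} [Group W]
    (cs : CoxeterSystem (CoxeterMatrix.B n) W) {x : Fin n → ℤ} (hx : IsRoot cs (isCartan n) x) :
    Cfsg.Agent.Nodes.WittModel.X (model n F) x =
      rgc (fun x y => (model n F).X x y 1) (fun x => (model n F).Z x (adm 1)) x := by
  obtain ⟨a, b, hab, e⟩ := exists_of_isRoot cs hx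
  rw [rgc_eq (csysK h2) hab e, Cfsg.Agent.Nodes.WittModel.X, rg_eq (frame n F) hab e]
  ext g
  rcases hab with hab | rfl
  · rw [PGc_ne _ _ hab, PG_ne (frame n F) hab]
    constructor
    · rintro ⟨⟨k, hk⟩, hk', rfl⟩
      obtain ⟨t, ht⟩ := Subgroup.mem_subgroupOf.1 hk'
      have ht' : k = (frame n F).X a b t := ht
      subst ht'
      rcases hF t with rfl | rfl
      · have : (⟨(frame n F).X a b 0, hk⟩ : (model n F).I) = 1 := Subtype.ext ((frame n F).X_zero a b)
        rw [this, map_one]; exact one_mem _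
      · exact Subgroup.mem_zpowers _
    · intro hg
      rcases mem_zpowers_sq ((csysK (n := n) h2).sqX a b hab) hg with rfl | rfl
      · exact one_mem _
      · exact ⟨⟨(frame n F).X a b 1, (model n F).hX a b 1⟩, ⟨1, rfl⟩, rfl⟩
  · rw [PGc_self, PG_self]
    constructor
    · rintro ⟨⟨k, hk⟩, hk', rfl⟩
      obtain ⟨q, hq⟩ := Subgroup.mem_subgroupOf.1 hk'
      have hq' : k = (frame n F).Z a q := hq
      subst hq'
      have h0 : q = adm 0 ∨ q = adm 1 := by
        rcases hF q.c with h0 | h0
        · left; rw [eq_adm q, h0]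
        · right; rw [eq_adm q, h0]
      rcases h0 with rfl | rfl
      · have : (⟨(frame n F).Z a (adm 0), hk⟩ : (model n F).I) = 1 := Subtype.ext ((frame n F).Z_one a)
        rw [this, map_one]; exact one_mem _
      · exact Subgroup.mem_zpowers _
    · intro hg
      rcases mem_zpowers_sq ((csysK (n := n) h2).sqZ a) hg with rfl | rfl
      · exact one_mem _
      · exact ⟨⟨(frame n F).Z a (adm 1), (model n F).hZ a (adm 1)⟩, ⟨adm 1, rfl⟩, rfl⟩

theorem four (hn : 4 ≤ n) : Four (Fin n) := by
  intro a b d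
  by_contra hcon
  push Not at hcon
  have h1 : (Finset.univ : Finset (Fin n)) ⊆ {a, b, d} := by
    intro u _
    simp only [Finset.mem_insert, Finset.mem_singleton]
    by_cases h1 : u = a
    · exact Or.inl h1
    by_cases h3 : u = b
    · exact Or.inr (Or.inl h3)
    · exact Or.inr (Or.inr (hcon u h1 h3))
  have h2 := Finset.card_le_card h1
  rw [Finset.card_univ, Fintype.card_fin] at h2
  have h3 : ({a, b, d} : Finset (Fin n)).card ≤ 3 := Finset.card_le_three
  omega

/-- **`PSp_{2n}(2)`, `n ≥ 4`, has no perfect double cover.** -/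
theorem noDouble_psp_two [Fintype F] (hF : Fintype.card F = 2) (hn : 4 ≤ n) : NoDouble (PSp n F) := by
  classical
  intro L _ _ π c hD
  have h01 : ∀ t : F, t = 0 ∨ t = 1 := by
    intro t
    by_contra hcon
    push Not at hcon
    have h1 : ({0, 1, t} : Finset F).card ≤ 2 := by
      rw [← hF]; exact Finset.card_le_univ _
    rw [Finset.card_insert_of_notMem (by simp [hcon.1.symm]), Finset.card_insert_of_notMem (by simp [hcon.2.symm]),
      Finset.card_singleton] at h1
    omega
  have h2 : ∀ t : F, t + t = 0 := by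
    intro t
    have h1 : (1 : F) + 1 = 0 := by
      rcases h01 (1 + 1) with h | h
      · exact h
      · exact absurd (add_eq_left.1 h) one_ne_zero
    calc t + t = t * (1 + 1) := by ring
      _ = 0 := by rw [h1, mul_zero]
  have hchar : CharP F 2 := CharTwo.of_one_ne_zero_of_two_eq_zero one_ne_zero (by rw [← one_add_one_eq_two, h2])
  have : Fact (Nat.Prime 2) := ⟨Nat.prime_two⟩
  have hk : Ker2 π c :=
    { ker := fun g hg => (hD.ker g).1 hg
      map_c := (hD.ker c).2 (Or.inr rfl)
      cen := hD.cen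
      ne := hD.ne }
  have hnt : Nontrivial (Fin n) := Fin.nontrivial_iff_two_le.2 (by omega)
  obtain ⟨T, U, S, hT, hU⟩ := exists_lift (csysK (n := n) (F := F) h2) hk
    (fun x y => hD.surj _) (fun x => hD.surj _) (four hn)
  let cs : CoxeterSystem (CoxeterMatrix.B n) (CoxeterMatrix.B n).Group := (CoxeterMatrix.B n).toCoxeterSystem
  have : Finite (CoxeterMatrix.B n).Group := finite_W cs
  have R := rgdSp (n := n) (F := F) (p := 2) cs
  have : Finite (PSp n F) := Finite.of_surjective _ hD.surj
  -- the images of the lifted root groups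
  have hmap : ∀ x, IsRoot cs (isCartan n) x →
      (rgc T U x).map π = Cfsg.Agent.Nodes.WittModel.X (model n F) x := by
    intro x hx
    obtain ⟨a, b, hab, e⟩ := exists_of_isRoot cs hx
    rw [X_eq h2 h01 cs hx, rgc_eq S hab e, rgc_eq (csysK h2) hab e]
    rcases hab with hab | rfl
    · rw [PGc_ne _ _ hab, PGc_ne _ _ hab, MonoidHom.map_zpowers, hT a b hab]
    · rw [PGc_self, PGc_self, MonoidHom.map_zpowers, hU]
  -- root groups are not trivial
  have hne : ∀ x, IsRoot cs (isCartan n) x → ∃ u ∈ Cfsg.Agent.Nodes.WittModel.X (model n F) x, u ≠ 1 := by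
    rintro x ⟨w, i, rfl⟩
    obtain ⟨u, hu, hu1⟩ := exists_ne_one R i
    obtain ⟨g, hg⟩ := exists_rp cs R.nsys w
    refine ⟨g * u * g⁻¹, R.conj_mem hg (isRoot_sr cs _ i) hu, fun h => hu1 ?_⟩
    have e : u = g⁻¹ * (g * u * g⁻¹) * g := by group
    rw [e, h]; group
  refine false_of_good R rfl hD.toCtr hk ?_ (Xt := rgc T U) ⟨fun x hx => hmap x hx.1, ?_⟩ ?_
  · have h1 : Cfsg.Agent.Nodes.RGDLib.G1 cs (isCartan n) (Cfsg.Agent.Nodes.WittModel.X (model n F)) = ⊤ :=
      Cfsg.Agent.Nodes.WittModel.G1_eq_top (model n F) (by omega) cs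
    have h3 : GG cs (isCartan n) (Cfsg.Agent.Nodes.WittModel.T (model n F))
        (Cfsg.Agent.Nodes.WittModel.X (model n F)) = ⊤ := by
      rw [eq_top_iff, ← h1]
      exact le_sup_right
    rw [h3]; exact le_top
  · intro x hx hc
    obtain ⟨a, b, hab, e⟩ := exists_of_isRoot cs hx.1
    obtain ⟨u, hu, hu1⟩ := hne x hx.1
    rw [← hmap x hx.1, rgc_eq S hab e] at hu
    obtain ⟨g, hg, rfl⟩ := hu
    rw [rgc_eq S hab e] at hc
    rcases hab with hab | rfl
    · rcases mem_T S hab hg with rfl | rfl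
      · exact hu1 (map_one π)
      · rcases mem_T S hab hc with h | h
        · exact hk.ne h
        · exact hu1 (by rw [← h, hk.map_c])
    · rcases mem_U S hg with rfl | rfl
      · exact hu1 (map_one π)
      · rcases mem_U S hc with h | h
        · exact hk.ne h
        · exact hu1 (by rw [← h, hk.map_c])
  · intro x hx y hy hxy
    refine Or.inl fun a ha b hb => comm_rgc S cs hx.1 hy.1 hxy ?_ ha hb
    rintro rfl
    exact hy.1.not_pos_neg hy.2 (neg_nonneg.1 hx.2)

end Cfsg.Agent.KFacts.Mult.SpTwo
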