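import Cfsg.Agent.KFacts.Mult.WittZ
import Cfsg.Agent.KFacts.Mult.SpTwo

/-!
# `PSp_{2m}(q)`, `q` even: the literal fields `sp4`, `sp` of `OddHalf.D9.MultOf.LieND`
-/

set_option autoImplicit false

namespace Cfsg.Agent.KFacts.Mult.SpLit

open Cfsg.Agent.KFacts.MulDef

theorem charP_two (F : Type) [Field F] [Fintype F] {a : ℕ} (hF : Fintype.card F = 2 ^ a) : CharP F 2 := by
  obtain ⟨p, hp⟩ := CharP.exists F
  obtain ⟨n, hp', hn⟩ := FiniteField.card F p
  have h1 : p ∣ 2 ^ a := by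
    rw [← hF, hn]
    exact dvd_pow_self p n.ne_zero
  have h2 : p = 2 := (Nat.prime_dvd_prime_iff_eq hp' Nat.prime_two).1 (hp'.dvd_of_dvd_pow h1)
  exact h2 ▸ hp

theorem two_lt {F : Type} [Field F] [Fintype F] {a : ℕ} (ha : 2 ≤ a) (hF : Fintype.card F = 2 ^ a) : 2 < Nat.card F := by
  rw [Nat.card_eq_fintype_card, hF]
  calc 2 = 2 ^ 1 := (pow_one 2).symm
    _ < 2 ^ a := Nat.pow_lt_pow_right (by norm_num) (by omega)

/-- The literal field `sp4` of `LieND`. -/
theorem sp4 (F : Type) [Field F] [Fintype F] (a : ℕ) (ha : 2 ≤ a) (hF : Fintype.card F = 2 ^ a) :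
    NoDouble (PSp 2 F) := by
  haveI := charP_two F hF
  exact WittZ.noDouble_PSp (two_lt ha hF) le_rfl

/-- The literal field `sp` of `LieND`. -/
theorem sp (F : Type) [Field F] [Fintype F] (a m : ℕ) (ha : 1 ≤ a) (hF : Fintype.card F = 2 ^ a) (hm : 3 ≤ m)
    (h3 : m = 3 → 2 ≤ a) : NoDouble (PSp m F) := by
  by_cases h1 : a = 1
  · subst h1
    exact SpTwo.noDouble_psp_two (by simpa using hF) (by
      rcases Nat.lt_or_ge m 4 with h4 | h4
      · have := h3 (by omega)
        omega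
      · exact h4)
  · haveI := charP_two F hF
    exact WittZ.noDouble_PSp (two_lt (by omega) hF) (by omega)

end Cfsg.Agent.KFacts.Mult.SpLit
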