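import Cfsg.Agent.KFacts.Mult.OddSpl
import Cfsg.Agent.KFacts.Mult.FieldAlt

/-!
# Splitting of the preimage of a Suzuki 2-group in double covers

`SuzC σ D e`: coordinates `e p u` of a Suzuki 2-group `V = {e p u}`, `Z = {e 0 u}`, with the torus acting by
`(p, u) ↦ (χ p, χ σ(χ) u)`, inside the group `D`.
`SuzC.notMem`: if the preimages of `Z` and `V` commute and `|F| > 4`, then the central involution is not in the
commutator group of the preimage of `V`.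
-/

set_option autoImplicit false

namespace Cfsg.Agent.KFacts.Mult.SuzSpl

open Subgroup Cfsg.Agent.KFacts.MulDef Cfsg.Agent.KFacts.MulTwo Cfsg.Agent.KFacts.Mult.WeightsTwo
  Cfsg.Agent.KFacts.Mult.RGDW Cfsg.Agent.KFacts.Mult.OddSpl Cfsg.Agent.KFacts.Mult.FieldAlt
open scoped commutatorElement

universe u

variable {X : Type u} [Group X] {F : Type*} [Field F]

/-- Coordinates of a Suzuki 2-group with torus. -/
structure SuzC (σ : F →+* F) (D : Subgroup X) (e : F → F → X) : Prop where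
  mul : ∀ p u q v, e p u * e q v = e (p + q) (u + v + p * σ q)
  inj : ∀ p u q v, e p u = e q v → p = q ∧ u = v
  nor : ∀ h ∈ D, ∀ p u, ∃ q v, h * e p u * h⁻¹ = e q v
  tor : ∀ χ : F, χ ≠ 0 → ∃ h ∈ D, ∀ p u, h * e p u * h⁻¹ = e (χ * p) (χ * σ χ * u)

namespace SuzC

variable {σ : F →+* F} {D : Subgroup X} {e : F → F → X} (S : SuzC σ D e)

include S in
theorem one : e 0 0 = 1 := by
  have h := S.mul 0 0 0 0
  simp only [add_zero, zero_mul] at h
  exact mul_eq_left.1 h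

variable [CharP F 2]

include S in
theorem mul_inv' (p u : F) : e p u * e p (u + p * σ p) = 1 := by
  rw [S.mul, ← S.one]
  have h1 : p + p = 0 := CharTwo.add_self_eq_zero p
  have h2 : u + (u + p * σ p) + p * σ p = 0 := by
    have h3 := CharTwo.add_self_eq_zero u
    have h4 := CharTwo.add_self_eq_zero (p * σ p)
    linear_combination h3 + h4
  rw [h1, h2]

include S in
theorem inv (p u : F) : (e p u)⁻¹ = e p (u + p * σ p) :=
  inv_eq_of_mul_eq_one_right (S.mul_inv' p u)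

/-- the Suzuki 2-group -/
def V : Subgroup X where
  carrier := {x | ∃ p u, e p u = x}
  one_mem' := ⟨0, 0, S.one⟩
  mul_mem' := by
    rintro _ _ ⟨p, u, rfl⟩ ⟨q, v, rfl⟩
    exact ⟨_, _, (S.mul p u q v).symm⟩
  inv_mem' := by
    rintro _ ⟨p, u, rfl⟩
    exact ⟨_, _, (S.inv p u).symm⟩

/-- its centre -/
def Z : Subgroup X where
  carrier := {x | ∃ u, e 0 u = x}
  one_mem' := ⟨0, S.one⟩
  mul_mem' := by
    rintro _ _ ⟨u, rfl⟩ ⟨v, rfl⟩
    exact ⟨u + v, by rw [S.mul]; simp⟩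
  inv_mem' := by
    rintro _ ⟨u, rfl⟩
    exact ⟨u, by rw [S.inv]; simp⟩

theorem mem_V {x : X} : x ∈ S.V ↔ ∃ p u, e p u = x := Iff.rfl

theorem mem_Z {x : X} : x ∈ S.Z ↔ ∃ u, e 0 u = x := Iff.rfl

theorem Z_le : S.Z ≤ S.V := by
  rintro _ ⟨u, rfl⟩
  exact ⟨0, u, rfl⟩

theorem nor_V : ∀ t ∈ D, ∀ v ∈ S.V, t * v * t⁻¹ ∈ S.V := by
  rintro t ht _ ⟨p, u, rfl⟩
  obtain ⟨q, v, h⟩ := S.nor t ht p u
  exact ⟨q, v, h.symm⟩

theorem nor_Z : ∀ t ∈ D, ∀ v ∈ S.Z, t * v * t⁻¹ ∈ S.Z := by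
  rintro t ht _ ⟨u, rfl⟩
  obtain ⟨q, v, h⟩ := S.nor t ht 0 u
  have h0 : e 0 u * e 0 u = 1 := by
    have := S.mul_inv' 0 u
    simpa using this
  have h1 : e q v * e q v = 1 := by
    rw [← h]
    calc t * e 0 u * t⁻¹ * (t * e 0 u * t⁻¹) = t * (e 0 u * e 0 u) * t⁻¹ := by group
      _ = 1 := by rw [h0]; group
  rw [S.mul, ← S.one] at h1
  have h2 := (S.inj _ _ _ _ h1).2
  have h3 : q * σ q = 0 := by
    have h4 := CharTwo.add_self_eq_zero v
    linear_combination h2 - h4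
  have hq : q = 0 := by
    rcases mul_eq_zero.1 h3 with h5 | h5
    · exact h5
    · exact (map_eq_zero σ).1 h5
  subst hq
  exact ⟨v, h.symm⟩

/-- `χ σ(χ) = 1` only for `χ = 1`. -/
theorem eq_one_of (hσ : ∀ x, σ (σ x) = x ^ 2) {χ : F} (h : χ * σ χ = 1) : χ = 1 := by
  have h0 : χ ≠ 0 := left_ne_zero_of_mul_eq_one h
  have h1 : σ χ = χ⁻¹ := (inv_eq_of_mul_eq_one_right h).symm
  have h2 : χ ^ 2 = χ := by
    rw [← hσ, h1, map_inv₀, h1, inv_inv]
  have h3 : χ * χ = χ * 1 := by rw [mul_one, ← pow_two]; exact h2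
  exact mul_left_cancel₀ h0 h3

include S in
theorem exists_free (hσ : ∀ x, σ (σ x) = x ^ 2) (hq : ∃ χ : F, χ ≠ 0 ∧ χ ≠ 1) :
    ∃ t ∈ D, ∀ v ∈ S.V, t * v = v * t → v = 1 := by
  obtain ⟨χ, h0, h1⟩ := hq
  obtain ⟨h, hh, hact⟩ := S.tor χ h0
  refine ⟨h, hh, ?_⟩
  rintro _ ⟨p, u, rfl⟩ hc
  have h2 : h * e p u * h⁻¹ = e p u := by rw [hc, mul_inv_cancel_right]
  rw [hact] at h2
  obtain ⟨h3, h4⟩ := S.inj _ _ _ _ h2
  have hp : p = 0 := by
    by_contra hp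
    exact h1 (mul_left_eq_self₀.1 h3 |>.resolve_right hp)
  have hu : u = 0 := by
    by_contra hu
    exact h1 (eq_one_of hσ (mul_left_eq_self₀.1 h4 |>.resolve_right hu))
  rw [hp, hu, S.one]

/-- **The central involution is not a product of commutators in the preimage of `V`.** -/
theorem notMem (hσ : ∀ x, σ (σ x) = x ^ 2) [Finite F] (hq : 4 < Nat.card F) (hD : Odd (Nat.card D))
    {L : Type*} [Group L] [Finite L] {π : L →* X} {c : L} (hd : Dbl π c)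
    (hZV : ∀ x y : L, π x ∈ S.Z → π y ∈ S.V → x * y = y * x) : c ∉ ⁅S.V.comap π, S.V.comap π⁆ := by
  classical
  have hex : ∃ χ : F, χ ≠ 0 ∧ χ ≠ 1 := by
    by_contra hcon
    push Not at hcon
    have : Nat.card F ≤ 2 := by
      have h1 : Function.Injective (fun x : F => if x = 0 then (0 : Fin 2) else 1) := by
        intro x y hxy
        by_cases hx : x = 0 <;> by_cases hy : y = 0
        · rw [hx, hy]
        · simp [hx, hy] at hxy
        · simp [hx, hy] at hxy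
        · rw [hcon x hx, hcon y hy]
      have h2 := Nat.card_le_card_of_injective _ h1
      rwa [Nat.card_eq_fintype_card (α := Fin 2), Fintype.card_fin] at h2
    omega
  obtain ⟨t, ht, hfix⟩ := S.exists_free hσ hex
  -- the complement in the preimage of `Z`
  have hcZ : c ∉ ⁅S.Z.comap π, S.Z.comap π⁆ := by
    have h1 : ⁅S.Z.comap π, S.Z.comap π⁆ = ⊥ := by
      rw [Subgroup.commutator_eq_bot_iff_le_centralizer]
      intro x hx
      rw [mem_centralizer_iff]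
      exact fun y hy => hZV y x hy (S.Z_le hx)
    rw [h1, mem_bot]
    exact hd.ne
  obtain ⟨M, hcM, hMZ, hZM, hDM⟩ := exists_split hd hD S.nor_Z ⟨t, ht, fun v hv => hfix v (S.Z_le hv)⟩ hcZ
  -- commutators
  have hcomm : ∀ x y : L, π x ∈ S.V → π y ∈ S.V → π ⁅x, y⁆ ∈ S.Z := by
    rintro x y ⟨p, u, hp⟩ ⟨q, v, hq⟩
    have h1 : π (x * y) = e (p + q) (u + v + p * σ q) := by rw [map_mul, ← hp, ← hq, S.mul]
    have h2 : π (y * x) = e (p + q) (v + u + q * σ p) := by rw [map_mul, ← hp, ← hq, S.mul, add_comm q p]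
    have h3 : π ⁅x, y⁆ = π (x * y) * (π (y * x))⁻¹ := by
      rw [← map_inv, ← map_mul, commutatorElement_def]; congr 1; group
    rw [h3, h1, h2, S.inv, S.mul]
    have h4 : p + q + (p + q) = 0 := CharTwo.add_self_eq_zero _
    rw [h4]
    exact ⟨_, rfl⟩
  have hmulr : ∀ x y z : L, π x ∈ S.V → π y ∈ S.V → π z ∈ S.V → ⁅x, y * z⁆ = ⁅x, y⁆ * ⁅x, z⁆ := by
    intro x y z hx hy hz
    have h1 := hZV ⁅x, z⁆ y (hcomm x z hx hz) hy
    have e1 : ⁅x, y * z⁆ = ⁅x, y⁆ * (y * ⁅x, z⁆ * y⁻¹) := by simp only [commutatorElement_def]; group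
    rw [e1, ← h1, mul_inv_cancel_right]
  have hone : ∀ x z : L, π x ∈ S.V → π z ∈ S.Z → ⁅x, z⁆ = 1 := by
    intro x z hx hz
    rw [commutatorElement_def, ← hZV z x hz hx]; group
  have hdep : ∀ x y y' : L, π x ∈ S.V → π y ∈ S.V → (∃ p u v, π y = e p u ∧ π y' = e p v) →
      ⁅x, y'⁆ = ⁅x, y⁆ := by
    rintro x y y' hx hy ⟨p, u, v, h1, h2⟩
    have h3 : π (y⁻¹ * y') ∈ S.Z := by
      rw [map_mul, map_inv, h1, h2, S.inv, S.mul, CharTwo.add_self_eq_zero]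
      exact ⟨_, rfl⟩
    have h4 : y' = y * (y⁻¹ * y') := by group
    rw [h4, hmulr x y _ hx hy (S.Z_le h3), hone x _ hx h3, mul_one]
  have hdep' : ∀ x x' y : L, π x ∈ S.V → π y ∈ S.V → (∃ p u v, π x = e p u ∧ π x' = e p v) →
      ⁅x', y⁆ = ⁅x, y⁆ := by
    intro x x' y hx hy h
    rw [← inv_inj, commutatorElement_inv, commutatorElement_inv]
    exact hdep y x x' hy hx h
  let s : F → L := fun a => (hd.surj (e a 0)).choose
  have hs : ∀ a, π (s a) = e a 0 := fun a => (hd.surj (e a 0)).choose_spec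
  have hsV : ∀ a, π (s a) ∈ S.V := fun a => ⟨a, 0, (hs a).symm⟩
  have hconj : ∀ χ a b : F, χ ≠ 0 → ⁅s a, s b⁆ ∈ M → ⁅s (χ * a), s (χ * b)⁆ ∈ M := by
    intro χ a b hχ hab
    obtain ⟨h, hh, hact⟩ := S.tor χ hχ
    obtain ⟨g, rfl⟩ := hd.surj h
    have h1 := hDM g hh _ hab
    have h2 : g * ⁅s a, s b⁆ * g⁻¹ = ⁅g * s a * g⁻¹, g * s b * g⁻¹⁆ := by
      simp only [commutatorElement_def]; group
    have h3 : ∀ a, π (g * s a * g⁻¹) = e (χ * a) 0 := by
      intro a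
      rw [map_mul, map_mul, map_inv, hs, hact, mul_zero]
    have h4 : ∀ a, π (g * s a * g⁻¹) ∈ S.V := fun a => ⟨_, _, (h3 a).symm⟩
    rw [h2] at h1
    rw [hdep (s (χ * a)) (g * s b * g⁻¹) (s (χ * b)) (hsV _) (h4 b) ⟨χ * b, 0, 0, h3 b, hs _⟩,
      hdep' (g * s a * g⁻¹) (s (χ * a)) (g * s b * g⁻¹) (h4 a) (h4 b) ⟨χ * a, 0, 0, h3 a, hs _⟩]
    exact h1
  have hswap : ∀ x y : L, ⁅x, y⁆ ∈ M → ⁅y, x⁆ ∈ M := by
    intro x y h
    rw [← commutatorElement_inv]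
    exact inv_mem h
  have hs0 : π (s 0) ∈ S.Z := ⟨0, (hs 0).symm⟩
  let H : AddSubgroup F :=
    { carrier := {b | ⁅s 1, s b⁆ ∈ M}
      zero_mem' := by
        show ⁅s 1, s 0⁆ ∈ M
        rw [hone _ _ (hsV 1) hs0]
        exact one_mem _
      add_mem' := by
        intro a b ha hb
        show ⁅s 1, s (a + b)⁆ ∈ M
        have h1 : π (s a * s b) = e (a + b) (0 + 0 + a * σ b) := by rw [map_mul, hs, hs, S.mul]
        rw [hdep (s 1) (s a * s b) (s (a + b)) (hsV 1) ⟨_, _, h1.symm⟩ ⟨_, _, _, h1, hs _⟩,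
          hmulr _ _ _ (hsV 1) (hsV a) (hsV b)]
        exact mul_mem ha hb
      neg_mem' := by
        intro a ha
        rwa [CharTwo.neg_eq] }
  have hH : ∀ b, b ∈ H ↔ ⁅s 1, s b⁆ ∈ M := fun b => Iff.rfl
  have htop : H = ⊤ := by
    refine eq_top_of_inv hq H ?_ ?_ ?_
    · rw [hH, commutatorElement_self]; exact one_mem _
    · intro x hx
      rw [hH] at hx ⊢
      by_cases hx0 : x = 0
      · subst hx0; rwa [inv_zero]
      · have h1 := hconj x⁻¹ 1 x (inv_ne_zero hx0) hx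
        rw [mul_one, inv_mul_cancel₀ hx0] at h1
        exact hswap _ _ h1
    · intro a b ha hb
      rw [hH] at ha hb ⊢
      have h1 : π (s a * s b) = e (a + b) (0 + 0 + a * σ b) := by rw [map_mul, hs, hs, S.mul]
      rw [hdep (s 1) (s a * s b) (s (a + b)) (hsV 1) ⟨_, _, h1.symm⟩ ⟨_, _, _, h1, hs _⟩,
        hmulr _ _ _ (hsV 1) (hsV a) (hsV b)]
      have h2 := (hZM _ (hcomm _ _ (hsV 1) (hsV a))).resolve_left ha
      have h3 := (hZM _ (hcomm _ _ (hsV 1) (hsV b))).resolve_left hb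
      have h4 : ⁅s 1, s a⁆ * ⁅s 1, s b⁆ = ⁅s 1, s a⁆ * c * (⁅s 1, s b⁆ * c) := by
        calc ⁅s 1, s a⁆ * ⁅s 1, s b⁆ = ⁅s 1, s a⁆ * ⁅s 1, s b⁆ * (c * c) := by rw [hd.sq, mul_one]
          _ = ⁅s 1, s a⁆ * (⁅s 1, s b⁆ * c) * c := by group
          _ = ⁅s 1, s a⁆ * (c * ⁅s 1, s b⁆) * c := by rw [hd.cen]
          _ = _ := by group
      rw [h4]
      exact mul_mem h2 h3
  have hall : ∀ a b : F, ⁅s a, s b⁆ ∈ M := by
    intro a b
    by_cases ha : a = 0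
    · subst ha
      apply hswap
      rw [hone _ _ (hsV b) hs0]
      exact one_mem _
    · have h1 : a⁻¹ * b ∈ H := by rw [htop]; trivial
      have h2 := hconj a 1 (a⁻¹ * b) ha h1
      rwa [mul_one, mul_inv_cancel_left₀ ha] at h2
  intro hc
  apply hcM
  refine (Subgroup.commutator_le.2 ?_ : ⁅S.V.comap π, S.V.comap π⁆ ≤ M) hc
  intro x hx y hy
  have hx' := hx
  have hy' := hy
  obtain ⟨p, u, hp⟩ := hx'
  obtain ⟨q, v, hq⟩ := hy'
  rw [hdep x (s q) y hx (hsV q) ⟨q, 0, v, hs q, hq.symm⟩,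
    hdep' (s p) x (s q) (hsV p) (hsV q) ⟨p, 0, u, hs p, hp.symm⟩]
  exact hall p q

end SuzC

end Cfsg.Agent.KFacts.Mult.SuzSpl
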