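import Cfsg.Agent.KFacts.OddLift.Frat

/-!
# Exponent two and separation for central 2-extensions

`f : K → X` surjective, `K` finite and perfect, `ker f` a central 2-group.

* `sq_eq_one`: if in every perfect double cover `π : L → X` there are `n`, `x` with `π (x * x) = 1` and
  `n * x * n⁻¹ = c * x`, then `ker f` has exponent dividing two;
* `card_dvd_two`: if moreover `ker f` is cyclic, its order divides two;
* `separate`: if `ker f` has exponent dividing two, every `w ≠ 1` in `ker f` survives in a double cover below `f`.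
-/

set_option autoImplicit false
set_option linter.style.haveILetI false

namespace Cfsg.Agent.KFacts.Mult.Swap

open Subgroup Cfsg.Agent.KFacts.MulTwo Cfsg.Agent.KFacts.MulDef Cfsg.Agent.KFacts.OddLift
open scoped commutatorElement

universe u v

section

variable {X : Type v} [Group X] {K : Type u} [Group K] [Finite K]
  (hK : commutator K = ⊤) {f : K →* X} (hf : Function.Surjective f) (hZ : f.ker ≤ center K)
  (h2 : IsPGroup 2 f.ker)
include hK hf hZ h2

omit [Finite K] hK hf h2 in
theorem comm_ker {a : K} (ha : f a = 1) (b : K) : a * b = b * a := (mem_center_iff.1 (hZ ha) b).symm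

/-- **Exponent two.** -/
theorem sq_eq_one (h : ∀ (L : Type u) [Group L] [Finite L] (π : L →* X) (c : L), Dbl π c →
      ∃ n x : L, π (x * x) = 1 ∧ n * x * n⁻¹ = c * x) : ∀ z, f z = 1 → z * z = 1 := by
  let N : Subgroup K :=
    { carrier := {z | f z = 1 ∧ z * z = 1}
      one_mem' := ⟨map_one f, one_mul 1⟩
      mul_mem' := by
        rintro a b ⟨ha, ha2⟩ ⟨hb, hb2⟩
        refine ⟨by rw [map_mul, ha, hb, mul_one], ?_⟩
        calc a * b * (a * b) = a * (b * a) * b := by group
          _ = a * (a * b) * b := by rw [comm_ker hZ hb a]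
          _ = a * a * (b * b) := by group
          _ = 1 := by rw [ha2, hb2, one_mul]
      inv_mem' := by
        rintro a ⟨ha, ha2⟩
        exact ⟨by rw [map_inv, ha, inv_one], by rw [← mul_inv_rev, ha2, inv_one]⟩ }
  have hN : N ≤ f.ker := fun z hz => hz.1
  have key : f.ker = N := by
    refine Frat.ker_eq hK hf hZ h2 hN ?_
    intro L _ _ q π c hq hπ hNq hd
    obtain ⟨n', x', hx', hnx⟩ := h L π c hd
    obtain ⟨n, rfl⟩ := hq n'
    obtain ⟨x, rfl⟩ := hq x'
    have hqu : q ⁅x, n⁆ = c := by
      rw [map_commutatorElement, commutatorElement_def]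
      have h3 : q x * q n * (q x)⁻¹ * (q n)⁻¹ = (q n * q x * (q n)⁻¹ * (q x)⁻¹)⁻¹ := by group
      rw [h3, hnx, mul_inv_cancel_right, inv_eq_of_mul_eq_one_left hd.sq]
    have hfq : ∀ y, π (q y) = f y := fun y => by rw [← hπ]; rfl
    have hu : f ⁅x, n⁆ = 1 := by
      rw [← hfq, hqu]
      exact (hd.ker c).2 (Or.inr rfl)
    have hsq : ⁅x, n⁆ * ⁅x, n⁆ = 1 := by
      refine noFour (comm_ker hZ (a := x * x) ?_) (comm_ker hZ hu)
      rw [← hfq, map_mul]
      exact hx'
    have hk : ⁅x, n⁆ ∈ q.ker := hNq ⟨hu, hsq⟩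
    rw [MonoidHom.mem_ker, hqu] at hk
    exact hd.ne hk
  intro z hz
  have hz' : z ∈ N := by rw [← key]; exact hz
  exact hz'.2

omit [Finite K] hK hf hZ h2 in
/-- A cyclic kernel of exponent two. -/
theorem card_dvd_two (hc : IsCyclic f.ker) (hel : ∀ z, f z = 1 → z * z = 1) : Nat.card f.ker ∣ 2 := by
  obtain ⟨g, hg⟩ := hc.exists_generator
  rw [← orderOf_eq_card_of_forall_mem_zpowers hg]
  refine orderOf_dvd_of_pow_eq_one ?_
  rw [pow_two]
  exact Subtype.ext (hel g g.2)

/-- **Separation.** -/
theorem separate (hel : ∀ z, f z = 1 → z * z = 1) {w : K} (hw : f w = 1) (hw1 : w ≠ 1) :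
    ∃ (L : Type u) (_ : Group L) (_ : Finite L) (q : K →* L) (π : L →* X) (c : L),
      Function.Surjective q ∧ π.comp q = f ∧ Dbl π c ∧ q w = c := by
  classical
  let S : Set (Subgroup K) := {N | N ≤ f.ker ∧ w ∉ N}
  have hS : (⊥ : Subgroup K) ∈ S := ⟨bot_le, fun h => hw1 (mem_bot.1 h)⟩
  obtain ⟨N, hN⟩ := (Set.toFinite S).exists_maximal ⟨_, hS⟩
  have hN1 : N ≤ f.ker := hN.prop.1
  have hN2 : w ∉ N := hN.prop.2
  have hne : N ≠ f.ker := fun e => hN2 (by rw [e]; exact hw)
  have hcov : ∀ z, f z = 1 → z ∈ N ∨ w * z ∈ N := by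
    intro z hz
    by_contra hcon
    push Not at hcon
    have hzz := hel z hz
    let N' : Subgroup K :=
      { carrier := {y | y ∈ N ∨ z * y ∈ N}
        one_mem' := Or.inl (one_mem _)
        mul_mem' := by
          rintro a b (ha | ha) (hb | hb)
          · exact Or.inl (mul_mem ha hb)
          · right
            have : z * (a * b) = a * (z * b) := by rw [← mul_assoc, comm_ker hZ hz a, mul_assoc]
            rw [this]; exact mul_mem ha hb
          · right
            rw [← mul_assoc]; exact mul_mem ha hb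
          · left
            have : a * b = (z * a) * (z * b) := by
              calc a * b = (z * z) * (a * b) := by rw [hzz, one_mul]
                _ = z * (z * a) * b := by group
                _ = z * (a * z) * b := by rw [comm_ker hZ hz a]
                _ = _ := by group
            rw [this]; exact mul_mem ha hb
        inv_mem' := by
          rintro a (ha | ha)
          · exact Or.inl (inv_mem ha)
          · right
            have : z * a⁻¹ = (z * a)⁻¹ := by
              rw [mul_inv_rev, inv_eq_of_mul_eq_one_left hzz]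
              exact comm_ker hZ hz a⁻¹
            rw [this]; exact inv_mem ha }
    have hle : N ≤ N' := fun y hy => Or.inl hy
    have hzN' : z ∈ N' := Or.inr (by rw [hzz]; exact one_mem _)
    have hN'k : N' ≤ f.ker := by
      rintro y (hy | hy)
      · exact hN1 hy
      · have h3 : f (z * y) = 1 := hN1 hy
        rw [map_mul, hz, one_mul] at h3
        exact h3
    have hwN' : w ∈ N' := by
      by_contra hw'
      exact hcon.1 (hN.le_of_ge ⟨hN'k, hw'⟩ hle hzN')
    rcases hwN' with h3 | h3
    · exact hN2 h3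
    · apply hcon.2
      rw [comm_ker hZ hw z]; exact h3
  obtain ⟨L, iL, fL, q, π, c, hq, hπ, hNq, hd⟩ := Frat.exists_dbl_over hK hf hZ h2 hN1 hne
  refine ⟨L, iL, fL, q, π, c, hq, hπ, hd, ?_⟩
  have hfq : ∀ y, π (q y) = f y := fun y => by rw [← hπ]; rfl
  have hqw : π (q w) = 1 := by rw [hfq, hw]
  rcases (hd.ker _).1 hqw with h3 | h3
  · exfalso
    obtain ⟨y, hy⟩ := hq c
    have hfy : f y = 1 := by rw [← hfq, hy]; exact (hd.ker c).2 (Or.inr rfl)
    rcases hcov y hfy with h4 | h4
    · have : q y = 1 := hNq h4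
      rw [hy] at this
      exact hd.ne this
    · have : q (w * y) = 1 := hNq h4
      rw [map_mul, h3, one_mul, hy] at this
      exact hd.ne this
  · exact h3

end

/-- A cyclic kernel has order at most two. -/
theorem card_ker_dvd_two {X : Type v} [Group X] {K : Type u} [Group K] [Finite K]
    (hK : commutator K = ⊤) {f : K →* X} (hf : Function.Surjective f) (hZ : f.ker ≤ center K)
    (h2 : IsPGroup 2 f.ker) (hc : IsCyclic f.ker)
    (h : ∀ (L : Type u) [Group L] [Finite L] (π : L →* X) (c : L), Dbl π c →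
      ∃ n x : L, π (x * x) = 1 ∧ n * x * n⁻¹ = c * x) : Nat.card f.ker ∣ 2 :=
  card_dvd_two hc (sq_eq_one hK hf hZ h2 h)

end Cfsg.Agent.KFacts.Mult.Swap
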