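import Cfsg.Agent.KFacts.Mult.ThreeD4TwoB
import Cfsg.Agent.KFacts.Mult.RGDW
import Cfsg.Agent.KFacts.Mult.FieldAlt
import Cfsg.Agent.KFacts.Mult.Num

/-!
# ³D₄(q), q even, has no perfect double cover

`noDouble` for `q = 2^a`, `a ≥ 2`; `d43` for all `a ≥ 1`.
-/

set_option autoImplicit false
set_option linter.unusedSectionVars false

namespace Cfsg.Agent.KFacts.Mult.ThreeD4Big

open Cfsg.Lie Subgroup
open Cfsg.Agent.Schreier.ThreeD4
open Cfsg.Agent.ChevalleyStructure.D4Fixed (sig coe_sig fix mem_fix twisted_le_fix twisted_induction)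
open Cfsg.Agent.ChevalleyStructure.D4Cols (xU coe_xU wU)
open Cfsg.Agent.ChevalleyStructure
open Cfsg.Agent.ChevalleyStructure.D4Comm
open Cfsg.Agent.ChevalleyStructure.D4CommTab
open Cfsg.Agent.ChevalleyStructure.D4Pos
open Cfsg.Agent.ChevalleyStructure.D4NCheck
open Cfsg.Agent.ChevalleyStructure.D4NConj (nR nR_def nG nG_conj nG_def hR hR_def nR_eq nR_inv xG_inv torG torG_conj
  torG_mul torG_one chi chi_def chi_ne_zero dv_def hR_eq_torG)
open Cfsg.Agent.ChevalleyStructure.TwistedU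
open Cfsg.Agent.ChevalleyStructure.D4U
open Cfsg.Agent.ChevalleyStructure.D4RGD
open Cfsg.Agent.ChevalleyStructure.D4Twisted
open Cfsg.Agent.KFacts.Mult.D4Base
open Cfsg.Agent.KFacts.Mult.ThreeD4Two (xcomm n_inv_conj)
open Cfsg.Agent.KFacts.MulDef Cfsg.Agent.KFacts.MulTwo Cfsg.Agent.KFacts.Mult.WeightsTwo
  Cfsg.Agent.KFacts.Mult.RGDW
open scoped commutatorElement

/-! ### Arithmetic -/

/-- A power with the same `p`-part. -/
theorem exists_ppart {G : Type*} [Group G] [Finite G] {p : ℕ} (hp : p.Prime) (g : G) (j : ℕ) :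
    ∃ N k : ℕ, N ≡ 1 [MOD p ^ j] ∧ (g ^ N) ^ p ^ k = 1 := by
  obtain ⟨k, m, hm, ho⟩ := Nat.exists_eq_pow_mul_and_not_dvd (orderOf_pos g).ne' p hp.ne_one
  have hco : (p ^ j).Coprime m := ((Nat.Prime.coprime_iff_not_dvd hp).2 hm).pow_left j
  obtain ⟨N, h1, h2⟩ := Nat.chineseRemainder hco 1 0
  refine ⟨N, k, h1, ?_⟩
  rw [← pow_mul]
  apply orderOf_dvd_iff_pow_eq_one.1
  rw [ho, mul_comm]
  exact Nat.mul_dvd_mul ((Nat.modEq_zero_iff_dvd).1 h2) (dvd_refl _)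

theorem pow_of_modEq {K : Type*} [Monoid K] {p j : ℕ} {N : ℕ} (hN : N ≡ 1 [MOD p ^ j]) {c : K}
    (hc : c ^ p ^ j = 1) : c ^ N = c := by
  have h1 : N % orderOf c = 1 % orderOf c := hN.of_dvd (orderOf_dvd_of_pow_eq_one hc)
  rw [← pow_mod_orderOf, h1, pow_mod_orderOf, pow_one]

section Field

variable {K : Type*} [Field K] [Finite K] {q : ℕ} {φ : K →+* K}

/-- the parameters: `r` of order `p` in `F_q`, `l` of `p`-power order with norm `r²` -/
theorem exists_params (hq : 1 < q) (hodd : Odd (q - 1)) (hK : Nat.card K = q ^ 3) (hφ : ∀ x, φ x = x ^ q)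
    (h3 : 3 ≤ q) :
    ∃ p : ℕ, p.Prime ∧ Odd p ∧ ∃ r l : K, r ≠ 0 ∧ l ≠ 0 ∧ φ r = r ∧ orderOf r = p ∧ (∃ j, l ^ p ^ j = 1) ∧
      l * φ l * φ (φ l) = r * r := by
  obtain ⟨p, hp, hpq⟩ := Nat.exists_prime_and_dvd (n := q - 1) (by omega)
  have hpodd : Odd p := Odd.of_dvd_nat hodd hpq
  have := Fact.mk hp
  have hdiv : q - 1 ∣ q ^ 3 - 1 := by simpa using Nat.sub_dvd_pow_sub_pow q 1 3
  obtain ⟨r, hr0, hr⟩ := Num.exists_orderOf (K := K) (p := p) (by rw [hK]; exact hpq.trans hdiv)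
  have hrq : r ^ (q - 1) = 1 := orderOf_dvd_iff_pow_eq_one.1 (hr ▸ hpq)
  have hφr : φ r = r := by
    rw [hφ]
    have : q = (q - 1) + 1 := by omega
    rw [this, pow_succ, hrq, one_mul]
  -- the norm is onto
  obtain ⟨g, hg⟩ := IsCyclic.exists_generator (α := Kˣ)
  obtain ⟨k, hk⟩ : ∃ k : ℕ, g ^ k = (Units.mk0 r hr0) * (Units.mk0 r hr0) := by
    obtain ⟨k, hk⟩ := (mem_powers_iff_mem_zpowers.2 (hg (Units.mk0 r hr0 * Units.mk0 r hr0)))
    exact ⟨k, hk⟩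
  have hog : orderOf g = q ^ 3 - 1 := by
    rw [orderOf_eq_card_of_forall_mem_zpowers hg, Nat.card_units, hK]
  have hfac : q ^ 3 - 1 = (q ^ 2 + q + 1) * (q - 1) := by
    obtain ⟨n, rfl⟩ : ∃ n, q = n + 1 := ⟨q - 1, by omega⟩
    have : (n + 1) ^ 3 = ((n + 1) ^ 2 + (n + 1) + 1) * n + 1 := by ring
    rw [this]
    simp
  have hkd : q ^ 2 + q + 1 ∣ k := by
    have h1 : g ^ (k * (q - 1)) = 1 := by
      rw [pow_mul, hk, mul_pow]
      have h2 : (Units.mk0 r hr0) ^ (q - 1) = 1 := Units.ext (by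
        rw [Units.val_pow_eq_pow_val, Units.val_mk0, hrq, Units.val_one])
      rw [h2, one_mul]
    have h2 := orderOf_dvd_of_pow_eq_one h1
    rw [hog, hfac] at h2
    exact Nat.dvd_of_mul_dvd_mul_right (by omega) h2
  obtain ⟨m, rfl⟩ := hkd
  obtain ⟨N, j, hN, hj⟩ := exists_ppart hp (g ^ m) 1
  rw [pow_one] at hN
  refine ⟨p, hp, hpodd, r, (((g ^ m) ^ N : Kˣ) : K), hr0, Units.ne_zero _, hφr, hr, ⟨j, ?_⟩, ?_⟩
  · rw [← Units.val_pow_eq_pow_val, hj, Units.val_one]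
  · rw [hφ, hφ]
    have e1 : (((g ^ m) ^ N : Kˣ) : K) * (((g ^ m) ^ N : Kˣ) : K) ^ q * ((((g ^ m) ^ N : Kˣ) : K) ^ q) ^ q =
        ((g ^ ((q ^ 2 + q + 1) * m) : Kˣ) : K) ^ N := by
      simp only [Units.val_pow_eq_pow_val]
      ring
    rw [e1, hk]
    simp only [Units.val_mul, Units.val_mk0]
    have h2 : (r * r) ^ p = 1 := by rw [mul_pow, ← hr, pow_orderOf_eq_one, one_mul]
    exact pow_of_modEq (j := 1) (by rwa [pow_one]) (by rwa [pow_one])

end Field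

section Main

variable {K : Type*} [Field K] [Finite K] [CharP K 2] {q : ℕ} {φ : K →+* K}

/-- the standard element with coordinates `a` -/
noncomputable def E (φ : K →+* K) (a : Fin 6 → K) : GL chevD4.Idx K :=
  xx φ 0 (a 0) * xx φ 1 (a 1) * xx φ 2 (a 2) * xx φ 3 (a 3) * xx φ 4 (a 4) * xx φ 5 (a 5)

theorem E_eq (a : Fin 6 → K) : E φ a = elt φ (a 0) (a 1) (a 2) (a 3) (a 4) (a 5) := (elt_eq_xx φ _ _ _ _ _ _).symm

theorem E_inj {a b : Fin 6 → K} (h : E φ a = E φ b) : a = b := by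
  rw [E_eq, E_eq] at h
  obtain ⟨h0, h1, h2, h3, h4, h5⟩ := elt_inj h
  funext i
  fin_cases i
  exacts [h0, h1, h2, h3, h4, h5]

theorem E_single (i : Fin 6) (a : K) : E φ (Pi.single i a) = xx φ i a := by
  unfold E
  fin_cases i <;> simp [xx_zero]

theorem conj_six {G : Type*} [Group G] (g a b c d e f : G) : g * (a * b * c * d * e * f) * g⁻¹ =
    (g * a * g⁻¹) * (g * b * g⁻¹) * (g * c * g⁻¹) * (g * d * g⁻¹) * (g * e * g⁻¹) * (g * f * g⁻¹) := by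
  group

/-- `h` acts on the root groups by the characters `c` -/
def Acts (φ : K →+* K) (h : GL chevD4.Idx K) (c : Fin 6 → K) : Prop :=
  (∀ i, c i ≠ 0) ∧ (∀ i a, dm φ i a → dm φ i (c i * a)) ∧ ∀ i a, h * xx φ i a * h⁻¹ = xx φ i (c i * a)

theorem dm_iff {i : Fin 6} {c : K} (h : ∀ a, dm φ i a → dm φ i (c * a)) : dm φ i c := by
  have := h 1 (fun _ => map_one φ)
  rwa [mul_one] at this

theorem dm_mul_dm {i : Fin 6} {a b : K} (ha : dm φ i a) (hb : dm φ i b) : dm φ i (a * b) := fun hi => by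
  rw [map_mul, ha hi, hb hi]

theorem Acts.one : Acts φ (1 : GL chevD4.Idx K) 1 := ⟨fun _ => one_ne_zero, fun i a h => by simpa using h,
  fun i a => by simp⟩

theorem Acts.mul {g h : GL chevD4.Idx K} {c d : Fin 6 → K} (hg : Acts φ g c) (hh : Acts φ h d) :
    Acts φ (g * h) (c * d) := by
  refine ⟨fun i => mul_ne_zero (hg.1 i) (hh.1 i), fun i a ha => ?_, fun i a => ?_⟩
  · rw [Pi.mul_apply, mul_assoc]; exact hg.2.1 i _ (hh.2.1 i a ha)
  · have e : g * h * xx φ i a * (g * h)⁻¹ = g * (h * xx φ i a * h⁻¹) * g⁻¹ := by group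
    rw [e, hh.2.2, hg.2.2, Pi.mul_apply, mul_assoc]

theorem Acts.inv {g : GL chevD4.Idx K} {c : Fin 6 → K} (hg : Acts φ g c) : Acts φ g⁻¹ c⁻¹ := by
  refine ⟨fun i => inv_ne_zero (hg.1 i), fun i a ha => ?_, fun i a => ?_⟩
  · intro hi
    rw [Pi.inv_apply, map_mul, map_inv₀, dm_iff (hg.2.1 i) hi, ha hi]
  · have h1 := hg.2.2 i (c⁻¹ i * a)
    rw [Pi.inv_apply, mul_inv_cancel_left₀ (hg.1 i)] at h1
    rw [Pi.inv_apply, ← h1]
    group

theorem Acts.pow {g : GL chevD4.Idx K} {c : Fin 6 → K} (hg : Acts φ g c) (n : ℕ) : Acts φ (g ^ n) (c ^ n) := by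
  induction n with
  | zero => rw [pow_zero, pow_zero]; exact Acts.one
  | succ n ih => rw [pow_succ, pow_succ]; exact ih.mul hg

theorem Acts.conj_E {g : GL chevD4.Idx K} {c : Fin 6 → K} (hg : Acts φ g c) (a : Fin 6 → K) :
    g * E φ a * g⁻¹ = E φ (c * a) := by
  unfold E
  rw [conj_six, hg.2.2, hg.2.2, hg.2.2, hg.2.2, hg.2.2, hg.2.2]
  rfl

theorem diag_comm {g k : GL chevD4.Idx K} (hg : g ∈ chevD4.diagonalSubgroup K) (hk : k ∈ chevD4.diagonalSubgroup K) :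
    g * k = k * g := by
  obtain ⟨c, rfl⟩ := diagonal_le_torus K hg
  obtain ⟨d, rfl⟩ := diagonal_le_torus K hk
  rw [torG_mul, torG_mul, mul_comm]

/-- the torus used -/
def TT (φ : K →+* K) (q p : ℕ) : Subgroup ↥(twistedD4 K q) where
  carrier := {h | (h : GL chevD4.Idx K) ∈ chevD4.diagonalSubgroup K ∧ (∃ c, Acts φ (h : GL chevD4.Idx K) c) ∧
    ∃ k, h ^ p ^ k = 1}
  one_mem' := ⟨one_mem _, ⟨1, Acts.one⟩, 0, one_pow _⟩
  mul_mem' := by
    rintro a b ⟨ha, ⟨c, hc⟩, k, hk⟩ ⟨hb, ⟨d, hd⟩, l, hl⟩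
    refine ⟨mul_mem ha hb, ⟨_, hc.mul hd⟩, k + l, ?_⟩
    have hab : Commute a b := Subtype.ext (diag_comm ha hb)
    rw [hab.mul_pow, pow_add, pow_mul, hk, one_pow, one_mul, mul_comm (p ^ k), pow_mul, hl, one_pow]
  inv_mem' := by
    rintro a ⟨ha, ⟨c, hc⟩, k, hk⟩
    exact ⟨inv_mem ha, ⟨_, hc.inv⟩, k, by rw [inv_pow, hk, inv_one]⟩

/-- the root groups -/
def VV (φ : K →+* K) (q : ℕ) (i : Fin 6) : Subgroup ↥(twistedD4 K q) where
  carrier := {g | ∃ a, dm φ i a ∧ (g : GL chevD4.Idx K) = xx φ i a}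
  one_mem' := ⟨0, fun _ => map_zero φ, (xx_zero φ i).symm⟩
  mul_mem' := by
    rintro g h ⟨a, ha, hg⟩ ⟨b, hb, hh⟩
    exact ⟨a + b, fun hi => by rw [map_add, ha hi, hb hi], by
      rw [Subgroup.coe_mul, hg, hh, xx_add]⟩
  inv_mem' := by
    rintro g ⟨a, ha, hg⟩
    exact ⟨-a, neg_xx i ha, by rw [Subgroup.coe_inv, hg, xx_neg]⟩

variable (K) in
/-- the Sylow 2-subgroup -/
def UU (q : ℕ) : Subgroup ↥(twistedD4 K q) := (chevD4.posUnipotent K).subgroupOf (twistedD4 K q)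

/-- Frobenius data -/
structure Fr (φ : K →+* K) (q : ℕ) : Prop where
  three : ∀ t : K, φ (φ (φ t)) = t
  pow : ∀ x, φ x = x ^ q
  le : twistedD4 K q ≤ fix φ

theorem Fr.mem_UU (H : Fr φ q) {u : ↥(twistedD4 K q)} : u ∈ UU K q ↔
    ∃ a : Fin 6 → K, (∀ i, dm φ i (a i)) ∧ (u : GL chevD4.Idx K) = E φ a := by
  constructor
  · intro hu
    obtain ⟨a, b, c, d, e, f, ha, he, hf, h⟩ := (mem_U_inf_iff H.three H.pow H.le (u : GL chevD4.Idx K)).1 ⟨hu, u.2⟩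
    refine ⟨![a, b, c, d, e, f], ?_, ?_⟩
    · intro i hi
      rcases hi with rfl | rfl | rfl
      exacts [ha, he, hf]
    · rw [h, E_eq]; rfl
  · rintro ⟨a, ha, h⟩
    have := (mem_U_inf_iff H.three H.pow H.le (u : GL chevD4.Idx K)).2
      ⟨_, _, _, _, _, _, ha 0 (Or.inl rfl), ha 4 (Or.inr (Or.inl rfl)), ha 5 (Or.inr (Or.inr rfl)), by rw [h, E_eq]⟩
    exact this.1

theorem Fr.xx_mem' (H : Fr φ q) {i : Fin 6} {a : K} (h : dm φ i a) : xx φ i a ∈ twistedD4 K q :=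
  xx_mem H.three H.pow H.le h

theorem Fr.VV_le (H : Fr φ q) (i : Fin 6) : VV φ q i ≤ UU K q := by
  rintro g ⟨a, ha, hg⟩
  rw [H.mem_UU]
  refine ⟨Pi.single i a, fun j => ?_, by rw [E_single, hg]⟩
  by_cases hj : j = i
  · subst hj; rw [Pi.single_eq_same]; exact ha
  · rw [Pi.single_eq_of_ne hj]; exact fun _ => map_zero φ

theorem Fr.UU_le (H : Fr φ q) : UU K q ≤ ⨆ i, VV φ q i := by
  intro u hu
  obtain ⟨a, ha, h⟩ := H.mem_UU.1 hu
  have key : ∀ i, (⟨xx φ i (a i), H.xx_mem' (ha i)⟩ : ↥(twistedD4 K q)) ∈ ⨆ i, VV φ q i := fun i =>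
    (le_iSup (fun i => VV φ q i) i) ⟨a i, ha i, rfl⟩
  have e : u = ⟨xx φ 0 (a 0), H.xx_mem' (ha 0)⟩ * ⟨xx φ 1 (a 1), H.xx_mem' (ha 1)⟩ *
      ⟨xx φ 2 (a 2), H.xx_mem' (ha 2)⟩ * ⟨xx φ 3 (a 3), H.xx_mem' (ha 3)⟩ * ⟨xx φ 4 (a 4), H.xx_mem' (ha 4)⟩ *
      ⟨xx φ 5 (a 5), H.xx_mem' (ha 5)⟩ := Subtype.ext h
  rw [e]
  exact mul_mem (mul_mem (mul_mem (mul_mem (mul_mem (key 0) (key 1)) (key 2)) (key 3)) (key 4)) (key 5)

/-- an element of `TT` with given characters of `p`-power order -/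
theorem Fr.exists_TT (H : Fr φ q) {p : ℕ} (hp : p.Prime) {s l : K} (hs : φ s = s) (hs0 : s ≠ 0) (hl0 : l ≠ 0)
    (hsp : ∃ j, s ^ p ^ j = 1) (hlp : ∃ j, l ^ p ^ j = 1) : ∃ t ∈ TT φ q p,
      Acts φ (t : GL chevD4.Idx K) (ch φ s l) := by
  haveI : Finite ↥(twistedD4 K q) := inferInstance
  obtain ⟨m, hm⟩ := Num.sq_surjective (K := K) l
  have hm0 : m ≠ 0 := by rintro rfl; exact hl0 (by rw [← hm, mul_zero])
  obtain ⟨h, hG, hd, hc⟩ := exists_torus H.three H.pow hs hs0 hm0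
  rw [hm] at hc
  have hc0 : ∀ i, ch φ s l i ≠ 0 := by
    have h1 : φ l ≠ 0 := (map_ne_zero φ).2 hl0
    have h2 : φ (φ l) ≠ 0 := (map_ne_zero φ).2 h1
    intro i
    fin_cases i
    · exact hs0
    · exact hl0
    · exact mul_ne_zero hs0 hl0
    · exact mul_ne_zero hs0 (mul_ne_zero hl0 h1)
    · exact mul_ne_zero hs0 (mul_ne_zero (mul_ne_zero hl0 h1) h2)
    · exact mul_ne_zero (mul_ne_zero hs0 hs0) (mul_ne_zero (mul_ne_zero hl0 h1) h2)
  have hA : Acts φ h (ch φ s l) := ⟨hc0, fun i a ha => dm_mul hs H.three ha, hc⟩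
  obtain ⟨j1, hj1⟩ := hsp
  obtain ⟨j2, hj2⟩ := hlp
  obtain ⟨j, hsj, hlj⟩ : ∃ j, s ^ p ^ j = 1 ∧ l ^ p ^ j = 1 := by
    refine ⟨j1 + j2, ?_, ?_⟩
    · rw [pow_add, pow_mul, hj1, one_pow]
    · rw [pow_add, mul_comm, pow_mul, hj2, one_pow]
  have hφj : φ l ^ p ^ j = 1 := by rw [← map_pow, hlj, map_one]
  have hφφj : φ (φ l) ^ p ^ j = 1 := by rw [← map_pow, hφj, map_one]
  have hcj : ∀ i, (ch φ s l i) ^ p ^ j = 1 := by
    intro i
    fin_cases i
    · exact hsj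
    · exact hlj
    · show (s * l) ^ p ^ j = 1
      rw [mul_pow, hsj, hlj, one_mul]
    · show (s * (l * φ l)) ^ p ^ j = 1
      rw [mul_pow, mul_pow, hsj, hlj, hφj, one_mul, one_mul]
    · show (s * (l * φ l * φ (φ l))) ^ p ^ j = 1
      rw [mul_pow, mul_pow, mul_pow, hsj, hlj, hφj, hφφj, one_mul, one_mul, one_mul]
    · show (s * s * (l * φ l * φ (φ l))) ^ p ^ j = 1
      rw [mul_pow, mul_pow, mul_pow, mul_pow, hsj, hlj, hφj, hφφj, one_mul, one_mul, one_mul]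
  obtain ⟨N, k, hN, hk⟩ := exists_ppart hp (⟨h, hG⟩ : ↥(twistedD4 K q)) j
  have e : ch φ s l ^ N = ch φ s l := by
    funext i
    rw [Pi.pow_apply]
    exact pow_of_modEq hN (hcj i)
  have hA' := hA.pow N
  rw [e] at hA'
  exact ⟨(⟨h, hG⟩ : ↥(twistedD4 K q)) ^ N, ⟨pow_mem hd N, ⟨_, hA'⟩, k, hk⟩, hA'⟩

/-- commuting with an element of the torus -/
theorem comm_iff {t u : ↥(twistedD4 K q)} {c a : Fin 6 → K} (ht : Acts φ (t : GL chevD4.Idx K) c)
    (hu : (u : GL chevD4.Idx K) = E φ a) : t * u = u * t ↔ c * a = a := by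
  rw [← mul_inv_eq_iff_eq_mul]
  constructor
  · intro h
    have h1 := congrArg (Subtype.val) h
    have h2 : (t : GL chevD4.Idx K) * u * (t : GL chevD4.Idx K)⁻¹ = u := h1
    rw [hu, ht.conj_E] at h2
    exact E_inj h2
  · intro h
    apply Subtype.ext
    show (t : GL chevD4.Idx K) * u * (t : GL chevD4.Idx K)⁻¹ = u
    rw [hu, ht.conj_E, h]

/-- the parameters -/
structure Par (φ : K →+* K) (p : ℕ) (r l : K) : Prop where
  prime : p.Prime
  odd : Odd p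
  r0 : r ≠ 0
  l0 : l ≠ 0
  φr : φ r = r
  ord : orderOf r = p
  lp : ∃ j, l ^ p ^ j = 1
  norm : l * φ l * φ (φ l) = r * r

namespace Par

variable {p : ℕ} {r l : K} (P : Par φ p r l)

include P

theorem rp (j : ℕ) (hj : 0 < j) : r ^ p ^ j = 1 := by
  rw [← P.ord]
  obtain ⟨n, rfl⟩ : ∃ n, j = n + 1 := ⟨j - 1, by omega⟩
  rw [pow_succ', pow_mul, pow_orderOf_eq_one, one_pow]

theorem rne1 : r ≠ 1 := by
  intro h
  have h1 := P.ord
  rw [h, orderOf_one] at h1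
  exact P.prime.ne_one h1.symm

theorem rne2 : r * r ≠ 1 := by
  intro h
  have h1 : r ^ 2 = 1 := by rw [pow_two]; exact h
  have h2 := orderOf_dvd_of_pow_eq_one h1
  rw [P.ord] at h2
  have h3 := (Nat.prime_dvd_prime_iff_eq P.prime Nat.prime_two).1 h2
  have h4 := P.odd
  rw [h3] at h4
  exact absurd h4 (by decide)

theorem rne4 : r * r * (r * r) ≠ 1 := by
  intro h
  have h1 : r ^ 4 = 1 := by rw [← h]; ring
  have h2 := orderOf_dvd_of_pow_eq_one h1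
  rw [P.ord] at h2
  have h3 := (Nat.prime_dvd_prime_iff_eq P.prime Nat.prime_two).1 (P.prime.dvd_of_dvd_pow (show p ∣ 2 ^ 2 from h2))
  have h4 := P.odd
  rw [h3] at h4
  exact absurd h4 (by decide)

theorem fr2 : φ (r * r) = r * r := by rw [map_mul, P.φr]

theorem lne (H : Fr φ q) : l ≠ 1 := by
  rintro rfl
  have := P.norm
  simp only [map_one, mul_one] at this
  exact P.rne2 this.symm

/-- if `l φ(l) = c ∈ F_q` then `l ∈ F_q` -/
theorem l_fix (H : Fr φ q) {c : K} (hc : φ c = c) (h : l * φ l = c) : c * l = r * r ∧ l * l = c := by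
  have h1 := P.norm
  rw [h] at h1
  have hc0 : c ≠ 0 := by
    rw [← h]
    exact mul_ne_zero P.l0 ((map_ne_zero φ).2 P.l0)
  have h2 : c * l = r * r := by
    have h3 := congrArg φ h1
    rw [map_mul, hc, H.three, P.fr2] at h3
    exact h3
  have h4 : φ l = l := by
    have h5 := congrArg φ h2
    rw [map_mul, hc, P.fr2, ← h2] at h5
    exact mul_left_cancel₀ hc0 h5
  exact ⟨h2, by rw [h4] at h; exact h⟩

theorem llne (H : Fr φ q) : l * φ l ≠ 1 := by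
  intro h
  obtain ⟨h1, h2⟩ := P.l_fix H (map_one φ) h
  rw [one_mul] at h1
  rw [h1] at h2
  exact P.rne4 h2

theorem lne_r2 : l ≠ r * r := by
  intro h
  have h1 := P.norm
  rw [h, P.fr2, P.fr2] at h1
  have h0 : r * r ≠ 0 := mul_ne_zero P.r0 P.r0
  have h2 : r * r * (r * r) * (r * r) = 1 * (r * r) := by rw [h1, one_mul]
  exact P.rne4 (mul_right_cancel₀ h0 h2)

theorem llne_r2 (H : Fr φ q) : l * φ l ≠ r * r := by
  intro h
  obtain ⟨h1, h2⟩ := P.l_fix H P.fr2 h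
  have h0 : r * r ≠ 0 := mul_ne_zero P.r0 P.r0
  have h3 : r * r * l = r * r * 1 := by rw [h1, mul_one]
  exact P.lne H (mul_left_cancel₀ h0 h3)

theorem lne_r : l ≠ r := by
  intro h
  have h1 := P.norm
  rw [h, P.φr, P.φr] at h1
  have h0 : r * r ≠ 0 := mul_ne_zero P.r0 P.r0
  have h2 : r * r * r = r * r * 1 := by rw [h1, mul_one]
  exact P.rne1 (mul_left_cancel₀ h0 h2)

theorem llne_r (H : Fr φ q) : l * φ l ≠ r := by
  intro h
  obtain ⟨h1, h2⟩ := P.l_fix H P.φr h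
  exact P.lne_r (mul_left_cancel₀ P.r0 h1)

/-- elements of the torus with exactly one trivial character -/
theorem exists_t (H : Fr φ q) (i : Fin 6) : ∃ t ∈ TT φ q p, ∃ c, Acts φ (t : GL chevD4.Idx K) c ∧ c i = 1 ∧
    ∀ j, j ≠ i → c j ≠ 1 := by
  have hp1 : ∃ j, (1 : K) ^ p ^ j = 1 := ⟨0, one_pow _⟩
  have hr := P.rp 1 one_pos
  have hr0 := P.r0
  have hrp : ∃ j, r ^ p ^ j = 1 := ⟨1, hr⟩
  have hri : ∃ j, r⁻¹ ^ p ^ j = 1 := ⟨1, by rw [inv_pow, hr, inv_one]⟩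
  have hrri : ∃ j, (r * r)⁻¹ ^ p ^ j = 1 := ⟨1, by rw [inv_pow, mul_pow, hr, one_mul, inv_one]⟩
  have h0 : r * r ≠ 0 := mul_ne_zero hr0 hr0
  have n1 := P.rne1
  have n2 := P.rne2
  have n4 := P.rne4
  have hφi : φ r⁻¹ = r⁻¹ := by rw [map_inv₀, P.φr]
  have hφii : φ (r * r)⁻¹ = (r * r)⁻¹ := by rw [map_inv₀, P.fr2]
  have inv_ne : ∀ {x : K}, x ≠ 1 → x⁻¹ ≠ 1 := fun {x} hx h => hx (inv_eq_one.1 h)
  have key : ∀ {x y : K}, x ≠ 0 → y ≠ x → x⁻¹ * y ≠ 1 := fun {x y} hx h h' => h ((inv_mul_eq_one₀ hx).1 h').symm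
  fin_cases i
  · obtain ⟨t, ht, hc⟩ := H.exists_TT P.prime (s := 1) (l := l) (map_one φ) one_ne_zero P.l0 hp1 P.lp
    refine ⟨t, ht, _, hc, rfl, ?_⟩
    intro j hj
    fin_cases j
    · exact absurd rfl hj
    · exact P.lne H
    · show 1 * l ≠ 1
      rw [one_mul]; exact P.lne H
    · show 1 * (l * φ l) ≠ 1
      rw [one_mul]; exact P.llne H
    · show 1 * (l * φ l * φ (φ l)) ≠ 1
      rw [one_mul, P.norm]; exact n2
    · show 1 * 1 * (l * φ l * φ (φ l)) ≠ 1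
      rw [one_mul, one_mul, P.norm]; exact n2
  · obtain ⟨t, ht, hc⟩ := H.exists_TT P.prime (s := r) (l := 1) P.φr P.r0 one_ne_zero hrp hp1
    refine ⟨t, ht, _, hc, rfl, ?_⟩
    intro j hj
    fin_cases j
    · exact n1
    · exact absurd rfl hj
    · show r * 1 ≠ 1
      rw [mul_one]; exact n1
    · show r * (1 * φ 1) ≠ 1
      rw [map_one, mul_one, mul_one]; exact n1
    · show r * (1 * φ 1 * φ (φ 1)) ≠ 1
      rw [map_one, map_one, mul_one, mul_one, mul_one]; exact n1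
    · show r * r * (1 * φ 1 * φ (φ 1)) ≠ 1
      rw [map_one, map_one, mul_one, mul_one, mul_one]; exact n2
  · obtain ⟨t, ht, hc⟩ := H.exists_TT P.prime (s := r) (l := r⁻¹) P.φr P.r0 (inv_ne_zero P.r0) hrp hri
    refine ⟨t, ht, _, hc, ?_, ?_⟩
    · show r * r⁻¹ = 1
      exact mul_inv_cancel₀ hr0
    intro j hj
    fin_cases j
    · exact n1
    · exact inv_ne n1
    · exact absurd rfl hj
    · show r * (r⁻¹ * φ r⁻¹) ≠ 1
      rw [hφi, mul_inv_cancel_left₀ hr0]; exact inv_ne n1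
    · show r * (r⁻¹ * φ r⁻¹ * φ (φ r⁻¹)) ≠ 1
      rw [hφi, hφi]
      have e : r * (r⁻¹ * r⁻¹ * r⁻¹) = (r * r)⁻¹ := by field_simp
      rw [e]; exact inv_ne n2
    · show r * r * (r⁻¹ * φ r⁻¹ * φ (φ r⁻¹)) ≠ 1
      rw [hφi, hφi]
      have e : r * r * (r⁻¹ * r⁻¹ * r⁻¹) = r⁻¹ := by field_simp
      rw [e]; exact inv_ne n1
  · obtain ⟨t, ht, hc⟩ := H.exists_TT P.prime (s := (r * r)⁻¹) (l := r) hφii (inv_ne_zero h0) P.r0 hrri hrp
    refine ⟨t, ht, _, hc, ?_, ?_⟩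
    · show (r * r)⁻¹ * (r * φ r) = 1
      rw [P.φr]; exact inv_mul_cancel₀ h0
    intro j hj
    fin_cases j
    · exact inv_ne n2
    · exact n1
    · show (r * r)⁻¹ * r ≠ 1
      have e : (r * r)⁻¹ * r = r⁻¹ := by field_simp
      rw [e]; exact inv_ne n1
    · exact absurd rfl hj
    · show (r * r)⁻¹ * (r * φ r * φ (φ r)) ≠ 1
      rw [P.φr, P.φr]
      have e : (r * r)⁻¹ * (r * r * r) = r := by field_simp
      rw [e]; exact n1
    · show (r * r)⁻¹ * (r * r)⁻¹ * (r * φ r * φ (φ r)) ≠ 1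
      rw [P.φr, P.φr]
      have e : (r * r)⁻¹ * (r * r)⁻¹ * (r * r * r) = r⁻¹ := by field_simp
      rw [e]; exact inv_ne n1
  · obtain ⟨t, ht, hc⟩ := H.exists_TT P.prime (s := (r * r)⁻¹) (l := l) hφii (inv_ne_zero h0) P.l0 hrri P.lp
    refine ⟨t, ht, _, hc, ?_, ?_⟩
    · show (r * r)⁻¹ * (l * φ l * φ (φ l)) = 1
      rw [P.norm]; exact inv_mul_cancel₀ h0
    intro j hj
    fin_cases j
    · exact inv_ne n2
    · exact P.lne H
    · exact key h0 P.lne_r2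
    · exact key h0 (P.llne_r2 H)
    · exact absurd rfl hj
    · show (r * r)⁻¹ * (r * r)⁻¹ * (l * φ l * φ (φ l)) ≠ 1
      rw [P.norm, mul_assoc, inv_mul_cancel₀ h0, mul_one]; exact inv_ne n2
  · obtain ⟨t, ht, hc⟩ := H.exists_TT P.prime (s := r⁻¹) (l := l) hφi (inv_ne_zero hr0) P.l0 hri P.lp
    refine ⟨t, ht, _, hc, ?_, ?_⟩
    · show r⁻¹ * r⁻¹ * (l * φ l * φ (φ l)) = 1
      rw [P.norm]; field_simp
    intro j hj
    fin_cases j
    · exact inv_ne n1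
    · exact P.lne H
    · exact key hr0 P.lne_r
    · exact key hr0 (P.llne_r H)
    · show r⁻¹ * (l * φ l * φ (φ l)) ≠ 1
      rw [P.norm, inv_mul_cancel_left₀ hr0]; exact n1
    · exact absurd rfl hj

end Par

/-! ### The hypotheses of the weight theorem -/

theorem card_UU {a : ℕ} (ha : 0 < a) (hq : q = 2 ^ a) (hK : Nat.card K = q ^ 3) :
    Nat.card (UU K q) = q ^ 12 := by
  have := Fintype.ofFinite K
  have hK' : Fintype.card K = q ^ 3 := by rw [← Nat.card_eq_fintype_card]; exact hK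
  have hqp : IsPrimePow q := by rw [hq]; exact (Nat.prime_two.isPrimePow).pow ha.ne'
  have h3 : Nat.card ↥(UU K q) = Nat.card ↥(chevD4.posUnipotent K ⊓ twistedD4 K q) := by
    unfold UU
    rw [← Subgroup.inf_subgroupOf_right]
    exact Nat.card_congr (Subgroup.subgroupOfEquivOfLe inf_le_right).toEquiv
  rw [h3, card_U1 hqp hK']

theorem isPGroup_U {a : ℕ} (ha : 0 < a) (hq : q = 2 ^ a) (hK : Nat.card K = q ^ 3) :
    IsPGroup 2 (UU K q) := by
  refine IsPGroup.of_card (n := a * 12) ?_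
  rw [card_UU ha hq hK, hq, ← pow_mul]

theorem odd_index {a : ℕ} (ha : 0 < a) (hq : q = 2 ^ a) (hK : Nat.card K = q ^ 3) :
    ¬ 2 ∣ (UU K q).index := by
  have := Fintype.ofFinite K
  have hK' : Fintype.card K = q ^ 3 := by rw [← Nat.card_eq_fintype_card]; exact hK
  have hqp : IsPrimePow q := by rw [hq]; exact (Nat.prime_two.isPrimePow).pow ha.ne'
  have hfin : Finite ↥(twistedD4 K q) := inferInstance
  have h1 := Cfsg.Agent.S1067.result hqp hK'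
  have h2 := card_UU ha hq hK
  have h3 := (UU K q).card_mul_index
  rw [h1, h2] at h3
  have hq0 : 0 < q := hqp.pos
  have h4 : (UU K q).index = (q ^ 2 - 1) * (q ^ 6 - 1) * (q ^ 8 + q ^ 4 + 1) := by
    have h5 : q ^ 12 * (UU K q).index = q ^ 12 * ((q ^ 2 - 1) * (q ^ 6 - 1) * (q ^ 8 + q ^ 4 + 1)) := by
      rw [h3]; ring
    exact Nat.eq_of_mul_eq_mul_left (by positivity) h5
  rw [h4]
  have hev : Even q := by rw [hq]; exact (even_two).pow_of_ne_zero ha.ne'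
  have o1 : ∀ n, 0 < n → Odd (q ^ n - 1) := by
    intro n hn
    have : Even (q ^ n) := hev.pow_of_ne_zero hn.ne'
    exact Nat.Even.sub_odd (Nat.one_le_pow _ _ hq0) this odd_one
  have o2 : Odd (q ^ 8 + q ^ 4 + 1) :=
    ((hev.pow_of_ne_zero (by norm_num)).add (hev.pow_of_ne_zero (by norm_num))).add_one
  have o3 : Odd ((q ^ 2 - 1) * (q ^ 6 - 1) * (q ^ 8 + q ^ 4 + 1)) :=
    ((o1 2 (by norm_num)).mul (o1 6 (by norm_num))).mul o2
  rw [← even_iff_two_dvd, Nat.not_even_iff_odd]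
  exact o3

theorem whyp (H : Fr φ q) {p : ℕ} {r l : K} (P : Par φ p r l) {a : ℕ} (ha : 0 < a) (hq : q = 2 ^ a)
    (hK : Nat.card K = q ^ 3) : WHyp p (UU K q) (TT φ q p) (VV φ q) where
  pg := isPGroup_U ha hq hK
  idx := odd_index ha hq hK
  tp := by
    rintro ⟨t, ht, hc, k, hk⟩
    exact ⟨k, Subtype.ext hk⟩
  odd := P.odd
  UT := by
    rintro t ⟨-, ⟨c, hc⟩, -⟩ x hx
    obtain ⟨a, ha, h⟩ := H.mem_UU.1 hx
    rw [H.mem_UU]
    refine ⟨c * a, fun i => hc.2.1 i _ (ha i), ?_⟩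
    rw [← hc.conj_E, ← h]
    rfl
  VU := H.VV_le
  VT := by
    rintro i t ⟨-, ⟨c, hc⟩, -⟩ v ⟨a, ha, h⟩
    refine ⟨c i * a, hc.2.1 i _ ha, ?_⟩
    rw [← hc.2.2, ← h]
    rfl
  gen := H.UU_le
  fix := by
    intro i u hu hfix
    obtain ⟨a, ha, h⟩ := H.mem_UU.1 hu
    obtain ⟨t, ht, c, hc, hci, hcj⟩ := P.exists_t H i
    have h1 := hfix t ht (by
      rintro v ⟨b, hb, hv⟩
      rw [comm_iff hc (a := Pi.single i b) (by rw [E_single, hv])]
      funext j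
      by_cases hj : j = i
      · subst hj; rw [Pi.mul_apply, hci, one_mul]
      · rw [Pi.mul_apply, Pi.single_eq_of_ne hj, mul_zero])
    rw [comm_iff hc h] at h1
    refine ⟨a i, ha i, ?_⟩
    rw [h, ← E_single]
    congr 1
    funext j
    by_cases hj : j = i
    · subst hj; rw [Pi.single_eq_same]
    · rw [Pi.single_eq_of_ne hj]
      have h2 := congrFun h1 j
      rw [Pi.mul_apply] at h2
      by_contra h3
      exact hcj j hj (mul_right_cancel₀ h3 (by rw [h2, one_mul]))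
  fixT := by
    intro u hu hfix
    obtain ⟨a, ha, h⟩ := H.mem_UU.1 hu
    have h0 : a = 0 := by
      funext j
      obtain ⟨i, hij⟩ : ∃ i : Fin 6, j ≠ i := (exists_ne j).imp fun _ h => h.symm
      obtain ⟨t, ht, c, hc, hci, hcj⟩ := P.exists_t H i
      have h1 := hfix t ht
      rw [comm_iff hc h] at h1
      have h2 := congrFun h1 j
      rw [Pi.mul_apply] at h2
      by_contra h3
      exact hcj j hij (mul_right_cancel₀ h3 (by rw [h2, one_mul]))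
    apply Subtype.ext
    rw [h, h0]
    unfold E
    simp [xx_zero]

/-! ### Commutative preimages -/

theorem Fr.exists_mul (H : Fr φ q) {s l : K} (hs : φ s = s) (hs0 : s ≠ 0) (hl0 : l ≠ 0) :
    ∃ g : ↥(twistedD4 K q), ∀ i a, (g : GL chevD4.Idx K) * xx φ i a * (g : GL chevD4.Idx K)⁻¹ =
      xx φ i (ch φ s l i * a) := by
  obtain ⟨m, hm⟩ := Num.sq_surjective (K := K) l
  have hm0 : m ≠ 0 := by rintro rfl; exact hl0 (by rw [← hm, mul_zero])
  obtain ⟨h, hG, -, hc⟩ := exists_torus H.three H.pow hs hs0 hm0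
  rw [hm] at hc
  exact ⟨⟨h, hG⟩, hc⟩

theorem Fr.abPre_short (H : Fr φ q) (hK : 4 < Nat.card K) {i : Fin 6} (hi : i = 1 ∨ i = 2 ∨ i = 3) :
    AbPre (VV φ q i) := by
  have hd : ∀ a, dm φ i a := by
    intro a h
    rcases hi with rfl | rfl | rfl <;> rcases h with h | h | h <;> exact absurd h (by decide)
  refine FieldAlt.AbPre.of_field (F := K) hK (fun a => (⟨xx φ i a, H.xx_mem' (hd a)⟩ : ↥(twistedD4 K q))) ?_ ?_ ?_
  · intro a b
    exact Subtype.ext (xx_add φ i a b)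
  · intro c hc0
    have h1 : φ c ≠ 0 := (map_ne_zero φ).2 hc0
    have h2 : φ (φ c) ≠ 0 := (map_ne_zero φ).2 h1
    obtain ⟨s, l, hs, hs0, hl0, hch⟩ : ∃ s l : K, φ s = s ∧ s ≠ 0 ∧ l ≠ 0 ∧ ch φ s l i = c := by
      rcases hi with rfl | rfl | rfl
      · exact ⟨1, c, map_one φ, one_ne_zero, hc0, rfl⟩
      · refine ⟨1, c, map_one φ, one_ne_zero, hc0, ?_⟩
        show 1 * c = c
        rw [one_mul]
      · refine ⟨c * φ c * φ (φ c), (φ c)⁻¹, ?_, mul_ne_zero (mul_ne_zero hc0 h1) h2, inv_ne_zero h1, ?_⟩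
        · rw [map_mul, map_mul, H.three]; ring
        · show c * φ c * φ (φ c) * ((φ c)⁻¹ * φ ((φ c)⁻¹)) = c
          rw [map_inv₀]
          field_simp
    obtain ⟨g, hg⟩ := H.exists_mul hs hs0 hl0
    refine ⟨g, fun a => Subtype.ext ?_⟩
    have := hg i a
    rw [hch] at this
    exact this
  · rintro v ⟨a, ha, hv⟩
    exact ⟨a, Subtype.ext hv.symm⟩

theorem Fr.abPre_five (H : Fr φ q) : AbPre (VV φ q 5) := by
  apply AbPre.of_le_commutator
  rintro v ⟨f, hf, hv⟩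
  have hf' : φ f = f := hf (Or.inr (Or.inr rfl))
  have hx : (⟨xx φ 0 f, H.xx_mem' (fun _ => hf')⟩ : ↥(twistedD4 K q)) ∈
      centralizer (VV φ q 5 : Set ↥(twistedD4 K q)) := by
    rw [mem_centralizer_iff]
    rintro w ⟨b, -, hw⟩
    apply Subtype.ext
    show (w : GL chevD4.Idx K) * xG 14 f = xG 14 f * (w : GL chevD4.Idx K)
    rw [hw]
    exact (xG_commute (r := 23) (s := 14) (by decide +kernel) b f).eq
  have hy : (⟨xx φ 4 1, H.xx_mem' (fun _ => map_one φ)⟩ : ↥(twistedD4 K q)) ∈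
      centralizer (VV φ q 5 : Set ↥(twistedD4 K q)) := by
    rw [mem_centralizer_iff]
    rintro w ⟨b, -, hw⟩
    apply Subtype.ext
    show (w : GL chevD4.Idx K) * xG 22 1 = xG 22 1 * (w : GL chevD4.Idx K)
    rw [hw]
    exact (xG_commute (r := 23) (s := 22) (by decide +kernel) b 1).eq
  have e : v = ⁅(⟨xx φ 0 f, H.xx_mem' (fun _ => hf')⟩ : ↥(twistedD4 K q)),
      ⟨xx φ 4 1, H.xx_mem' (fun _ => map_one φ)⟩⁆ := by
    apply Subtype.ext
    show (v : GL chevD4.Idx K) = ⁅(xG 14 f : GL chevD4.Idx K), xG 22 1⁆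
    rw [xcomm (r := 14) (s := 22) (k := 23) (e := 1) (by norm_num) (by norm_num) (by norm_num) (by norm_num)
      (by norm_num) (by decide +kernel) (Or.inl rfl), mul_one, hv]
    rfl
  rw [e]
  exact commutator_mem_commutator hx hy

theorem Fr.abPre_four (H : Fr φ q) : AbPre (VV φ q 4) := by
  refine H.abPre_five.conj (⟨na K, na_mem H.pow⟩ : ↥(twistedD4 K q)) ?_
  rintro v ⟨e, he, hv⟩
  refine ⟨e, fun _ => he (Or.inr (Or.inl rfl)), ?_⟩
  show (na K)⁻¹ * (v : GL chevD4.Idx K) * na K = xG 23 e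
  rw [hv]
  exact n_inv_conj (s := 23) (by norm_num) e

theorem Fr.abPre_zero (H : Fr φ q) : AbPre (VV φ q 0) := by
  refine H.abPre_four.conj (⟨nb K, nb_mem H.pow⟩ : ↥(twistedD4 K q)) ?_
  rintro v ⟨a, ha, hv⟩
  obtain ⟨u, hu⟩ := nb_inv_conj (K := K) (s := 14) (by norm_num) a
  have hr : rb' 14 = 22 := by decide +kernel
  rw [hr, inv_inv] at hu
  have hG : (nb K)⁻¹ * xG 14 a * nb K ∈ twistedD4 K q := by
    have h1 : (xG 14 a : GL chevD4.Idx K) ∈ twistedD4 K q := H.xx_mem' (i := 0) ha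
    exact mul_mem (mul_mem (inv_mem (nb_mem H.pow)) h1) (nb_mem H.pow)
  refine ⟨u, fun _ => ?_, ?_⟩
  · rw [hu] at hG
    have hf := H.le hG
    rw [mem_fix, sig_22] at hf
    have h2 : E φ (Pi.single 4 (φ u)) = E φ (Pi.single 4 u) := by rw [E_single, E_single]; exact hf
    have h3 := congrFun (E_inj h2) 4
    rwa [Pi.single_eq_same, Pi.single_eq_same] at h3
  · show (nb K)⁻¹ * (v : GL chevD4.Idx K) * nb K = xG 22 u
    rw [hv]
    exact hu

theorem Fr.abPre (H : Fr φ q) (hK : 4 < Nat.card K) (i : Fin 6) : AbPre (VV φ q i) := by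
  fin_cases i
  · exact H.abPre_zero
  · exact H.abPre_short hK (Or.inl rfl)
  · exact H.abPre_short hK (Or.inr (Or.inl rfl))
  · exact H.abPre_short hK (Or.inr (Or.inr rfl))
  · exact H.abPre_four
  · exact H.abPre_five

theorem Fr.noDouble (H : Fr φ q) {p : ℕ} {r l : K} (P : Par φ p r l) {a : ℕ} (ha : 0 < a) (hq : q = 2 ^ a)
    (hK : Nat.card K = q ^ 3) (h4 : 4 < Nat.card K) : NoDouble ↥(twistedD4 K q) := by
  have := Fact.mk P.prime
  have W := whyp H P ha hq hK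
  refine W.noDouble fun i => ?_
  refine Spl.of_comm P.odd W.tp (W.pg.to_le (W.VU i)) (W.VT i) ?_ (H.abPre h4 i)
  intro v hv hc
  exact W.fixT v (W.VU i hv) hc

end Main

/-- **³D₄(q) has no perfect double cover**, `q = 2^a ≥ 4`. -/
theorem noDouble {K : Type*} [Field K] [Fintype K] {a : ℕ} (ha : 2 ≤ a) (hK : Fintype.card K = (2 ^ a) ^ 3) :
    NoDouble ↥(twistedD4 K (2 ^ a)) := by
  have hK' : Fintype.card K = 2 ^ (a * 3) := by rw [hK, ← pow_mul]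
  have := Fact.mk Nat.prime_two
  have hc : CharP K 2 := charP_of_card_eq_prime_pow hK'
  have hqp : IsPrimePow (2 ^ a) := Nat.prime_two.isPrimePow.pow (by omega)
  obtain ⟨φ, hφ⟩ := D4Fixed.exists_frob hqp hK
  have hK3 := phi3 hK hφ
  have H : Fr φ (2 ^ a) := ⟨hK3, hφ, twisted_le_fix hK hφ⟩
  have hcK : Nat.card K = (2 ^ a) ^ 3 := by rw [Nat.card_eq_fintype_card, hK]
  have h4 : 2 ^ 2 ≤ 2 ^ a := Nat.pow_le_pow_right (by norm_num) ha
  have hodd : Odd (2 ^ a - 1) :=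
    Nat.Even.sub_odd (by omega) (even_two.pow_of_ne_zero (by omega)) odd_one
  obtain ⟨p, hp, hpo, r, l, hr0, hl0, hφr, hr, hlp, hn⟩ := exists_params (K := K) (φ := φ) (by omega) hodd hcK hφ
    (by omega)
  refine H.noDouble (⟨hp, hpo, hr0, hl0, hφr, hr, hlp, hn⟩ : Par φ p r l) (by omega : 0 < a) rfl hcK ?_
  rw [hcK]
  have h5 : 4 ^ 3 ≤ (2 ^ a) ^ 3 := Nat.pow_le_pow_left (by omega) 3
  omega

/-- **The row `d43`.** -/
theorem d43 : ∀ (F : Type) [Field F] [Fintype F] (a : ℕ), 1 ≤ a → Fintype.card F = 8 ^ a →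
    NoDouble ↥(twistedD4 F (2 ^ a)) := by
  intro F _ _ a ha hF
  have hF' : Fintype.card F = (2 ^ a) ^ 3 := by
    rw [hF, ← pow_mul, mul_comm, pow_mul]; norm_num
  rcases Nat.lt_or_ge a 2 with h | h
  · obtain rfl : a = 1 := by omega
    rw [pow_one] at hF' ⊢
    exact ThreeD4Two.noDouble hF'
  · exact noDouble h hF'

end Cfsg.Agent.KFacts.Mult.ThreeD4Big
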