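import Cfsg.Agent.KFacts.Mult.D4Base
import Mathlib.GroupTheory.Commutator.Basic

/-!
# ³D₄(2) has no perfect double cover
-/

set_option autoImplicit false

namespace Cfsg.Agent.KFacts.Mult.ThreeD4Two

open Cfsg.Lie
open Cfsg.Agent.Schreier.ThreeD4
open Cfsg.Agent.ChevalleyStructure.D4Fixed (sig coe_sig fix mem_fix twisted_le_fix twisted_induction)
open Cfsg.Agent.ChevalleyStructure.D4Cols (xU coe_xU wU)
open Cfsg.Agent.ChevalleyStructure
open Cfsg.Agent.ChevalleyStructure.D4Comm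
open Cfsg.Agent.ChevalleyStructure.D4CommTab
open Cfsg.Agent.ChevalleyStructure.D4Pos
open Cfsg.Agent.ChevalleyStructure.D4NCheck
open Cfsg.Agent.ChevalleyStructure.D4NConj (nR nR_def nG nG_conj nG_def hR hR_def nR_eq nR_inv xG_inv torG torG_conj
  torG_mul torG_one chi chi_def chi_ne_zero dv_def hR_eq_torG)
open Cfsg.Agent.ChevalleyStructure.SparseHDiag (cartanRS)
open Cfsg.Agent.ChevalleyStructure.TwistedU
open Cfsg.Agent.ChevalleyStructure.D4U
open Cfsg.Agent.ChevalleyStructure.D4RGD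
open Cfsg.Agent.ChevalleyStructure.D4Twisted
open Cfsg.Agent.KFacts.Mult.D4Base Cfsg.Agent.KFacts.Mult.Chain
open Cfsg.Agent.KFacts.MulDef Cfsg.Agent.KFacts.MulTwo
open scoped commutatorElement

/-! ### commutators -/

theorem c_left {G : Type*} [Group G] {a b c : G} (h : Commute a ⁅b, c⁆) : ⁅a * b, c⁆ = ⁅b, c⁆ * ⁅a, c⁆ := by
  have e : ⁅a * b, c⁆ = a * ⁅b, c⁆ * a⁻¹ * ⁅a, c⁆ := by simp only [commutatorElement_def]; group
  rw [e, h.eq, mul_inv_cancel_right]

theorem c_right {G : Type*} [Group G] {a b c : G} (h : Commute b ⁅a, c⁆) : ⁅a, b * c⁆ = ⁅a, b⁆ * ⁅a, c⁆ := by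
  have e : ⁅a, b * c⁆ = ⁅a, b⁆ * (b * ⁅a, c⁆ * b⁻¹) := by simp only [commutatorElement_def]; group
  rw [e, h.eq, mul_inv_cancel_right]

section Char2

variable {K : Type*} [Field K] [CharP K 2]

theorem two_eq : (2 : K) = 0 := CharTwo.two_eq_zero

theorem neg_eq' (a : K) : -a = a := CharTwo.neg_eq a

/-- commutators of root elements in characteristic 2 -/
theorem xcomm {r s k : ℕ} {e : ℤ} (hr : 12 ≤ r) (hr' : r < 24) (hs : 12 ≤ s) (hs' : s < 24) (hne : s ≠ r)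
    (hc : cm r s = some (k, e)) (he : e = 1 ∨ e = -1) (t u : K) :
    ⁅(xG r t : GL chevD4.Idx K), xG s u⁆ = xG k (t * u) := by
  rw [xG_comm hr hr' hs hs' hne]
  unfold cval
  rw [hc]
  show xG k ((e : K) * (t * u)) = _
  rcases he with rfl | rfl
  · rw [Int.cast_one, one_mul]
  · rw [Int.cast_neg, Int.cast_one, neg_mul, one_mul, neg_eq']

theorem xcomm_one {r s : ℕ} (hr : 12 ≤ r) (hr' : r < 24) (hs : 12 ≤ s) (hs' : s < 24) (hne : s ≠ r)
    (hc : cm r s = none) (t u : K) : ⁅(xG r t : GL chevD4.Idx K), xG s u⁆ = 1 := by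
  rw [xG_comm hr hr' hs hs' hne]
  unfold cval
  rw [hc]

/-- `n` in characteristic 2 -/
theorem n_conj {s : ℕ} (hs : s < 24) (t : K) : na K * xG s t * (na K)⁻¹ = xG (rfl' 1 s) t := by
  have h := nG_conj (F := K) (i := 1) (by norm_num) hs t
  rcases D4NConj.eta_cases (i := 1) (by norm_num) hs with h1 | h1
  · rw [h1, Int.cast_one, one_mul] at h; exact h
  · rw [h1, Int.cast_neg, Int.cast_one, neg_mul, one_mul, neg_eq'] at h; exact h

theorem n_inv_conj {s : ℕ} (hs : s < 24) (t : K) : (na K)⁻¹ * xG (rfl' 1 s) t * na K = xG s t := by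
  rw [← n_conj hs t]; group

theorem na_eq : na K = xG 14 1 * (xG 9 1 * xG 14 1) := by
  show nR (sp 1) (1 : K) = _
  have : sp 1 = 14 := by decide
  rw [this, nR_def, inv_one, neg_eq']

theorem n_x : na K * xG 14 1 * (na K)⁻¹ = xG 9 1 := n_conj (s := 14) (by norm_num) 1
theorem n_y : na K * xG 9 1 * (na K)⁻¹ = xG 14 1 := n_conj (s := 9) (by norm_num) 1

theorem xG_sq (r : ℕ) (t : K) : (xG r t : GL chevD4.Idx K) * xG r t = 1 := by
  rw [← xG_add, ← two_mul, two_eq, zero_mul, xG_zero]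

theorem xG_inv' (r : ℕ) (t : K) : (xG r t : GL chevD4.Idx K)⁻¹ = xG r t := inv_eq_of_mul_eq_one_left (xG_sq r t)

/-- the element of order 3 -/
def dd (K : Type*) [Field K] : GL chevD4.Idx K := xG 14 1 * xG 9 1

theorem dd_cube : dd K * dd K * dd K = 1 := by
  have h1 : na K = xG 9 1 * (xG 14 1 * xG 9 1) := by
    have e : na K = na K * na K * (na K)⁻¹ := by group
    have e2 : na K * (xG 14 1 * (xG 9 1 * xG 14 1)) * (na K)⁻¹ =
        (na K * xG 14 1 * (na K)⁻¹) * ((na K * xG 9 1 * (na K)⁻¹) * (na K * xG 14 1 * (na K)⁻¹)) := by group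
    rw [e]
    nth_rw 2 [na_eq]
    rw [e2, n_x, n_y]
  have h2 : (xG 9 1 : GL chevD4.Idx K) * (xG 14 1 * xG 9 1) = xG 14 1 * (xG 9 1 * xG 14 1) := by
    rw [← h1, na_eq]
  unfold dd
  calc (xG 14 1 : GL chevD4.Idx K) * xG 9 1 * (xG 14 1 * xG 9 1) * (xG 14 1 * xG 9 1)
      = xG 14 1 * (xG 9 1 * (xG 14 1 * xG 9 1)) * xG 14 1 * xG 9 1 := by simp only [mul_assoc]
    _ = (xG 14 1 * xG 14 1) * xG 9 1 * (xG 14 1 * xG 14 1) * xG 9 1 := by rw [h2]; simp only [mul_assoc]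
    _ = 1 := by rw [xG_sq, one_mul, mul_one, xG_sq]

theorem x_conj_22 : (xG 14 1 : GL chevD4.Idx K) * xG 22 1 * (xG 14 1)⁻¹ = xG 23 1 * xG 22 1 := by
  have h := xcomm (K := K) (r := 14) (s := 22) (k := 23) (e := 1) (by norm_num) (by norm_num) (by norm_num) (by norm_num)
    (by norm_num) (by decide +kernel) (Or.inl rfl) 1 1
  rw [one_mul, commutatorElement_def, mul_inv_eq_iff_eq_mul] at h
  exact h

theorem x_conj_23 : (xG 14 1 : GL chevD4.Idx K) * xG 23 1 * (xG 14 1)⁻¹ = xG 23 1 := by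
  have h := xcomm_one (K := K) (r := 14) (s := 23) (by norm_num) (by norm_num) (by norm_num) (by norm_num)
    (by norm_num) (by decide +kernel) 1 1
  rw [commutatorElement_def, mul_inv_eq_iff_eq_mul, one_mul] at h
  exact h

theorem y_conj (g : GL chevD4.Idx K) : (xG 9 1 : GL chevD4.Idx K) * g * (xG 9 1)⁻¹ =
    na K * (xG 14 1 * ((na K)⁻¹ * g * na K) * (xG 14 1)⁻¹) * (na K)⁻¹ := by
  rw [← n_x]; group

theorem y_conj_22 : (xG 9 1 : GL chevD4.Idx K) * xG 22 1 * (xG 9 1)⁻¹ = xG 22 1 := by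
  have h1 : (na K)⁻¹ * xG 22 1 * na K = xG 23 1 := n_inv_conj (s := 23) (by norm_num) 1
  rw [y_conj, h1, x_conj_23]
  exact n_conj (s := 23) (by norm_num) 1

theorem y_conj_23 : (xG 9 1 : GL chevD4.Idx K) * xG 23 1 * (xG 9 1)⁻¹ = xG 22 1 * xG 23 1 := by
  have h1 : (na K)⁻¹ * xG 23 1 * na K = xG 22 1 := n_inv_conj (s := 22) (by norm_num) 1
  have e : na K * (xG 23 1 * xG 22 1) * (na K)⁻¹ = (na K * xG 23 1 * (na K)⁻¹) * (na K * xG 22 1 * (na K)⁻¹) := by group
  rw [y_conj, h1, x_conj_22, e]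
  have h2 : na K * xG 23 1 * (na K)⁻¹ = xG 22 1 := n_conj (s := 23) (by norm_num) 1
  have h3 : na K * xG 22 1 * (na K)⁻¹ = xG 23 1 := n_conj (s := 22) (by norm_num) 1
  rw [h2, h3]

theorem dd_conj (g : GL chevD4.Idx K) : dd K * g * (dd K)⁻¹ = xG 14 1 * (xG 9 1 * g * (xG 9 1)⁻¹) * (xG 14 1)⁻¹ := by
  unfold dd; group

theorem dd_22 : dd K * xG 22 1 * (dd K)⁻¹ * (xG 22 1)⁻¹ = xG 23 1 := by
  rw [dd_conj, y_conj_22, x_conj_22, mul_inv_cancel_right]

theorem dd_23 : dd K * xG 23 1 * (dd K)⁻¹ * (xG 23 1)⁻¹ = xG 23 1 * xG 22 1 := by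
  have e : (xG 14 1 : GL chevD4.Idx K) * (xG 22 1 * xG 23 1) * (xG 14 1)⁻¹ =
      (xG 14 1 * xG 22 1 * (xG 14 1)⁻¹) * (xG 14 1 * xG 23 1 * (xG 14 1)⁻¹) := by group
  rw [dd_conj, y_conj_23, e, x_conj_22, x_conj_23, mul_inv_cancel_right]

/-- `x` centralises the span of `[21, 17, 20]` and of `[19, 16, 15]`, etc. -/
theorem commute_of_RS {r : ℕ} {l : List ℕ} (h : okc [] r r = true) (h' : (l.all fun s => okc [] r s) = true) (t : K)
    {g : GL chevD4.Idx K} (hg : g ∈ RS K l) : xG r t * g * (xG r t)⁻¹ = g := by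
  have h1 : ⁅(xG r t : GL chevD4.Idx K), g⁆ ∈ RS K [] := by
    refine comm_RS (l := [r]) (m := l) (l' := []) (by simp) (by simp) (by simpa using h') ?_ hg
    exact xG_mem_RS (by simp) t
  have h2 : ⁅(xG r t : GL chevD4.Idx K), g⁆ = 1 := by
    have h3 : RS K ([] : List ℕ) ≤ ⊥ := rspan_le xG (by simp)
    exact Subgroup.mem_bot.1 (h3 h1)
  rwa [commutatorElement_def, mul_inv_eq_one] at h2

end Char2

section Main

variable {K : Type*} [Field K] [Fintype K] [CharP K 2] {φ : K →+* K}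

theorem fixed_cases (hφ : ∀ x, φ x = x ^ 2) {a : K} (h : φ a = a) : a = 0 ∨ a = 1 := by
  rw [hφ] at h
  have : a * (a - 1) = 0 := by
    have : a * (a - 1) = a ^ 2 - a := by ring
    rw [this, h, sub_self]
  rcases mul_eq_zero.1 this with h1 | h1
  · exact Or.inl h1
  · exact Or.inr (sub_eq_zero.1 h1)

/-- normal forms -/
theorem nf (hK3 : ∀ t : K, φ (φ (φ t)) = t) (hφ : ∀ x, φ x = x ^ 2) (hle : twistedD4 K 2 ≤ fix φ)
    {l p : List ℕ} (hl : ordA = p ++ l) {g : GL chevD4.Idx K} (hg : g ∈ twistedD4 K 2) (hgl : g ∈ RS K l) :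
    ∃ a b c d e f : K, φ a = a ∧ φ e = e ∧ φ f = f ∧ g = elt φ a b c d e f ∧ (14 ∈ p → a = 0) ∧ (18 ∈ p → b = 0) ∧
      (19 ∈ p → c = 0) ∧ (21 ∈ p → d = 0) ∧ (22 ∈ p → e = 0) ∧ (23 ∈ p → f = 0) := by
  have hU : g ∈ chevD4.posUnipotent K := by
    rw [posUnipotent_eq_rspan ordA mem_ordA_iff]
    refine rspan_mono xG ?_ hgl
    intro r hr
    show r ∈ ordA
    rw [hl]
    exact List.mem_append_right _ hr
  obtain ⟨a, b, c, d, e, f, ha, he, hf, rfl⟩ := (mem_U_inf_iff hK3 hφ hle g).1 ⟨hU, hg⟩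
  have h := lprod_suffix hl hgl (t := crd φ a b c d e f) rfl
  exact ⟨a, b, c, d, e, f, ha, he, hf, rfl, h 14, h 18, h 19, h 21, h 22, h 23⟩

/-- the lists -/
def LL : ℕ → List ℕ
  | 0 => []
  | 1 => [22, 23]
  | 2 => [21, 17, 20, 22, 23]
  | _ => [18, 13, 12, 19, 16, 15, 21, 17, 20, 22, 23]

variable (K) in
/-- the chain -/
def VV (i : ℕ) : Subgroup ↥(twistedD4 K 2) := (RS K (LL i)).subgroupOf (twistedD4 K 2)

theorem mem_VV {i : ℕ} {g : ↥(twistedD4 K 2)} : g ∈ VV K i ↔ (g : GL chevD4.Idx K) ∈ RS K (LL i) := Iff.rfl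

theorem VV_zero : VV K 0 = ⊥ := by
  rw [Subgroup.eq_bot_iff_forall]
  intro g hg
  have h3 : RS K (LL 0) ≤ ⊥ := rspan_le xG (by simp [LL])
  exact Subtype.ext (Subgroup.mem_bot.1 (h3 hg))

theorem VV_mono (i : ℕ) : VV K i ≤ VV K (i + 1) := by
  intro g hg
  rcases i with _ | _ | _ | i
  · exact RS_mono (l := LL 0) (m := LL 1) (by decide) hg
  · exact RS_mono (l := LL 1) (m := LL 2) (by decide) hg
  · exact RS_mono (l := LL 2) (m := LL 3) (by decide) hg
  · exact hg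

theorem VV_le (i : ℕ) (hi : i ≤ 3) : VV K i ≤ VV K 3 := by
  interval_cases i
  · exact (VV_mono 0).trans ((VV_mono 1).trans (VV_mono 2))
  · exact (VV_mono 1).trans (VV_mono 2)
  · exact VV_mono 2
  · exact le_rfl

theorem VV_comm : ∀ i < 3, ∀ v ∈ VV K (i + 1), ∀ u ∈ VV K 3, ⁅v, u⁆ ∈ VV K i := by
  intro i hi v hv u hu
  rw [mem_VV] at hv hu ⊢
  interval_cases i
  · exact comm_RS (l := LL 1) (m := LL 3) (l' := LL 0) (by decide +kernel) (by decide +kernel) (by decide +kernel) hv hu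
  · exact comm_RS (l := LL 2) (m := LL 3) (l' := LL 1) (by decide +kernel) (by decide +kernel) (by decide +kernel) hv hu
  · exact comm_RS (l := LL 3) (m := LL 3) (l' := LL 2) (by decide +kernel) (by decide +kernel) (by decide +kernel) hv hu

theorem mem_normalizer_of {G : Type*} [Group G] {S : Subgroup G} {g : G} (h : ∀ v ∈ S, g * v * g⁻¹ ∈ S)
    (h' : ∀ v ∈ S, g⁻¹ * v * g ∈ S) : g ∈ Subgroup.normalizer (S : Set G) := by
  rw [Subgroup.mem_normalizer_iff]
  intro v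
  refine ⟨fun hv => h v hv, fun hv => ?_⟩
  have := h' _ hv
  have e : g⁻¹ * (g * v * g⁻¹) * g = v := by group
  rwa [e] at this

theorem x_mem (hφ : ∀ x, φ x = x ^ 2) : xG 14 1 ∈ twistedD4 K 2 := xG14_mem hφ (map_one φ)

theorem y_mem (hφ : ∀ x, φ x = x ^ 2) : xG 9 1 ∈ twistedD4 K 2 := by
  rw [← n_x]
  exact mul_mem (mul_mem (na_mem hφ) (x_mem hφ)) (inv_mem (na_mem hφ))

theorem dd_mem (hφ : ∀ x, φ x = x ^ 2) : dd K ∈ twistedD4 K 2 := mul_mem (x_mem hφ) (y_mem hφ)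

theorem x_norm (i : ℕ) (hi : i ≤ 3) : (xG 14 1 : GL chevD4.Idx K) ∈ Subgroup.normalizer (RS K (LL i) : Set (GL chevD4.Idx K)) := by
  have key : ∀ g ∈ RS K [14], ∀ v ∈ RS K (LL i), g * v * g⁻¹ ∈ RS K (LL i) := by
    intro g hg
    interval_cases i
    · exact conj_mem' (l := LL 0) (m := [14]) (by decide +kernel) hg
    · exact conj_mem' (l := LL 1) (m := [14]) (by decide +kernel) hg
    · exact conj_mem' (l := LL 2) (m := [14]) (by decide +kernel) hg
    · exact conj_mem' (l := LL 3) (m := [14]) (by decide +kernel) hg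
  have hx : (xG 14 1 : GL chevD4.Idx K) ∈ RS K [14] := xG_mem_RS (by simp) 1
  refine mem_normalizer_of (key _ hx) fun v hv => ?_
  have := key _ (inv_mem hx) v hv
  rwa [inv_inv] at this

theorem n_norm (i : ℕ) (hi : i ≤ 3) : na K ∈ Subgroup.normalizer (RS K (LL i) : Set (GL chevD4.Idx K)) := by
  interval_cases i
  · exact mem_normalizer_of (fun v hv => na_RS K (l := LL 0) (l' := LL 0) (by decide +kernel) hv)
      (fun v hv => na_inv_RS K (l := LL 0) (l' := LL 0) (by decide +kernel) hv)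
  · exact mem_normalizer_of (fun v hv => na_RS K (l := LL 1) (l' := LL 1) (by decide +kernel) hv)
      (fun v hv => na_inv_RS K (l := LL 1) (l' := LL 1) (by decide +kernel) hv)
  · exact mem_normalizer_of (fun v hv => na_RS K (l := LL 2) (l' := LL 2) (by decide +kernel) hv)
      (fun v hv => na_inv_RS K (l := LL 2) (l' := LL 2) (by decide +kernel) hv)
  · exact mem_normalizer_of (fun v hv => na_RS K (l := LL 3) (l' := LL 3) (by decide +kernel) hv)
      (fun v hv => na_inv_RS K (l := LL 3) (l' := LL 3) (by decide +kernel) hv)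

theorem dd_norm (i : ℕ) (hi : i ≤ 3) : dd K ∈ Subgroup.normalizer (RS K (LL i) : Set (GL chevD4.Idx K)) := by
  unfold dd
  rw [← n_x]
  exact mul_mem (x_norm i hi) (mul_mem (mul_mem (n_norm i hi) (x_norm i hi)) (inv_mem (n_norm i hi)))

theorem diag_norm (i : ℕ) (hi : i ≤ 3) : chevD4.diagonalSubgroup K ≤ Subgroup.normalizer (RS K (LL i) : Set (GL chevD4.Idx K)) := by
  intro h hh
  have hl : ((LL i).all fun s => decide (s < 24)) = true := by interval_cases i <;> decide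
  refine mem_normalizer_of (fun v hv => diag_conj_RS hl hh hv) fun v hv => ?_
  have := diag_conj_RS hl (inv_mem hh) hv
  rwa [inv_inv] at this

variable (K) in
/-- the torus part -/
def T1 : Subgroup ↥(twistedD4 K 2) := (chevD4.diagonalSubgroup K).subgroupOf (twistedD4 K 2)

/-- the element of order 3 -/
def dG (hφ : ∀ x, φ x = x ^ 2) : ↥(twistedD4 K 2) := ⟨dd K, dd_mem hφ⟩

theorem xG_injective {r : ℕ} (hr : r < 24) {a b : K} (h : (xG r a : GL chevD4.Idx K) = xG r b) : a = b := by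
  have h1 : (xG r (a - b) : GL chevD4.Idx K) = 1 := by
    rw [sub_eq_add_neg, xG_add, xG_neg, h, mul_inv_cancel]
  rw [xG_eq_one_iff hr] at h1
  exact sub_eq_zero.1 h1

theorem T1_comm (hφ : ∀ x, φ x = x ^ 2) (hle : twistedD4 K 2 ≤ fix φ) {t : GL chevD4.Idx K}
    (ht : t ∈ chevD4.diagonalSubgroup K) (htG : t ∈ twistedD4 K 2) : t * dd K * t⁻¹ = dd K := by
  have key : ∀ r < 24, (∀ u : K, sig φ (xG r u) = xG r (φ u)) → (xG r 1 : GL chevD4.Idx K) ∈ twistedD4 K 2 →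
      t * xG r 1 * t⁻¹ = xG r 1 := by
    intro r hr hs hx
    obtain ⟨c, rfl⟩ := diagonal_le_torus K ht
    have h1 : (torG c : GL chevD4.Idx K) * xG r 1 * (torG c)⁻¹ ∈ fix φ :=
      conj_fix (hle htG) (hle hx)
    rw [torG_conj c hr, mul_one, mem_fix, hs] at h1
    have h2 : φ (chi c r) = chi c r := xG_injective hr h1
    have h3 : chi c r = 1 := (fixed_cases hφ h2).resolve_left (chi_ne_zero c r)
    rw [torG_conj c hr, h3, mul_one]
  have h1 := key 14 (by norm_num) (sig_14 φ) (x_mem hφ)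
  have h2 := key 9 (by norm_num) (fun u => sig_9 φ u) (y_mem hφ)
  have e : t * dd K * t⁻¹ = (t * xG 14 1 * t⁻¹) * (t * xG 9 1 * t⁻¹) := by unfold dd; group
  rw [e, h1, h2]
  rfl

theorem odd_T1 (hK : Fintype.card K = 2 ^ 3) : Odd (Nat.card (T1 K)) := by
  rw [← Nat.not_even_iff_odd]
  intro h
  obtain ⟨x, hx⟩ := exists_prime_orderOf_dvd_card' (G := T1 K) 2 h.two_dvd
  have h1 : ((x : ↥(twistedD4 K 2)) : GL chevD4.Idx K) ^ (Nat.card K - 1) = 1 := pow_card_sub_one x.2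
  have h2 : x ^ 7 = 1 := by
    apply Subtype.ext; apply Subtype.ext
    rw [Nat.card_eq_fintype_card, hK] at h1
    exact h1
  have h3 := orderOf_dvd_of_pow_eq_one h2
  rw [hx] at h3
  omega

variable (K) in
/-- The operator group. -/
def TT (hφ : ∀ x, φ x = x ^ 2) : Subgroup ↥(twistedD4 K 2) := T1 K ⊔ Subgroup.zpowers (dG hφ)

theorem odd_TT (hK : Fintype.card K = 2 ^ 3) (hφ : ∀ x, φ x = x ^ 2) (hle : twistedD4 K 2 ≤ fix φ) :
    Odd (Nat.card (TT K hφ)) := by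
  have hfin : Finite ↥(twistedD4 K 2) := inferInstance
  have hcomm : ∀ (m : T1 K) (n : Subgroup.zpowers (dG hφ)), Commute ((T1 K).subtype m)
      ((Subgroup.zpowers (dG hφ)).subtype n) := by
    intro m n
    have h1 : Commute (m : ↥(twistedD4 K 2)) (dG hφ) := by
      have h2 := T1_comm hφ hle m.2 m.1.2
      rw [mul_inv_eq_iff_eq_mul] at h2
      exact Subtype.ext h2
    obtain ⟨k, hk⟩ := Subgroup.mem_zpowers_iff.1 n.2
    show Commute (m : ↥(twistedD4 K 2)) (n : ↥(twistedD4 K 2))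
    rw [← hk]
    exact h1.zpow_right k
  let f := MonoidHom.noncommCoprod (T1 K).subtype (Subgroup.zpowers (dG hφ)).subtype hcomm
  have hf : f.range = TT K hφ := by
    rw [MonoidHom.noncommCoprod_range, Subgroup.range_subtype, Subgroup.range_subtype]
    rfl
  have h1 : Nat.card f.range ∣ Nat.card (T1 K × Subgroup.zpowers (dG hφ)) := Subgroup.card_range_dvd f
  rw [hf, Nat.card_prod] at h1
  have h2 : Odd (Nat.card (Subgroup.zpowers (dG hφ))) := by
    rw [Nat.card_zpowers]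
    have h3 : (dG hφ) ^ 3 = 1 := by
      apply Subtype.ext
      show dd K ^ 3 = 1
      rw [pow_succ, pow_two]
      exact dd_cube
    have h4 := orderOf_dvd_of_pow_eq_one h3
    exact Odd.of_dvd_nat (by decide) h4
  exact Odd.of_dvd_nat ((odd_T1 hK).mul h2) h1

theorem TT_norm (hφ : ∀ x, φ x = x ^ 2) (i : ℕ) (hi : i ≤ 3) :
    TT K hφ ≤ Subgroup.normalizer (VV K i : Set ↥(twistedD4 K 2)) := by
  have key : ∀ g : ↥(twistedD4 K 2), (g : GL chevD4.Idx K) ∈ Subgroup.normalizer (RS K (LL i) : Set (GL chevD4.Idx K)) →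
      g ∈ Subgroup.normalizer (VV K i : Set ↥(twistedD4 K 2)) := by
    intro g hg
    rw [Subgroup.mem_normalizer_iff] at hg ⊢
    intro v
    exact hg v
  refine sup_le ?_ ?_
  · intro t ht
    exact key t (diag_norm i hi ht)
  · rw [Subgroup.zpowers_le]
    exact key _ (dd_norm i hi)

/-! ### root elements in the group -/

variable (hK3 : ∀ t : K, φ (φ (φ t)) = t) (hφ : ∀ x, φ x = x ^ 2) (hle : twistedD4 K 2 ≤ fix φ)

/-- root elements -/
noncomputable def gX (i : Fin 6) (a : K) (h : dm φ i a) : ↥(twistedD4 K 2) := ⟨xx φ i a, xx_mem hK3 hφ hle h⟩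

theorem dm1 (a : K) : dm φ 1 a := by rintro (h | h | h) <;> exact absurd h (by decide)
theorem dm2 (a : K) : dm φ 2 a := by rintro (h | h | h) <;> exact absurd h (by decide)
theorem dm3 (a : K) : dm φ 3 a := by rintro (h | h | h) <;> exact absurd h (by decide)

/-- short root elements -/
noncomputable def gB (b : K) : ↥(twistedD4 K 2) := gX hK3 hφ hle 1 b (dm1 b)
noncomputable def gC (b : K) : ↥(twistedD4 K 2) := gX hK3 hφ hle 2 b (dm2 b)
noncomputable def gD (b : K) : ↥(twistedD4 K 2) := gX hK3 hφ hle 3 b (dm3 b)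
noncomputable def gE : ↥(twistedD4 K 2) := gX hK3 hφ hle 4 1 (fun _ => map_one φ)
noncomputable def gF : ↥(twistedD4 K 2) := gX hK3 hφ hle 5 1 (fun _ => map_one φ)

theorem gB_add (a b : K) : gB hK3 hφ hle (a + b) = gB hK3 hφ hle a * gB hK3 hφ hle b := Subtype.ext (xx_add φ 1 a b)
theorem gC_add (a b : K) : gC hK3 hφ hle (a + b) = gC hK3 hφ hle a * gC hK3 hφ hle b := Subtype.ext (xx_add φ 2 a b)
theorem gD_add (a b : K) : gD hK3 hφ hle (a + b) = gD hK3 hφ hle a * gD hK3 hφ hle b := Subtype.ext (xx_add φ 3 a b)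

theorem gB_mem (b : K) : gB hK3 hφ hle b ∈ VV K 3 := by
  show D4Fixed.X φ b ∈ RS K _
  unfold D4Fixed.X
  rw [xU_eq, xU_eq, xU_eq]
  exact mul_mem (mul_mem (xG_mem_RS (by decide) _) (xG_mem_RS (by decide) _)) (xG_mem_RS (by decide) _)

theorem gC_mem (b : K) : gC hK3 hφ hle b ∈ VV K 3 :=
  mul_mem (mul_mem (xG_mem_RS (by decide) _) (xG_mem_RS (by decide) _)) (xG_mem_RS (by decide) _)

theorem gD_mem (b : K) : gD hK3 hφ hle b ∈ VV K 2 :=
  mul_mem (mul_mem (xG_mem_RS (by decide) _) (xG_mem_RS (by decide) _)) (xG_mem_RS (by decide) _)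

theorem gE_mem : gE hK3 hφ hle ∈ VV K 1 := xG_mem_RS (l := [22, 23]) (by decide) _
theorem gF_mem : gF hK3 hφ hle ∈ VV K 1 := xG_mem_RS (l := [22, 23]) (by decide) _

/-- elements of level 1 -/
theorem lev1 {v : ↥(twistedD4 K 2)} (hv : v ∈ VV K 1) : v = 1 ∨ v = gE hK3 hφ hle ∨ v = gF hK3 hφ hle ∨
    v = gE hK3 hφ hle * gF hK3 hφ hle := by
  obtain ⟨a, b, c, d, e, f, ha, he, hf, hg, h1, h2, h3, h4, -, -⟩ :=
    nf hK3 hφ hle (l := [22, 23]) (p := [14, 18, 13, 12, 19, 16, 15, 21, 17, 20]) rfl v.2 hv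
  obtain rfl := h1 (by decide)
  obtain rfl := h2 (by decide)
  obtain rfl := h3 (by decide)
  obtain rfl := h4 (by decide)
  rw [elt_eq_xx] at hg
  simp only [xx_zero, one_mul] at hg
  rcases fixed_cases hφ he with rfl | rfl <;> rcases fixed_cases hφ hf with rfl | rfl
  · left; apply Subtype.ext; rw [hg, xx_zero, xx_zero, one_mul]; rfl
  · right; right; left; apply Subtype.ext; rw [hg, xx_zero, one_mul]; rfl
  · right; left; apply Subtype.ext; rw [hg, xx_zero, mul_one]; rfl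
  · right; right; right; apply Subtype.ext; rw [hg]; rfl

theorem lev2 {v : ↥(twistedD4 K 2)} (hv : v ∈ VV K 2) : ∃ d, ∃ w ∈ VV K 1, v = gD hK3 hφ hle d * w := by
  obtain ⟨a, b, c, d, e, f, ha, he, hf, hg, h1, h2, h3, -, -, -⟩ :=
    nf hK3 hφ hle (l := [21, 17, 20, 22, 23]) (p := [14, 18, 13, 12, 19, 16, 15]) rfl v.2 hv
  obtain rfl := h1 (by decide)
  obtain rfl := h2 (by decide)
  obtain rfl := h3 (by decide)
  rw [elt_eq_xx] at hg
  simp only [xx_zero, one_mul] at hg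
  refine ⟨d, gX hK3 hφ hle 4 e (fun _ => he) * gX hK3 hφ hle 5 f (fun _ => hf), ?_, ?_⟩
  · exact mul_mem (xG_mem_RS (l := [22, 23]) (by decide) _) (xG_mem_RS (l := [22, 23]) (by decide) _)
  · apply Subtype.ext
    rw [hg, mul_assoc]
    rfl

theorem lev3' {v : ↥(twistedD4 K 2)} (hv : (v : GL chevD4.Idx K) ∈ RS K [19, 16, 15, 21, 17, 20, 22, 23]) :
    ∃ c, ∃ w ∈ VV K 2, v = gC hK3 hφ hle c * w := by
  obtain ⟨a, b, c, d, e, f, ha, he, hf, hg, h1, h2, -, -, -, -⟩ :=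
    nf hK3 hφ hle (l := [19, 16, 15, 21, 17, 20, 22, 23]) (p := [14, 18, 13, 12]) rfl v.2 hv
  obtain rfl := h1 (by decide)
  obtain rfl := h2 (by decide)
  rw [elt_eq_xx] at hg
  simp only [xx_zero, one_mul] at hg
  refine ⟨c, gD hK3 hφ hle d * (gX hK3 hφ hle 4 e (fun _ => he) * gX hK3 hφ hle 5 f (fun _ => hf)), ?_, ?_⟩
  · refine mul_mem (gD_mem hK3 hφ hle d) (VV_mono 1 ?_)
    exact mul_mem (xG_mem_RS (l := [22, 23]) (by decide) _) (xG_mem_RS (l := [22, 23]) (by decide) _)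
  · apply Subtype.ext
    rw [hg]
    show _ = xx φ 2 c * (xx φ 3 d * (xx φ 4 e * xx φ 5 f))
    simp only [mul_assoc]

theorem lev3 {v : ↥(twistedD4 K 2)} (hv : v ∈ VV K 3) :
    ∃ b c, ∃ w ∈ VV K 2, v = gB hK3 hφ hle b * gC hK3 hφ hle c * w := by
  obtain ⟨a, b, c, d, e, f, ha, he, hf, hg, h1, -, -, -, -, -⟩ :=
    nf hK3 hφ hle (l := [18, 13, 12, 19, 16, 15, 21, 17, 20, 22, 23]) (p := [14]) rfl v.2 hv
  obtain rfl := h1 (by decide)
  rw [elt_eq_xx] at hg
  simp only [xx_zero, one_mul] at hg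
  refine ⟨b, c, gD hK3 hφ hle d * (gX hK3 hφ hle 4 e (fun _ => he) * gX hK3 hφ hle 5 f (fun _ => hf)), ?_, ?_⟩
  · refine mul_mem (gD_mem hK3 hφ hle d) (VV_mono 1 ?_)
    exact mul_mem (xG_mem_RS (l := [22, 23]) (by decide) _) (xG_mem_RS (l := [22, 23]) (by decide) _)
  · apply Subtype.ext
    rw [hg]
    show _ = xx φ 1 b * xx φ 2 c * (xx φ 3 d * (xx φ 4 e * xx φ 5 f))
    simp only [mul_assoc]

/-! ### the commutators in level 1 -/

omit [Fintype K] in
theorem c0 {r s : ℕ} (h : (decide (12 ≤ r) && decide (r < 24) && decide (12 ≤ s) && decide (s < 24) &&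
      decide (s ≠ r) && (cm r s).isNone) = true) (t u : K) : ⁅(xG r t : GL chevD4.Idx K), xG s u⁆ = 1 :=
  commutatorElement_eq_one_iff_commute.2 (xG_commute h t u)

omit [Fintype K] in
/-- `[a b c, a' b' c']` where only the pairs `(a, b')`, `(b, c')`, `(c, a')` do not commute, with the same value `z` -/
theorem comm_six {a b c a' b' c' z : GL chevD4.Idx K} (h1 : ⁅a, b'⁆ = z) (h2 : ⁅b, c'⁆ = z) (h3 : ⁅c, a'⁆ = z)
    (k1 : ⁅a, a'⁆ = 1) (k2 : ⁅a, c'⁆ = 1) (k3 : ⁅b, a'⁆ = 1) (k4 : ⁅b, b'⁆ = 1) (k5 : ⁅c, b'⁆ = 1) (k6 : ⁅c, c'⁆ = 1)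
    (l1 : Commute a' z) (l2 : Commute b' z) (l4 : Commute b z) (hz : z * z = 1) :
    ⁅a * (b * c), a' * (b' * c')⁆ = z := by
  have ka : ⁅a, a' * (b' * c')⁆ = z := by
    have a1 : ⁅a, b' * c'⁆ = z := by
      rw [c_right (by rw [k2]; exact Commute.one_right _), h1, k2, mul_one]
    rw [c_right (by rw [a1]; exact l1), a1, k1, one_mul]
  have kb : ⁅b, a' * (b' * c')⁆ = z := by
    have a1 : ⁅b, b' * c'⁆ = z := by
      rw [c_right (by rw [h2]; exact l2), h2, k4, one_mul]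
    rw [c_right (by rw [a1]; exact l1), a1, k3, one_mul]
  have kc : ⁅c, a' * (b' * c')⁆ = z := by
    have a1 : ⁅c, b' * c'⁆ = 1 := by
      rw [c_right (by rw [k6]; exact Commute.one_right _), k5, k6, one_mul]
    rw [c_right (by rw [a1]; exact Commute.one_right _), a1, h3, mul_one]
  have kbc : ⁅b * c, a' * (b' * c')⁆ = 1 := by
    rw [c_left (by rw [kc]; exact l4), kc, kb, hz]
  rw [c_left (by rw [kbc]; exact Commute.one_right _), kbc, ka, one_mul]

omit [Fintype K] in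
theorem comm_BD : ⁅xx φ 1 (1 : K), xx φ 3 1⁆ = xG 22 1 := by
  have e1 : xx φ 1 (1 : K) = xG 18 1 * (xG 13 1 * xG 12 1) := by
    show D4Fixed.X φ 1 = _
    unfold D4Fixed.X
    rw [xU_eq, xU_eq, xU_eq, map_one, map_one, mul_assoc]
  have e3 : xx φ 3 (1 : K) = xG 21 1 * (xG 17 1 * xG 20 1) := by
    show Dd φ 1 = _
    unfold Dd
    rw [map_one, map_one, neg_eq', mul_assoc]
  rw [e1, e3]
  have h1817 := xcomm (K := K) (r := 18) (s := 17) (k := 22) (e := -1) (by norm_num) (by norm_num) (by norm_num)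
    (by norm_num) (by norm_num) (by decide +kernel) (Or.inr rfl) 1 1
  have h1320 := xcomm (K := K) (r := 13) (s := 20) (k := 22) (e := 1) (by norm_num) (by norm_num) (by norm_num)
    (by norm_num) (by norm_num) (by decide +kernel) (Or.inl rfl) 1 1
  have h1221 := xcomm (K := K) (r := 12) (s := 21) (k := 22) (e := 1) (by norm_num) (by norm_num) (by norm_num)
    (by norm_num) (by norm_num) (by decide +kernel) (Or.inl rfl) 1 1
  rw [mul_one] at h1817 h1320 h1221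
  exact comm_six h1817 h1320 h1221 (c0 (by decide +kernel) _ _) (c0 (by decide +kernel) _ _)
    (c0 (by decide +kernel) _ _) (c0 (by decide +kernel) _ _) (c0 (by decide +kernel) _ _) (c0 (by decide +kernel) _ _)
    (xG_commute (by decide +kernel) _ _) (xG_commute (by decide +kernel) _ _) (xG_commute (by decide +kernel) _ _)
    (xG_sq _ _)

omit [Fintype K] in
theorem comm_CD : ⁅xx φ 2 (1 : K), xx φ 3 1⁆ = xG 23 1 := by
  have e1 : xx φ 2 (1 : K) = xG 19 1 * (xG 16 1 * xG 15 1) := by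
    show Cc φ 1 = _
    unfold Cc
    rw [map_one, map_one, neg_eq', mul_assoc]
  have e3 : xx φ 3 (1 : K) = xG 21 1 * (xG 17 1 * xG 20 1) := by
    show Dd φ 1 = _
    unfold Dd
    rw [map_one, map_one, neg_eq', mul_assoc]
  rw [e1, e3]
  have h1917 := xcomm (K := K) (r := 19) (s := 17) (k := 23) (e := -1) (by norm_num) (by norm_num) (by norm_num)
    (by norm_num) (by norm_num) (by decide +kernel) (Or.inr rfl) 1 1
  have h1620 := xcomm (K := K) (r := 16) (s := 20) (k := 23) (e := -1) (by norm_num) (by norm_num) (by norm_num)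
    (by norm_num) (by norm_num) (by decide +kernel) (Or.inr rfl) 1 1
  have h1521 := xcomm (K := K) (r := 15) (s := 21) (k := 23) (e := -1) (by norm_num) (by norm_num) (by norm_num)
    (by norm_num) (by norm_num) (by decide +kernel) (Or.inr rfl) 1 1
  rw [mul_one] at h1917 h1620 h1521
  exact comm_six h1917 h1620 h1521 (c0 (by decide +kernel) _ _) (c0 (by decide +kernel) _ _)
    (c0 (by decide +kernel) _ _) (c0 (by decide +kernel) _ _) (c0 (by decide +kernel) _ _) (c0 (by decide +kernel) _ _)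
    (xG_commute (by decide +kernel) _ _) (xG_commute (by decide +kernel) _ _) (xG_commute (by decide +kernel) _ _)
    (xG_sq _ _)

/-- `[x, B(b)] = C(b)` modulo level 2 -/
theorem comm_xB (b : K) : ∃ w ∈ VV K 2, ⁅(⟨xG 14 1, x_mem hφ⟩ : ↥(twistedD4 K 2)), gB hK3 hφ hle b⁆ =
    gC hK3 hφ hle b * w := by
  have h1 : ⁅(xG 14 1 : GL chevD4.Idx K), xx φ 1 b⁆ ∈ RS K [19, 16, 15, 21, 17, 20, 22, 23] := by
    refine comm_RS (l := [14]) (m := [18, 13, 12]) (l' := [19, 16, 15, 21, 17, 20, 22, 23]) (by decide +kernel)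
      (by decide +kernel) (by decide +kernel) (xG_mem_RS (by simp) _) ?_
    show D4Fixed.X φ b ∈ RS K _
    unfold D4Fixed.X
    rw [xU_eq, xU_eq, xU_eq]
    exact mul_mem (mul_mem (xG_mem_RS (by decide) _) (xG_mem_RS (by decide) _)) (xG_mem_RS (by decide) _)
  obtain ⟨c, w, hw, e⟩ := lev3' hK3 hφ hle (v := ⁅(⟨xG 14 1, x_mem hφ⟩ : ↥(twistedD4 K 2)), gB hK3 hφ hle b⁆) h1
  -- the coordinate
  have e2 : ⁅(xG 14 1 : GL chevD4.Idx K), xx φ 1 b⁆ = Cc φ c * (w : GL chevD4.Idx K) := congrArg Subtype.val e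
  have hl : ∀ g ∈ RS K ordA, ∀ v ∈ RS K [16, 15, 21, 17, 20, 22, 23], g * v * g⁻¹ ∈ RS K [16, 15, 21, 17, 20, 22, 23] :=
    fun g hg => conj_mem' (l := [16, 15, 21, 17, 20, 22, 23]) (m := ordA) (by decide +kernel) hg
  have e3 : ∃ z ∈ RS K [16, 15, 21, 17, 20, 22, 23], ⁅(xG 14 1 : GL chevD4.Idx K), xx φ 1 b⁆ = xG 19 b * z := by
    have e4 : xx φ 1 b = xG 18 b * (xG 13 (φ b) * xG 12 (φ (φ b))) := by
      show D4Fixed.X φ b = _
      unfold D4Fixed.X
      rw [xU_eq, xU_eq, xU_eq, mul_assoc]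
    have e5 : ∀ p q r : GL chevD4.Idx K, ⁅p, q * r⁆ = ⁅p, q⁆ * (q * ⁅p, r⁆ * q⁻¹) := by
      intro p q r; simp only [commutatorElement_def]; group
    refine ⟨xG 18 b * ⁅(xG 14 1 : GL chevD4.Idx K), (xG 13 (φ b) * xG 12 (φ (φ b)) : GL chevD4.Idx K)⁆ * (xG 18 b)⁻¹,
      ?_, ?_⟩
    · refine hl _ (xG_mem_RS (by decide) _) _ ?_
      refine comm_RS (l := [14]) (m := [13, 12]) (l' := [16, 15, 21, 17, 20, 22, 23]) (by decide +kernel)
        (by decide +kernel) (by decide +kernel) (xG_mem_RS (by simp) _) ?_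
      exact mul_mem (xG_mem_RS (by decide) _) (xG_mem_RS (by decide) _)
    · rw [e4, e5, xcomm (K := K) (r := 14) (s := 18) (k := 19) (e := 1) (by norm_num) (by norm_num) (by norm_num)
        (by norm_num) (by norm_num) (by decide +kernel) (Or.inl rfl), one_mul]
  obtain ⟨z, hz, e4⟩ := e3
  have h5 : (xG 19 (c - b) : GL chevD4.Idx K) ∈ RS K [16, 15, 21, 17, 20, 22, 23] := by
    rw [e4] at e2
    have e6 : (xG 19 (c - b) : GL chevD4.Idx K) = (xG 19 b)⁻¹ * xG 19 c := by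
      rw [sub_eq_neg_add, xG_add, xG_neg]
    have e7 : (xG 19 b : GL chevD4.Idx K)⁻¹ * xG 19 c = z * ((w : GL chevD4.Idx K))⁻¹ *
        (xG 16 (-φ c) * xG 15 (-φ (φ c)))⁻¹ := by
      have e8 : (xG 19 b : GL chevD4.Idx K) * z = xG 19 c * (xG 16 (-φ c) * xG 15 (-φ (φ c))) * w := by
        rw [e2]; unfold Cc; simp only [mul_assoc]
      have e9 : z = (xG 19 b : GL chevD4.Idx K)⁻¹ * (xG 19 c * (xG 16 (-φ c) * xG 15 (-φ (φ c))) * w) := by
        rw [← e8, inv_mul_cancel_left]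
      rw [e9]; group
    rw [e6, e7]
    refine mul_mem (mul_mem hz (inv_mem ?_)) (inv_mem (mul_mem (xG_mem_RS (by decide) _) (xG_mem_RS (by decide) _)))
    exact RS_mono (l := LL 2) (m := [16, 15, 21, 17, 20, 22, 23]) (by decide) hw
  have h6 := lprod_suffix (l := [16, 15, 21, 17, 20, 22, 23]) (p := [14, 18, 13, 12, 19]) rfl h5
    (t := fun r => if r = 19 then c - b else 0) (by
      unfold ordA
      simp only [lprod_cons, lprod_nil]
      norm_num [xG_zero]) 19 (by decide)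
  have h7 : c = b := by
    have : c - b = 0 := by simpa using h6
    exact sub_eq_zero.1 this
  rw [h7] at e
  exact ⟨w, hw, e⟩

end Main

end Cfsg.Agent.KFacts.Mult.ThreeD4Two
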