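import Cfsg.Agent.KFacts.Mult.ThreeD4Two
import Cfsg.Agent.FixBN.ThreeD4Split
import Cfsg.Agent.S1067

/-!
# ³D₄(2) has no perfect double cover: the pairings and the end
-/

set_option autoImplicit false

namespace Cfsg.Agent.KFacts.Mult.ThreeD4Two

open Cfsg.Lie
open Cfsg.Agent.Schreier.ThreeD4
open Cfsg.Agent.ChevalleyStructure.D4Fixed (sig coe_sig fix mem_fix twisted_le_fix twisted_induction)
open Cfsg.Agent.ChevalleyStructure.D4Cols (xU coe_xU wU)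
open Cfsg.Agent.ChevalleyStructure
open Cfsg.Agent.ChevalleyStructure.D4Comm
open Cfsg.Agent.ChevalleyStructure.D4CommTab
open Cfsg.Agent.ChevalleyStructure.D4Pos
open Cfsg.Agent.ChevalleyStructure.D4NCheck
open Cfsg.Agent.ChevalleyStructure.D4NConj (nR nR_def nG nG_conj nG_def hR hR_def nR_eq nR_inv xG_inv torG torG_conj
  torG_mul torG_one chi chi_def chi_ne_zero dv_def hR_eq_torG)
open Cfsg.Agent.ChevalleyStructure.SparseHDiag (cartanRS)
open Cfsg.Agent.ChevalleyStructure.TwistedU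
open Cfsg.Agent.ChevalleyStructure.D4U
open Cfsg.Agent.ChevalleyStructure.D4RGD
open Cfsg.Agent.ChevalleyStructure.D4Twisted
open Cfsg.Agent.KFacts.Mult.D4Base Cfsg.Agent.KFacts.Mult.Chain
open Cfsg.Agent.KFacts.MulDef Cfsg.Agent.KFacts.MulTwo
open scoped commutatorElement

section Main

variable {K : Type*} [Field K] [Fintype K] [CharP K 2] {φ : K →+* K}
variable (hK3 : ∀ t : K, φ (φ (φ t)) = t) (hφ : ∀ x, φ x = x ^ 2) (hle : twistedD4 K 2 ≤ fix φ)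

/-! ### conjugation by `d` -/

omit [Fintype K] in
/-- `x` centralises `D(d)` -/
theorem x_conj_D (d : K) : (xG 14 1 : GL chevD4.Idx K) * xx φ 3 d * (xG 14 1)⁻¹ = xx φ 3 d := by
  refine commute_of_RS (r := 14) (l := [21, 17, 20]) (by decide +kernel) (by decide +kernel) 1 ?_
  exact mul_mem (mul_mem (xG_mem_RS (by decide) _) (xG_mem_RS (by decide) _)) (xG_mem_RS (by decide) _)

omit [Fintype K] in
/-- `x` centralises `C(c)` -/
theorem x_conj_C (c : K) : (xG 14 1 : GL chevD4.Idx K) * xx φ 2 c * (xG 14 1)⁻¹ = xx φ 2 c := by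
  refine commute_of_RS (r := 14) (l := [19, 16, 15]) (by decide +kernel) (by decide +kernel) 1 ?_
  exact mul_mem (mul_mem (xG_mem_RS (by decide) _) (xG_mem_RS (by decide) _)) (xG_mem_RS (by decide) _)

omit [Fintype K] in
theorem n_conj_D (d : K) : na K * xx φ 3 d * (na K)⁻¹ = xx φ 3 d := by
  show na K * (xG 21 d * xG 17 (-φ d) * xG 20 (φ (φ d))) * (na K)⁻¹ = xG 21 d * xG 17 (-φ d) * xG 20 (φ (φ d))
  have e : ∀ n a b c : GL chevD4.Idx K, n * (a * b * c) * n⁻¹ = (n * a * n⁻¹) * (n * b * n⁻¹) * (n * c * n⁻¹) := by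
    intro n a b c; group
  have h1 := n_conj (K := K) (s := 21) (by norm_num) d
  have h2 := n_conj (K := K) (s := 17) (by norm_num) (-φ d)
  have h3 := n_conj (K := K) (s := 20) (by norm_num) (φ (φ d))
  rw [show rfl' 1 21 = 21 by decide +kernel] at h1
  rw [show rfl' 1 17 = 17 by decide +kernel] at h2
  rw [show rfl' 1 20 = 20 by decide +kernel] at h3
  rw [e, h1, h2, h3]

omit [Fintype K] in
theorem n_conj_C (c : K) : na K * xx φ 2 c * (na K)⁻¹ = xx φ 1 c := by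
  show na K * (xG 19 c * xG 16 (-φ c) * xG 15 (-φ (φ c))) * (na K)⁻¹ = D4Fixed.X φ c
  unfold D4Fixed.X
  rw [xU_eq, xU_eq, xU_eq]
  have e : ∀ n a b c : GL chevD4.Idx K, n * (a * b * c) * n⁻¹ = (n * a * n⁻¹) * (n * b * n⁻¹) * (n * c * n⁻¹) := by
    intro n a b c; group
  have h1 := n_conj (K := K) (s := 19) (by norm_num) c
  have h2 := n_conj (K := K) (s := 16) (by norm_num) (-φ c)
  have h3 := n_conj (K := K) (s := 15) (by norm_num) (-φ (φ c))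
  rw [show rfl' 1 19 = 18 by decide +kernel] at h1
  rw [show rfl' 1 16 = 13 by decide +kernel] at h2
  rw [show rfl' 1 15 = 12 by decide +kernel] at h3
  rw [e, h1, h2, h3, neg_eq', neg_eq']

omit [Fintype K] in
theorem n_conj_B (c : K) : na K * xx φ 1 c * (na K)⁻¹ = xx φ 2 c := by
  show na K * (D4Fixed.X φ c) * (na K)⁻¹ = xG 19 c * xG 16 (-φ c) * xG 15 (-φ (φ c))
  unfold D4Fixed.X
  rw [xU_eq, xU_eq, xU_eq]
  have e : ∀ n a b c : GL chevD4.Idx K, n * (a * b * c) * n⁻¹ = (n * a * n⁻¹) * (n * b * n⁻¹) * (n * c * n⁻¹) := by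
    intro n a b c; group
  have h1 := n_conj (K := K) (s := 18) (by norm_num) c
  have h2 := n_conj (K := K) (s := 13) (by norm_num) (φ c)
  have h3 := n_conj (K := K) (s := 12) (by norm_num) (φ (φ c))
  rw [show rfl' 1 18 = 19 by decide +kernel] at h1
  rw [show rfl' 1 13 = 16 by decide +kernel] at h2
  rw [show rfl' 1 12 = 15 by decide +kernel] at h3
  rw [e, h1, h2, h3, neg_eq', neg_eq']

omit [Fintype K] in
theorem ninv_conj_D (d : K) : (na K)⁻¹ * xx φ 3 d * na K = xx φ 3 d := by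
  nth_rw 1 [← n_conj_D (φ := φ) d]; group

omit [Fintype K] in
theorem ninv_conj_B (c : K) : (na K)⁻¹ * xx φ 1 c * na K = xx φ 2 c := by
  rw [← n_conj_C (φ := φ) c]; group

omit [Fintype K] in
theorem ninv_conj_C (c : K) : (na K)⁻¹ * xx φ 2 c * na K = xx φ 1 c := by
  rw [← n_conj_B (φ := φ) c]; group

omit [Fintype K] in
/-- `d` centralises `D(d)` -/
theorem dd_conj_D (d : K) : dd K * xx φ 3 d * (dd K)⁻¹ = xx φ 3 d := by
  rw [dd_conj, y_conj, ninv_conj_D, x_conj_D, n_conj_D, x_conj_D]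

omit [Fintype K] in
/-- `y` centralises `B(b)` -/
theorem y_conj_B (b : K) : (xG 9 1 : GL chevD4.Idx K) * xx φ 1 b * (xG 9 1)⁻¹ = xx φ 1 b := by
  rw [y_conj, ninv_conj_B, x_conj_C, n_conj_C]

omit [Fintype K] in
/-- `B(b)^d = B(b)^x` -/
theorem dd_conj_B (b : K) : dd K * xx φ 1 b * (dd K)⁻¹ = xG 14 1 * xx φ 1 b * (xG 14 1)⁻¹ := by
  rw [dd_conj, y_conj_B]

omit [Fintype K] in
theorem dd_conj_C (c : K) : dd K * xx φ 2 c * (dd K)⁻¹ =
    xG 14 1 * (na K * (xG 14 1 * xx φ 1 c * (xG 14 1)⁻¹) * (na K)⁻¹) * (xG 14 1)⁻¹ := by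
  rw [dd_conj, y_conj, ninv_conj_C]

/-- the elements `x`, `n` -/
def gx : ↥(twistedD4 K 2) := ⟨xG 14 1, x_mem hφ⟩

/-- `n` -/
def gn : ↥(twistedD4 K 2) := ⟨na K, na_mem hφ⟩

theorem d_conj_D (d : K) : dG hφ * gD hK3 hφ hle d * (dG hφ)⁻¹ = gD hK3 hφ hle d := Subtype.ext (dd_conj_D d)

theorem d_conj_B (b : K) : dG hφ * gB hK3 hφ hle b * (dG hφ)⁻¹ = gx hφ * gB hK3 hφ hle b * (gx hφ)⁻¹ :=
  Subtype.ext (dd_conj_B b)

theorem d_conj_C (b : K) : dG hφ * gC hK3 hφ hle b * (dG hφ)⁻¹ =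
    gx hφ * (gn hφ * (gx hφ * gB hK3 hφ hle b * (gx hφ)⁻¹) * (gn hφ)⁻¹) * (gx hφ)⁻¹ :=
  Subtype.ext (dd_conj_C b)

theorem x_conj_B' (b : K) : ∃ w ∈ VV K 2, gx hφ * gB hK3 hφ hle b * (gx hφ)⁻¹ =
    gC hK3 hφ hle b * w * gB hK3 hφ hle b := by
  obtain ⟨w, hw, e⟩ := comm_xB hK3 hφ hle b
  refine ⟨w, hw, ?_⟩
  have e' : ⁅gx hφ, gB hK3 hφ hle b⁆ = gC hK3 hφ hle b * w := e
  rw [← e', commutatorElement_def]
  group

theorem x_VV (i : ℕ) (hi : i ≤ 3) {v : ↥(twistedD4 K 2)} (hv : v ∈ VV K i) : gx hφ * v * (gx hφ)⁻¹ ∈ VV K i := by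
  have h := x_norm (K := K) i hi
  rw [Subgroup.mem_normalizer_iff] at h
  exact (h v).1 hv

theorem n_VV (i : ℕ) (hi : i ≤ 3) {v : ↥(twistedD4 K 2)} (hv : v ∈ VV K i) : gn hφ * v * (gn hφ)⁻¹ ∈ VV K i := by
  have h := n_norm (K := K) i hi
  rw [Subgroup.mem_normalizer_iff] at h
  exact (h v).1 hv

theorem d_conj_C' (b : K) : ∃ w ∈ VV K 2, ∃ w' ∈ VV K 2, dG hφ * gC hK3 hφ hle b * (dG hφ)⁻¹ =
    gC hK3 hφ hle b * w * gB hK3 hφ hle b * w' * gC hK3 hφ hle b := by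
  obtain ⟨w, hw, e⟩ := x_conj_B' hK3 hφ hle b
  refine ⟨w, hw, gx hφ * (gn hφ * w * (gn hφ)⁻¹) * (gx hφ)⁻¹, x_VV hφ 2 (by norm_num) (n_VV hφ 2 (by norm_num) hw), ?_⟩
  have h1 : gn hφ * gC hK3 hφ hle b * (gn hφ)⁻¹ = gB hK3 hφ hle b := Subtype.ext (n_conj_C b)
  have h2 : gn hφ * gB hK3 hφ hle b * (gn hφ)⁻¹ = gC hK3 hφ hle b := Subtype.ext (n_conj_B b)
  have h3 : gx hφ * gC hK3 hφ hle b * (gx hφ)⁻¹ = gC hK3 hφ hle b := Subtype.ext (x_conj_C b)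
  rw [d_conj_C, e]
  have e1 : ∀ x n c w b : ↥(twistedD4 K 2), x * (n * (c * w * b) * n⁻¹) * x⁻¹ =
      (x * (n * c * n⁻¹) * x⁻¹) * (x * (n * w * n⁻¹) * x⁻¹) * (x * (n * b * n⁻¹) * x⁻¹) := by
    intro x n c w b; group
  rw [e1, h1, h2, h3, e]

/-! ### the torus element -/

theorem exists_t0 (hK : Fintype.card K = 2 ^ 3) : ∃ (l : K) (t : ↥(twistedD4 K 2)), l ≠ 0 ∧ l ≠ 1 ∧ l ^ 7 = 1 ∧
    t ∈ T1 K ∧ (∀ b, t * gB hK3 hφ hle b * t⁻¹ = gB hK3 hφ hle (l * b)) ∧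
    (∀ b, t * gC hK3 hφ hle b * t⁻¹ = gC hK3 hφ hle (l * b)) ∧
    (∀ b, t * gD hK3 hφ hle b * t⁻¹ = gD hK3 hφ hle (l ^ 3 * b)) ∧
    t * gE hK3 hφ hle * t⁻¹ = gE hK3 hφ hle ∧ t * gF hK3 hφ hle * t⁻¹ = gF hK3 hφ hle := by
  classical
  obtain ⟨m, hm0, hm1⟩ : ∃ m : K, m ≠ 0 ∧ m ≠ 1 := by
    by_contra hcon
    push Not at hcon
    have h1 : (Finset.univ : Finset K) ⊆ {0, 1} := by
      intro x _
      rw [Finset.mem_insert, Finset.mem_singleton]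
      by_cases hx : x = 0
      · exact Or.inl hx
      · exact Or.inr (hcon x hx)
    have h2 := Finset.card_le_card h1
    rw [Finset.card_univ, hK] at h2
    have h3 := Finset.card_le_two (a := (0 : K)) (b := 1)
    omega
  have h7 : ∀ x : K, x ≠ 0 → x ^ 7 = 1 := by
    intro x hx
    have := FiniteField.pow_card_sub_one_eq_one x hx
    rwa [hK] at this
  obtain ⟨t, ht, htd, hc⟩ := exists_torus (K := K) hK3 hφ (s := 1) (m := m) (map_one φ) one_ne_zero hm0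
  have hl0 : m * m ≠ 0 := mul_ne_zero hm0 hm0
  have hl1 : m * m ≠ 1 := by
    intro h
    apply hm1
    have h2 : (m - 1) * (m - 1) = 0 := by
      have : (m - 1) * (m - 1) = m * m + 1 - (2 : K) * m := by ring
      rw [this, h, two_eq, zero_mul, sub_zero, ← two_mul, two_eq, zero_mul]
    exact sub_eq_zero.1 (mul_self_eq_zero.1 h2)
  have hl7 := h7 _ hl0
  have h77 : m * m * (m * m) ^ 2 * ((m * m) ^ 2) ^ 2 = 1 := by
    rw [← hl7]; ring
  have key : ∀ (i : Fin 6) (a : K) (h : dm φ i a) (h' : dm φ i (ch φ 1 (m * m) i * a)),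
      (⟨t, ht⟩ : ↥(twistedD4 K 2)) * gX hK3 hφ hle i a h * (⟨t, ht⟩ : ↥(twistedD4 K 2))⁻¹ =
        gX hK3 hφ hle i (ch φ 1 (m * m) i * a) h' := fun i a h h' => Subtype.ext (hc i a)
  refine ⟨m * m, ⟨t, ht⟩, hl0, hl1, hl7, htd, fun b => key 1 b _ _, ?_, ?_, ?_, ?_⟩
  · intro b
    have h1 := key 2 b (dm2 b) (dm2 _)
    have e : ch φ 1 (m * m) 2 = m * m := one_mul _
    rw [gC, gC, h1]
    exact Subtype.ext (by show xx φ 2 _ = xx φ 2 _; rw [e])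
  · intro b
    have h1 := key 3 b (dm3 b) (dm3 _)
    have e : ch φ 1 (m * m) 3 = (m * m) ^ 3 := by
      show (1 : K) * (m * m * φ (m * m)) = _
      rw [hφ]; ring
    rw [gD, gD, h1]
    exact Subtype.ext (by show xx φ 3 _ = xx φ 3 _; rw [e])
  · have e : ch φ 1 (m * m) 4 = 1 := by
      show (1 : K) * (m * m * φ (m * m) * φ (φ (m * m))) = _
      rw [hφ, hφ, one_mul]; exact h77
    apply Subtype.ext
    show t * xx φ 4 1 * t⁻¹ = xx φ 4 1
    rw [hc, e, one_mul]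
  · have e : ch φ 1 (m * m) 5 = 1 := by
      show (1 : K) * 1 * (m * m * φ (m * m) * φ (φ (m * m))) = _
      rw [hφ, hφ, one_mul, one_mul]; exact h77
    apply Subtype.ext
    show t * xx φ 5 1 * t⁻¹ = xx φ 5 1
    rw [hc, e, one_mul]

theorem gB_neg (a : K) : (gB hK3 hφ hle a)⁻¹ = gB hK3 hφ hle (-a) := Subtype.ext (xx_neg φ 1 a).symm
theorem gC_neg (a : K) : (gC hK3 hφ hle a)⁻¹ = gC hK3 hφ hle (-a) := Subtype.ext (xx_neg φ 2 a).symm
theorem gD_neg (a : K) : (gD hK3 hφ hle a)⁻¹ = gD hK3 hφ hle (-a) := Subtype.ext (xx_neg φ 3 a).symm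

theorem commB {t : ↥(twistedD4 K 2)} {l : K} (hl : l ≠ 1)
    (h : ∀ b, t * gB hK3 hφ hle b * t⁻¹ = gB hK3 hφ hle (l * b)) (b : K) :
    t * gB hK3 hφ hle ((l - 1)⁻¹ * b) * t⁻¹ * (gB hK3 hφ hle ((l - 1)⁻¹ * b))⁻¹ = gB hK3 hφ hle b := by
  have hl' : l - 1 ≠ 0 := sub_ne_zero.2 hl
  rw [h, gB_neg, ← gB_add]
  congr 1
  field_simp
  ring

theorem commC {t : ↥(twistedD4 K 2)} {l : K} (hl : l ≠ 1)
    (h : ∀ b, t * gC hK3 hφ hle b * t⁻¹ = gC hK3 hφ hle (l * b)) (b : K) :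
    t * gC hK3 hφ hle ((l - 1)⁻¹ * b) * t⁻¹ * (gC hK3 hφ hle ((l - 1)⁻¹ * b))⁻¹ = gC hK3 hφ hle b := by
  have hl' : l - 1 ≠ 0 := sub_ne_zero.2 hl
  rw [h, gC_neg, ← gC_add]
  congr 1
  field_simp
  ring

theorem commD {t : ↥(twistedD4 K 2)} {l : K} (hl : l ≠ 1)
    (h : ∀ b, t * gD hK3 hφ hle b * t⁻¹ = gD hK3 hφ hle (l * b)) (b : K) :
    t * gD hK3 hφ hle ((l - 1)⁻¹ * b) * t⁻¹ * (gD hK3 hφ hle ((l - 1)⁻¹ * b))⁻¹ = gD hK3 hφ hle b := by
  have hl' : l - 1 ≠ 0 := sub_ne_zero.2 hl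
  rw [h, gD_neg, ← gD_add]
  congr 1
  field_simp
  ring

theorem l3_ne {l : K} (h7 : l ^ 7 = 1) (h1 : l ≠ 1) : l ^ 3 ≠ 1 := by
  intro h
  apply h1
  have : l ^ 7 = (l ^ 3) * (l ^ 3) * l := by ring
  rw [h, one_mul, one_mul, h7] at this
  exact this.symm

theorem l3_seven {l : K} (h7 : l ^ 7 = 1) : (l ^ 3) ^ 7 = 1 := by
  rw [← pow_mul, mul_comm, pow_mul, h7, one_pow]

/-! ### generation -/

include hK3 hle

theorem gen (hK : Fintype.card K = 2 ^ 3) : ∀ i < 3, ∀ v ∈ VV K (i + 1),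
    v ∈ Subgroup.closure {x : ↥(twistedD4 K 2) | ∃ t ∈ TT K hφ, ∃ v ∈ VV K (i + 1), x = t * v * t⁻¹ * v⁻¹} ⊔
      VV K i := by
  obtain ⟨l, t, hl0, hl1, hl7, ht, hB, hC, hD, -, -⟩ := exists_t0 hK3 hφ hle hK
  have htT : t ∈ TT K hφ := Subgroup.mem_sup_left ht
  have hdT : dG hφ ∈ TT K hφ := Subgroup.mem_sup_right (Subgroup.mem_zpowers _)
  intro i hi v hv
  interval_cases i
  · apply Subgroup.mem_sup_left
    have hF : gF hK3 hφ hle ∈ Subgroup.closure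
        {x : ↥(twistedD4 K 2) | ∃ t ∈ TT K hφ, ∃ v ∈ VV K (0 + 1), x = t * v * t⁻¹ * v⁻¹} := by
      refine Subgroup.subset_closure ⟨dG hφ, hdT, gE hK3 hφ hle, gE_mem hK3 hφ hle, ?_⟩
      exact Subtype.ext dd_22.symm
    have hFE : gF hK3 hφ hle * gE hK3 hφ hle ∈ Subgroup.closure
        {x : ↥(twistedD4 K 2) | ∃ t ∈ TT K hφ, ∃ v ∈ VV K (0 + 1), x = t * v * t⁻¹ * v⁻¹} := by
      refine Subgroup.subset_closure ⟨dG hφ, hdT, gF hK3 hφ hle, gF_mem hK3 hφ hle, ?_⟩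
      exact Subtype.ext dd_23.symm
    have hE : gE hK3 hφ hle ∈ Subgroup.closure
        {x : ↥(twistedD4 K 2) | ∃ t ∈ TT K hφ, ∃ v ∈ VV K (0 + 1), x = t * v * t⁻¹ * v⁻¹} := by
      have := mul_mem (inv_mem hF) hFE
      rwa [inv_mul_cancel_left] at this
    rcases lev1 hK3 hφ hle hv with rfl | rfl | rfl | rfl
    · exact one_mem _
    · exact hE
    · exact hF
    · exact mul_mem hE hF
  · obtain ⟨d, w, hw, rfl⟩ := lev2 hK3 hφ hle hv
    refine mul_mem (Subgroup.mem_sup_left ?_) (Subgroup.mem_sup_right hw)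
    refine Subgroup.subset_closure ⟨t, htT, _, gD_mem hK3 hφ hle ((l ^ 3 - 1)⁻¹ * d), ?_⟩
    exact (commD hK3 hφ hle (l3_ne hl7 hl1) hD d).symm
  · obtain ⟨b, c, w, hw, rfl⟩ := lev3 hK3 hφ hle hv
    refine mul_mem (mul_mem (Subgroup.mem_sup_left ?_) (Subgroup.mem_sup_left ?_)) (Subgroup.mem_sup_right hw)
    · refine Subgroup.subset_closure ⟨t, htT, _, gB_mem hK3 hφ hle ((l - 1)⁻¹ * b), ?_⟩
      exact (commB hK3 hφ hle hl1 hB b).symm
    · refine Subgroup.subset_closure ⟨t, htT, _, gC_mem hK3 hφ hle ((l - 1)⁻¹ * c), ?_⟩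
      exact (commC hK3 hφ hle hl1 hC c).symm

/-! ### the pairings -/

theorem pair1 (hK : Fintype.card K = 2 ^ 3) {F : ↥(twistedD4 K 2) → ↥(twistedD4 K 2) → ℤˣ}
    (h : Pair (VV K 3) (TT K hφ) (VV K 1) (VV K 0) F) : ∀ v ∈ VV K 1, ∀ u ∈ VV K 3, F v u = 1 := by
  obtain ⟨l, t, hl0, hl1, hl7, ht, hB, hC, hD, hE, hF⟩ := exists_t0 hK3 hφ hle hK
  have htT : t ∈ TT K hφ := Subgroup.mem_sup_left ht
  intro v hv
  -- `t` centralises `v`
  have hv' : t * v * t⁻¹ = v := by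
    rcases lev1 hK3 hφ hle hv with rfl | rfl | rfl | rfl
    · group
    · exact hE
    · exact hF
    · rw [show t * (gE hK3 hφ hle * gF hK3 hφ hle) * t⁻¹ = (t * gE hK3 hφ hle * t⁻¹) * (t * gF hK3 hφ hle * t⁻¹) by
        group, hE, hF]
  have c1 : ∀ b, F v (gB hK3 hφ hle b) = 1 := by
    intro b
    have := h.right htT hv (gB_mem hK3 hφ hle ((l - 1)⁻¹ * b)) (by rw [hB]; exact gB_mem hK3 hφ hle _) hv'
    rwa [commB hK3 hφ hle hl1 hB] at this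
  have c2 : ∀ b, F v (gC hK3 hφ hle b) = 1 := by
    intro b
    have := h.right htT hv (gC_mem hK3 hφ hle ((l - 1)⁻¹ * b)) (by rw [hC]; exact gC_mem hK3 hφ hle _) hv'
    rwa [commC hK3 hφ hle hl1 hC] at this
  have gD3 : ∀ d, gD hK3 hφ hle d ∈ VV K 3 := fun d => VV_mono 2 (gD_mem hK3 hφ hle d)
  have c3 : ∀ b, F v (gD hK3 hφ hle b) = 1 := by
    intro b
    have := h.right htT hv (gD3 ((l ^ 3 - 1)⁻¹ * b)) (by rw [hD]; exact gD3 _) hv'
    rwa [commD hK3 hφ hle (l3_ne hl7 hl1) hD] at this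
  have c4 : F v (gE hK3 hφ hle) = 1 := by
    have := h.comm hv (gB_mem hK3 hφ hle 1) (gD3 1)
    have e : ⁅gB hK3 hφ hle 1, gD hK3 hφ hle 1⁆ = gE hK3 hφ hle := Subtype.ext comm_BD
    rwa [e] at this
  have c5 : F v (gF hK3 hφ hle) = 1 := by
    have := h.comm hv (gC_mem hK3 hφ hle 1) (gD3 1)
    have e : ⁅gC hK3 hφ hle 1, gD hK3 hφ hle 1⁆ = gF hK3 hφ hle := Subtype.ext comm_CD
    rwa [e] at this
  have E3 : gE hK3 hφ hle ∈ VV K 3 := VV_le 1 (by norm_num) (gE_mem hK3 hφ hle)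
  have F3 : gF hK3 hφ hle ∈ VV K 3 := VV_le 1 (by norm_num) (gF_mem hK3 hφ hle)
  have c6 : ∀ w ∈ VV K 1, F v w = 1 := by
    intro w hw
    rcases lev1 hK3 hφ hle hw with rfl | rfl | rfl | rfl
    · have := h.comm hv (one_mem _) (one_mem _)
      rwa [commutatorElement_one_right] at this
    · exact c4
    · exact c5
    · rw [h.mul_right v hv _ E3 _ F3, c4, c5, one_mul]
  intro u hu
  obtain ⟨b, c, w, hw, rfl⟩ := lev3 hK3 hφ hle hu
  obtain ⟨d, w', hw', rfl⟩ := lev2 hK3 hφ hle hw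
  have w3 : w' ∈ VV K 3 := VV_le 1 (by norm_num) hw'
  rw [h.mul_right v hv _ (mul_mem (gB_mem _ _ _ _) (gC_mem _ _ _ _)) _ (mul_mem (gD3 d) w3),
    h.mul_right v hv _ (gB_mem _ _ _ _) _ (gC_mem _ _ _ _), h.mul_right v hv _ (gD3 d) _ w3, c1, c2, c3, c6 _ hw',
    one_mul, one_mul]

theorem pair2 (hK : Fintype.card K = 2 ^ 3) {F : ↥(twistedD4 K 2) → ↥(twistedD4 K 2) → ℤˣ}
    (h : Pair (VV K 3) (TT K hφ) (VV K 2) (VV K 1) F) : ∀ v ∈ VV K 2, ∀ u ∈ VV K 3, F v u = 1 := by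
  obtain ⟨l, t, hl0, hl1, hl7, ht, hB, hC, hD, hE, hF⟩ := exists_t0 hK3 hφ hle hK
  have htT : t ∈ TT K hφ := Subgroup.mem_sup_left ht
  have hdT : dG hφ ∈ TT K hφ := Subgroup.mem_sup_right (Subgroup.mem_zpowers _)
  have gD2 : ∀ d, gD hK3 hφ hle d ∈ VV K 2 := gD_mem hK3 hφ hle
  have gD3 : ∀ d, gD hK3 hφ hle d ∈ VV K 3 := fun d => VV_mono 2 (gD_mem hK3 hφ hle d)
  have m23 : ∀ {w}, w ∈ VV K 2 → w ∈ VV K 3 := fun hw => VV_mono 2 hw
  have d1 : ∀ d, ∀ w ∈ VV K 1, F (gD hK3 hφ hle d) w = 1 := by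
    intro d w hw
    rw [h.symm _ (gD2 d) _ (VV_mono 1 hw)]
    exact h.one w hw _ (gD3 d)
  have d2 : ∀ d d', F (gD hK3 hφ hle d) (gD hK3 hφ hle d') = 1 := by
    refine eq_one_of_seven (f := fun d d' => F (gD hK3 hφ hle d) (gD hK3 hφ hle d')) (l3_seven hl7) (l3_ne hl7 hl1)
      ?_ ?_ ?_
    · intro x x' y
      show F (gD hK3 hφ hle (x + x')) _ = _
      rw [gD_add, h.mul_left _ (gD2 x) _ (gD2 x') _ (gD3 y)]
    · intro x y y'
      show F _ (gD hK3 hφ hle (y + y')) = _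
      rw [gD_add, h.mul_right _ (gD2 x) _ (gD3 y) _ (gD3 y')]
    · intro x y
      show F (gD hK3 hφ hle (l ^ 3 * x)) (gD hK3 hφ hle (l ^ 3 * y)) = _
      rw [← hD, ← hD, h.conj t htT _ (gD2 x) _ (gD3 y)]
  have d3 : ∀ d, ∀ w ∈ VV K 2, F (gD hK3 hφ hle d) w = 1 := by
    intro d w hw
    obtain ⟨d', w', hw', rfl⟩ := lev2 hK3 hφ hle hw
    rw [h.mul_right _ (gD2 d) _ (gD3 d') _ (VV_le 1 (by norm_num) hw'), d2, d1 _ _ hw', one_mul]
  have d4 : ∀ d c, F (gD hK3 hφ hle d) (gC hK3 hφ hle c) = 1 := by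
    intro d c
    obtain ⟨w, hw, e⟩ := x_conj_B' hK3 hφ hle c
    have h1 := h.right hdT (gD2 d) (gB_mem hK3 hφ hle c) (by
      rw [d_conj_B, e]
      exact mul_mem (mul_mem (gC_mem _ _ _ _) (m23 hw)) (gB_mem _ _ _ _)) (d_conj_D hK3 hφ hle d)
    rw [d_conj_B, e, mul_inv_cancel_right, h.mul_right _ (gD2 d) _ (gC_mem _ _ _ _) _ (m23 hw), d3 _ _ hw,
      mul_one] at h1
    exact h1
  have d5 : ∀ d b, F (gD hK3 hφ hle d) (gB hK3 hφ hle b) = 1 := by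
    intro d b
    obtain ⟨w, hw, w', hw', e⟩ := d_conj_C' hK3 hφ hle b
    have h1 := h.right hdT (gD2 d) (gC_mem hK3 hφ hle b) (by
      rw [e]
      exact mul_mem (mul_mem (mul_mem (mul_mem (gC_mem _ _ _ _) (m23 hw)) (gB_mem _ _ _ _)) (m23 hw'))
        (gC_mem _ _ _ _)) (d_conj_D hK3 hφ hle d)
    rw [e, mul_inv_cancel_right, h.mul_right _ (gD2 d) _ (mul_mem (mul_mem (gC_mem _ _ _ _) (m23 hw)) (gB_mem _ _ _ _))
      _ (m23 hw'), h.mul_right _ (gD2 d) _ (mul_mem (gC_mem _ _ _ _) (m23 hw)) _ (gB_mem _ _ _ _),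
      h.mul_right _ (gD2 d) _ (gC_mem _ _ _ _) _ (m23 hw), d3 _ _ hw, d3 _ _ hw', d4, one_mul, one_mul, mul_one] at h1
    exact h1
  intro v hv u hu
  obtain ⟨d, w, hw, rfl⟩ := lev2 hK3 hφ hle hv
  rw [h.mul_left _ (gD2 d) _ (VV_mono 1 hw) u hu, h.one w hw u hu, mul_one]
  obtain ⟨b, c, w, hw, rfl⟩ := lev3 hK3 hφ hle hu
  rw [h.mul_right _ (gD2 d) _ (mul_mem (gB_mem _ _ _ _) (gC_mem _ _ _ _)) _ (m23 hw),
    h.mul_right _ (gD2 d) _ (gB_mem _ _ _ _) _ (gC_mem _ _ _ _), d3 _ _ hw, d4, d5, one_mul, one_mul]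

theorem pair3 (hK : Fintype.card K = 2 ^ 3) {F : ↥(twistedD4 K 2) → ↥(twistedD4 K 2) → ℤˣ}
    (h : Pair (VV K 3) (TT K hφ) (VV K 3) (VV K 2) F) : ∀ v ∈ VV K 3, ∀ u ∈ VV K 3, F v u = 1 := by
  obtain ⟨l, t, hl0, hl1, hl7, ht, hB, hC, hD, hE, hF⟩ := exists_t0 hK3 hφ hle hK
  have htT : t ∈ TT K hφ := Subgroup.mem_sup_left ht
  have m23 : ∀ {w}, w ∈ VV K 2 → w ∈ VV K 3 := fun hw => VV_mono 2 hw
  -- the general argument
  have gen : ∀ (f g : K → ↥(twistedD4 K 2)), (∀ x, f x ∈ VV K 3) → (∀ x, g x ∈ VV K 3) →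
      (∀ x y, f (x + y) = f x * f y) → (∀ x y, g (x + y) = g x * g y) → (∀ x, t * f x * t⁻¹ = f (l * x)) →
      (∀ x, t * g x * t⁻¹ = g (l * x)) → ∀ x y, F (f x) (g y) = 1 := by
    intro f g hf hg hfa hga hft hgt
    refine eq_one_of_seven (f := fun x y => F (f x) (g y)) hl7 hl1 ?_ ?_ ?_
    · intro x x' y
      show F (f (x + x')) _ = _
      rw [hfa, h.mul_left _ (hf x) _ (hf x') _ (hg y)]
    · intro x y y'
      show F _ (g (y + y')) = _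
      rw [hga, h.mul_right _ (hf x) _ (hg y) _ (hg y')]
    · intro x y
      show F (f (l * x)) (g (l * y)) = _
      rw [← hft, ← hgt, h.conj t htT _ (hf x) _ (hg y)]
  have bB := gB_mem hK3 hφ hle
  have bC := gC_mem hK3 hφ hle
  have aB := gB_add hK3 hφ hle
  have aC := gC_add hK3 hφ hle
  have key : ∀ v ∈ VV K 3, ∀ u ∈ VV K 3, (∀ x, F v (gB hK3 hφ hle x) = 1) → (∀ x, F v (gC hK3 hφ hle x) = 1) →
      F v u = 1 := by
    intro v hv u hu h1 h2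
    obtain ⟨b, c, w, hw, rfl⟩ := lev3 hK3 hφ hle hu
    rw [h.mul_right v hv _ (mul_mem (bB b) (bC c)) _ (m23 hw), h.mul_right v hv _ (bB b) _ (bC c), h1, h2,
      h.symm v hv w (m23 hw), h.one w hw v hv, one_mul, one_mul]
  intro v hv u hu
  obtain ⟨b, c, w, hw, rfl⟩ := lev3 hK3 hφ hle hv
  rw [h.mul_left _ (mul_mem (bB b) (bC c)) _ (m23 hw) u hu, h.mul_left _ (bB b) _ (bC c) u hu, h.one w hw u hu,
    mul_one, key _ (bB b) u hu (gen _ _ bB bB aB aB hB hB b) (gen _ _ bB bC aB aC hB hC b),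
    key _ (bC c) u hu (gen _ _ bC bB aC aB hC hB c) (gen _ _ bC bC aC aC hC hC c), one_mul]

/-! ### the end -/

omit hK3 hle in
theorem x_inv_d : (gx hφ)⁻¹ * dG hφ * gx hφ = (dG hφ)⁻¹ := by
  apply Subtype.ext
  show (xG 14 1 : GL chevD4.Idx K)⁻¹ * (xG 14 1 * xG 9 1) * xG 14 1 = (xG 14 1 * xG 9 1)⁻¹
  rw [inv_mul_cancel_left, mul_inv_rev, xG_inv', xG_inv']

omit hK3 in
include hφ in
theorem T1_comm_x {t : ↥(twistedD4 K 2)} (ht : t ∈ T1 K) :
    (t : GL chevD4.Idx K) * xG 14 1 * (t : GL chevD4.Idx K)⁻¹ = xG 14 1 := by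
  have h1 : (t : GL chevD4.Idx K) * xG 14 1 * (t : GL chevD4.Idx K)⁻¹ ∈ fix φ :=
    conj_fix (hle t.2) (hle (x_mem hφ))
  obtain ⟨c, hc⟩ := diagonal_le_torus K ht
  have hc' : (t : GL chevD4.Idx K) = torG c := hc
  rw [hc'] at h1 ⊢
  rw [torG_conj c (by norm_num), mul_one, mem_fix, sig_14] at h1
  have h2 : φ (chi c 14) = chi c 14 := xG_injective (by norm_num) h1
  have h3 : chi c 14 = 1 := (fixed_cases hφ h2).resolve_left (chi_ne_zero c 14)
  rw [torG_conj c (by norm_num), h3, mul_one]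

omit hK3 in
theorem x_norm_TT (t : ↥(twistedD4 K 2)) (ht : t ∈ TT K hφ) : (gx hφ)⁻¹ * t * gx hφ ∈ TT K hφ := by
  have h1 : TT K hφ ≤ (TT K hφ).comap (MulAut.conj (gx hφ)⁻¹).toMonoidHom := by
    refine sup_le ?_ ?_
    · intro t ht
      rw [Subgroup.mem_comap]
      show (gx hφ)⁻¹ * t * ((gx hφ)⁻¹)⁻¹ ∈ TT K hφ
      have h2 := T1_comm_x hφ hle ht
      have e : (gx hφ)⁻¹ * t * ((gx hφ)⁻¹)⁻¹ = t := by
        apply Subtype.ext
        show (xG 14 1 : GL chevD4.Idx K)⁻¹ * (t : GL chevD4.Idx K) * ((xG 14 1 : GL chevD4.Idx K)⁻¹)⁻¹ =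
          (t : GL chevD4.Idx K)
        rw [mul_inv_eq_iff_eq_mul] at h2
        rw [inv_inv, mul_assoc, h2, inv_mul_cancel_left]
      rw [e]
      exact Subgroup.mem_sup_left ht
    · rw [Subgroup.zpowers_le, Subgroup.mem_comap]
      show (gx hφ)⁻¹ * dG hφ * ((gx hφ)⁻¹)⁻¹ ∈ TT K hφ
      rw [inv_inv, x_inv_d]
      exact inv_mem (Subgroup.mem_sup_right (Subgroup.mem_zpowers _))
  have h2 := h1 ht
  rw [Subgroup.mem_comap] at h2
  have h3 : (gx hφ)⁻¹ * t * ((gx hφ)⁻¹)⁻¹ ∈ TT K hφ := h2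
  rwa [inv_inv] at h3

theorem exists_W (hK : Fintype.card K = 2 ^ 3) {L : Type} [Group L] [Finite L] {π : L →* ↥(twistedD4 K 2)} {c : L}
    (hd : Dbl π c) : ∃ W : Subgroup L, Cpl π c (VV K 3) (TT K hφ) (VV K 3) W := by
  have hodd := odd_TT hK hφ hle
  have hfin : Finite ↥(twistedD4 K 2) := inferInstance
  have hTV : ∀ i ≤ 3, ∀ t ∈ TT K hφ, ∀ v ∈ VV K i, t * v * t⁻¹ ∈ VV K i := by
    intro i hi t ht v hv
    exact ((Subgroup.mem_normalizer_iff.1 (TT_norm hφ i hi ht)) v).1 hv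
  refine exists_compl_of_chain hd hodd (VV K) 3 VV_zero VV_le (fun i _ => VV_mono i) (hTV 3 le_rfl) hTV VV_comm
    (gen hK3 hφ hle hK) ?_
  intro i hi F hF
  interval_cases i
  · exact pair1 hK3 hφ hle hK hF
  · exact pair2 hK3 hφ hle hK hF
  · exact pair3 hK3 hφ hle hK hF

theorem gen_VV3 (hK : Fintype.card K = 2 ^ 3) : ∀ v ∈ VV K 3,
    v ∈ Subgroup.closure {x : ↥(twistedD4 K 2) | ∃ t ∈ TT K hφ, ∃ v ∈ VV K 3, x = t * v * t⁻¹ * v⁻¹} :=
  gen_of_chain (TT K hφ) (VV K) 3 VV_zero (fun i _ => VV_mono i) (gen hK3 hφ hle hK)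

/-- `x` is conjugate to `F` -/
theorem isConj_x : IsConj (gx hφ) (gF hK3 hφ hle) := by
  have h1 : (nb K : GL chevD4.Idx K) * xG 14 1 * (nb K)⁻¹ = xG 22 1 := by
    obtain ⟨a, ha⟩ := nb_conj (K := K) (s := 14) (by norm_num) 1
    rw [show rb 14 = 22 by decide +kernel] at ha
    have h2 : (nb K : GL chevD4.Idx K) * xG 14 1 * (nb K)⁻¹ ∈ fix φ :=
      conj_fix (hle (nb_mem hφ)) (hle (x_mem hφ))
    rw [ha]
    rw [ha, mem_fix, sig_22] at h2
    have h3 : φ a = a := xG_injective (by norm_num) h2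
    rcases fixed_cases hφ h3 with rfl | rfl
    · exfalso
      rw [xG_zero, mul_inv_eq_one] at ha
      have : (xG 14 (1 : K) : GL chevD4.Idx K) = 1 := by
        have h4 : (nb K : GL chevD4.Idx K) * xG 14 1 = nb K * 1 := by rw [ha, mul_one]
        exact mul_left_cancel h4
      rw [xG_eq_one_iff (by norm_num)] at this
      exact one_ne_zero this
    · rfl
  rw [isConj_iff]
  refine ⟨gn hφ * ⟨nb K, nb_mem hφ⟩, ?_⟩
  apply Subtype.ext
  show na K * nb K * xG 14 1 * (na K * nb K)⁻¹ = xG 23 1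
  have e : na K * nb K * xG 14 1 * (na K * nb K)⁻¹ = na K * (nb K * xG 14 1 * (nb K)⁻¹) * (na K)⁻¹ := by group
  rw [e, h1]
  exact n_conj (s := 22) (by norm_num) 1

omit hK3 hle in
theorem gx_sq : gx hφ * gx hφ = 1 := Subtype.ext (xG_sq 14 1)

omit hK3 hle in
theorem gx_inv : (gx hφ)⁻¹ = gx hφ := inv_eq_of_mul_eq_one_left (gx_sq hφ)

variable (K) in
/-- the Sylow 2-subgroup -/
def UU : Subgroup ↥(twistedD4 K 2) := (chevD4.posUnipotent K).subgroupOf (twistedD4 K 2)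

theorem lev4 {v : ↥(twistedD4 K 2)} (hv : v ∈ UU K) : v ∈ VV K 3 ∨ v * gx hφ ∈ VV K 3 := by
  have hv' : (v : GL chevD4.Idx K) ∈ chevD4.posUnipotent K := hv
  obtain ⟨a, b, c, d, e, f, ha, he, hf, hg⟩ := (mem_U_inf_iff hK3 hφ hle (v : GL chevD4.Idx K)).1 ⟨hv', v.2⟩
  rw [elt_eq_xx] at hg
  let w : ↥(twistedD4 K 2) := gB hK3 hφ hle b * gC hK3 hφ hle c * gD hK3 hφ hle d *
    (gX hK3 hφ hle 4 e (fun _ => he) * gX hK3 hφ hle 5 f (fun _ => hf))
  have hw : w ∈ VV K 3 := by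
    refine mul_mem (mul_mem (mul_mem (gB_mem _ _ _ _) (gC_mem _ _ _ _)) (VV_mono 2 (gD_mem _ _ _ _))) ?_
    refine VV_le 1 (by norm_num) ?_
    exact mul_mem (xG_mem_RS (l := [22, 23]) (by decide) _) (xG_mem_RS (l := [22, 23]) (by decide) _)
  rcases fixed_cases hφ ha with rfl | rfl
  · left
    have e1 : v = w := by
      apply Subtype.ext
      rw [hg, xx_zero]
      show _ = xx φ 1 b * xx φ 2 c * xx φ 3 d * (xx φ 4 e * xx φ 5 f)
      simp only [mul_assoc, one_mul]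
    rwa [e1]
  · right
    have e1 : v = gx hφ * w := by
      apply Subtype.ext
      rw [hg]
      show _ = xG 14 1 * (xx φ 1 b * xx φ 2 c * xx φ 3 d * (xx φ 4 e * xx φ 5 f))
      simp only [mul_assoc]
      rfl
    have h1 := x_VV hφ 3 le_rfl hw
    rwa [gx_inv, ← e1] at h1

omit hK3 hle in
theorem gx_not_mem : gx hφ ∉ VV K 3 := by
  intro h
  have h1 : (xG 14 1 : GL chevD4.Idx K) ∈ RS K [18, 13, 12, 19, 16, 15, 21, 17, 20, 22, 23] := h
  have h2 := lprod_suffix (l := [18, 13, 12, 19, 16, 15, 21, 17, 20, 22, 23]) (p := [14]) rfl h1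
    (t := fun r => if r = 14 then 1 else 0) (by
      unfold ordA
      simp only [lprod_cons, lprod_nil]
      norm_num [xG_zero]) 14 (by decide)
  simp at h2

omit hK3 hφ hle [CharP K 2] in
theorem odd_index (hK : Fintype.card K = 2 ^ 3) : ¬ 2 ∣ (UU K).index := by
  have hq : IsPrimePow 2 := Nat.prime_two.isPrimePow
  have hfin : Finite ↥(twistedD4 K 2) := inferInstance
  have h1 := Cfsg.Agent.S1067.result hq hK
  have h2 : Nat.card (UU K) = 2 ^ 12 := by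
    have h3 : Nat.card ↥(UU K) = Nat.card ↥(chevD4.posUnipotent K ⊓ twistedD4 K 2) := by
      unfold UU
      rw [← Subgroup.inf_subgroupOf_right]
      exact Nat.card_congr (Subgroup.subgroupOfEquivOfLe inf_le_right).toEquiv
    rw [h3, card_U1 hq hK]
  have h3 := (UU K).card_mul_index
  rw [h1, h2] at h3
  have h4 : (UU K).index = (2 ^ 2 - 1) * (2 ^ 6 - 1) * (2 ^ 8 + 2 ^ 4 + 1) := by
    have h5 : 2 ^ 12 * (UU K).index = 2 ^ 12 * ((2 ^ 2 - 1) * (2 ^ 6 - 1) * (2 ^ 8 + 2 ^ 4 + 1)) := by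
      rw [h3]; ring
    exact Nat.eq_of_mul_eq_mul_left (by norm_num) h5
  rw [h4]
  norm_num

include hφ hK3 hle in
theorem noDouble_aux (hK : Fintype.card K = 2 ^ 3) : NoDouble ↥(twistedD4 K 2) := by
  intro L _ _ π c hd
  obtain ⟨W, hW⟩ := exists_W hK3 hφ hle hK hd
  obtain ⟨a, ha⟩ := hd.surj (gx hφ)
  have hg := gen_VV3 hK3 hφ hle hK
  have hcV : ∀ v ∈ VV K 3, gx hφ * v * (gx hφ)⁻¹ ∈ VV K 3 := fun v hv => x_VV hφ 3 le_rfl hv
  have hcV' : ∀ v ∈ VV K 3, (gx hφ)⁻¹ * v * gx hφ ∈ VV K 3 := fun v hv => by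
    have := hcV v hv
    rwa [gx_inv] at this ⊢
  have hcT' : ∀ t ∈ TT K hφ, gx hφ * t * (gx hφ)⁻¹ ∈ TT K hφ := fun t ht => by
    have := x_norm_TT hφ hle t ht
    rwa [gx_inv] at this ⊢
  have haW : ∀ w ∈ W, a * w * a⁻¹ ∈ W := by
    apply hW.conj_mem hd hg
    · rw [ha]; exact hcV'
    · rw [ha]; exact x_norm_TT hφ hle
    · rw [ha]; exact hcV
    · rw [ha]; exact hcV'
  have haW' : ∀ w ∈ W, a⁻¹ * w * a ∈ W := by
    have key : ∀ w ∈ W, a⁻¹ * w * (a⁻¹)⁻¹ ∈ W := by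
      apply hW.conj_mem hd hg
      · rw [map_inv, ha, inv_inv]; exact hcV
      · rw [map_inv, ha, inv_inv]; exact hcT'
      · rw [map_inv, ha, inv_inv]; exact hcV'
      · rw [map_inv, ha, inv_inv]; exact hcV
    intro w hw
    have := key w hw
    rwa [inv_inv] at this
  -- `a² = 1`
  have hsq : a * a = 1 := by
    obtain ⟨g, hgx⟩ := isConj_iff.1 (isConj_x hK3 hφ hle)
    obtain ⟨g', rfl⟩ := hd.surj g
    have hf : π (g' * a * g'⁻¹) = gF hK3 hφ hle := by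
      rw [map_mul, map_mul, map_inv, ha, hgx]
    have hFF : gF hK3 hφ hle * gF hK3 hφ hle = 1 := Subtype.ext (xG_sq 23 1)
    have h1 : π ((g' * a * g'⁻¹) * (g' * a * g'⁻¹)) = 1 := by rw [map_mul, hf, hFF]
    have h2 : (g' * a * g'⁻¹) * (g' * a * g'⁻¹) ∈ W := by
      have h3 : π (g' * a * g'⁻¹) ∈ VV K 3 := by
        rw [hf]; exact VV_le 1 (by norm_num) (gF_mem _ _ _)
      rcases hW.cov _ h3 with h4 | h4
      · exact mul_mem h4 h4
      · have h5 := mul_mem h4 h4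
        have e : c * (g' * a * g'⁻¹) * (c * (g' * a * g'⁻¹)) = (c * c) * ((g' * a * g'⁻¹) * (g' * a * g'⁻¹)) := by
          rw [mul_assoc c, ← mul_assoc (g' * a * g'⁻¹) c, ← hd.cen (g' * a * g'⁻¹)]
          simp only [mul_assoc]
        rwa [e, hd.sq, one_mul] at h5
    have h3 : (g' * a * g'⁻¹) * (g' * a * g'⁻¹) = 1 := by
      rcases (hd.ker _).1 h1 with h4 | h4
      · exact h4
      · rw [h4] at h2; exact absurd h2 hW.not_mem
    have e : (g' * a * g'⁻¹) * (g' * a * g'⁻¹) = g' * (a * a) * g'⁻¹ := by group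
    rw [e, mul_inv_eq_one] at h3
    exact mul_left_cancel (h3.trans (mul_one g').symm)
  have hinv : a⁻¹ = a := inv_eq_of_mul_eq_one_left hsq
  let P₁ : Subgroup L :=
    { carrier := {g | g ∈ W ∨ g * a ∈ W}
      one_mem' := Or.inl (one_mem _)
      mul_mem' := by
        intro g g' hg hg'
        rcases hg with hg | hg <;> rcases hg' with hg' | hg'
        · exact Or.inl (mul_mem hg hg')
        · right
          rw [mul_assoc]; exact mul_mem hg hg'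
        · right
          have e : g * g' * a = (g * a) * (a⁻¹ * g' * a) := by group
          rw [e]; exact mul_mem hg (haW' _ hg')
        · left
          have e : g * g' = (g * a) * (a⁻¹ * (g' * a) * a) * (a * a)⁻¹ := by group
          rw [e, hsq, inv_one, mul_one]
          exact mul_mem hg (haW' _ hg')
      inv_mem' := by
        intro g hg
        rcases hg with hg | hg
        · exact Or.inl (inv_mem hg)
        · right
          have h1 := inv_mem (haW _ hg)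
          have e : (a * (g * a) * a⁻¹)⁻¹ = g⁻¹ * a⁻¹ := by group
          rw [e, hinv] at h1
          exact h1 }
  have hfin : Finite ↥(twistedD4 K 2) := inferInstance
  refine hd.toCtr.false_of_compl (P := (UU K).comap π) (P₁ := P₁) ?_ ?_ ?_ ?_
  · show π c ∈ UU K
    rw [(hd.ker c).2 (Or.inr rfl)]; exact one_mem _
  · rw [Subgroup.index_comap_of_surjective _ hd.surj]
    exact odd_index hK
  · intro h
    rcases h with h | h
    · exact hW.not_mem h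
    · have h1 := hW.le _ h
      rw [map_mul, (hd.ker c).2 (Or.inr rfl), one_mul, ha] at h1
      exact gx_not_mem hφ h1
  · intro x hx
    rcases lev4 hK3 hφ hle (v := π x) hx with h1 | h1
    · rcases hW.cov x h1 with h2 | h2
      · exact Or.inl (Or.inl h2)
      · exact Or.inr (Or.inl h2)
    · rw [← ha, ← map_mul] at h1
      rcases hW.cov (x * a) h1 with h2 | h2
      · exact Or.inl (Or.inr h2)
      · refine Or.inr (Or.inr ?_)
        rwa [mul_assoc]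

end Main

/-- **³D₄(2) has no perfect double cover.** -/
theorem noDouble {K : Type*} [Field K] [Fintype K] (hK : Fintype.card K = 2 ^ 3) : NoDouble ↥(twistedD4 K 2) := by
  have hc : CharP K 2 := charP_of_card_eq_prime_pow hK
  obtain ⟨φ, hφ⟩ := D4Fixed.exists_frob Nat.prime_two.isPrimePow hK
  have hK3 : ∀ t : K, φ (φ (φ t)) = t := by
    intro t
    rw [hφ, hφ, hφ, ← pow_mul, ← pow_mul]
    have h1 : 2 * (2 * 2) = Fintype.card K := by rw [hK]; norm_num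
    rw [h1]
    exact FiniteField.pow_card t
  exact noDouble_aux hK3 hφ (twisted_le_fix hK hφ) hK

end Cfsg.Agent.KFacts.Mult.ThreeD4Two
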