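import Mathlib
import Cfsg.Agent.KFacts.Mult.Asm

/-!
# Double covers of groups with a root group datum and a torus with independent weights

* `tcs π t H` : the complement `[t, H^]` of `⟨c⟩` in the (abelian) preimage `H^` of `H`, `t` fixed point free on `H`;
* `good_of_torus` : the pair `(x, y)` is good if an element of the torus centralises `X x` and is fixed point free
  on `X y`;
* `false_of_torus` : **no double cover exists** if (1) the preimages of the `X x`, `x > 0`, are abelian; (2) for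
  `x > 0` some element of `T₀` is fixed point free on `X x`; (3) for `x ≠ y` positive some element of `T₀`
  centralises `X x` and is fixed point free on `X y`. No commutator formula is needed.
-/

set_option autoImplicit false
set_option linter.unusedSectionVars false

namespace Cfsg.Agent.KFacts.Mult.Torus

open CoxeterSystem Cfsg.Agent.ChevalleyStructure.CoxeterGeom Cfsg.Agent.Tits.Roots Cfsg.Agent.Tits.Core
  Cfsg.Agent.Tits.RootComb Cfsg.Agent.Nodes.Comb Cfsg.Agent.Nodes.Reps Cfsg.Agent.Nodes.BNOf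
  Cfsg.Agent.Nodes.BNOf.RGD Cfsg.Agent.Nodes.Unique Cfsg.Agent.Nodes.Bruhat Cfsg.Agent.KFacts.MulTwo
  Cfsg.Agent.KFacts.Mult.RelBase Cfsg.Agent.KFacts.Mult.Asm
open scoped commutatorElement

/-! ### The complement `[t, H^]` -/

section tcs

variable {L Y : Type*} [Group L] [Group Y] {π : L →* Y} {c : L}

/-- `[t, H^]`, `H^` the preimage of `H` -/
def tcs (π : L →* Y) (t : L) (H : Subgroup Y) : Subgroup L :=
  Subgroup.closure {g | ∃ a, π a ∈ H ∧ g = t * a * t⁻¹ * a⁻¹}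

variable {t : L} {H : Subgroup Y}

theorem mem_tcs (hab : ∀ a b : L, π a ∈ H → π b ∈ H → a * b = b * a)
    (hn : ∀ a ∈ H, π t * a * (π t)⁻¹ ∈ H) {g : L} :
    g ∈ tcs π t H ↔ ∃ a, π a ∈ H ∧ g = t * a * t⁻¹ * a⁻¹ := by
  refine ⟨fun hg => ?_, fun hg => Subgroup.subset_closure hg⟩
  have hn' : ∀ a, π a ∈ H → π (t * a * t⁻¹) ∈ H := fun a ha => by
    rw [map_mul, map_mul, map_inv]; exact hn _ ha
  have hmul : ∀ a b : L, π a ∈ H → π b ∈ H →
      (t * a * t⁻¹ * a⁻¹) * (t * b * t⁻¹ * b⁻¹) = t * (a * b) * t⁻¹ * (a * b)⁻¹ := by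
    intro a b ha hb
    have h1 := hab a⁻¹ (t * b * t⁻¹) (by rw [map_inv]; exact inv_mem ha) (hn' b hb)
    have h2 := hab a⁻¹ b⁻¹ (by rw [map_inv]; exact inv_mem ha) (by rw [map_inv]; exact inv_mem hb)
    calc (t * a * t⁻¹ * a⁻¹) * (t * b * t⁻¹ * b⁻¹) = t * a * t⁻¹ * (a⁻¹ * (t * b * t⁻¹)) * b⁻¹ := by group
      _ = t * a * t⁻¹ * ((t * b * t⁻¹) * a⁻¹) * b⁻¹ := by rw [h1]
      _ = t * (a * b) * t⁻¹ * (a⁻¹ * b⁻¹) := by group
      _ = t * (a * b) * t⁻¹ * (b⁻¹ * a⁻¹) := by rw [h2]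
      _ = t * (a * b) * t⁻¹ * (a * b)⁻¹ := by group
  induction hg using Subgroup.closure_induction with
  | mem x hx => exact hx
  | one => exact ⟨1, by rw [map_one]; exact one_mem _, by group⟩
  | mul x y _ _ hx hy =>
    obtain ⟨a, ha, rfl⟩ := hx
    obtain ⟨b, hb, rfl⟩ := hy
    exact ⟨a * b, by rw [map_mul]; exact mul_mem ha hb, hmul a b ha hb⟩
  | inv x _ hx =>
    obtain ⟨a, ha, rfl⟩ := hx
    have ha' : π a⁻¹ ∈ H := by rw [map_inv]; exact inv_mem ha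
    refine ⟨a⁻¹, ha', ?_⟩
    rw [inv_eq_iff_mul_eq_one, hmul a a⁻¹ ha ha']
    group

theorem map_tcs [Finite Y] (hab : ∀ a b : L, π a ∈ H → π b ∈ H → a * b = b * a)
    (hn : ∀ a ∈ H, π t * a * (π t)⁻¹ ∈ H) (hr : H ≤ π.range)
    (hf : ∀ a ∈ H, π t * a * (π t)⁻¹ = a → a = 1) : (tcs π t H).map π = H := by
  apply le_antisymm
  · rintro _ ⟨g, hg, rfl⟩
    obtain ⟨a, ha, rfl⟩ := (mem_tcs hab hn).1 hg
    rw [map_mul, map_mul, map_mul, map_inv, map_inv]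
    exact mul_mem (hn _ ha) (inv_mem ha)
  · -- `a ↦ [t, a]` is injective on the finite group `H`
    let f : H → H := fun a => ⟨π t * a * (π t)⁻¹ * (a : Y)⁻¹, mul_mem (hn _ a.2) (inv_mem a.2)⟩
    have hinj : Function.Injective f := by
      intro a b hab'
      have h1 : π t * a * (π t)⁻¹ * (a : Y)⁻¹ = π t * b * (π t)⁻¹ * (b : Y)⁻¹ := congrArg Subtype.val hab'
      have h2 : π t * ((b : Y)⁻¹ * a) * (π t)⁻¹ = (b : Y)⁻¹ * a := by
        calc π t * ((b : Y)⁻¹ * a) * (π t)⁻¹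
            = (π t * b * (π t)⁻¹)⁻¹ * (π t * a * (π t)⁻¹ * (a : Y)⁻¹) * a := by group
          _ = (π t * b * (π t)⁻¹)⁻¹ * (π t * b * (π t)⁻¹ * (b : Y)⁻¹) * a := by rw [h1]
          _ = (b : Y)⁻¹ * a := by group
      have h3 := hf _ (mul_mem (inv_mem b.2) a.2) h2
      exact Subtype.ext (inv_mul_eq_one.1 h3).symm
    have hsur := Finite.surjective_of_injective hinj
    intro y hy
    obtain ⟨a, ha⟩ := hsur ⟨y, hy⟩
    obtain ⟨b, hb⟩ := hr a.2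
    refine ⟨t * b * t⁻¹ * b⁻¹, (mem_tcs hab hn).2 ⟨b, by rw [hb]; exact a.2, rfl⟩, ?_⟩
    rw [map_mul, map_mul, map_mul, map_inv, map_inv, hb]
    exact congrArg Subtype.val ha

theorem c_notMem_tcs (hk : Ker2 π c) (hab : ∀ a b : L, π a ∈ H → π b ∈ H → a * b = b * a)
    (hn : ∀ a ∈ H, π t * a * (π t)⁻¹ ∈ H) (hf : ∀ a ∈ H, π t * a * (π t)⁻¹ = a → a = 1) :
    c ∉ tcs π t H := by
  intro h
  obtain ⟨a, ha, h1⟩ := (mem_tcs hab hn).1 h
  have h2 : π t * π a * (π t)⁻¹ = π a := by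
    have h3 := congrArg π h1
    rw [hk.map_c, map_mul, map_mul, map_mul, map_inv, map_inv] at h3
    exact (mul_inv_eq_one.1 h3.symm)
  have h3 := hf _ ha h2
  apply hk.ne
  have hcen : ∀ x, x * a = a * x := by
    rcases hk.ker a h3 with h4 | h4
    · rw [h4]; intro x; rw [one_mul, mul_one]
    · rw [h4]; exact fun x => (hk.cen x).symm
  rw [h1, hcen t]
  group

theorem conj_tcs (hk : Ker2 π c) {s : L} (hs : Commute (π s) (π t)) (hsH : ∀ a ∈ H, π s * a * (π s)⁻¹ ∈ H) {g : L}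
    (hab : ∀ a b : L, π a ∈ H → π b ∈ H → a * b = b * a) (hn : ∀ a ∈ H, π t * a * (π t)⁻¹ ∈ H)
    (hg : g ∈ tcs π t H) : s * g * s⁻¹ ∈ tcs π t H := by
  rw [mem_tcs hab hn] at hg ⊢
  obtain ⟨a, ha, rfl⟩ := hg
  refine ⟨s * a * s⁻¹, by rw [map_mul, map_mul, map_inv]; exact hsH _ ha, ?_⟩
  obtain ⟨z, hz, -, e⟩ := hk.exists_comm hs
  have hz' : ∀ x : L, x * z⁻¹ = z⁻¹ * x := fun x => (Commute.inv_left (show Commute z x from hz x)).eq.symm
  calc s * (t * a * t⁻¹ * a⁻¹) * s⁻¹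
      = (s * t * s⁻¹) * (s * a * s⁻¹) * (s * t * s⁻¹)⁻¹ * (s * a * s⁻¹)⁻¹ := by group
    _ = (z * t) * (s * a * s⁻¹) * (z * t)⁻¹ * (s * a * s⁻¹)⁻¹ := by rw [e]
    _ = z * (t * (s * a * s⁻¹) * t⁻¹ * z⁻¹) * (s * a * s⁻¹)⁻¹ := by group
    _ = z * (z⁻¹ * (t * (s * a * s⁻¹) * t⁻¹)) * (s * a * s⁻¹)⁻¹ := by rw [hz']
    _ = t * (s * a * s⁻¹) * t⁻¹ * (s * a * s⁻¹)⁻¹ := by group

end tcs

variable {I W Y L : Type*} [Fintype I] [DecidableEq I] [Group W] [Group Y] [Group L] {M : CoxeterMatrix I}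
  {cs : CoxeterSystem M W} {A : I → I → ℤ} {h : IsCartan M A} {p : ℕ} {T : Subgroup Y} {n : I → Y}
  {X : (I → ℤ) → Subgroup Y} {π : L →* Y} {c : L} {Xt : (I → ℤ) → Subgroup L}

/-- elements of `Xt x` with the same image are equal -/
theorem compl_inj (hk : Ker2 π c) (hX : Compl cs h X π c Xt) {x : I → ℤ} (hx : x ∈ Pos cs h) {a b : L}
    (ha : a ∈ Xt x) (hb : b ∈ Xt x) (he : π a = π b) : a = b := by
  have h1 : π (a * b⁻¹) = 1 := by rw [map_mul, map_inv, he, mul_inv_cancel]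
  rcases hk.ker _ h1 with h2 | h2
  · exact mul_inv_eq_one.1 h2
  · exact absurd (h2 ▸ mul_mem ha (inv_mem hb)) (hX.nc x hx)

theorem good_of_torus [Finite L] (hk : Ker2 π c) (hX : Compl cs h X π c Xt) {x y : I → ℤ} (hx : x ∈ Pos cs h)
    (hy : y ∈ Pos cs h) {t : L} (ht : ∀ z ∈ Pos cs h, ∀ g ∈ Xt z, t * g * t⁻¹ ∈ Xt z)
    (h1 : ∀ a ∈ X x, π t * a * (π t)⁻¹ = a) (h2 : ∀ b ∈ X y, π t * b * (π t)⁻¹ = b → b = 1) :
    Good cs h Xt x y := by
  refine Or.inr ⟨t, ht, fun a ha => ?_, fun b hb => ?_⟩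
  · refine compl_inj hk hX hx (ht x hx a ha) ha ?_
    rw [map_mul, map_mul, map_inv]
    exact h1 _ (by rw [← hX.map x hx]; exact ⟨a, ha, rfl⟩)
  · let f : Xt y → Xt y := fun a => ⟨t * a * t⁻¹ * (a : L)⁻¹, mul_mem (ht y hy _ a.2) (inv_mem a.2)⟩
    have hinj : Function.Injective f := by
      intro a b hab'
      have h3 : t * a * t⁻¹ * (a : L)⁻¹ = t * b * t⁻¹ * (b : L)⁻¹ := congrArg Subtype.val hab'
      have h4 : t * ((b : L)⁻¹ * a) * t⁻¹ = (b : L)⁻¹ * a := by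
        calc t * ((b : L)⁻¹ * a) * t⁻¹
            = (t * b * t⁻¹)⁻¹ * (t * a * t⁻¹ * (a : L)⁻¹) * a := by group
          _ = (t * b * t⁻¹)⁻¹ * (t * b * t⁻¹ * (b : L)⁻¹) * a := by rw [h3]
          _ = (b : L)⁻¹ * a := by group
      have h5 : (b : L)⁻¹ * a ∈ Xt y := mul_mem (inv_mem b.2) a.2
      have h6 := h2 (π ((b : L)⁻¹ * a)) (by rw [← hX.map y hy]; exact ⟨_, h5, rfl⟩) (by
        rw [← map_inv, ← map_mul, ← map_mul, h4])
      have h7 : (b : L)⁻¹ * a = 1 := compl_inj hk hX hy h5 (one_mem _) (by rw [h6, map_one])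
      exact Subtype.ext (inv_mul_eq_one.1 h7).symm
    obtain ⟨g, hg⟩ := Finite.surjective_of_injective hinj ⟨b, hb⟩
    exact ⟨g, g.2, (congrArg Subtype.val hg).symm⟩

variable (R : RGD cs h p T n X)

include R

/-- **No double cover**, given complements `Xt x` invariant under the torus `T₀` and weights of `T₀` on the root
groups which are independent. -/
theorem false_of_torus' [Finite W] [Finite L] [Finite Y] (hp : p = 2) (hc : Ctr c) (hk : Ker2 π c)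
    (hr : π.range ≤ GG cs h T X) (hX : Compl cs h X π c Xt) {T₀ : Set Y} (hT₀ : T₀ ⊆ π.range)
    (hinv : ∀ t : L, π t ∈ T₀ → ∀ z ∈ Pos cs h, ∀ g ∈ Xt z, t * g * t⁻¹ ∈ Xt z)
    (hind : ∀ x ∈ Pos cs h, ∀ y ∈ Pos cs h, x ≠ y → Good cs h Xt x y ∨ ∃ t ∈ T₀, (∀ a ∈ X x, t * a * t⁻¹ = a) ∧
      ∀ b ∈ X y, t * b * t⁻¹ = b → b = 1) : False := by
  refine false_of_good R hp hc hk hr hX fun x hx y hy hxy => ?_
  rcases hind x hx y hy hxy with h | ⟨t, ht, h1, h2⟩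
  · exact h
  · obtain ⟨t', rfl⟩ := hT₀ ht
    exact good_of_torus hk hX hx hy (hinv t' ht) h1 h2

/-- **No double cover**: abelian preimages of the positive root groups, independent weights. -/
theorem false_of_torus [Finite W] [Finite L] [Finite Y] (hp : p = 2) (hc : Ctr c) (hk : Ker2 π c)
    (hr : π.range ≤ GG cs h T X) (hXr : ∀ x ∈ Pos cs h, X x ≤ π.range) {T₀ : Set Y} (hT₀ : T₀ ⊆ π.range)
    (hTc : ∀ t ∈ T₀, ∀ s ∈ T₀, Commute t s) (hTX : ∀ t ∈ T₀, ∀ x ∈ Pos cs h, ∀ a ∈ X x, t * a * t⁻¹ ∈ X x)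
    (hab : ∀ x ∈ Pos cs h, ∀ a b : L, π a ∈ X x → π b ∈ X x → a * b = b * a)
    (hfix : ∀ x ∈ Pos cs h, ∃ t ∈ T₀, ∀ a ∈ X x, t * a * t⁻¹ = a → a = 1)
    (hind : ∀ x ∈ Pos cs h, ∀ y ∈ Pos cs h, x ≠ y → ∃ t ∈ T₀, (∀ a ∈ X x, t * a * t⁻¹ = a) ∧
      ∀ b ∈ X y, t * b * t⁻¹ = b → b = 1) : False := by
  classical
  have h1 : ∀ x ∈ Pos cs h, ∃ t : L, π t ∈ T₀ ∧ ∀ a ∈ X x, π t * a * (π t)⁻¹ = a → a = 1 := by
    intro x hx
    obtain ⟨t, ht, h1⟩ := hfix x hx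
    obtain ⟨t', rfl⟩ := hT₀ ht
    exact ⟨t', ht, h1⟩
  choose! tt htt hft using h1
  have hcompl : Compl cs h X π c (fun x => tcs π (tt x) (X x)) :=
    { map := fun x hx => map_tcs (hab x hx) (hTX _ (htt x hx) x hx) (hXr x hx) (hft x hx)
      nc := fun x hx => c_notMem_tcs hk (hab x hx) (hTX _ (htt x hx) x hx) (hft x hx) }
  refine false_of_torus' R hp hc hk hr hcompl hT₀ ?_ fun x hx y hy hxy => Or.inr (hind x hx y hy hxy)
  intro t ht z hz g hg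
  exact conj_tcs hk (hTc _ ht _ (htt z hz)) (hTX _ ht z hz) (hab z hz) (hTX _ (htt z hz) z hz) hg

end Cfsg.Agent.KFacts.Mult.Torus
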