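import Cfsg.Agent.KFacts.Mult.Torus
import Cfsg.Agent.KFacts.Mult.WeightsTwo
import Cfsg.Agent.KFacts.TwESix.Tor

/-!
# `²E₆(q)`, `q ≥ 4` even, has no perfect double cover

For `R : RGD cs isCartan 2 T n X` (type `F₄`) with `Dat R` and `T` abelian:

* `dich` : an element of `T` centralises `X x` or is fixed point free on `X x`;
* `not_cent` : no nontrivial element of `X z` (`z` long) centralises `X y`, `bf y z = -2`;
* `exists_free` : if `t ∈ T ⊓ ⟨X z, X (-z)⟩` is fixed point free on `X z`, some `t' ∈ T ⊓ ⟨X z, X (-z)⟩` is fixed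
  point free on `X y`;
* `sep` : the weights of `T` on the root groups are independent;
* `le_comm` : `X x ≤ C(X x)'`;
* `noDouble` : row `e62` of `LieND`.
-/

set_option autoImplicit false
set_option linter.unusedSectionVars false

namespace Cfsg.Agent.KFacts.Mult.TwE6Big

open CoxeterSystem Cfsg.Agent.ChevalleyStructure.CoxeterGeom Cfsg.Agent.Tits.Roots Cfsg.Agent.Tits.Core
  Cfsg.Agent.Tits.RootComb Cfsg.Agent.Tits.Exchange Cfsg.Agent.Nodes.Reps Cfsg.Agent.Nodes.BNOf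
  Cfsg.Agent.Nodes.BNOf.RGD Cfsg.Agent.Nodes.StabComb Cfsg.Agent.Nodes.Bruhat Cfsg.Agent.Nodes.OppDec
  Cfsg.Agent.Nodes.Coroot Cfsg.Agent.KFacts.RgdSL Cfsg.Agent.KFacts.RgdTI Cfsg.Agent.Nodes.Comb
  Cfsg.Agent.Nodes.RGDTwE6 Cfsg.Agent.KFacts.TwESix.Comb Cfsg.Agent.KFacts.TwESix.CombRho
  Cfsg.Agent.KFacts.TwESix.Facts Cfsg.Agent.KFacts.TwESix.Tor
  Cfsg.Agent.KFacts.MulDef Cfsg.Agent.KFacts.MulTwo Cfsg.Agent.KFacts.Mult.RelBase
open Cfsg.Lie
open scoped commutatorElement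

set_option maxRecDepth 20000 in
/-- A long root orthogonal to `x` and not to `y`. -/
theorem comb : ∀ x ∈ rts, ∀ y ∈ rts, (y = x ∨ y = -x) ∨ ∃ z ∈ rts, bf z z = 4 ∧ bf x z = 0 ∧
    (y = z ∨ (bf y z = -2 ∧ y + z ∈ rts)) := by decide +kernel

section Abs

variable {W Y : Type*} [Group W] [Group Y] {cs : CoxeterSystem CoxeterMatrix.F₄ W} {T : Subgroup Y} {n : Fin 4 → Y}
  {X : (Fin 4 → ℤ) → Subgroup Y} {R : RGD cs isCartan 2 T n X}

/-- An element of `T` centralises `X x` or is fixed point free on `X x`. -/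
theorem dich (R : RGD cs isCartan 2 T n X) (hab : ∀ s ∈ T, ∀ t ∈ T, s * t = t * s) {x : Fin 4 → ℤ}
    (hx : IsRoot cs isCartan x) {t : Y} (ht : t ∈ T) : (∀ u ∈ X x, t * u * t⁻¹ = u) ∨
      ∀ u ∈ X x, t * u * t⁻¹ = u → u = 1 := by
  by_cases h : ∀ u ∈ X x, t * u * t⁻¹ = u → u = 1
  · exact Or.inr h
  left
  push Not at h
  obtain ⟨u, hu, h1, h2⟩ := h
  intro w hw
  by_cases hw1 : w = 1
  · rw [hw1]; group
  obtain ⟨k, hk, rfl⟩ := exists_tor R hx hu h2 hw hw1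
  have h3 := hab t ht k hk
  calc t * (k * u * k⁻¹) * t⁻¹ = (t * k) * u * (t * k)⁻¹ := by group
    _ = k * (t * u * t⁻¹) * k⁻¹ := by rw [h3]; group
    _ = k * u * k⁻¹ := by rw [h1]

/-- No nontrivial element of `X z` (`z` long) centralises `X y`, `bf y z = -2`. -/
theorem not_cent (D : Dat R) {y z : Fin 4 → ℤ} (hy : IsRoot cs isCartan y) (hz : IsRoot cs isCartan z)
    (hzz : bf z z = 4) (hyz : bf y z = -2) {w : Y} (hw : w ∈ X z) (hw1 : w ≠ 1) : ∃ u ∈ X y, u * w ≠ w * u := by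
  have : Finite W := finiteW cs
  by_contra hcon
  push Not at hcon
  obtain ⟨s, hs, a, ha, b, hb, m, hm, he⟩ := exists_mu R hz hw hw1
  obtain ⟨u, hu, hu1⟩ := exists_ne_one R hy
  have hzn := hz.neg
  have hn4 : bf (-z) (-z) = 4 := by rw [bf_neg_left, bf_neg_right]; omega
  have hn2 : 0 ≤ bf y (-z) := by rw [bf_neg_right, hyz]; norm_num
  have h1 : u * a = a * u := comm_long D hy hzn hn4 hn2 hu ha
  have h2 : u * b = b * u := comm_long D hy hzn hn4 hn2 hu hb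
  have h3 := hcon u hu
  have h4 : m * u * m⁻¹ = u := by
    calc m * u * m⁻¹ = a * w * (b * u) * b⁻¹ * w⁻¹ * a⁻¹ := by rw [he]; group
      _ = a * (w * u) * w⁻¹ * a⁻¹ := by rw [← h2]; group
      _ = (a * u) * a⁻¹ := by rw [← h3]; group
      _ = u := by rw [← h1]; group
  have hcyz : cpr cs isCartan y z = -1 := by
    have := cpr_long cs y hz hzz
    rw [hyz] at this
    omega
  have h5 : rep cs isCartan s y = y + z := by rw [hs, hcyz, neg_one_smul, sub_neg_eq_add]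
  have h6 := R.conj_mem hm hy hu
  rw [h4, h5] at h6
  have hyzr : IsRoot cs isCartan (y + z) := by rw [← h5]; exact hy.act _
  have h7 := X_inf_X R hy hyzr (by
    intro h0
    exact hz.ne_zero (by simpa using h0.symm))
  have h8 : u ∈ X y ⊓ X (y + z) := ⟨hu, h6⟩
  rw [h7, Subgroup.mem_bot] at h8
  exact hu1 h8

/-- The roots between `y` and a long root `z` with `bf y z = -2`. -/
theorem btwn_cases {y z w : Fin 4 → ℤ} (hy : IsRoot cs isCartan y) (hz : IsRoot cs isCartan z)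
    (hzz : bf z z = 4) (hyz : bf y z = -2) (hw : Btwn cs isCartan y z w) : w = y + z ∨ bf w z = 0 := by
  rcases norm cs hy with h | h
  · left
    exact btwn_a2 cs hy hz (by rw [h, hzz]) (by rw [hyz, h]; norm_num) hw
  · rcases btwn_135 cs hzz h (by rw [bf_comm, hyz]) hw.symm with h1 | h1
    · left; rw [h1, add_comm]
    · right
      rw [h1, bf_add_left, bf_smul_left, hzz, hyz]; norm_num

/-- Some `t' ∈ T ⊓ ⟨X z, X (-z)⟩` is fixed point free on `X y`. -/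
theorem exists_free (D : Dat R) (hab : ∀ s ∈ T, ∀ t ∈ T, s * t = t * s) {y z : Fin 4 → ℤ}
    (hy : IsRoot cs isCartan y) (hz : IsRoot cs isCartan z) (hzz : bf z z = 4) (hyz : bf y z = -2) {t : Y}
    (ht : t ∈ T) (htz : t ∈ X z ⊔ X (-z)) (hf : ∀ w ∈ X z, w ≠ 1 → t * w * t⁻¹ ≠ w) :
    ∃ t' ∈ T, t' ∈ X z ⊔ X (-z) ∧ ∀ u ∈ X y, t' * u * t'⁻¹ = u → u = 1 := by
  have : Finite W := finiteW cs
  rcases dich R hab hy ht with h1 | h1
  swap
  · exact ⟨t, ht, htz, h1⟩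
  obtain ⟨v, hv, hv1⟩ := exists_ne_one R hz
  obtain ⟨s, hs, a, ha, b, hb, m, hm, he⟩ := exists_mu R hz hv hv1
  have hcyz : cpr cs isCartan y z = -1 := by
    have := cpr_long cs y hz hzz
    rw [hyz] at this
    omega
  have h5 : rep cs isCartan s y = y + z := by rw [hs, hcyz, neg_one_smul, sub_neg_eq_add]
  have hyzr : IsRoot cs isCartan (y + z) := by rw [← h5]; exact hy.act _
  have h2 : ∀ u ∈ X (y + z), t * u * t⁻¹ = u → u = 1 := by
    rcases dich R hab hyzr ht with h2 | h2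
    swap
    · exact h2
    exfalso
    have h3 : t * v * t⁻¹ ∈ X z := TwESix.Facts.tor_mem R hz ht hv
    obtain ⟨u, hu, hne⟩ := not_cent D hy hz hzz hyz (w := v⁻¹ * (t * v * t⁻¹)) (mul_mem (inv_mem hv) h3) (by
      intro h0
      exact hf v hv hv1 (inv_mul_eq_one.1 h0).symm)
    apply hne
    have hne1 : y ≠ z := by rintro rfl; omega
    have hne2 : y ≠ -z := by
      rintro rfl
      rw [bf_neg_left] at hyz
      omega
    have h4 := R.comm y z hy hz hne1 hne2 u hu v hv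
    have h6 : btw cs isCartan X y z ≤ Subgroup.centralizer {t} := by
      refine iSup_le fun w => ?_
      rcases btwn_cases hy hz hzz hyz w.2 with h7 | h7
      · rw [h7]
        intro g hg
        rw [Subgroup.mem_centralizer_singleton_iff]
        have := h2 g hg
        exact (mul_inv_eq_iff_eq_mul.1 this).symm
      · intro g hg
        rw [Subgroup.mem_centralizer_singleton_iff]
        exact (orth_comm R D.lr hz hzz w.2.1 h7 htz hg).symm
    have h8 := Subgroup.mem_centralizer_singleton_iff.1 (h6 h4)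
    have h9 := mul_inv_eq_iff_eq_mul.1 (h1 u hu)
    -- `⁅u, v⁆ = ⁅u, t v t⁻¹⁆`
    have h10 : u * v * u⁻¹ * v⁻¹ = u * (t * v * t⁻¹) * u⁻¹ * (t * v * t⁻¹)⁻¹ := by
      have e1 : t * ⁅u, v⁆ * t⁻¹ = ⁅u, v⁆ := by rw [← h8]; group
      have e2 : t * u * t⁻¹ = u := h1 u hu
      calc u * v * u⁻¹ * v⁻¹ = ⁅u, v⁆ := by rw [commutatorElement_def]
        _ = t * ⁅u, v⁆ * t⁻¹ := e1.symm
        _ = (t * u * t⁻¹) * (t * v * t⁻¹) * (t * u * t⁻¹)⁻¹ * (t * v * t⁻¹)⁻¹ := by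
            rw [commutatorElement_def]; group
        _ = _ := by rw [e2]
    have h11 : v * u⁻¹ * v⁻¹ = (t * v * t⁻¹) * u⁻¹ * (t * v * t⁻¹)⁻¹ := by
      have := congrArg (fun g => u⁻¹ * g) h10
      simpa [mul_assoc] using this
    have h12 : v⁻¹ * (t * v * t⁻¹) * u⁻¹ = u⁻¹ * (v⁻¹ * (t * v * t⁻¹)) := by
      calc v⁻¹ * (t * v * t⁻¹) * u⁻¹ = v⁻¹ * ((t * v * t⁻¹) * u⁻¹ * (t * v * t⁻¹)⁻¹) * (t * v * t⁻¹) := by group
        _ = v⁻¹ * (v * u⁻¹ * v⁻¹) * (t * v * t⁻¹) := by rw [h11]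
        _ = _ := by group
    calc u * (v⁻¹ * (t * v * t⁻¹)) = u * (v⁻¹ * (t * v * t⁻¹) * u⁻¹) * u := by group
      _ = u * (u⁻¹ * (v⁻¹ * (t * v * t⁻¹))) * u := by rw [h12]
      _ = v⁻¹ * (t * v * t⁻¹) * u := by group
  -- `m⁻¹ t m`
  have hmK : m ∈ X z ⊔ X (-z) := by
    rw [he]
    exact mul_mem (mul_mem (Subgroup.mem_sup_right ha) (Subgroup.mem_sup_left hv)) (Subgroup.mem_sup_right hb)
  refine ⟨m⁻¹ * t * m, ?_, mul_mem (mul_mem (inv_mem hmK) htz) hmK, fun u hu h0 => ?_⟩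
  · have h3 := (hm.inv.mul (rp_of_mem (cs := cs) (hN := R.nsys) ht)).mul hm
    rw [mul_one, inv_mul_cancel] at h3
    have h4 := h3.unique (rp_of_mem (cs := cs) (hN := R.nsys) (one_mem T))
    have h5 : m⁻¹ * t * m = ((m⁻¹ * t * m)⁻¹ * 1)⁻¹ := by group
    rw [h5]
    exact inv_mem h4
  · have h3 := R.conj_mem hm hy hu
    rw [h5] at h3
    have h4 := h2 _ h3 (by
      calc t * (m * u * m⁻¹) * t⁻¹ = m * (m⁻¹ * t * m * u * (m⁻¹ * t * m)⁻¹) * m⁻¹ := by group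
        _ = m * u * m⁻¹ := by rw [h0])
    have e : u = m⁻¹ * (m * u * m⁻¹) * m := by group
    rw [e, h4]; group

/-- **The weights of `T` on the root groups are independent.** -/
theorem sep (D : Dat R) (hab : ∀ s ∈ T, ∀ t ∈ T, s * t = t * s)
    (hT : ∀ z, IsRoot cs isCartan z → bf z z = 4 → ∃ t ∈ T ⊓ (X z ⊔ X (-z)), ∀ w ∈ X z, w ≠ 1 → t * w * t⁻¹ ≠ w)
    {x y : Fin 4 → ℤ} (hx : IsRoot cs isCartan x) (hy : IsRoot cs isCartan y) (hxy : y ≠ x) (hxy' : y ≠ -x) :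
    ∃ t ∈ T, (∀ a ∈ X x, t * a * t⁻¹ = a) ∧ ∀ b ∈ X y, t * b * t⁻¹ = b → b = 1 := by
  obtain h | ⟨z, hz, hzz, hxz, h⟩ := comb x ((mem_rts cs).1 hx) y ((mem_rts cs).1 hy)
  · rcases h with h | h
    · exact absurd h hxy
    · exact absurd h hxy'
  have hz' : IsRoot cs isCartan z := (mem_rts cs).2 hz
  obtain ⟨t, ⟨ht, htz⟩, hf⟩ := hT z hz' hzz
  have key : ∀ t ∈ X z ⊔ X (-z), ∀ a ∈ X x, t * a * t⁻¹ = a := by
    intro t ht a ha
    rw [mul_inv_eq_iff_eq_mul]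
    exact orth_comm R D.lr hz' hzz hx hxz ht ha
  rcases h with rfl | ⟨h, -⟩
  · exact ⟨t, ht, key t htz, fun b hb h0 => by_contra fun h1 => hf b hb h1 h0⟩
  · obtain ⟨t', ht', htz', hf'⟩ := exists_free D hab hy hz' hzz h ht htz hf
    exact ⟨t', ht', key t' htz', hf'⟩

/-- `X x ≤ C(X x)'`. -/
theorem le_comm (R : RGD cs isCartan 2 T n X) {x : Fin 4 → ℤ} (hx : IsRoot cs isCartan x) :
    X x ≤ ⁅Subgroup.centralizer (X x : Set Y), Subgroup.centralizer (X x : Set Y)⁆ := by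
  have : Finite W := finiteW cs
  obtain ⟨x', hx', h1, h2⟩ := nbr x ((mem_rts cs).1 hx)
  have hx'' : IsRoot cs isCartan x' := (mem_rts cs).2 hx'
  have hA := a2 cs hx'' hx h1 h2
  have n1 : bf (-x') (-x') = bf x' x' := by rw [bf_neg_left, bf_neg_right, neg_neg]
  have n2 : bf (x' + x) (x' + x) = bf x' x' := by
    rw [bf_add_left, bf_add_right, bf_add_right, bf_comm x x']; omega
  have hB := a2 cs hx''.neg hA.rxy (by rw [n1, n2]) (by
    rw [n1, bf_neg_left, bf_add_right]; omega)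
  have e : -x' + (x' + x) = x := by abel
  obtain ⟨u, hu, hu1⟩ := exists_ne_one R hx''.neg
  intro w hw
  obtain ⟨v, hv, hv'⟩ := hB.comm_surj R hu hu1 (w := w) (by rw [e]; exact hw)
  rw [← hv']
  refine Subgroup.commutator_mem_commutator (Subgroup.mem_centralizer_iff.2 fun g hg => ?_)
    (Subgroup.mem_centralizer_iff.2 fun g hg => ?_)
  · exact hB.comm_left R (by rw [e]; exact hg) hu
  · exact hB.comm_right R (by rw [e]; exact hg) hv

end Abs

/-- **`²E₆(2^a)`, `a ≥ 2`, has no perfect double cover.** -/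
theorem noDouble (F : Type) [Field F] [Fintype F] (a : ℕ) (ha : 2 ≤ a) (hF : Fintype.card F = 4 ^ a) :
    NoDouble ↥(Lie.twistedE6 F (2 ^ a)) := by
  classical
  have hF' : Fintype.card F = (2 ^ a) ^ 2 := by
    rw [hF, ← pow_mul, mul_comm a 2, pow_mul]; norm_num
  have hq2 : 2 < 2 ^ a := by
    calc 2 < 2 ^ 2 := by norm_num
      _ ≤ 2 ^ a := Nat.pow_le_pow_right (by norm_num) ha
  have hq : IsPrimePow (2 ^ a) := Nat.prime_two.isPrimePow.pow (by omega)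
  have : Fact (Nat.Prime 2) := ⟨Nat.prime_two⟩
  have hchar : CharP F 2 := by
    obtain ⟨p, hp⟩ := CharP.exists F
    obtain ⟨m, hpp, hcard⟩ := FiniteField.card F p
    have h1 : p ∣ (2 ^ a) ^ 2 := by
      rw [← hF', hcard]
      exact dvd_pow_self _ m.ne_zero
    have h2 : p = 2 := (Nat.prime_dvd_prime_iff_eq hpp Nat.prime_two).1
      (hpp.dvd_of_dvd_pow (hpp.dvd_of_dvd_pow h1))
    rwa [h2] at hp
  obtain ⟨φ, hφ, hqq⟩ := ChevalleyStructure.TwE6Basic.exists_frob hq hF'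
  intro L _ _ π c hD
  let cs : CoxeterSystem CoxeterMatrix.F₄ CoxeterMatrix.F₄.Group := CoxeterMatrix.F₄.toCoxeterSystem
  have : Finite CoxeterMatrix.F₄.Group := finiteW cs
  have : Finite ↥(Lie.twistedE6 F (2 ^ a)) := Finite.of_surjective _ hD.surj
  have D := TwESix.Dat.dat cs hφ hqq hF' (by omega : 1 < 2 ^ a)
  have hk : Ker2 π c :=
    { ker := fun g hg => (hD.ker g).1 hg
      map_c := (hD.ker c).2 (Or.inr rfl)
      cen := hD.cen
      ne := hD.ne }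
  have hrange : π.range = ⊤ := MonoidHom.range_eq_top.2 hD.surj
  have hGG : GG cs isCartan (Nodes.RGDTwE6.T F (2 ^ a)) (Nodes.RGDTwE6.X φ (2 ^ a)) = ⊤ := by
    rw [eq_top_iff, ← Nodes.RGDTwE6.G1_eq_top cs hφ hqq]
    exact le_sup_right
  have hT : ∀ z, IsRoot cs isCartan z → bf z z = 4 →
      ∃ t ∈ Nodes.RGDTwE6.T F (2 ^ a) ⊓ (Nodes.RGDTwE6.X φ (2 ^ a) z ⊔ Nodes.RGDTwE6.X φ (2 ^ a) (-z)),
        ∀ w ∈ Nodes.RGDTwE6.X φ (2 ^ a) z, w ≠ 1 → t * w * t⁻¹ ≠ w :=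
    fun z hz hl => hne cs hφ hqq hF' hq2 hz hl
  have hR := rgd cs hφ hqq 2
  refine Torus.false_of_torus hR rfl hD.toCtr hk (by rw [hGG]; exact le_top)
    (fun x _ => by rw [hrange]; exact le_top) (T₀ := (Nodes.RGDTwE6.T F (2 ^ a) : Set _))
    (by rw [hrange]; exact fun _ _ => Subgroup.mem_top _) (fun t ht s hs => T_comm t ht s hs)
    (fun t ht x hx a ha => TwESix.Facts.tor_mem hR hx.1 ht ha) (fun x hx a b ha hb => ?_) (fun x hx => ?_)
    (fun x hx y hy hxy => ?_)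
  · exact WeightsTwo.comm_of_le_commutator hD (le_comm hR hx.1) ha hb
  · obtain ⟨x', hx', h1, h2⟩ := nbr x ((mem_rts cs).1 hx.1)
    obtain ⟨t, ht, -, hf⟩ := sep D T_comm hT ((mem_rts cs).2 hx') hx.1 (by
      rintro rfl
      rcases norm cs hx.1 with h | h <;> omega) (by
      rintro rfl
      rw [bf_neg_right] at h2
      rw [bf_neg_left, bf_neg_right] at h1
      rcases norm cs hx.1 with h | h <;> rw [bf_neg_left, bf_neg_right] at h <;> omega)
    exact ⟨t, ht, hf⟩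
  · exact sep D T_comm hT hx.1 hy.1 hxy.symm (by
      rintro rfl
      exact hx.1.not_pos_neg hx.2 (neg_nonneg.1 hy.2))

end Cfsg.Agent.KFacts.Mult.TwE6Big
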