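import Cfsg.Agent.KFacts.Mult.FoldW
import Cfsg.Agent.Nodes.RGDTwNode

/-!
# ²E₆(q), q = 2^a ≥ 4, has no perfect double cover
-/

set_option autoImplicit false
set_option linter.unusedSectionVars false
set_option maxHeartbeats 400000

namespace Cfsg.Agent.KFacts.Mult.TwESixBig

open Subgroup Cfsg.Agent.KFacts.MulDef Cfsg.Agent.KFacts.MulTwo Cfsg.Agent.KFacts.Mult.WeightsTwo
  Cfsg.Agent.KFacts.Mult.RGDW Cfsg.Agent.KFacts.Mult.Num Cfsg.Agent.KFacts.Mult.FoldW
open CoxeterSystem Cfsg.Agent.ChevalleyStructure.CoxeterGeom Cfsg.Agent.Tits.Roots Cfsg.Agent.Tits.Core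
  Cfsg.Agent.Nodes.BNOf Cfsg.Agent.Nodes.RGDTwGen Cfsg.Agent.Nodes.RGDChev Cfsg.Agent.Nodes.RGDFold
  Cfsg.Agent.Nodes.RGDFoldSL
open Cfsg.Lie Cfsg.Agent.ChevalleyStructure Cfsg.Agent.ChevalleyStructure.Elts
  Cfsg.Agent.ChevalleyStructure.TwistedU Cfsg.Agent.ChevalleyStructure.TwistedFix
open Cfsg.Agent.Nodes.RGDTwE6 (foldData foldGrp hp J A isCartan)
open Cfsg.Agent.Nodes.RGDTwNode.E6 (rep rest nodeOK eps_one)
open Cfsg.Agent.ChevalleyStructure.TwE6Basic (sg fix exists_frob)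

universe u

theorem sep : sepB chevE6 J TwistedE6U.L = true := by decide +kernel
theorem clsOK : clsB chevE6 J TwistedE6U.L = true := by decide +kernel
theorem filOK : filB TwistedE6U.L = true := by decide +kernel
theorem two : ∃ r ∈ TwistedE6U.L.flatten, ∃ s ∈ TwistedE6U.L.flatten, V chevE6 J r ≠ V chevE6 J s := by decide +kernel
theorem cb0 : Chev.commB chevE6 46 71 1 = true := by decide +kernel
theorem cb1 : Chev.commB chevE6 39 70 2 = true := by decide +kernel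
theorem rho_fixed : ∀ r ∈ [71, 1, 70, 2], TwistedE6Sigma.rho r = r ∧ r < chevE6.nroots := by decide +kernel

section

variable {K : Type u} [Field K] [Fintype K] [CharP K 2] {q : ℕ} {φ : K →+* K}

theorem eps_cast (r : Fin 72) : ((TwistedE6Sigma.eps r : ℤ) : K) = 1 := by
  have h := TwistedE6Sigma.eps_sq r r.2
  rcases mul_self_eq_one_iff.1 h with h1 | h1 <;> rw [h1]
  · simp
  · simp [CharTwo.neg_eq]

/-- long root elements -/
theorem long_mem (hφ : ∀ x, φ x = x ^ q) (hqq : ∀ t : K, (t ^ q) ^ q = t) {r : ℕ} (hr : r ∈ [71, 1, 70, 2])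
    {a : K} (ha : φ a = a) : xG (F := K) hp.inList r a ∈ twistedE6 K q := by
  have : Fact (Nat.Prime 2) := ⟨Nat.prime_two⟩
  obtain ⟨h1, h2⟩ := rho_fixed r hr
  have hroot : IsRoot (CoxeterMatrix.F₄.toCoxeterSystem) isCartan (V chevE6 J r) :=
    (foldData.isRoot_iff hp.checked (fun i r hr => wp_lt hp (J i) hr) _).2 ⟨r, h2, rfl⟩
  refine R_le CoxeterMatrix.F₄.toCoxeterSystem isCartan foldData (foldGrp hφ hqq) 2 hroot ?_
  refine ⟨mem_rspan (xG hp.inList) (S := {k | k < chevE6.nroots ∧ V chevE6 J k = V chevE6 J r}) ⟨h2, rfl⟩ a, ?_⟩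
  show sg φ (xG hp.inList r a) = xG hp.inList r a
  have h3 : sg φ (xG hp.inList r a) = xG hp.inList (TwistedE6Sigma.rho r) (((TwistedE6Sigma.eps r : ℤ) : K) * φ a) :=
    TwistedE6U.sig_X φ h2 a
  rw [h1] at h3
  have h4 := eps_cast (K := K) ⟨r, h2⟩
  simp only at h4
  rw [h3, h4, one_mul, ha]

theorem abPre (hφ : ∀ x, φ x = x ^ q) (hqq : ∀ t : K, (t ^ q) ^ q = t) (hq : 4 < Nat.card K) (i : Fin 4) :
    AbPre ((R chevE6 hp K J (sg φ) (sr i)).subgroupOf (twistedE6 K q)) := by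
  have hf : ∀ i : Fin 4, ∀ s ∈ rep i :: rest i, ∀ t, (fun r t => ((TwistedE6Sigma.eps r : ℤ) : K) * φ t) s t = φ t := by
    intro i s hs t
    show ((TwistedE6Sigma.eps s : ℤ) : K) * φ t = φ t
    rw [eps_one i s hs, Int.cast_one, one_mul]
  have FG := foldGrp (K := K) hφ hqq
  have long : ∀ (i : Fin 4) (z : ℕ), rep i = z → rest i = [] → ∀ v ∈ (R chevE6 hp K J (sg φ) (sr i)).subgroupOf
      (twistedE6 K q), ∃ a, φ a = a ∧ (v : GL chevE6.Idx K) = xG hp.inList z a := by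
    intro i z hz ho v hv
    obtain ⟨a, ha, e⟩ := (mem_R_iff FG (nodeOK i) (hf i) (v : GL chevE6.Idx K)).1 hv
    rw [hz, ho] at e
    rw [ho] at ha
    refine ⟨a, ha, e.trans ?_⟩
    show xG hp.inList z a * 1 = _
    rw [mul_one]
  have hneg : ∀ a : K, φ a = a → φ (-a) = -a := fun a ha => by rw [map_neg, ha]
  have short : ∀ i : Fin 4, (rest i).length = 1 → AbPre ((R chevE6 hp K J (sg φ) (sr i)).subgroupOf
      (twistedE6 K q)) := by
    intro i hi
    refine abPre_field FG (nodeOK i) (hf i) ?_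
    have h1 : Fx φ ((rest i).length + 1) = ⊤ := by
      rw [hi, eq_top_iff]
      intro t _
      rw [mem_Fx]
      show φ (φ t) = t
      rw [hφ, hφ, hqq]
    rw [h1]
    have h2 : Nat.card (⊤ : Subfield K) = Nat.card K := Nat.card_congr Subfield.topEquiv.toEquiv
    rw [h2]; exact hq
  fin_cases i
  · exact abPre_commB (hp := hp) (q0 := fun a => φ a = a) (z := 46) (r := 71) (s := 1) (by decide +kernel) cb0 (long 0 46 rfl rfl)
      (map_one φ) hneg (fun a ha => long_mem hφ hqq (by decide) ha) (fun a ha => long_mem hφ hqq (by decide) ha)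
  · exact abPre_commB (hp := hp) (q0 := fun a => φ a = a) (z := 39) (r := 70) (s := 2) (by decide +kernel) cb1 (long 1 39 rfl rfl)
      (map_one φ) hneg (fun a ha => long_mem hφ hqq (by decide) ha) (fun a ha => long_mem hφ hqq (by decide) ha)
  · exact short 2 rfl
  · exact short 3 rfl

end

/-- **²E₆(q) has no perfect double cover**, `q = 2^a ≥ 4`. -/
theorem noDouble {K : Type u} [Field K] [Fintype K] {a : ℕ} (ha : 2 ≤ a) (hK : Fintype.card K = (2 ^ a) ^ 2) :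
    NoDouble ↥(twistedE6 K (2 ^ a)) := by
  have hK' : Fintype.card K = 2 ^ (a * 2) := by rw [hK, ← pow_mul]
  haveI := Fact.mk Nat.prime_two
  have hc : CharP K 2 := charP_of_card_eq_prime_pow hK'
  have hqp : IsPrimePow (2 ^ a) := Nat.prime_two.isPrimePow.pow (by omega)
  obtain ⟨φ, hφ, hqq⟩ := exists_frob hqp hK
  have hcK : Nat.card K = (2 ^ a) ^ 2 := by rw [Nat.card_eq_fintype_card, hK]
  have h4 : 2 ^ 2 ≤ 2 ^ a := Nat.pow_le_pow_right (by norm_num) ha
  have hodd : Odd (2 ^ a - 1) :=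
    Nat.Even.sub_odd (by omega) (even_two.pow_of_ne_zero (by omega)) odd_one
  obtain ⟨p, hp', hpq⟩ := Nat.exists_prime_and_dvd (n := 2 ^ a - 1) (by omega)
  have hpodd : Odd p := Odd.of_dvd_nat hodd hpq
  haveI := Fact.mk hp'
  have hdiv : 2 ^ a - 1 ∣ (2 ^ a) ^ 2 - 1 := by simpa using Nat.sub_dvd_pow_sub_pow (2 ^ a) 1 2
  obtain ⟨b, hb0, hb⟩ := exists_orderOf (K := K) (p := p) (by rw [hcK]; exact hpq.trans hdiv)
  have hbq : b ^ (2 ^ a - 1) = 1 := orderOf_dvd_iff_pow_eq_one.1 (hb ▸ hpq)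
  have hφb : φ b = b := by
    rw [hφ]
    have : 2 ^ a = (2 ^ a - 1) + 1 := by omega
    rw [this, pow_succ, hbq, one_mul]
  refine noDouble_of_fold isCartan foldData (foldGrp hφ hqq) hpodd hb0 hb hφb two sep clsOK filOK ?_
    (abPre hφ hqq (by rw [hcK]; nlinarith))
  intro i
  refine ⟨rep i, rest i, nodeOK i, fun s hs t => ?_⟩
  show ((TwistedE6Sigma.eps s : ℤ) : K) * φ t = φ t
  rw [eps_one i s hs, Int.cast_one, one_mul]

/-- **The row `e62`.** -/
theorem e62 : ∀ (F : Type) [Field F] [Fintype F] (a : ℕ), 2 ≤ a → Fintype.card F = 4 ^ a →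
    NoDouble ↥(twistedE6 F (2 ^ a)) := by
  intro F _ _ a ha hF
  have hF' : Fintype.card F = (2 ^ a) ^ 2 := by
    rw [hF, ← pow_mul, mul_comm, pow_mul]; norm_num
  exact noDouble ha hF'

end Cfsg.Agent.KFacts.Mult.TwESixBig
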