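import Cfsg.Agent.KFacts.Mult.TwESixArms
import Cfsg.Agent.BabyU.FusFinal
import Cfsg.Agent.TwoESix.LeviHyp
import Cfsg.Agent.TwoESix.LeviG
import Cfsg.Agent.TwoESix.RootsInst
import Cfsg.Agent.TwoESix.ExtTwisted
import Cfsg.Agent.TwoESix.GoodInst
import Cfsg.Agent.BM.HBFinal

/-!
# Automorphisms of `2².²E₆(2)`

`K` is a finite perfect central extension of `²E₆(2)` by a 2-group of order 4.  An automorphism of `K` acting trivially
on the kernel is inner (`inner`, `center_inner`).
-/

set_option autoImplicit false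

namespace Cfsg.Agent.KFacts.Mult.TwESixInner

open Subgroup Cfsg Cfsg.Lie Cfsg.Agent.TwoESix Cfsg.Agent.TwoESix.Cox10 Cfsg.Agent.TwoESix.Lift
open Cfsg.Agent.R01.Lifts Cfsg.Agent.BabyU Cfsg.Agent.BabyU.OutCount Cfsg.Agent.BabyU.OutFree
open Cfsg.Agent.KFacts.Mult.TwESixLift Cfsg.Agent.KFacts.Mult.TwESixArms

universe u v

/-- **Automorphisms of `2².²E₆(2)` acting trivially on the kernel are inner.** -/
theorem inner {F : Type v} [Field F] [Fintype F] (hF : Fintype.card F = 4) {K : Type u} [Group K] [Finite K]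
    (hperf : commutator K = ⊤) {π : K →* twistedE6 F 2} (hs : Function.Surjective π) (hc : π.ker ≤ center K)
    (hp : IsPGroup 2 π.ker) (h4 : Nat.card π.ker = 4) (α : MulAut K) (hα : ∀ z, π z = 1 → α z = z) :
    ∃ k : K, ∀ x, α x = k * x * k⁻¹ := by
  have hcard : ∀ (Y : Type u) [Group Y] (y : Fin 10 → Y), Good y → closure (Set.range y) = ⊤ →
      Nat.card Y ≤ Nat.card (twistedE6 F 2) := fun Y _ y hy hty => by
    rw [BM.HBFinal.card_E F hF]; exact (BM.HBFinal.card_le hy hty).2
  obtain ⟨e, r, he, hgen, hr, -, hcl⟩ := GoodInst.exists_good F hF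
  have heT : ∀ i, e i ∈ rootClass F := fun i => by
    obtain ⟨g, hg⟩ := hcl i
    exact ⟨g, r, hr, hg⟩
  have B0 := ExtTwisted.basic F hF
  have hF2 : Fintype.card F = 2 ^ 2 := hF
  have H : OutCount.Hyp hF2 (rootClass F) := LeviHyp.outHyp (LeviG.rootFacts hF hF2) B0.opp_trans
  have : Finite (twistedE6 F 2) := Finite.of_surjective π hs
  obtain ⟨hel, -⟩ := TwESixLift.main he hgen hcard hperf hs hc hp
  have hk : ∀ x, π x = 1 ↔ π (α x) = 1 := by
    intro x
    constructor
    · intro h; rw [hα x h]; exact h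
    · intro h
      have h1 := hα _ h
      have h2 := α.injective h1
      rw [← h2]; exact h
  exact inner' hcard hperf ⟨hs, hc, hel, h4⟩ (FusFinal.exists_not_commute (RootsInst.roots F hF)) H
    ⟨he, hgen⟩ heT α hα fun x => (ExtTwisted.cover_auto B0 hs α hk x).1

/-- **The same for a group with centre of order 4.** -/
theorem center_inner {K : Type u} [Group K] [Finite K] (hperf : commutator K = ⊤)
    (h4 : Nat.card ↥(center K) = 4)
    (hX : ∃ (F : Type) (_ : Field F) (_ : Fintype F), Fintype.card F = 4 ∧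
      Nonempty (K ⧸ center K ≃* ↥(Lie.twistedE6 F 2))) (α : MulAut K) (hα : ∀ z ∈ center K, α z = z) :
    ∃ k : K, ∀ x, α x = k * x * k⁻¹ := by
  obtain ⟨F, _, _, hF, ⟨f⟩⟩ := hX
  let π : K →* Lie.twistedE6 F 2 := f.toMonoidHom.comp (QuotientGroup.mk' (center K))
  have hker : π.ker = center K := by
    ext x
    rw [MonoidHom.mem_ker]
    show f (QuotientGroup.mk' (center K) x) = 1 ↔ _
    rw [map_eq_one_iff f f.injective, QuotientGroup.mk'_apply, QuotientGroup.eq_one_iff]
  have hs : Function.Surjective π := f.surjective.comp (QuotientGroup.mk'_surjective _)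
  have hp : IsPGroup 2 π.ker := IsPGroup.of_card (n := 2) (by rw [hker, h4]; norm_num)
  refine inner hF hperf hs hker.le hp (by rw [hker]; exact h4) α fun z hz => hα z ?_
  rw [← hker]; exact hz

end Cfsg.Agent.KFacts.Mult.TwESixInner
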