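import Cfsg.Agent.TwoESix.Lift

/-!
# The 2-part of the Schur multiplier of ²E₆(2): the abstract part

`E` is a finite group generated by ten elements `e` with `Lift.Good e` (Coxeter relations of `Y₃₃₃`, spider relation,
`E₇` relations) such that every group generated by ten elements with `Good` has order at most `|E|`.  `π : X → E` is
surjective, `X` finite perfect, `ker π` a central 2-group.  Then (`main`) `ker π` is elementary abelian of order
dividing 4.

* `step`, `exists_lift`: the nodes lift through central 2-extensions with the exact Coxeter relations, the spider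
  relation and `W231 ^ 9 = 1`; then `W321 ^ 9` and `W213 ^ 9` are central of exponent two.
-/

set_option autoImplicit false
set_option linter.style.haveILetI false

namespace Cfsg.Agent.KFacts.Mult.TwESixLift

open Subgroup Cfsg.Agent.TwoESix.Cox10 Cfsg.Agent.TwoESix.Lift Cfsg.Agent.R01.Lifts
open scoped commutatorElement

universe u v

/-- The relations which lift. -/
structure WGood {G : Type*} [Group G] (s : Fin 10 → G) : Prop where
  lift : M10.IsLiftable s
  spider : ev s spider ^ 10 = 1
  e231 : ev s W231 ^ 9 = 1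

theorem WGood.of_good {G : Type*} [Group G] {s : Fin 10 → G} (h : Good s) : WGood s :=
  ⟨h.lift, h.spider, h.e231⟩

theorem WGood.map {G H : Type*} [Group G] [Group H] {s : Fin 10 → G} (h : WGood s) (f : G →* H) :
    WGood (fun i => f (s i)) := by
  refine ⟨fun i j => ?_, ?_, ?_⟩
  · show (f (s i) * f (s j)) ^ _ = 1
    rw [← map_mul, ← map_pow]
    have := h.lift i j
    rw [this, map_one]
  · rw [← ev_map, ← map_pow, h.spider, map_one]
  · rw [← ev_map, ← map_pow, h.e231, map_one]

section Step

variable {M E : Type*} [Group M] [Group E] {π : M →* E} {z : M}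

/-- Lifts with the exact Coxeter and spider relations. -/
theorem exists_cox' (h : Ext π z) {e : Fin 10 → E} (he : WGood e) :
    ∃ m : Fin 10 → M, (∀ i, π (m i) = e i) ∧ M10.IsLiftable m ∧ ev m spider ^ 10 = 1 := by
  obtain ⟨m, hm, hb⟩ := exists_braids h he.lift
  have h132 : ev e W132 ^ 9 = 1 := by rw [W231_eq he.lift he.spider]; exact he.e231
  have hc := comm_lift h he.lift h132 hm hb
  have hsq := sq_lift h h132 he.lift hm hb hc
  have hl : M10.IsLiftable m := by
    intro i j
    show (m i * m j) ^ lab i j = 1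
    rcases lab_cases i j with ⟨h1, rfl⟩ | h1 | h1
    · rw [h1, pow_one]; exact hsq i
    · rw [h1, (hc i j h1).mul_pow, pow_two, pow_two, hsq, hsq, one_mul]
    · rw [h1]
      have hbb := hb i j (adj_of_lab i j h1)
      calc (m i * m j) ^ 3 = (m i * m j * m i) * (m j * m i * m j) := by
            simp only [pow_succ, pow_zero, one_mul, mul_assoc]
        _ = (m j * m i * m j) * (m j * m i * m j) := by rw [hbb]
        _ = m j * m i * (m j * m j) * m i * m j := by group
        _ = m j * (m i * m i) * m j := by rw [hsq j]; group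
        _ = 1 := by rw [hsq i, mul_one, hsq j]
  refine ⟨m, hm, hl, ?_⟩
  have hπ : π (ev m spider ^ 10) = 1 := by
    rw [map_pow, ev_map, ← he.spider]
    congr 2
    funext i; exact hm i
  rcases (h.ker _).1 hπ with h1 | h1
  · exact h1
  · apply spider_eq_one hl
    · intro g; rw [h1]; exact (h.comm g).symm
    · rw [h1, h.zz]

/-- One step. -/
theorem step (h : Ext π z) {e : Fin 10 → E} (he : WGood e) : ∃ m : Fin 10 → M, (∀ i, π (m i) = e i) ∧ WGood m := by
  obtain ⟨m, hm, hl, hsp⟩ := exists_cox' h he
  have hw : π (ev m W231 ^ 9) = 1 := by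
    rw [map_pow, ev_map, ← he.e231]
    congr 2
    funext i; exact hm i
  rcases (h.ker _).1 hw with h1 | h1
  · exact ⟨m, hm, hl, hsp, h1⟩
  · refine ⟨fun i => m i * z, fun i => by rw [map_mul, h.mapz, mul_one]; exact hm i, lift_mul_z h hl,
      spider_mul_z h hsp, ?_⟩
    have l2 : W231.length = 7 := rfl
    rw [ev7_mul_z h m l2, h1, h.zz]

end Step

/-- The quotient by a central involution. -/
theorem ext_mk {X : Type*} [Group X] {z : X} (hz : orderOf z = 2) (hc : z ∈ center X) [(zpowers z).Normal] :
    Ext (QuotientGroup.mk' (zpowers z)) z := by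
  have hzz : z * z = 1 := by rw [← pow_two, ← hz, pow_orderOf_eq_one]
  refine ⟨QuotientGroup.mk'_surjective _, hzz, ?_, ?_, fun c => mem_center_iff.1 hc c⟩
  · rintro rfl
    rw [orderOf_one] at hz
    exact absurd hz (by norm_num)
  · intro c
    rw [QuotientGroup.mk'_apply, QuotientGroup.eq_one_iff]
    constructor
    · intro h
      obtain ⟨k, rfl⟩ := mem_zpowers_iff.1 h
      rcases Int.even_or_odd k with ⟨l, rfl⟩ | ⟨l, rfl⟩
      · left
        rw [← two_mul, zpow_mul, zpow_ofNat, pow_two, hzz, one_zpow]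
      · right
        rw [zpow_add, zpow_mul, zpow_ofNat, pow_two, hzz, one_zpow, one_mul, zpow_one]
    · rintro (rfl | rfl)
      · exact one_mem _
      · exact mem_zpowers _

theorem normal_of_le_center {X : Type*} [Group X] {N : Subgroup X} (h : N ≤ center X) : N.Normal := by
  refine ⟨fun n hn g => ?_⟩
  have := mem_center_iff.1 (h hn) g
  rw [this, mul_assoc, mul_inv_cancel, mul_one]
  exact hn

/-- **Lifts through a central 2-extension.** -/
theorem exists_lift {E : Type v} [Group E] {e : Fin 10 → E} (he : WGood e) :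
    ∀ (n : ℕ) (X : Type u) [Group X] [Finite X] (π : X →* E), Nat.card X ≤ n → Function.Surjective π →
      π.ker ≤ center X → IsPGroup 2 π.ker → ∃ m : Fin 10 → X, (∀ i, π (m i) = e i) ∧ WGood m := by
  intro n
  induction n with
  | zero =>
    intro X _ _ π hn
    have := Nat.card_pos (α := X)
    omega
  | succ n ih =>
    intro X _ _ π hn hs hc hp
    by_cases hk : π.ker = ⊥
    · have hb : Function.Bijective π := ⟨(MonoidHom.ker_eq_bot_iff π).1 hk, hs⟩
      let f : X ≃* E := MulEquiv.ofBijective π hb
      refine ⟨fun i => f.symm (e i), fun i => ?_, he.map f.symm.toMonoidHom⟩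
      exact f.apply_symm_apply (e i)
    · haveI : Fact (Nat.Prime 2) := ⟨Nat.prime_two⟩
      have hnt : Nontrivial π.ker := (Subgroup.nontrivial_iff_ne_bot _).2 hk
      have h2 : 2 ∣ Nat.card π.ker := by
        obtain ⟨k, hk1, hk2⟩ := hp.nontrivial_iff_card.1 hnt
        rw [hk2]
        exact dvd_pow_self 2 (by omega)
      obtain ⟨⟨z, hzk⟩, hz⟩ := exists_prime_orderOf_dvd_card' (G := π.ker) 2 h2
      rw [Subgroup.orderOf_mk] at hz
      have hzc : z ∈ center X := hc hzk
      have hNc : zpowers z ≤ center X := zpowers_le.2 hzc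
      haveI hN : (zpowers z).Normal := normal_of_le_center hNc
      have hext := ext_mk hz hzc
      have hNk : zpowers z ≤ π.ker := zpowers_le.2 hzk
      let π' : X ⧸ zpowers z →* E := QuotientGroup.lift (zpowers z) π hNk
      have hπ' : ∀ x, π' (QuotientGroup.mk' (zpowers z) x) = π x := fun x => rfl
      have hcard : Nat.card X = Nat.card (X ⧸ zpowers z) * 2 := by
        rw [Subgroup.card_eq_card_quotient_mul_card_subgroup (zpowers z), Nat.card_zpowers, hz]
      have hpos := Nat.card_pos (α := X ⧸ zpowers z)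
      obtain ⟨m', hm', hw'⟩ := ih (X ⧸ zpowers z) π' (by omega) (by
          intro y
          obtain ⟨x, rfl⟩ := hs y
          exact ⟨QuotientGroup.mk' (zpowers z) x, hπ' x⟩) (by
          intro y hy
          obtain ⟨x, rfl⟩ := QuotientGroup.mk'_surjective (zpowers z) y
          have hx : x ∈ center X := hc (by rw [MonoidHom.mem_ker, ← hπ' x]; exact hy)
          rw [mem_center_iff]
          intro g
          obtain ⟨g, rfl⟩ := QuotientGroup.mk'_surjective (zpowers z) g
          rw [← map_mul, ← map_mul, mem_center_iff.1 hx g]) (by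
          rintro ⟨y, hy⟩
          obtain ⟨x, rfl⟩ := QuotientGroup.mk'_surjective (zpowers z) y
          have hx : x ∈ π.ker := by rw [MonoidHom.mem_ker, ← hπ' x]; exact hy
          obtain ⟨k, hk⟩ := hp ⟨x, hx⟩
          refine ⟨k, Subtype.ext ?_⟩
          have h1 : x ^ 2 ^ k = 1 := congrArg Subtype.val hk
          show (QuotientGroup.mk' (zpowers z) x) ^ 2 ^ k = 1
          rw [← map_pow, h1, map_one])
      obtain ⟨m, hm, hw⟩ := step hext hw'
      refine ⟨m, fun i => ?_, hw⟩
      rw [← hπ', hm, hm']

theorem chk_sq3 : chk (rep 9 W213 ++ rep 9 W213) [] = true := by decide +kernel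

/-- The square of the ninth power. -/
theorem sq_of_chk {G : Type*} [Group G] {s : Fin 10 → G} (hs : M10.IsLiftable s) {w : List (Fin 10)}
    (h : chk (rep 9 w ++ rep 9 w) [] = true) : ev s w ^ 9 * ev s w ^ 9 = 1 := by
  have := ev_eq_ev hs h
  rwa [ev_append, ev_rep, ev_nil] at this

theorem commutator_mem_of {X : Type*} [Group X] {H : Subgroup X} {a b : X} (ha : a ∈ H) (hb : b ∈ H) :
    ⁅a, b⁆ ∈ H := by
  rw [commutatorElement_def]
  exact H.mul_mem (H.mul_mem (H.mul_mem ha hb) (H.inv_mem ha)) (H.inv_mem hb)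

/-- Perfect central extensions are generated by lifts of generators. -/
theorem closure_eq_top {X E : Type*} [Group X] [Group E] {π : X →* E} (hc : π.ker ≤ center X)
    (hperf : commutator X = ⊤) {ι : Type*} {m : ι → X}
    (hgen : closure (Set.range fun i => π (m i)) = ⊤) : closure (Set.range m) = ⊤ := by
  rw [eq_top_iff, ← hperf, _root_.commutator_def, commutator_le]
  have key : ∀ x : X, ∃ y ∈ closure (Set.range m), ∃ k : X, (∀ g, k * g = g * k) ∧ x = y * k := by
    intro x
    have h1 : π x ∈ (closure (Set.range m)).map π := by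
      rw [MonoidHom.map_closure, ← Set.range_comp]
      show π x ∈ closure (Set.range fun i => π (m i))
      rw [hgen]; exact mem_top _
    obtain ⟨y, hy, hyx⟩ := h1
    refine ⟨y, hy, y⁻¹ * x, fun g => ?_, by group⟩
    have hk : y⁻¹ * x ∈ center X := hc (by rw [MonoidHom.mem_ker, map_mul, map_inv, hyx, inv_mul_cancel])
    exact (mem_center_iff.1 hk g).symm
  intro a _ b _
  obtain ⟨y, hy, k, hk, rfl⟩ := key a
  obtain ⟨y', hy', k', hk', rfl⟩ := key b
  have hki : ∀ g, k⁻¹ * g = g * k⁻¹ := fun g => by
    have := hk g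
    calc k⁻¹ * g = k⁻¹ * (g * k) * k⁻¹ := by group
      _ = k⁻¹ * (k * g) * k⁻¹ := by rw [this]
      _ = g * k⁻¹ := by group
  have : ⁅y * k, y' * k'⁆ = ⁅y, y'⁆ := by
    rw [commutatorElement_def, commutatorElement_def]
    calc y * k * (y' * k') * (y * k)⁻¹ * (y' * k')⁻¹
        = y * (k * (y' * k')) * k⁻¹ * y⁻¹ * (k'⁻¹ * y'⁻¹) := by group
      _ = y * ((y' * k') * k) * k⁻¹ * y⁻¹ * (k'⁻¹ * y'⁻¹) := by rw [hk]
      _ = y * y' * (k' * y⁻¹) * k'⁻¹ * y'⁻¹ := by group
      _ = y * y' * (y⁻¹ * k') * k'⁻¹ * y'⁻¹ := by rw [hk']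
      _ = y * y' * y⁻¹ * y'⁻¹ := by group
  rw [this]
  exact commutator_mem_of hy hy'

/-- **The kernel.** -/
theorem main {E : Type v} [Group E] {e : Fin 10 → E} (he : Good e) (hgen : closure (Set.range e) = ⊤)
    {X : Type u} [Group X] [Finite X]
    (hcard : ∀ (Y : Type u) [Group Y] (y : Fin 10 → Y), Good y → closure (Set.range y) = ⊤ →
      Nat.card Y ≤ Nat.card E)
    (hperf : commutator X = ⊤) {π : X →* E} (hs : Function.Surjective π) (hc : π.ker ≤ center X)
    (hp : IsPGroup 2 π.ker) : (∀ z, π z = 1 → z * z = 1) ∧ Nat.card π.ker ∣ 4 := by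
  obtain ⟨m, hm, hw⟩ := exists_lift (WGood.of_good he) (Nat.card X) X π le_rfl hs hc hp
  have hme : (fun i => π (m i)) = e := funext hm
  have htop : closure (Set.range m) = ⊤ := closure_eq_top hc hperf (by rw [hme]; exact hgen)
  -- the central elements
  have hk1 : π (ev m W321 ^ 9) = 1 := by rw [map_pow, ev_map, hme]; exact he.e321
  have hk3 : π (ev m W213 ^ 9) = 1 := by rw [map_pow, ev_map, hme]; exact he.e213
  have hs1 : ev m W321 ^ 9 * ev m W321 ^ 9 = 1 := sq_of_chk hw.lift chk_sq1
  have hs3 : ev m W213 ^ 9 * ev m W213 ^ 9 = 1 := sq_of_chk hw.lift chk_sq3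
  set w1 := ev m W321 ^ 9 with hw1
  set w3 := ev m W213 ^ 9 with hw3
  have hc1 : ∀ g, g * w1 = w1 * g := mem_center_iff.1 (hc hk1)
  have hc3 : ∀ g, g * w3 = w3 * g := mem_center_iff.1 (hc hk3)
  let A : Subgroup X := closure {w1, w3}
  have hAk : A ≤ π.ker := by
    rw [closure_le]
    rintro x (rfl | rfl)
    · exact hk1
    · exact hk3
  have hA : ∀ x ∈ A, x = 1 ∨ x = w1 ∨ x = w3 ∨ x = w1 * w3 := by
    intro x hx
    induction hx using closure_induction with
    | mem x hx =>
      rcases hx with rfl | rfl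
      · exact Or.inr (Or.inl rfl)
      · exact Or.inr (Or.inr (Or.inl rfl))
    | one => exact Or.inl rfl
    | mul x y _ _ hx hy =>
      have e1 : w1 * (w1 * w3) = w3 := by rw [← mul_assoc, hs1, one_mul]
      have e2 : w3 * w1 = w1 * w3 := hc1 w3
      have e3 : w3 * (w1 * w3) = w1 := by rw [← mul_assoc, e2, mul_assoc, hs3, mul_one]
      have e4 : w1 * w3 * w1 = w3 := by rw [mul_assoc, e2, e1]
      have e5 : w1 * w3 * w3 = w1 := by rw [mul_assoc, hs3, mul_one]
      have e6 : w1 * w3 * (w1 * w3) = 1 := by rw [← mul_assoc, e4, hs3]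
      rcases hx with rfl | rfl | rfl | rfl <;> rcases hy with rfl | rfl | rfl | rfl <;>
        simp only [one_mul, mul_one, hs1, hs3, e1, e2, e3, e4, e5, e6, true_or, or_true]
    | inv x _ hx =>
      have i1 : w1⁻¹ = w1 := inv_eq_of_mul_eq_one_left hs1
      have i3 : w3⁻¹ = w3 := inv_eq_of_mul_eq_one_left hs3
      rcases hx with rfl | rfl | rfl | rfl
      · simp
      · simp [i1]
      · simp [i3]
      · right; right; right
        rw [mul_inv_rev, i1, i3, hc1]
  have hAc : A ≤ center X := hAk.trans hc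
  haveI hN : A.Normal := normal_of_le_center hAc
  -- the quotient
  have hq : Good (fun i => QuotientGroup.mk' A (m i)) := by
    have h1 := hw.map (QuotientGroup.mk' A)
    refine ⟨h1.lift, h1.spider, ?_, h1.e231, ?_⟩
    · rw [← ev_map, ← map_pow, QuotientGroup.mk'_apply, QuotientGroup.eq_one_iff]
      exact subset_closure (Or.inl rfl)
    · rw [← ev_map, ← map_pow, QuotientGroup.mk'_apply, QuotientGroup.eq_one_iff]
      exact subset_closure (Or.inr rfl)
  have hqt : closure (Set.range fun i => QuotientGroup.mk' A (m i)) = ⊤ := by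
    have h2 : (Set.range fun i => QuotientGroup.mk' A (m i)) = (QuotientGroup.mk' A) '' Set.range m := by
      rw [← Set.range_comp]; rfl
    rw [h2, ← MonoidHom.map_closure, htop, ← MonoidHom.range_eq_map, MonoidHom.range_eq_top]
    exact QuotientGroup.mk'_surjective _
  have hle := hcard (X ⧸ A) _ hq hqt
  have c1 : Nat.card X = Nat.card (X ⧸ A) * Nat.card A := Subgroup.card_eq_card_quotient_mul_card_subgroup A
  have c2 : Nat.card X = Nat.card E * Nat.card π.ker := by
    rw [Subgroup.card_eq_card_quotient_mul_card_subgroup π.ker]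
    congr 1
    exact Nat.card_congr (QuotientGroup.quotientKerEquivOfSurjective π hs).toEquiv
  have hEpos : 0 < Nat.card E := by
    have : Finite E := Finite.of_surjective π hs
    exact Nat.card_pos
  have hcA : Nat.card π.ker ≤ Nat.card A := by
    have h1 : Nat.card E * Nat.card π.ker ≤ Nat.card E * Nat.card A := by
      rw [← c2, c1]
      exact Nat.mul_le_mul_right _ hle
    exact Nat.le_of_mul_le_mul_left h1 hEpos
  have hAe : A = π.ker := Subgroup.eq_of_le_of_card_ge hAk hcA
  constructor
  · intro z hz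
    have hzA : z ∈ A := by rw [hAe]; exact hz
    rcases hA z hzA with rfl | rfl | rfl | rfl
    · rw [one_mul]
    · exact hs1
    · exact hs3
    · calc w1 * w3 * (w1 * w3) = w1 * (w3 * w1) * w3 := by group
        _ = w1 * (w1 * w3) * w3 := by rw [hc1 w3]
        _ = (w1 * w1) * (w3 * w3) := by group
        _ = 1 := by rw [hs1, hs3, one_mul]
  · haveI : Fact (Nat.Prime 2) := ⟨Nat.prime_two⟩
    obtain ⟨k, hk⟩ := IsPGroup.iff_card.1 hp
    have h4 : Nat.card A ≤ 4 := by
      classical
      have hsub : (A : Set X) ⊆ (({1, w1, w3, w1 * w3} : Finset X) : Set X) := by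
        intro x hx
        rcases hA x hx with rfl | rfl | rfl | rfl <;> simp
      have h1 : Nat.card A = (A : Set X).ncard := rfl
      rw [h1]
      refine (Set.ncard_le_ncard hsub (Finset.finite_toSet _)).trans ?_
      rw [Set.ncard_coe_finset]
      exact Finset.card_le_four
    rw [hAe, hk] at h4
    rw [hk]
    have hk2 : k ≤ 2 := by
      by_contra hk3
      have : 2 ^ 3 ≤ 2 ^ k := Nat.pow_le_pow_right (by norm_num) (by omega)
      omega
    exact pow_dvd_pow 2 hk2

end Cfsg.Agent.KFacts.Mult.TwESixLift
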