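import Cfsg.Agent.KFacts.Mult.TwESixLift
import Cfsg.Agent.TwoESix.Cover
import Cfsg.Agent.TwoESix.GoodInst
import Cfsg.Agent.BM.HBFinal
import Cfsg.Prelude.Def_CaseTheorems

/-!
# The 2-part of the Schur multiplier of ²E₆(2)

* `ker`: a finite perfect central extension of `twistedE6 K 2` (`|K| = 4`) by a 2-group `Z` has `Z` elementary abelian
  of order dividing 4;
* `center`: the same for a quasisimple group whose centre is a 2-group;
* `center_cyc`: a cyclic centre which is a 2-group has order dividing 2 (there is no `4.²E₆(2)`).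
-/

set_option autoImplicit false
set_option linter.style.haveILetI false

namespace Cfsg.Agent.KFacts.Mult.TwESixTwo

open Subgroup Cfsg Cfsg.Agent.TwoESix.Cox10 Cfsg.Agent.TwoESix.Lift Cfsg.Agent.TwoESix.Cover

universe u

/-- Groups generated by ten elements with the relations. -/
theorem card_le_E (K : Type*) [Field K] [Fintype K] (hK : Fintype.card K = 4) (Y : Type u) [Group Y]
    (y : Fin 10 → Y) (hy : Good y) (htop : closure (Set.range y) = ⊤) :
    Nat.card Y ≤ Nat.card (Lie.twistedE6 K 2) := by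
  haveI : Finite HB := Cfsg.Agent.BM.HBFinal.finite_HB
  exact (Nat.card_le_card_of_surjective _ (toHom_surjective hy htop)).trans (Cfsg.Agent.BM.HBFinal.hcard K hK)

/-- **Central 2-extensions of ²E₆(2).** -/
theorem ker (K : Type*) [Field K] [Fintype K] (hK : Fintype.card K = 4) {X : Type u} [Group X] [Finite X]
    (hperf : commutator X = ⊤) {π : X →* Lie.twistedE6 K 2} (hs : Function.Surjective π) (hc : π.ker ≤ center X)
    (hp : IsPGroup 2 π.ker) : (∀ z, π z = 1 → z * z = 1) ∧ Nat.card π.ker ∣ 4 := by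
  obtain ⟨e, r, he, hgen, -⟩ := Cfsg.Agent.TwoESix.GoodInst.exists_good K hK
  exact TwESixLift.main he hgen (card_le_E K hK) hperf hs hc hp

/-- **The centre** of a quasisimple group with quotient ²E₆(2), if it is a 2-group. -/
theorem center_elem {K : Type u} [Group K] [Finite K] (hq : IsQuasisimple K) (h2 : IsPGroup 2 (center K))
    (hX : ∃ (F : Type) (_ : Field F) (_ : Fintype F), Fintype.card F = 4 ∧
      Nonempty (K ⧸ center K ≃* ↥(Lie.twistedE6 F 2))) :
    (∀ z ∈ center K, z * z = 1) ∧ Nat.card (center K) ∣ 4 := by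
  obtain ⟨F, _, _, hF, ⟨f⟩⟩ := hX
  let π : K →* Lie.twistedE6 F 2 := f.toMonoidHom.comp (QuotientGroup.mk' (center K))
  have hker : π.ker = center K := by
    ext x
    rw [MonoidHom.mem_ker]
    show f (QuotientGroup.mk' (center K) x) = 1 ↔ _
    rw [map_eq_one_iff f f.injective, QuotientGroup.mk'_apply, QuotientGroup.eq_one_iff]
  have hs : Function.Surjective π := f.surjective.comp (QuotientGroup.mk'_surjective _)
  have hperf : commutator K = ⊤ := hq.1.commutator_eq_top
  obtain ⟨h3, h4⟩ := ker F hF hperf hs (by rw [hker]) (by rw [hker]; exact h2)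
  rw [hker] at h4
  refine ⟨fun z hz => h3 z ?_, h4⟩
  rw [← MonoidHom.mem_ker, hker]
  exact hz

/-- **No cyclic 4**: the field `two` of `OddHalf.D9.Cut.Mult` for ²E₆(2). -/
theorem center_cyc {K : Type u} [Group K] (hf : Finite K) (hq : IsQuasisimple K) (h2 : IsPGroup 2 (center K))
    (hcyc : IsCyclic (center K))
    (hX : ∃ (F : Type) (_ : Field F) (_ : Fintype F), Fintype.card F = 4 ∧
      Nonempty (K ⧸ center K ≃* ↥(Lie.twistedE6 F 2))) :
    Nat.card (center K) ∣ 2 := by
  obtain ⟨h3, -⟩ := center_elem hq h2 hX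
  obtain ⟨g, hg⟩ := hcyc.exists_zpow_surjective
  have hcard : Nat.card (center K) = orderOf g := by
    rw [← Nat.card_zpowers]
    have : zpowers g = ⊤ := by
      rw [eq_top_iff]
      intro x _
      exact mem_zpowers_iff.2 (hg x)
    rw [this, Subgroup.card_top]
  rw [hcard]
  refine orderOf_dvd_of_pow_eq_one ?_
  rw [pow_two]
  exact Subtype.ext (h3 g g.2)

end Cfsg.Agent.KFacts.Mult.TwESixTwo
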