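import Cfsg.Agent.KFacts.TwF4.Torus

/-!
# The characters of the torus of `²F₄(q)` in exponential form

For a unit `l` the characters `chE`, `chO` at `(ev l u, ev l v)`, `ev l (i, j) = l ^ i σ(l) ^ j`, are `ev l` of explicit
exponents; `ev l w ≠ 1` if `w.1² - 2 w.2²` divides 4 and `l ≠ 1` has odd order.
-/

set_option autoImplicit false

namespace Cfsg.Agent.KFacts.Mult.TwFWeights

open Cfsg.Agent.KFacts.TwF4

/-- exponents: `(i, j)` stands for `i + j θ`, `θ² = 2` -/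
abbrev Ex := ℤ × ℤ

/-- multiplication by `θ` -/
def sg (w : Ex) : Ex := (2 * w.2, w.1)

/-- exponents of `chE` -/
def xE (a : ZMod 8) (u v : Ex) : Ex := (![u, v, sg v - u, v - sg u, -u, -v, u - sg v, sg u - v] : Fin 8 → Ex) a

/-- exponents of `chO` -/
def xO (a : ZMod 8) (u v : Ex) : Ex := xE a u v + xE (a + 1) u v

/-- weight of the root group `X_k` -/
def wt (k : ℕ) (p : Ex × Ex) : Ex :=
  if k % 2 = 1 then xO ((k / 2 : ℕ) : ZMod 8) p.1 p.2 else xE ((k / 2 : ℕ) : ZMod 8) p.1 p.2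

/-- the torus elements centralising `X_k` -/
def tab (k : ℕ) : Ex × Ex :=
  ([((0, 0), (0, 0)), ((1, 0), (-1, 0)), ((1, 0), (0, 0)), ((1, 1), (1, 0)), ((0, 1), (1, 0)), ((1, 0), (1, 0)),
    ((1, 0), (0, 1)), ((1, 0), (1, 1)), ((0, 0), (1, 0))] : List (Ex × Ex)).getD k ((0, 0), (0, 0))

/-- the norm of `ℤ[√2]` -/
def nm (w : Ex) : ℤ := w.1 * w.1 - 2 * (w.2 * w.2)

theorem table_aux : ∀ k j : Fin 8, (j = k → wt (j.val + 1) (tab (k.val + 1)) = 0) ∧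
    (j ≠ k → nm (wt (j.val + 1) (tab (k.val + 1))) ∣ 4) := by decide +kernel

theorem table (k j : ℕ) (hk1 : 1 ≤ k) (hk8 : k ≤ 8) (hj1 : 1 ≤ j) (hj8 : j ≤ 8) :
    (j = k → wt j (tab k) = 0) ∧ (j ≠ k → nm (wt j (tab k)) ∣ 4) := by
  obtain ⟨h1, h2⟩ := table_aux ⟨k - 1, by omega⟩ ⟨j - 1, by omega⟩
  have e1 : k - 1 + 1 = k := by omega
  have e2 : j - 1 + 1 = j := by omega
  simp only [e1, e2] at h1 h2
  refine ⟨fun h => h1 (Fin.ext (by show j - 1 = k - 1; omega)), fun h => h2 fun h' => h ?_⟩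
  have h3 : j - 1 = k - 1 := congrArg Fin.val h'
  omega

theorem table' : (nm (xO 1 (tab 1).1 (tab 1).2) ∣ 4 ∧ xO 0 (tab 1).1 (tab 1).2 = 0) ∧
    (nm (xO 2 (tab 3).1 (tab 3).2) ∣ 4 ∧ xO 1 (tab 3).1 (tab 3).2 = 0) ∧
    (nm (xO 3 (tab 5).1 (tab 5).2) ∣ 4 ∧ xO 2 (tab 5).1 (tab 5).2 = 0) ∧
    (nm (xO 4 (tab 7).1 (tab 7).2) ∣ 4 ∧ xO 3 (tab 7).1 (tab 7).2 = 0) := by decide +kernel

variable {F : Type*} [Field F] (σ : F →+* F)

/-- `l ^ i σ(l) ^ j` -/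
def ev (l : Fˣ) (w : Ex) : Fˣ := l ^ w.1 * (Units.map (σ : F →* F) l) ^ w.2

theorem ev_zero (l : Fˣ) : ev σ l 0 = 1 := by
  unfold ev
  rw [Prod.fst_zero, Prod.snd_zero, zpow_zero, zpow_zero, one_mul]

theorem ev_add (l : Fˣ) (u v : Ex) : ev σ l (u + v) = ev σ l u * ev σ l v := by
  unfold ev
  rw [Prod.fst_add, Prod.snd_add, zpow_add, zpow_add]
  exact mul_mul_mul_comm _ _ _ _

theorem ev_neg (l : Fˣ) (u : Ex) : ev σ l (-u) = (ev σ l u)⁻¹ := by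
  unfold ev
  rw [Prod.fst_neg, Prod.snd_neg, zpow_neg, zpow_neg, mul_inv]

theorem ev_sub (l : Fˣ) (u v : Ex) : ev σ l (u - v) = ev σ l u / ev σ l v := by
  rw [sub_eq_add_neg, ev_add, ev_neg, div_eq_mul_inv]

variable (hσ : ∀ x, σ (σ x) = x ^ 2)

include hσ in
theorem map_ev (l : Fˣ) (u : Ex) : Units.map (σ : F →* F) (ev σ l u) = ev σ l (sg u) := by
  unfold ev sg
  rw [map_mul, map_zpow, map_zpow, map_map σ hσ, ← zpow_natCast, ← zpow_mul, mul_comm]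
  rfl

include hσ in
theorem chE_ev (a : ZMod 8) (l : Fˣ) (u v : Ex) : chE σ a (ev σ l u) (ev σ l v) = ev σ l (xE a u v) := by
  have h8 : ∀ a : ZMod 8, a = 0 ∨ a = 1 ∨ a = 2 ∨ a = 3 ∨ a = 4 ∨ a = 5 ∨ a = 6 ∨ a = 7 := by decide
  rcases h8 a with rfl | rfl | rfl | rfl | rfl | rfl | rfl | rfl
  · rfl
  · rfl
  · rw [chE_two, map_ev σ hσ, ← ev_sub]; rfl
  · rw [chE_three, map_ev σ hσ, ← ev_sub]; rfl
  · rw [chE_four, ← ev_neg]; rfl
  · rw [chE_five, ← ev_neg]; rfl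
  · rw [chE_six, map_ev σ hσ, ← ev_sub]; rfl
  · rw [chE_seven, map_ev σ hσ, ← ev_sub]; rfl

include hσ in
theorem chO_ev (a : ZMod 8) (l : Fˣ) (u v : Ex) : chO σ a (ev σ l u) (ev σ l v) = ev σ l (xO a u v) := by
  unfold chO xO
  rw [chE_ev σ hσ, chE_ev σ hσ, ev_add]

theorem ev_pow {l : Fˣ} {n : ℕ} (hl : l ^ n = 1) (u : Ex) : ev σ l u ^ n = 1 := by
  have key : ∀ (x : Fˣ) (i : ℤ), x ^ n = 1 → (x ^ i) ^ n = 1 := by
    intro x i hx
    rw [← zpow_natCast, ← zpow_mul, mul_comm, zpow_mul, zpow_natCast, hx, one_zpow]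
  unfold ev
  rw [mul_pow, key l _ hl, key _ _ (by rw [← map_pow, hl, map_one]), one_mul]

include hσ in
theorem ev_ne_one {l : Fˣ} {n : ℕ} (hn : Odd n) (hl : l ^ n = 1) (hl1 : l ≠ 1) {w : Ex} (hw : nm w ∣ 4) :
    ev σ l w ≠ 1 := by
  intro h
  have h' := congrArg (Units.map (σ : F →* F)) h
  rw [map_ev σ hσ, map_one] at h'
  unfold ev at h h'
  unfold sg at h'
  dsimp only at h'
  set M := Units.map (σ : F →* F) l with hM
  obtain ⟨i, j⟩ := w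
  dsimp only at h h'
  have h1 : l ^ i = M ^ (-j) := by rw [zpow_neg]; exact eq_inv_of_mul_eq_one_left h
  have h2 : l ^ (2 * j) = M ^ (-i) := by rw [zpow_neg]; exact eq_inv_of_mul_eq_one_left h'
  have h3 : l ^ (i * i) = l ^ (2 * (j * j)) := by
    calc l ^ (i * i) = (l ^ i) ^ i := zpow_mul _ _ _
      _ = (M ^ (-j)) ^ i := by rw [h1]
      _ = (M ^ (-i)) ^ j := by rw [← zpow_mul, ← zpow_mul]; congr 1; ring
      _ = (l ^ (2 * j)) ^ j := by rw [h2]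
      _ = l ^ (2 * (j * j)) := by rw [← zpow_mul]; congr 1; ring
  have h4 : l ^ (nm (i, j)) = 1 := by
    show l ^ (i * i - 2 * (j * j)) = 1
    rw [zpow_sub, h3, mul_inv_cancel]
  obtain ⟨k, hk⟩ := hw
  have h5 : l ^ (4 : ℤ) = 1 := by rw [hk, zpow_mul, h4, one_zpow]
  have h6 : l ^ 4 = 1 := by exact_mod_cast h5
  have h7 : orderOf l ∣ 4 := orderOf_dvd_of_pow_eq_one h6
  have h8 : orderOf l ∣ n := orderOf_dvd_of_pow_eq_one hl
  have h9 : Nat.Coprime 4 n := by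
    have : Nat.Coprime (2 ^ 2) n := Nat.Coprime.pow_left 2 (Nat.coprime_two_left.2 hn)
    exact this
  have h10 := Nat.eq_one_of_dvd_coprimes h9 h7 h8
  exact hl1 (orderOf_eq_one_iff.1 h10)

end Cfsg.Agent.KFacts.Mult.TwFWeights
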