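import Cfsg.Agent.KFacts.Mult.TwFRel
import Cfsg.Agent.KFacts.Mult.TwFWeights
import Cfsg.Agent.KFacts.Mult.RankTwoProd
import Cfsg.Agent.SplitTwo.RootSysZ
import Cfsg.Agent.S1068
import Cfsg.Agent.S1110

/-!
# `²F₄(q)`, `q > 2`, has no perfect double cover
-/

set_option autoImplicit false
set_option linter.unusedSectionVars false

namespace Cfsg.Agent.KFacts.Mult.TwFFour

open Subgroup Cfsg.Agent.KFacts.MulDef Cfsg.Agent.KFacts.MulTwo Cfsg.Agent.KFacts.Mult.WeightsTwo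
  Cfsg.Agent.KFacts.Mult.RGDW Cfsg.Agent.KFacts.Mult.OddSpl Cfsg.Agent.KFacts.Mult.SuzSpl
  Cfsg.Agent.KFacts.Mult.TwFRel Cfsg.Agent.KFacts.Mult.TwFWeights
open Cfsg.Lie Cfsg.Agent.ChevalleyStructure.TwF4.TwistedFix Cfsg.Agent.ChevalleyStructure.TwF4.Torus
open Cfsg.Agent.Octagon.KSys Cfsg.Agent.Octagon.KPar Cfsg.Agent.Octagon.KRoot
open Cfsg.Agent.KFacts.TwF4 Cfsg.Agent.KFacts.TwF4.Inst
open Cfsg.Agent.KFacts.Mult.RankTwoProd (W Hyp le_W W_le)
open scoped commutatorElement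

/-- The `p`-part of a finite abelian group. -/
theorem exists_ppart {G : Type*} [Group G] {D : Subgroup G} [Finite D] (hD : ∀ a ∈ D, ∀ b ∈ D, a * b = b * a)
    {p : ℕ} (hp : p.Prime) : ∃ T ≤ D, IsPGroup p T ∧ ∃ N, ¬ p ∣ N ∧ ∀ h ∈ D, h ^ N ∈ T := by
  obtain ⟨k, N, hN, hc⟩ := Nat.exists_eq_pow_mul_and_not_dvd (n := Nat.card D) Nat.card_pos.ne' p hp.ne_one
  let T : Subgroup G :=
    { carrier := {h | h ∈ D ∧ h ^ p ^ k = 1}
      one_mem' := ⟨one_mem _, one_pow _⟩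
      mul_mem' := by
        rintro a b ⟨ha, ha'⟩ ⟨hb, hb'⟩
        refine ⟨mul_mem ha hb, ?_⟩
        rw [(show Commute a b from hD a ha b hb).mul_pow, ha', hb', one_mul]
      inv_mem' := by
        rintro a ⟨ha, ha'⟩
        exact ⟨inv_mem ha, by rw [inv_pow, ha', inv_one]⟩ }
  refine ⟨T, fun h hh => hh.1, ?_, N, hN, ?_⟩
  · rintro ⟨h, hh⟩
    exact ⟨k, Subtype.ext hh.2⟩
  · intro h hh
    refine ⟨pow_mem hh _, ?_⟩
    have h1 : (⟨h, hh⟩ : D) ^ Nat.card D = 1 := pow_card_eq_one'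
    have h2 : h ^ Nat.card D = 1 := congrArg Subtype.val h1
    rw [← pow_mul, mul_comm, ← hc, h2]

section inst

variable {K : Type*} [Field K] [CharP K 2] [Finite K] {φ : K →+* K} {e : ℕ} (hφ : Rln φ e)

variable (K e) in
/-- the root groups, numbered by natural numbers -/
def Y (k : ℕ) : Subgroup ↥(twistedF4 K e) := XX K e (k : ZMod (2 * 8))

include hφ in
theorem hyp : Hyp (Y K e) 8 where
  comm := fun k l h1 h2 h3 x hx y hy => (Cfsg.Agent.SplitTwo.RootSysZ.rgdz (rootSys hφ)).comm k l h1 h2 h3 x hx y hy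
  inter := fun k h1 h2 => by
    rw [eq_bot_iff, ← (rootSys hφ).inter (k : ZMod (2 * 8))]
    refine inf_le_inf_left _ (W_le fun r hr1 hr2 => ?_)
    have e1 : (r : ZMod (2 * 8)) = (k : ZMod (2 * 8)) + ((r - k : ℕ) : ZMod (2 * 8)) := by
      rw [← Nat.cast_add]; congr 1; omega
    show XX K e (r : ZMod (2 * 8)) ≤ _
    rw [e1]
    exact le_iSup₂_of_le (f := fun (s : ℕ) (_ : s ∈ Set.Ioo 0 8) =>
      (rootSys hφ).X ((k : ZMod (2 * 8)) + ((s : ℕ) : ZMod (2 * 8)))) (r - k) ⟨by omega, by omega⟩ le_rfl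

variable (K e) in
/-- the torus -/
def DD : Subgroup ↥(twistedF4 K e) := (chevF4.diagonalSubgroup K).subgroupOf (twistedF4 K e)

include hφ in
theorem D_conj {h : ↥(twistedF4 K e)} (hh : h ∈ DD K e) (k : ℕ) {x : ↥(twistedF4 K e)} (hx : x ∈ Y K e k) :
    h * x * h⁻¹ ∈ Y K e k := (rootSys hφ).H_conj h hh _ x hx

theorem D_comm (a : ↥(twistedF4 K e)) (ha : a ∈ DD K e) (b : ↥(twistedF4 K e)) (hb : b ∈ DD K e) :
    a * b = b * a := by
  have ha' : (a : GL chevF4.Idx K) ∈ chevF4.diagonalSubgroup K := ha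
  have hb' : (b : GL chevF4.Idx K) ∈ chevF4.diagonalSubgroup K := hb
  rw [diagonal_eq_range] at ha' hb'
  obtain ⟨c, hc⟩ := ha'
  obtain ⟨d, hd⟩ := hb'
  apply Subtype.ext
  show (a : GL chevF4.Idx K) * b = b * a
  rw [← hc, ← hd, ← map_mul, ← map_mul, mul_comm]

theorem memY_odd (k : ℕ) (h1 : 1 ≤ k) (h2 : k ≤ 8) (hk : k % 2 = 1) (g : ↥(twistedF4 K e)) :
    g ∈ Y K e k ↔ ∃ t, ro hφ ((k / 2 : ℕ) : ZMod 8) t = g := by
  have key : ∀ (i : ℕ) (j : ZMod (2 * 8)) (a : ZMod 8), (i : ZMod (2 * 8)) = j → ((i / 2 : ℕ) : ZMod 8) = a →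
      (g ∈ XX K e j ↔ ∃ t, ro hφ a t = g) → (g ∈ Y K e i ↔ ∃ t, ro hφ ((i / 2 : ℕ) : ZMod 8) t = g) := by
    intro i j a h3 h4 h5
    rw [h4]
    unfold Y
    rw [h3]
    exact h5
  have hk' : k = 1 ∨ k = 3 ∨ k = 5 ∨ k = 7 := by omega
  rcases hk' with rfl | rfl | rfl | rfl
  · refine key 1 1 0 (by decide) (by decide) ?_
    rw [memXX1 hφ]; simp only [y1_eq]
  · refine key 3 3 1 (by decide) (by decide) ?_
    rw [memXX3 hφ]; simp only [y3_eq]
  · refine key 5 5 2 (by decide) (by decide) ?_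
    rw [memXX5 hφ]; simp only [y5_eq]
  · refine key 7 7 3 (by decide) (by decide) ?_
    rw [memXX7 hφ]; simp only [y7_eq]

theorem memY_even (k : ℕ) (h1 : 1 ≤ k) (h2 : k ≤ 8) (hk : k % 2 = 0) (g : ↥(twistedF4 K e)) :
    g ∈ Y K e k ↔ ∃ p u, re hφ ((k / 2 : ℕ) : ZMod 8) p u = g := by
  have key : ∀ (i : ℕ) (j : ZMod (2 * 8)) (a : ZMod 8), (i : ZMod (2 * 8)) = j → ((i / 2 : ℕ) : ZMod 8) = a →
      (g ∈ XX K e j ↔ ∃ p u, re hφ a p u = g) →
      (g ∈ Y K e i ↔ ∃ p u, re hφ ((i / 2 : ℕ) : ZMod 8) p u = g) := by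
    intro i j a h3 h4 h5
    rw [h4]
    unfold Y
    rw [h3]
    exact h5
  have hk' : k = 2 ∨ k = 4 ∨ k = 6 ∨ k = 8 := by omega
  rcases hk' with rfl | rfl | rfl | rfl
  · refine key 2 2 1 (by decide) (by decide) ?_
    rw [memXX2 hφ]; simp only [y2_eq]
  · refine key 4 4 2 (by decide) (by decide) ?_
    rw [memXX4 hφ]; simp only [y4_eq]
  · refine key 6 6 3 (by decide) (by decide) ?_
    rw [memXX6 hφ]; simp only [y6_eq]
  · refine key 8 8 4 (by decide) (by decide) ?_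
    rw [memXX8 hφ]; simp only [y8_eq]

/-- `h` acts with the character `χ` on the `k`-th root group -/
def Acts (h : ↥(twistedF4 K e)) (k : ℕ) (χ : Kˣ) : Prop :=
  (k % 2 = 1 → ∀ x, h * ro hφ ((k / 2 : ℕ) : ZMod 8) x * h⁻¹ = ro hφ ((k / 2 : ℕ) : ZMod 8) ((χ : K) * x)) ∧
  (k % 2 = 0 → ∀ p u, h * re hφ ((k / 2 : ℕ) : ZMod 8) p u * h⁻¹ =
    re hφ ((k / 2 : ℕ) : ZMod 8) ((χ : K) * p) ((χ : K) * φ (χ : K) * u))

theorem Acts.pow {h : ↥(twistedF4 K e)} {k : ℕ} {χ : Kˣ} (H : Acts hφ h k χ) (n : ℕ) :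
    Acts hφ (h ^ n) k (χ ^ n) := by
  constructor
  · intro hk x
    induction n generalizing x with
    | zero => simp
    | succ n ih =>
      have e1 : h ^ (n + 1) * ro hφ ((k / 2 : ℕ) : ZMod 8) x * (h ^ (n + 1))⁻¹ =
          h ^ n * (h * ro hφ ((k / 2 : ℕ) : ZMod 8) x * h⁻¹) * (h ^ n)⁻¹ := by rw [pow_succ]; group
      rw [e1, H.1 hk, ih]
      congr 1
      push_cast
      ring
  · intro hk p u
    induction n generalizing p u with
    | zero => simp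
    | succ n ih =>
      have e1 : h ^ (n + 1) * re hφ ((k / 2 : ℕ) : ZMod 8) p u * (h ^ (n + 1))⁻¹ =
          h ^ n * (h * re hφ ((k / 2 : ℕ) : ZMod 8) p u * h⁻¹) * (h ^ n)⁻¹ := by rw [pow_succ]; group
      rw [e1, H.2 hk, ih]
      congr 1
      · push_cast
        ring
      · push_cast
        rw [pow_succ, map_mul]
        ring

theorem Acts.cent {h : ↥(twistedF4 K e)} {k : ℕ} (h1 : 1 ≤ k) (h8 : k ≤ 8) (H : Acts hφ h k 1) :
    ∀ x ∈ Y K e k, h * x = x * h := by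
  intro x hx
  rcases Nat.mod_two_eq_zero_or_one k with hk | hk
  · obtain ⟨p, u, rfl⟩ := (memY_even hφ k h1 h8 hk x).1 hx
    have h2 := H.2 hk p u
    rw [Units.val_one, map_one, one_mul, one_mul, one_mul] at h2
    rw [mul_inv_eq_iff_eq_mul] at h2
    exact h2
  · obtain ⟨t, rfl⟩ := (memY_odd hφ k h1 h8 hk x).1 hx
    have h2 := H.1 hk t
    rw [Units.val_one, one_mul] at h2
    rw [mul_inv_eq_iff_eq_mul] at h2
    exact h2

theorem Acts.free {h : ↥(twistedF4 K e)} {k : ℕ} (h1 : 1 ≤ k) (h8 : k ≤ 8) {χ : Kˣ} (H : Acts hφ h k χ)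
    (hχ : χ ≠ 1) : ∀ x ∈ Y K e k, h * x = x * h → x = 1 := by
  intro x hx hc
  have hχ' : (χ : K) ≠ 1 := fun h => hχ (Units.ext h)
  rcases Nat.mod_two_eq_zero_or_one k with hk | hk
  · obtain ⟨p, u, rfl⟩ := (memY_even hφ k h1 h8 hk x).1 hx
    have h2 := H.2 hk p u
    rw [hc, mul_inv_cancel_right] at h2
    obtain ⟨h3, h4⟩ := (sys hφ).injE _ _ _ _ _ h2
    have hp : p = 0 := by
      by_contra hp
      exact hχ' ((mul_left_eq_self₀.1 h3.symm).resolve_right hp)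
    have hu : u = 0 := by
      by_contra hu
      exact hχ' (SuzC.eq_one_of (sq_phi hφ) ((mul_left_eq_self₀.1 h4.symm).resolve_right hu))
    subst hp hu
    have h5 := (sys hφ).e_mul ((k / 2 : ℕ) : ZMod 8) 0 0 0 0
    simp only [add_zero, zero_mul] at h5
    exact mul_eq_left.1 h5
  · obtain ⟨t, rfl⟩ := (memY_odd hφ k h1 h8 hk x).1 hx
    have h2 := H.1 hk t
    rw [hc, mul_inv_cancel_right] at h2
    have h3 := (sys hφ).injO _ h2
    have ht : t = 0 := by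
      by_contra ht
      exact hχ' ((mul_left_eq_self₀.1 h3.symm).resolve_right ht)
    subst ht
    exact o_zero (sys hφ) _

theorem exists_acts (l : Kˣ) (u v : Ex) : ∃ h ∈ DD K e, (∀ k, Acts hφ h k (ev φ l (wt k (u, v)))) ∧
    (∀ a x, h * ro hφ a x * h⁻¹ = ro hφ a ((ev φ l (xO a u v) : K) * x)) := by
  obtain ⟨h, hD, h1, h2⟩ := exists_torus hφ (ev φ l u) (ev φ l v)
  simp only [chO_ev φ (sq_phi hφ)] at h1
  simp only [chE_ev φ (sq_phi hφ)] at h2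
  refine ⟨h, hD, fun k => ⟨fun hk x => ?_, fun hk p w => ?_⟩, h1⟩
  · rw [h1]
    unfold wt
    rw [if_pos hk]
  · rw [h2]
    unfold wt
    rw [if_neg (by omega)]

theorem suzC (k : ℕ) (h1 : 1 ≤ k) (h8 : k ≤ 8) (hk : k % 2 = 0) :
    SuzC φ (DD K e) (re hφ ((k / 2 : ℕ) : ZMod 8)) where
  mul := (sys hφ).e_mul _
  inj := (sys hφ).injE _
  nor := by
    intro h hh p u
    have h2 := D_conj hφ hh k ((memY_even hφ k h1 h8 hk _).2 ⟨p, u, rfl⟩)
    obtain ⟨q, v, h3⟩ := (memY_even hφ k h1 h8 hk _).1 h2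
    exact ⟨q, v, h3.symm⟩
  tor := by
    intro χ hχ
    have hex : ∃ c d : Kˣ, chE φ ((k / 2 : ℕ) : ZMod 8) c d = Units.mk0 χ hχ := by
      have hk' : k = 2 ∨ k = 4 ∨ k = 6 ∨ k = 8 := by omega
      rcases hk' with rfl | rfl | rfl | rfl
      · refine ⟨1, Units.mk0 χ hχ, ?_⟩
        exact chE_one φ _ _
      · refine ⟨(Units.mk0 χ hχ)⁻¹, 1, ?_⟩
        refine (chE_two φ _ _).trans ?_
        rw [map_one, one_div, inv_inv]
      · refine ⟨1, Units.mk0 χ hχ, ?_⟩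
        refine (chE_three φ _ _).trans ?_
        rw [map_one, div_one]
      · refine ⟨(Units.mk0 χ hχ)⁻¹, 1, ?_⟩
        refine (chE_four φ _ _).trans ?_
        rw [inv_inv]
    obtain ⟨c, d, hcd⟩ := hex
    obtain ⟨h, hD, -, h2⟩ := exists_torus hφ c d
    refine ⟨h, hD, fun p u => ?_⟩
    rw [h2, hcd]
    rfl

/-! ### the order -/

include hφ in
theorem card_Y_odd (k : ℕ) (h1 : 1 ≤ k) (h8 : k ≤ 8) (hk : k % 2 = 1) : Nat.card (Y K e k) = Nat.card K := by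
  refine (Nat.card_congr (Equiv.ofBijective (fun t : K => (⟨ro hφ ((k / 2 : ℕ) : ZMod 8) t,
    (memY_odd hφ k h1 h8 hk _).2 ⟨t, rfl⟩⟩ : Y K e k)) ⟨?_, ?_⟩)).symm
  · intro t s h
    exact (sys hφ).injO _ (congrArg Subtype.val h)
  · rintro ⟨g, hg⟩
    obtain ⟨t, ht⟩ := (memY_odd hφ k h1 h8 hk _).1 hg
    exact ⟨t, Subtype.ext ht⟩

include hφ in
theorem card_Y_even (k : ℕ) (h1 : 1 ≤ k) (h8 : k ≤ 8) (hk : k % 2 = 0) :
    Nat.card (Y K e k) = Nat.card K * Nat.card K := by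
  rw [← Nat.card_prod]
  refine (Nat.card_congr (Equiv.ofBijective (fun t : K × K => (⟨re hφ ((k / 2 : ℕ) : ZMod 8) t.1 t.2,
    (memY_even hφ k h1 h8 hk _).2 ⟨t.1, t.2, rfl⟩⟩ : Y K e k)) ⟨?_, ?_⟩)).symm
  · rintro ⟨t, u⟩ ⟨s, v⟩ h
    obtain ⟨h3, h4⟩ := (sys hφ).injE _ _ _ _ _ (congrArg Subtype.val h)
    exact Prod.ext h3 h4
  · rintro ⟨g, hg⟩
    obtain ⟨t, u, ht⟩ := (memY_even hφ k h1 h8 hk _).1 hg
    exact ⟨(t, u), Subtype.ext ht⟩

include hφ in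
theorem card_U : Nat.card (W (Y K e) 8 1) = Nat.card K ^ 12 := by
  have H := hyp hφ
  rw [H.card_W le_rfl (by norm_num), H.card_W (by norm_num) (by norm_num), H.card_W (by norm_num) (by norm_num),
    H.card_W (by norm_num) (by norm_num), H.card_W (by norm_num) (by norm_num), H.card_W (by norm_num) (by norm_num),
    H.card_W (by norm_num) (by norm_num), H.card_W (by norm_num) (by norm_num),
    RankTwoProd.W_top (by norm_num), Subgroup.card_bot]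
  rw [card_Y_odd hφ 1 (by norm_num) (by norm_num) (by norm_num), card_Y_even hφ (1 + 1) (by norm_num) (by norm_num) (by norm_num),
    card_Y_odd hφ (1 + 1 + 1) (by norm_num) (by norm_num) (by norm_num), card_Y_even hφ (1 + 1 + 1 + 1) (by norm_num) (by norm_num) (by norm_num),
    card_Y_odd hφ (1 + 1 + 1 + 1 + 1) (by norm_num) (by norm_num) (by norm_num),
    card_Y_even hφ (1 + 1 + 1 + 1 + 1 + 1) (by norm_num) (by norm_num) (by norm_num),
    card_Y_odd hφ (1 + 1 + 1 + 1 + 1 + 1 + 1) (by norm_num) (by norm_num) (by norm_num),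
    card_Y_even hφ (1 + 1 + 1 + 1 + 1 + 1 + 1 + 1) (by norm_num) (by norm_num) (by norm_num)]
  ring

end inst

section main

variable {K : Type*} [Field K] [Fintype K] {m : ℕ}

theorem card_D (hK : Fintype.card K = 2 ^ (2 * m + 1)) :
    Nat.card (DD K (2 ^ m)) = (2 ^ (2 * m + 1) - 1) ^ 2 := by
  rw [← Cfsg.Agent.S1110.result hK]
  have h1 : (DD K (2 ^ m)).map (twistedF4 K (2 ^ m)).subtype = chevF4.diagonalSubgroup K ⊓ twistedF4 K (2 ^ m) :=
    Subgroup.subgroupOf_map_subtype _ _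
  rw [← h1]
  exact Nat.card_congr ((DD K (2 ^ m)).equivMapOfInjective _ (Subgroup.subtype_injective _)).toEquiv

theorem odd_pred (n : ℕ) (hn : 1 ≤ n) : Odd (2 ^ n - 1) := by
  obtain ⟨k, rfl⟩ : ∃ k, n = k + 1 := ⟨n - 1, by omega⟩
  have h : 1 ≤ 2 ^ k := Nat.one_le_two_pow
  exact ⟨2 ^ k - 1, by rw [pow_succ]; omega⟩

theorem not_dvd_index [CharP K 2] {φ : K →+* K} (hφ : Rln φ (2 ^ m)) (hK : Fintype.card K = 2 ^ (2 * m + 1)) :
    ¬ 2 ∣ (W (Y K (2 ^ m)) 8 1).index := by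
  have h1 := (W (Y K (2 ^ m)) 8 1).card_mul_index
  rw [card_U hφ, Nat.card_eq_fintype_card (α := K), hK, Cfsg.Agent.S1068.result hK] at h1
  have hq : Even (2 ^ (2 * m + 1)) := ⟨2 ^ (2 * m), by rw [pow_succ]; ring⟩
  have hq1 : 1 ≤ 2 ^ (2 * m + 1) := Nat.one_le_two_pow
  have h2 : (W (Y K (2 ^ m)) 8 1).index = (2 ^ (2 * m + 1) - 1) * ((2 ^ (2 * m + 1)) ^ 3 + 1) *
      ((2 ^ (2 * m + 1)) ^ 4 - 1) * ((2 ^ (2 * m + 1)) ^ 6 + 1) := by
    have h3 : 0 < (2 ^ (2 * m + 1)) ^ 12 := by positivity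
    apply Nat.eq_of_mul_eq_mul_left h3
    rw [h1]
    ring
  have h4 : Odd (W (Y K (2 ^ m)) 8 1).index := by
    rw [h2]
    refine Odd.mul (Odd.mul (Odd.mul (odd_pred _ (by omega)) ?_) ?_) ?_
    · exact (hq.pow_of_ne_zero (by norm_num)).add_one
    · rw [← pow_mul]
      exact odd_pred _ (by omega)
    · exact (hq.pow_of_ne_zero (by norm_num)).add_one
  intro h5
  exact (Nat.not_even_iff_odd.2 h4) (even_iff_two_dvd.2 h5)

/-- the torus elements -/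
theorem exists_elt [CharP K 2] {φ : K →+* K} (hφ : Rln φ (2 ^ m)) {p N : ℕ} (hp : p.Prime) (hodd : Odd p)
    {l : Kˣ} (hlp : l ^ p = 1) (hl1 : l ≠ 1) (hN : ¬ p ∣ N) {T : Subgroup ↥(twistedF4 K (2 ^ m))}
    (hTN : ∀ h ∈ DD K (2 ^ m), h ^ N ∈ T) (k : ℕ) (h1 : 1 ≤ k) (h8 : k ≤ 8) :
    ∃ t ∈ T, (∀ x ∈ Y K (2 ^ m) k, t * x = x * t) ∧
      ∀ j, 1 ≤ j → j ≤ 8 → j ≠ k → ∀ x ∈ Y K (2 ^ m) j, t * x = x * t → x = 1 := by
  obtain ⟨h, hD, hact, -⟩ := exists_acts hφ l (tab k).1 (tab k).2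
  refine ⟨h ^ N, hTN h hD, ?_, ?_⟩
  · have h2 := (hact k).pow hφ N
    have h3 : ev φ l (wt k ((tab k).1, (tab k).2)) ^ N = 1 := by
      rw [Prod.mk.eta, (table k k h1 h8 h1 h8).1 rfl, ev_zero, one_pow]
    rw [h3] at h2
    exact h2.cent hφ h1 h8
  · intro j hj1 hj8 hjk
    have h2 := (hact j).pow hφ N
    have h3 : ev φ l (wt j ((tab k).1, (tab k).2)) ≠ 1 := by
      rw [Prod.mk.eta]
      exact ev_ne_one φ (sq_phi hφ) hodd hlp hl1 ((table k j h1 h8 hj1 hj8).2 hjk)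
    refine h2.free hφ hj1 hj8 ?_
    intro h4
    apply h3
    have h5 := orderOf_dvd_of_pow_eq_one h4
    have h6 := orderOf_dvd_of_pow_eq_one (ev_pow φ hlp (wt j ((tab k).1, (tab k).2)))
    have h7 : Nat.Coprime p N := (Nat.Prime.coprime_iff_not_dvd hp).2 hN
    exact orderOf_eq_one_iff.1 (Nat.eq_one_of_dvd_coprimes h7 h6 h5)

/-- the separating elements for the commutation of `Z(X_{2a})` and `X_{2a}` -/
theorem exists_gamma [CharP K 2] {φ : K →+* K} (hφ : Rln φ (2 ^ m)) {p : ℕ} (hodd : Odd p)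
    {l : Kˣ} (hlp : l ^ p = 1) (hl1 : l ≠ 1) (k : ℕ) (h1 : 1 ≤ k) (h8 : k ≤ 8) (hk : k % 2 = 0) :
    ∃ (h : ↥(twistedF4 K (2 ^ m))) (ψ : K), ψ ≠ 1 ∧
      h * (sys hφ).o (((k / 2 : ℕ) : ZMod 8) - 1) 1 = (sys hφ).o (((k / 2 : ℕ) : ZMod 8) - 1) 1 * h ∧
      ∀ s, h * (sys hφ).o ((k / 2 : ℕ) : ZMod 8) s * h⁻¹ = (sys hφ).o ((k / 2 : ℕ) : ZMod 8) (ψ * s) := by
  have key : ∀ (i : ℕ) (a b : ZMod 8), nm (xO a (tab i).1 (tab i).2) ∣ 4 ∧ xO b (tab i).1 (tab i).2 = 0 →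
      ((k / 2 : ℕ) : ZMod 8) = a → ((k / 2 : ℕ) : ZMod 8) - 1 = b →
      ∃ (h : ↥(twistedF4 K (2 ^ m))) (ψ : K), ψ ≠ 1 ∧
      h * (sys hφ).o (((k / 2 : ℕ) : ZMod 8) - 1) 1 = (sys hφ).o (((k / 2 : ℕ) : ZMod 8) - 1) 1 * h ∧
      ∀ s, h * (sys hφ).o ((k / 2 : ℕ) : ZMod 8) s * h⁻¹ = (sys hφ).o ((k / 2 : ℕ) : ZMod 8) (ψ * s) := by
    intro i a b hab ha hb
    obtain ⟨h, -, -, h2⟩ := exists_acts hφ l (tab i).1 (tab i).2
    refine ⟨h, (ev φ l (xO a (tab i).1 (tab i).2) : K), ?_, ?_, ?_⟩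
    · intro h3
      exact ev_ne_one φ (sq_phi hφ) hodd hlp hl1 hab.1 (Units.ext h3)
    · rw [hb, ← mul_inv_eq_iff_eq_mul]
      have h3 := h2 b 1
      rw [hab.2, ev_zero, Units.val_one, one_mul] at h3
      exact h3
    · intro s
      rw [ha]
      exact h2 a s
  have hk' : k = 2 ∨ k = 4 ∨ k = 6 ∨ k = 8 := by omega
  obtain ⟨t1, t2, t3, t4⟩ := table'
  rcases hk' with rfl | rfl | rfl | rfl
  · exact key 1 1 0 t1 (by decide) (by decide)
  · exact key 3 2 1 t2 (by decide) (by decide)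
  · exact key 5 3 2 t3 (by decide) (by decide)
  · exact key 7 4 3 t4 (by decide) (by decide)

/-- **`²F₄(q)`, `q > 2`, has no perfect double cover.** -/
theorem noDouble_of_rln [CharP K 2] {φ : K →+* K} (hφ : Rln φ (2 ^ m)) (hm : 1 ≤ m)
    (hK : Fintype.card K = 2 ^ (2 * m + 1)) : NoDouble ↥(twistedF4 K (2 ^ m)) := by
  classical
  have hq8 : 8 ≤ 2 ^ (2 * m + 1) := by
    calc 8 = 2 ^ 3 := by norm_num
      _ ≤ 2 ^ (2 * m + 1) := Nat.pow_le_pow_right (by norm_num) (by omega)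
  obtain ⟨p, hp, hpq⟩ := Nat.exists_prime_and_dvd (n := 2 ^ (2 * m + 1) - 1) (by omega)
  have : Fact p.Prime := ⟨hp⟩
  have : Fact (Nat.Prime 2) := ⟨Nat.prime_two⟩
  have hodd : Odd p := (odd_pred _ (by omega)).of_dvd_nat hpq
  have hunits : Nat.card Kˣ = 2 ^ (2 * m + 1) - 1 := by rw [Nat.card_units, Nat.card_eq_fintype_card, hK]
  obtain ⟨l, hl⟩ := exists_prime_orderOf_dvd_card' (G := Kˣ) p (by rw [hunits]; exact hpq)
  have hl1 : l ≠ 1 := by
    rintro rfl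
    rw [orderOf_one] at hl
    exact hp.one_lt.ne hl
  have hlp : l ^ p = 1 := by rw [← hl]; exact pow_orderOf_eq_one l
  obtain ⟨T, hTD, hTp, N, hN, hTN⟩ := exists_ppart (D := DD K (2 ^ m)) D_comm hp
  have hel := exists_elt hφ hp hodd hlp hl1 hN hTN
  have hDodd : Odd (Nat.card (DD K (2 ^ m))) := by
    rw [card_D hK]
    exact (odd_pred _ (by omega)).pow
  have hspl : ∀ k, 1 ≤ k → k ≤ 8 → Spl (DD K (2 ^ m)) (Y K (2 ^ m) k) := by
    intro k h1 h8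
    have hfix : ∃ t ∈ DD K (2 ^ m), ∀ v ∈ Y K (2 ^ m) k, t * v = v * t → v = 1 := by
      by_cases hk1 : k = 1
      · obtain ⟨t, ht, -, h2⟩ := hel 2 (by norm_num) (by norm_num)
        exact ⟨t, hTD ht, h2 k h1 h8 (by omega)⟩
      · obtain ⟨t, ht, -, h2⟩ := hel 1 (by norm_num) (by norm_num)
        exact ⟨t, hTD ht, h2 k h1 h8 hk1⟩
    have hnor : ∀ t ∈ DD K (2 ^ m), ∀ v ∈ Y K (2 ^ m) k, t * v * t⁻¹ ∈ Y K (2 ^ m) k :=
      fun t ht v hv => D_conj hφ ht k hv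
    rcases Nat.mod_two_eq_zero_or_one k with hk | hk
    · have S := suzC hφ k h1 h8 hk
      have hYV : Y K (2 ^ m) k = S.V := by
        ext x
        rw [memY_even hφ k h1 h8 hk]
        rfl
      refine Spl.of_notMem hDodd hnor hfix fun L _ _ π c hd => ?_
      rw [hYV]
      refine S.notMem (sq_phi hφ) (by rw [Nat.card_eq_fintype_card, hK]; omega) hDodd hd ?_
      intro x y hx hy
      exact zv (sys hφ) ((k / 2 : ℕ) : ZMod 8) hd (exists_gamma hφ hodd hlp hl1 k h1 h8 hk) x y hx hy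
    · have hYO : Y K (2 ^ m) k = OO (sys hφ) ((k / 2 : ℕ) : ZMod 8) := by
        ext x
        rw [memY_odd hφ k h1 h8 hk]
        rfl
      refine OddSpl.Spl.of_abPre hDodd hnor hfix ?_
      rw [hYO]
      exact abPre (sys hφ) _
  have H := hyp hφ
  have hW : WHyp p (W (Y K (2 ^ m)) 8 1) T (fun i : Fin 8 => Y K (2 ^ m) (i.val + 1)) :=
    { pg := by
        refine IsPGroup.of_card (n := (2 * m + 1) * 12) ?_
        rw [card_U hφ, Nat.card_eq_fintype_card, hK, ← pow_mul]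
      idx := not_dvd_index hφ hK
      tp := hTp
      odd := hodd
      UT := by
        intro t ht x hx
        have h2 : W (Y K (2 ^ m)) 8 1 ≤ (W (Y K (2 ^ m)) 8 1).comap (MulAut.conj t).toMonoidHom :=
          W_le fun r hr1 hr2 y hy => le_W hr1 hr2 (D_conj hφ (hTD ht) r hy)
        exact h2 hx
      VU := fun i => le_W (by omega) (by omega)
      VT := fun i t ht v hv => D_conj hφ (hTD ht) _ hv
      gen := by
        refine W_le fun r hr1 hr2 => ?_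
        have h2 := le_iSup (fun i : Fin 8 => Y K (2 ^ m) (i.val + 1)) ⟨r - 1, by omega⟩
        have e1 : r - 1 + 1 = r := by omega
        simp only [e1] at h2
        exact h2
      fix := by
        intro i u hu hc
        obtain ⟨t, ht, h2, h3⟩ := hel (i.val + 1) (by omega) (by omega)
        exact H.mem_of_fixed' (fun k _ _ x hx => D_conj hφ (hTD ht) k hx) (fun k hk1 hk2 hki => h3 k hk1 hk2 hki) hu
          (hc t ht h2)
      fixT := by
        intro u hu hc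
        obtain ⟨t, ht, h2, h3⟩ := hel 1 (by norm_num) (by norm_num)
        have h4 := H.mem_of_fixed' (fun k _ _ x hx => D_conj hφ (hTD ht) k hx)
          (fun k hk1 hk2 hki => h3 k hk1 hk2 hki) hu (hc t ht)
        obtain ⟨t', ht', h2', h3'⟩ := hel 2 (by norm_num) (by norm_num)
        exact h3' 1 (by norm_num) (by norm_num) (by norm_num) u h4 (hc t' ht') }
  exact hW.noDouble fun i => OddSpl.Spl.mono (hspl (i.val + 1) (by omega) (by omega)) hTD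

end main

/-- **The row `f42` of `LieND`.** -/
theorem noDouble (F : Type) [Field F] [Fintype F] (m : ℕ) (hm : 1 ≤ m) (hF : Fintype.card F = 2 ^ (2 * m + 1)) :
    NoDouble ↥(Lie.twistedF4 F (2 ^ m)) := by
  have := Cfsg.Agent.ChevalleyStructure.TwF4.Twisted.charP_two hF
  obtain ⟨φ, hφ⟩ := exists_rln hF
  exact noDouble_of_rln hφ hm hF

end Cfsg.Agent.KFacts.Mult.TwFFour
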