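import Cfsg.Agent.KFacts.Mult.SuzSpl
import Cfsg.Agent.KFacts.TwF4.Sys

/-!
# Double covers of groups of type `²F₄`: the preimages of the root groups

* `Sys.OO a`, `Sys.abPre`: the preimage of `X_{2a+1}` is commutative;
* `Sys.zv`: the preimages of `Z(X_{2a})` and `X_{2a}` commute.
-/

set_option autoImplicit false

namespace Cfsg.Agent.KFacts.Mult.TwFRel

open Subgroup Cfsg.Agent.KFacts.MulDef Cfsg.Agent.KFacts.MulTwo Cfsg.Agent.KFacts.Mult.WeightsTwo
  Cfsg.Agent.KFacts.Mult.RGDW Cfsg.Agent.KFacts.Mult.OddSpl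
open Cfsg.Agent.KFacts.TwF4 (Sys)
open scoped commutatorElement

universe u

section cover

variable {G : Type u} [Group G] {L : Type*} [Group L] {π : L →* G} {c : L}

/-- commuting elements of the quotient: conjugation changes the sign at most -/
theorem conj_or (hd : Dbl π c) {g x : L} (h : π g * π x = π x * π g) : g * x * g⁻¹ = x ∨ g * x * g⁻¹ = x * c := by
  rcases comm_or hd h with h1 | h1
  · left; rw [h1, mul_inv_cancel_right]
  · right
    rw [h1, ← mul_assoc, mul_inv_cancel_right, hd.cen]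

/-- Separated by a torus element: the lifts commute. -/
theorem comm_lift (hd : Dbl π c) {A C C' : L} {h : G} (h1 : h * π A = π A * h) (h2 : π A * π C' = π C' * π A)
    (h3 : π C = h * h * π C' * (h * h)⁻¹ * (π C')⁻¹) : A * C = C * A := by
  obtain ⟨g, rfl⟩ := hd.surj h
  have k1 : A * (g * g) * A⁻¹ = g * g := by
    have e : A * (g * g) * A⁻¹ = (A * g * A⁻¹) * (A * g * A⁻¹) := by group
    rw [e]
    rcases conj_or hd (g := A) (x := g) h1.symm with h4 | h4
    · rw [h4]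
    · rw [h4]
      calc g * c * (g * c) = g * (c * g) * c := by group
        _ = g * (g * c) * c := by rw [hd.cen]
        _ = g * g * (c * c) := by group
        _ = g * g := by rw [hd.sq, mul_one]
  have k2 : A * (g * g * C' * (g * g)⁻¹ * C'⁻¹) * A⁻¹ = g * g * C' * (g * g)⁻¹ * C'⁻¹ := by
    have e : A * (g * g * C' * (g * g)⁻¹ * C'⁻¹) * A⁻¹ =
        (A * (g * g) * A⁻¹) * (A * C' * A⁻¹) * (A * (g * g) * A⁻¹)⁻¹ * (A * C' * A⁻¹)⁻¹ := by group
    rw [e, k1]
    rcases conj_or hd (g := A) (x := C') h2 with h4 | h4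
    · rw [h4]
    · rw [h4]
      calc g * g * (C' * c) * (g * g)⁻¹ * (C' * c)⁻¹ = g * g * C' * (c * (g * g)⁻¹) * c⁻¹ * C'⁻¹ := by group
        _ = g * g * C' * ((g * g)⁻¹ * c) * c⁻¹ * C'⁻¹ := by rw [hd.cen]
        _ = _ := by group
  have k3 : π C = π (g * g * C' * (g * g)⁻¹ * C'⁻¹) := by
    rw [h3]; simp only [map_mul, map_inv]
  rw [mul_inv_eq_iff_eq_mul] at k2
  rcases eq_or_of_map_eq hd k3 with h4 | h4
  · rw [h4]; exact k2
  · rw [h4, ← mul_assoc, k2, mul_assoc, ← hd.cen A, ← mul_assoc]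

/-- **The three element argument**: `[x, y]` commutes with `v` if `x` commutes with `v` in the quotient, `v y v⁻¹ = y z`
in the quotient, and the lifts of `x` and `z` commute. -/
theorem comm_comm (hd : Dbl π c) {A B C y x : L} (h1 : π y * π A = π A * π y) (h2 : π y * π B = π B * π C * π y)
    (h3 : A * C = C * A) (h4 : π A * π B = π x * (π B * π A)) : x * y = y * x := by
  have k1 := conj_or hd h1
  have k2 : y * B * y⁻¹ = B * C ∨ y * B * y⁻¹ = B * C * c := by
    apply eq_or_of_map_eq hd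
    rw [map_mul, map_mul, map_inv, h2, map_mul, mul_inv_cancel_right]
  -- the commutator of `A` and `B`
  have k3 : π x = π (A * B * (B * A)⁻¹) := by
    rw [map_mul, map_inv, map_mul, map_mul, h4]; group
  have k4 : y * (A * B * (B * A)⁻¹) * y⁻¹ = A * B * (B * A)⁻¹ := by
    have e : y * (A * B * (B * A)⁻¹) * y⁻¹ =
        ((y * A * y⁻¹) * (y * B * y⁻¹)) * ((y * B * y⁻¹) * (y * A * y⁻¹))⁻¹ := by group
    have gen : ∀ δ ε : L, (∀ g : L, δ * g = g * δ) → (∀ g : L, ε * g = g * ε) →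
        (A * δ * (B * C * ε)) * (B * C * ε * (A * δ))⁻¹ = A * B * (B * A)⁻¹ := by
      intro δ ε hδ hε
      have e1 : B * C * ε * (A * δ) = B * (A * C) * (ε * δ) := by
        calc B * C * ε * (A * δ) = B * C * (ε * A) * δ := by group
          _ = B * C * (A * ε) * δ := by rw [hε]
          _ = B * (C * A) * (ε * δ) := by group
          _ = _ := by rw [h3]
      have e2 : A * δ * (B * C * ε) = A * B * C * (ε * δ) := by
        calc A * δ * (B * C * ε) = A * (δ * (B * C * ε)) := by group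
          _ = A * (B * C * ε * δ) := by rw [hδ]
          _ = _ := by group
      rw [e1, e2]
      group
    rw [e]
    have c1 : ∀ g : L, (1 : L) * g = g * 1 := fun g => by rw [one_mul, mul_one]
    rcases k1 with k1 | k1 <;> rcases k2 with k2 | k2 <;> rw [k1, k2]
    · have := gen 1 1 c1 c1
      simpa only [mul_one] using this
    · have := gen 1 c c1 hd.cen
      simpa only [mul_one] using this
    · have := gen c 1 hd.cen c1
      simpa only [mul_one] using this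
    · exact gen c c hd.cen hd.cen
  rw [mul_inv_eq_iff_eq_mul] at k4
  rcases eq_or_of_map_eq hd k3 with h5 | h5
  · rw [h5]; exact k4.symm
  · rw [h5, mul_assoc, hd.cen y, ← mul_assoc, ← k4, mul_assoc]

end cover

section sys

variable {F : Type*} [Field F] [CharP F 2] {σ : F →+* F} {G : Type u} [Group G] (S : Sys σ G)

theorem o_zero (a : ZMod 8) : S.o a 0 = 1 := by
  have h := S.o_add a 0 0
  rw [add_zero] at h
  exact mul_eq_left.1 h

theorem o_inv (a : ZMod 8) (t : F) : (S.o a t)⁻¹ = S.o a t := by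
  refine inv_eq_of_mul_eq_one_right ?_
  rw [S.o_add, CharTwo.add_self_eq_zero, o_zero]

/-- the root group `X_{2a+1}` -/
def OO (a : ZMod 8) : Subgroup G where
  carrier := {x | ∃ t, S.o a t = x}
  one_mem' := ⟨0, o_zero S a⟩
  mul_mem' := by
    rintro _ _ ⟨t, rfl⟩ ⟨s, rfl⟩
    exact ⟨t + s, (S.o_add a t s).symm⟩
  inv_mem' := by
    rintro _ ⟨t, rfl⟩
    exact ⟨t, (o_inv S a t).symm⟩

theorem mem_OO {a : ZMod 8} {x : G} : x ∈ OO S a ↔ ∃ t, S.o a t = x := Iff.rfl

/-- The preimage of `X_{2a+1}` is commutative. -/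
theorem abPre (a : ZMod 8) : AbPre (OO S a) := by
  refine AbPre.of_le_commutator ?_
  rintro _ ⟨t, rfl⟩
  have h1 := S.e_e1 a 1 0 t 0
  rw [one_mul] at h1
  have h2 : S.o a t = ⁅(S.e a 1 0)⁻¹, (S.e (a + 1) t 0)⁻¹⁆ := by
    rw [commutatorElement_def, inv_inv, inv_inv]
    have h3 : S.o a t = (S.e (a + 1) t 0 * S.e a 1 0)⁻¹ * (S.e a 1 0 * S.e (a + 1) t 0) := by
      rw [h1]; group
    rw [h3]; group
  rw [h2]
  refine Subgroup.commutator_mem_commutator (inv_mem ?_) (inv_mem ?_)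
  · rw [mem_centralizer_iff]
    rintro _ ⟨s, rfl⟩
    exact (S.e_o0 a 1 0 s).symm
  · rw [mem_centralizer_iff]
    rintro _ ⟨s, rfl⟩
    exact S.o_e1 a s t 0

/-- **The preimages of `Z(X_{2a})` and `X_{2a}` commute.** -/
theorem zv (a : ZMod 8) {L : Type*} [Group L] {π : L →* G} {c : L} (hd : Dbl π c)
    (hγ : ∃ (h : G) (ψ : F), ψ ≠ 1 ∧ h * S.o (a - 1) 1 = S.o (a - 1) 1 * h ∧
      ∀ s, h * S.o a s * h⁻¹ = S.o a (ψ * s)) :
    ∀ x y : L, (∃ w, S.e a 0 w = π x) → (∃ p u, S.e a p u = π y) → x * y = y * x := by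
  rintro x y ⟨w, hw⟩ ⟨p, u, hp⟩
  obtain ⟨h, ψ, hψ, hh1, hh2⟩ := hγ
  have e1 : a - 1 + 1 = a := by ring
  have e2 : a - 1 + 2 = a + 1 := by ring
  obtain ⟨A, hA⟩ := hd.surj (S.o (a - 1) 1)
  obtain ⟨B, hB⟩ := hd.surj (S.e (a + 1) w 0)
  obtain ⟨C, hC⟩ := hd.surj (S.o a (p * w))
  -- the lifts of `o (a - 1) 1` and `o a (p w)` commute
  have hψ2 : ψ * ψ + 1 ≠ 0 := by
    intro h0
    apply hψ
    have h1 : (ψ + 1) * (ψ + 1) = 0 := by
      have h2 := CharTwo.add_self_eq_zero ψ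
      linear_combination h0 + h2
    have h3 := mul_self_eq_zero.1 h1
    have h4 := CharTwo.add_self_eq_zero (1 : F)
    linear_combination h3 - h4
  obtain ⟨C', hC'⟩ := hd.surj (S.o a ((ψ * ψ + 1)⁻¹ * (p * w)))
  have hAC : A * C = C * A := by
    refine comm_lift hd (h := h) (C' := C') (by rw [hA]; exact hh1) ?_ ?_
    · rw [hA, hC']
      have := S.o_o1 (a - 1) 1 ((ψ * ψ + 1)⁻¹ * (p * w))
      rwa [e1] at this
    · rw [hC, hC']
      have k1 : h * h * S.o a ((ψ * ψ + 1)⁻¹ * (p * w)) * (h * h)⁻¹ =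
          S.o a (ψ * (ψ * ((ψ * ψ + 1)⁻¹ * (p * w)))) := by
        rw [← hh2, ← hh2]; group
      rw [k1, o_inv, S.o_add]
      congr 1
      have k2 : ψ * (ψ * ((ψ * ψ + 1)⁻¹ * (p * w))) + (ψ * ψ + 1)⁻¹ * (p * w) =
          ((ψ * ψ + 1)⁻¹ * (ψ * ψ + 1)) * (p * w) := by ring
      rw [k2, inv_mul_cancel₀ hψ2, one_mul]
  refine comm_comm hd (A := A) (B := B) (C := C) ?_ ?_ hAC ?_
  · rw [hA, ← hp]
    have := S.o_e1 (a - 1) 1 p u
    rw [e1] at this
    exact this.symm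
  · rw [hB, hC, ← hp, S.e_e1 a p u w 0, mul_assoc (S.e (a + 1) w 0) (S.e a p u), S.e_o0, ← mul_assoc]
  · rw [hA, hB, ← hw]
    have h1 := S.o_e2 (a - 1) 1 w 0
    rw [e1, e2, one_mul] at h1
    have h2 := S.o_e1 (a - 1) 1 0 w
    rw [e1] at h2
    have h3 := S.e_e1 a 0 w w 0
    rw [zero_mul, o_zero, mul_one] at h3
    rw [h1, mul_assoc, h2, ← mul_assoc, ← h3, mul_assoc]

end sys

end Cfsg.Agent.KFacts.Mult.TwFRel
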