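import Cfsg.Agent.KFacts.Mult.RGDQ
import Cfsg.Agent.KFacts.Mult.FieldAlt
import Cfsg.Agent.KFacts.Mult.Num
import Cfsg.Agent.Nodes.RGDTypeA

/-!
# No double covers of `SL_n(q)`, `PSL_n(q)`, `q` even: `n ≥ 4`, `q ≥ 4` or `n ≥ 2`, `q ≥ 8`
-/

set_option autoImplicit false
set_option linter.unusedSectionVars false

namespace Cfsg.Agent.KFacts.Mult.TypeA

open Matrix Cfsg.Agent.KFacts.MulDef Cfsg.Agent.KFacts.Mult.RGDW Cfsg.Agent.KFacts.Mult.RGDQ
  Cfsg.Agent.KFacts.Mult.FieldAlt Cfsg.Agent.KFacts.Mult.Num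
open CoxeterSystem Cfsg.Agent.ChevalleyStructure.CoxeterGeom Cfsg.Agent.Tits.Roots
open Cfsg.Agent.Nodes.Reps Cfsg.Agent.Nodes.BNOf Cfsg.Agent.Nodes.RGDLib Cfsg.Agent.Nodes.RootsA
  Cfsg.Agent.Nodes.RGDTypeA
open Cfsg.Agent.LieRecognition.BNCox (cA)
open Cfsg.Agent.TitsThree.KSideA (tv tv_of_ne tv_add tv_zero tv_neg tv_comm tv_commute diag2n_eq)
open scoped commutatorElement

section

variable {ι F : Type*} [Field F] [DecidableEq ι] [Fintype ι]

/-- a diagonal element of determinant 1 -/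
def dg (D : ι → F) (hD : ∏ i, D i = 1) : SpecialLinearGroup ι F := ⟨diagonal D, by rw [det_diagonal, hD]⟩

theorem dg_apply {D : ι → F} (hD : ∏ i, D i = 1) (a : ι) : (dg D hD).1 a a = D a := diagonal_apply_eq _ _

theorem dg_mem {D : ι → F} (hD : ∏ i, D i = 1) : dg D hD ∈ T ι F := by
  rw [mem_T]
  intro c d h
  by_contra hcd
  exact h (diagonal_apply_ne _ hcd)

theorem dg_pow {D : ι → F} (hD : ∏ i, D i = 1) {p : ℕ} (h : ∀ a, D a ^ p = 1) : dg D hD ^ p = 1 := by
  apply Subtype.ext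
  have e1 : ∀ k : ℕ, (dg D hD ^ k).1 = diagonal D ^ k := by
    intro k
    induction k with
    | zero => rw [pow_zero, pow_zero]; rfl
    | succ k ih =>
      rw [pow_succ, pow_succ, ← ih]
      rfl
  rw [e1]
  change diagonal D ^ p = 1
  rw [diagonal_pow, ← diagonal_one]
  congr 1
  funext a
  exact h a

theorem T_comm {g k : SpecialLinearGroup ι F} (hg : g ∈ T ι F) (hk : k ∈ T ι F) : g * k = k * g := by
  have h1 : ∀ g : SpecialLinearGroup ι F, g ∈ T ι F → g.1 = diagonal (fun a => g.1 a a) := by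
    intro g hg
    ext a b
    by_cases hab : a = b
    · subst hab; rw [diagonal_apply_eq]
    · rw [diagonal_apply_ne _ hab]
      by_contra h2
      exact hab (hg a b h2)
  apply Subtype.ext
  change g.1 * k.1 = k.1 * g.1
  rw [h1 g hg, h1 k hk, diagonal_mul_diagonal, diagonal_mul_diagonal]
  congr 1
  funext a
  exact mul_comm _ _

/-- The `p`-torsion of the torus. -/
def TT (ι F : Type*) [Field F] [DecidableEq ι] [Fintype ι] (p : ℕ) : Subgroup (SpecialLinearGroup ι F) where
  carrier := {g | g ∈ T ι F ∧ g ^ p = 1}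
  one_mem' := ⟨one_mem _, one_pow _⟩
  mul_mem' := by
    rintro a b ⟨ha, ha'⟩ ⟨hb, hb'⟩
    refine ⟨mul_mem ha hb, ?_⟩
    rw [(show Commute a b from T_comm ha hb).mul_pow, ha', hb', one_mul]
  inv_mem' := by
    rintro a ⟨ha, ha'⟩
    exact ⟨inv_mem ha, by rw [inv_pow, ha', inv_one]⟩

theorem mem_TT {p : ℕ} {g : SpecialLinearGroup ι F} : g ∈ TT ι F p ↔ g ∈ T ι F ∧ g ^ p = 1 := Iff.rfl

theorem conj_dg {D : ι → F} (hD : ∏ i, D i = 1) {a b : ι} (hab : a ≠ b) (t : F) :
    dg D hD * tv a b t * (dg D hD)⁻¹ = tv a b (D a * t * (D b)⁻¹) := by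
  have h1 := Mono.conj_tv (mem_T.1 (dg_mem hD)) hab t
  rw [h1]
  simp only [Equiv.Perm.coe_one, id_eq]
  rw [dg_apply, dg_apply]

/-- `Sep` from a diagonal element. -/
theorem sep_of_diag {p : ℕ} {a b c d : ι} (hab : a ≠ b) (hcd : c ≠ d) {D : ι → F} (hD : ∏ i, D i = 1)
    (hp : ∀ i, D i ^ p = 1) (hp0 : p ≠ 0) (h1 : D a = D b) (h2 : D c ≠ D d) : Sep (TT ι F p) (XX F a b) (XX F c d) := by
  have h0 : ∀ i, D i ≠ 0 := fun i hi => by
    have := hp i
    rw [hi, zero_pow hp0] at this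
    exact zero_ne_one this
  refine ⟨dg D hD, ⟨dg_mem hD, dg_pow hD hp⟩, ?_, ?_⟩
  · rintro _ ⟨t, rfl⟩
    rw [← mul_inv_eq_iff_eq_mul, conj_dg hD hab, h1]
    congr 1
    have := h0 b
    field_simp
  · rintro _ ⟨t, rfl⟩ hc
    rw [← mul_inv_eq_iff_eq_mul, conj_dg hD hcd] at hc
    have h3 := tv_inj hcd hc
    have h4 : t = 0 := by
      by_contra ht
      apply h2
      have h5 := h0 d
      field_simp at h3
      exact h3
    rw [h4, tv_zero]

theorem free_of_diag {p : ℕ} {c d : ι} (hcd : c ≠ d) {D : ι → F} (hD : ∏ i, D i = 1)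
    (hp : ∀ i, D i ^ p = 1) (hp0 : p ≠ 0) (h2 : D c ≠ D d) : Free (TT ι F p) (XX F c d) := by
  have h0 : ∀ i, D i ≠ 0 := fun i hi => by
    have := hp i
    rw [hi, zero_pow hp0] at this
    exact zero_ne_one this
  refine ⟨dg D hD, ⟨dg_mem hD, dg_pow hD hp⟩, ?_⟩
  rintro _ ⟨t, rfl⟩ hc
  rw [← mul_inv_eq_iff_eq_mul, conj_dg hD hcd] at hc
  have h3 := tv_inj hcd hc
  have h4 : t = 0 := by
    by_contra ht
    apply h2
    have h5 := h0 d
    field_simp at h3
    exact h3
  rw [h4, tv_zero]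

/-- the vector with `x` at `c`, `y` at `d` and 1 elsewhere -/
def two (c d : ι) (x y : F) : ι → F := fun k => if k = c then x else if k = d then y else 1

theorem prod_two {c d : ι} (hcd : c ≠ d) (x y : F) : ∏ i, two c d x y i = x * y := by
  unfold two
  rw [Finset.prod_ite, Finset.prod_ite]
  simp only [Finset.prod_const_one, mul_one, Finset.prod_const]
  have h1 : (Finset.univ.filter fun i => i = c) = {c} := by ext; simp
  have h2 : ((Finset.univ.filter fun i => ¬ i = c).filter fun i => i = d) = {d} := by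
    ext i
    simp only [Finset.mem_filter, Finset.mem_univ, true_and, Finset.mem_singleton]
    exact ⟨fun h => h.2, fun h => ⟨fun h' => hcd (h' ▸ h), h⟩⟩
  rw [h1, h2]
  simp

end

section Main

variable {n : ℕ} (F : Type*) [Field F] [Finite F] [CharP F 2]

theorem abPre_of_three {a b c : Fin (n + 1)} (hab : a ≠ b) (hac : a ≠ c) (hbc : b ≠ c) : AbPre (XX F a b) := by
  apply AbPre.of_le_commutator
  rintro _ ⟨t, rfl⟩
  have e := tv_comm hac hbc.symm hab t (1 : F)
  rw [mul_one] at e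
  rw [← e]
  refine Subgroup.commutator_mem_commutator ?_ ?_
  · rw [Subgroup.mem_centralizer_iff]
    rintro _ ⟨s, rfl⟩
    exact (tv_commute (a := a) (b := b) (c := a) (d := c) hab.symm hac s t).eq
  · rw [Subgroup.mem_centralizer_iff]
    rintro _ ⟨s, rfl⟩
    exact (tv_commute (a := a) (b := b) (c := c) (d := b) hbc hab s 1).eq

theorem abPre_of_card (hq : 4 < Nat.card F) {a b : Fin (n + 1)} (hab : a ≠ b) : AbPre (XX F a b) := by
  refine AbPre.of_field hq (fun t => tv a b t) (fun s t => tv_add a b s t) ?_ ?_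
  · intro c hc
    obtain ⟨y, hy⟩ := sq_surjective c
    have hy0 : y ≠ 0 := by rintro rfl; exact hc (by rw [← hy, zero_mul])
    refine ⟨dg (two a b y y⁻¹) (by rw [prod_two hab, mul_inv_cancel₀ hy0]), fun t => ?_⟩
    rw [conj_dg _ hab]
    congr 1
    have e1 : two a b y y⁻¹ a = y := by simp [two]
    have e2 : two a b y y⁻¹ b = y⁻¹ := by simp [two, hab.symm]
    rw [e1, e2, inv_inv, ← hy]
    ring
  · rintro _ ⟨t, rfl⟩
    exact ⟨t, rfl⟩

/-- the data at an odd prime `p` -/
theorem data {p : ℕ} [Fact p.Prime] (hodd : Odd p) {l : F} (hl0 : l ≠ 0) (hl : orderOf l = p)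
    (hn : 3 ≤ n ∨ 5 ≤ p) :
    (∀ i : Fin n, Cfsg.Agent.KFacts.Mult.RGDW.Free (TT (Fin (n + 1)) F p) (X F (sr i))) ∧
    (∀ (i : Fin n) (c d : Fin (n + 1)), c ≠ d → rtA c d ≠ sr i → rtA c d ≠ -sr i →
      Sep (TT (Fin (n + 1)) F p) (X F (sr i)) (X F (rtA c d))) := by
  have hpp : p.Prime := Fact.out
  have hp0 : p ≠ 0 := hpp.ne_zero
  have hlp : l ^ p = 1 := by rw [← hl, pow_orderOf_eq_one]
  have hlz := zpow_eq_one_iff hl0 hl
  have hp3 : 3 ≤ p := by
    have := hpp.two_le
    rcases hodd with ⟨k, hk⟩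
    omega
  have hl1 : l ≠ 1 := by
    intro h1
    rw [h1, orderOf_one] at hl
    exact hpp.one_lt.ne hl
  have hl2 : l * l ≠ 1 := by
    intro h1
    have h2 : l ^ (2 : ℤ) = 1 := by rw [zpow_ofNat, pow_two, h1]
    have h3 := Int.le_of_dvd (by norm_num) ((hlz 2).1 h2)
    omega
  have hlinv : l ≠ l⁻¹ := fun h1 => hl2 (by
    nth_rw 2 [h1]; exact mul_inv_cancel₀ hl0)
  have htwo : ∀ (c d : Fin (n + 1)) (i : Fin (n + 1)), (two c d l l⁻¹ i) ^ p = 1 := by
    intro c d i
    unfold two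
    split_ifs
    · exact hlp
    · rw [inv_pow, hlp, inv_one]
    · exact one_pow _
  constructor
  · intro i
    rw [X_sr]
    have hne : i.castSucc ≠ i.succ := (Fin.castSucc_lt_succ).ne
    refine free_of_diag hne (D := two i.castSucc i.succ l l⁻¹) (by rw [prod_two hne, mul_inv_cancel₀ hl0])
      (htwo _ _) hp0 ?_
    have e1 : two i.castSucc i.succ l l⁻¹ i.castSucc = l := by simp [two]
    have e2 : two i.castSucc i.succ l l⁻¹ i.succ = l⁻¹ := by simp [two, hne.symm]
    rw [e1, e2]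
    exact hlinv
  · intro i c d hcd hne hne'
    rw [X_sr, X_rtA hcd]
    set a := i.castSucc with ha
    set b := i.succ with hb
    have hab : a ≠ b := (Fin.castSucc_lt_succ).ne
    have h1 : ¬ (c = a ∧ d = b) := by
      rintro ⟨rfl, rfl⟩
      exact hne (rtA_sr i)
    have h2 : ¬ (c = b ∧ d = a) := by
      rintro ⟨rfl, rfl⟩
      exact hne' (by rw [← rtA_sr, rtA_neg])
    by_cases hdisj : c ≠ a ∧ c ≠ b ∧ d ≠ a ∧ d ≠ b
    · obtain ⟨h3, h4, h5, h6⟩ := hdisj
      refine sep_of_diag hab hcd (D := two c d l l⁻¹) (by rw [prod_two hcd, mul_inv_cancel₀ hl0]) (htwo _ _) hp0 ?_ ?_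
      · simp [two, h3.symm, h4.symm, h5.symm, h6.symm]
      · have e1 : two c d l l⁻¹ c = l := by simp [two]
        have e2 : two c d l l⁻¹ d = l⁻¹ := by simp [two, hcd.symm]
        rw [e1, e2]
        exact hlinv
    · -- exactly one of `c`, `d` is in `{a, b}`: call the other one `z`
      have key : ∀ z : Fin (n + 1), z ≠ a → z ≠ b → ∃ D : Fin (n + 1) → F, (∏ i, D i = 1) ∧ (∀ i, D i ^ p = 1) ∧
          D a = D b ∧ D a ≠ D z := by
        intro z hza hzb
        rcases hn with hn | hn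
        · obtain ⟨e, he⟩ : ∃ e : Fin (n + 1), e ∉ ({a, b, z} : Finset (Fin (n + 1))) := by
            by_contra hcon
            push Not at hcon
            have h3 : (Finset.univ : Finset (Fin (n + 1))) ⊆ {a, b, z} := fun x _ => hcon x
            have h4 := Finset.card_le_card h3
            have h5 : ({a, b, z} : Finset (Fin (n + 1))).card ≤ 3 := Finset.card_le_three
            rw [Finset.card_univ, Fintype.card_fin] at h4
            omega
          simp only [Finset.mem_insert, Finset.mem_singleton, not_or] at he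
          obtain ⟨hea, heb, hez⟩ := he
          refine ⟨two z e l l⁻¹, by rw [prod_two (Ne.symm hez), mul_inv_cancel₀ hl0], htwo _ _, ?_, ?_⟩
          · simp [two, hza.symm, hzb.symm, Ne.symm hea, Ne.symm heb]
          · have e1 : two z e l l⁻¹ a = 1 := by simp [two, hza.symm, Ne.symm hea]
            have e2 : two z e l l⁻¹ z = l := by simp [two]
            rw [e1, e2]
            exact hl1.symm
        · -- `diag(l, l, l⁻²)`
          refine ⟨fun k => two a z l l⁻¹ k * two b z l l⁻¹ k, ?_, ?_, ?_, ?_⟩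
          · rw [Finset.prod_mul_distrib, prod_two (Ne.symm hza), prod_two (Ne.symm hzb), mul_inv_cancel₀ hl0, one_mul]
          · intro k
            rw [mul_pow, htwo, htwo, one_mul]
          · simp [two, hza.symm, hzb.symm, hab, hab.symm]
          · have e1 : two a z l l⁻¹ a * two b z l l⁻¹ a = l := by simp [two, hza.symm, hab]
            have e2 : two a z l l⁻¹ z * two b z l l⁻¹ z = l⁻¹ * l⁻¹ := by simp [two, hza, hzb]
            simp only [e1, e2]
            intro h3
            have h4 : l ^ (3 : ℤ) = 1 := by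
              have h5 : l * l * l = 1 := by
                have h6 : l * (l * l) = 1 := by
                  nth_rw 1 [h3]
                  field_simp
                rw [mul_assoc]; exact h6
              rw [zpow_ofNat, pow_succ, pow_two, h5]
            have h5 := Int.le_of_dvd (by norm_num) ((hlz 3).1 h4)
            omega
      by_cases hc : c = a ∨ c = b
      · have hd : d ≠ a ∧ d ≠ b := by
          constructor
          · rintro rfl
            rcases hc with rfl | rfl
            · exact hcd rfl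
            · exact h2 ⟨rfl, rfl⟩
          · rintro rfl
            rcases hc with rfl | rfl
            · exact h1 ⟨rfl, rfl⟩
            · exact hcd rfl
        obtain ⟨D, hD, hDp, hD1, hD2⟩ := key d hd.1 hd.2
        refine sep_of_diag hab hcd hD hDp hp0 hD1 ?_
        rcases hc with rfl | rfl
        · exact hD2
        · rw [← hD1]; exact hD2
      · have hc' : c ≠ a ∧ c ≠ b := by
          constructor
          · rintro rfl; exact hc (Or.inl rfl)
          · rintro rfl; exact hc (Or.inr rfl)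
        have hd : d = a ∨ d = b := by
          by_contra hcon
          push Not at hcon
          exact hdisj ⟨hc'.1, hc'.2, hcon.1, hcon.2⟩
        obtain ⟨D, hD, hDp, hD1, hD2⟩ := key c hc'.1 hc'.2
        refine sep_of_diag hab hcd hD hDp hp0 hD1 ?_
        rcases hd with rfl | rfl
        · exact hD2.symm
        · rw [← hD1]; exact hD2.symm

theorem TT_normal {p : ℕ} (i : Fin n) :
    ns n F i ∈ Subgroup.normalizer (TT (Fin (n + 1)) F p : Set (SpecialLinearGroup (Fin (n + 1)) F)) := by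
  rw [Subgroup.mem_normalizer_iff]
  intro t
  have h1 := (Subgroup.mem_normalizer_iff.1 (mono_ns (F := F) i).mem_normalizer) t
  have h2 : (ns n F i * t * (ns n F i)⁻¹) ^ p = 1 ↔ t ^ p = 1 := by
    rw [conj_pow]
    constructor
    · intro h
      have e : t ^ p = (ns n F i)⁻¹ * (ns n F i * t ^ p * (ns n F i)⁻¹) * ns n F i := by group
      rw [e, h]; group
    · intro h; rw [h]; group
  rw [mem_TT, mem_TT, h2]
  exact and_congr_left fun _ => h1

theorem isPGroup_TT (p : ℕ) : IsPGroup p (TT (Fin (n + 1)) F p) := by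
  rintro ⟨g, hg, hgp⟩
  exact ⟨1, Subtype.ext (by rw [pow_one]; exact hgp)⟩

/-- a prime for the weights -/
theorem exists_prime (hq : (3 ≤ n ∧ 2 < Nat.card F) ∨ 4 < Nat.card F) :
    ∃ (p : ℕ) (_ : Fact p.Prime) (l : F), Odd p ∧ (3 ≤ n ∨ 5 ≤ p) ∧ l ≠ 0 ∧ orderOf l = p := by
  rcases hq with ⟨hn, hq⟩ | hq
  · obtain ⟨p, hpf, b, hodd, hb0, hb⟩ := exists_odd_prime hq
    exact ⟨p, hpf, b, hodd, Or.inl hn, hb0, hb⟩
  · obtain ⟨p, hpf, b, hodd, h5, hb0, hb⟩ := exists_prime_five hq
    exact ⟨p, hpf, b, hodd, Or.inr h5, hb0, hb⟩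

theorem noDouble_SL (hq : (3 ≤ n ∧ 2 < Nat.card F) ∨ 4 < Nat.card F) :
    NoDouble (SpecialLinearGroup (Fin (n + 1)) F) := by
  have : Fact (Nat.Prime 2) := ⟨Nat.prime_two⟩
  obtain ⟨p, hpf, b, hodd, hnp, hb0, hb⟩ := exists_prime F hq
  set cs := (cA n).toCoxeterSystem with hcs
  have hW : Finite (cA n).Group := finite_W cs (Cfsg.Agent.Nodes.RootsA.isCartan n)
  have R := rgd (F := F) (p := 2) cs (Cfsg.Agent.Nodes.RootsA.isCartan n)
  obtain ⟨h1, h2⟩ := data F (n := n) hodd hb0 hb hnp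
  refine noDouble_of_simple R (GG_eq_top_of_G1 (G1_eq_top cs _)) hodd (T' := TT (Fin (n + 1)) F p)
    (fun g hg => hg.1) (isPGroup_TT F p) (TT_normal F) ?_ h1 ?_
  · intro i y hy hne hne'
    obtain ⟨c, d, hcd, rfl⟩ := exists_of_isRoot cs _ hy
    exact h2 i c d hcd hne hne'
  · intro i
    rw [X_sr]
    have hab : i.castSucc ≠ i.succ := (Fin.castSucc_lt_succ).ne
    rcases hq with ⟨hn, hq⟩ | hq
    · obtain ⟨e, he⟩ : ∃ e : Fin (n + 1), e ∉ ({i.castSucc, i.succ} : Finset (Fin (n + 1))) := by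
        by_contra hcon
        push Not at hcon
        have h3 : (Finset.univ : Finset (Fin (n + 1))) ⊆ {i.castSucc, i.succ} := fun x _ => hcon x
        have h4 := Finset.card_le_card h3
        have h5 : ({i.castSucc, i.succ} : Finset (Fin (n + 1))).card ≤ 2 := Finset.card_le_two
        rw [Finset.card_univ, Fintype.card_fin] at h4
        omega
      simp only [Finset.mem_insert, Finset.mem_singleton, not_or] at he
      exact abPre_of_three F hab (Ne.symm he.1) (Ne.symm he.2)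
    · exact abPre_of_card F hq hab

theorem noDouble_PSL' (hq : (3 ≤ n ∧ 2 < Nat.card F) ∨ 4 < Nat.card F) :
    NoDouble (ProjectiveSpecialLinearGroup (Fin (n + 1)) F) := by
  have : Fact (Nat.Prime 2) := ⟨Nat.prime_two⟩
  obtain ⟨p, hpf, b, hodd, hnp, hb0, hb⟩ := exists_prime F hq
  set cs := (cA n).toCoxeterSystem with hcs
  have hW : Finite (cA n).Group := finite_W cs (Cfsg.Agent.Nodes.RootsA.isCartan n)
  have R := rgd (F := F) (p := 2) cs (Cfsg.Agent.Nodes.RootsA.isCartan n)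
  obtain ⟨h1, h2⟩ := data F (n := n) hodd hb0 hb hnp
  exact noDouble_quot R (G1_eq_top cs _) (T' := TT (Fin (n + 1)) F p) (fun g hg => hg.1)
    (fun x hx => free_all R (TT_normal F) h1 hx) (noDouble_SL F hq) (pr n F) pr_surjective ker_pr.le

/-- **`PSL_n(F)`, `char F = 2`: `n ≥ 4` and `|F| ≥ 4`, or `n ≥ 2` and `|F| ≥ 8`.** -/
theorem noDouble_PSL (hn : 0 < n) (hq : (4 ≤ n ∧ 2 < Nat.card F) ∨ 4 < Nat.card F) :
    NoDouble (ProjectiveSpecialLinearGroup (Fin n) F) := by
  obtain ⟨m, rfl⟩ : ∃ m, n = m + 1 := ⟨n - 1, by omega⟩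
  exact noDouble_PSL' F (hq.imp_left fun h => ⟨by omega, h.2⟩)

end Main

end Cfsg.Agent.KFacts.Mult.TypeA
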