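import Cfsg.Agent.KFacts.Mult.WittCount
import Cfsg.Agent.KFacts.Mult.WittSpan

/-!
# Unitary groups over the field with four elements: the chain argument (helper430)

`UBase M`: `F` has four elements, a torus `T` of odd order. `Facts`: the commutators of lifts of root elements.
`false_of_facts`: no perfect double cover.
-/

set_option autoImplicit false
set_option linter.unusedVariables false

namespace Cfsg.Agent.KFacts.Mult.UnitTwo

open Cfsg.Agent.TitsThree.Siegel Cfsg.Agent.TitsThree.WittFrame Cfsg.Agent.TitsThree.WittWeyl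
open Cfsg.Agent.TitsThree.FrameCN Cfsg.Agent.KFacts.Mult.ChainZ Cfsg.Agent.KFacts.Mult.WittTwo
open Cfsg.Agent.KFacts.Mult.Calc Cfsg.Agent.KFacts.MulDef Cfsg.Agent.KFacts.Mult.Chain
open scoped commutatorElement

variable {F : Type*} [Field F] {V : Type*} [AddCommGroup V] [Module F V] {H : HForm F V} {m : ℕ}
  {Fr : Frame H (Fin m)} {K : Type*} [Group K]

/-- `t` acts on the root groups with the weights `a` on the frame and `a0` on `V0`. -/
structure TW (M : Model Fr K) (t : K) (a : Fin m × Bool → F) (a0 : F) : Prop where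
  ne : ∀ x, a x ≠ 0
  ne0 : a0 ≠ 0
  opp : ∀ x, a x * H.σ (a (neg x)) = 1
  X : ∀ x y s, t * M.X x y s * t⁻¹ = M.X x y (a x * H.σ (a y) * s)
  Z : ∀ x p, t * M.Z x p * t⁻¹ = M.Z x (Frame.Adm.smul (H.σ (a x) * a0) p)

/-- The data. -/
structure UBase (M : Model Fr K) where
  h2 : (2 : F) = 0
  hε : H.ε = 1
  ζ : F
  hζ : ζ * ζ = ζ + 1
  hF : ∀ s : F, s = 0 ∨ s = 1 ∨ s = ζ ∨ s = ζ + 1
  hσ : ∀ s, H.σ s = s * s
  T : Subgroup K
  odd : Odd (Nat.card T)
  tw : ∀ t ∈ T, ∃ a a0, TW M t a a0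

namespace UBase

variable {M : Model Fr K} (B : UBase M)

include B

theorem dbl (a : F) : a + a = 0 := by rw [← two_mul, B.h2, zero_mul]

theorem ζ_ne_zero : B.ζ ≠ 0 := by
  intro h
  have := B.hζ
  rw [h] at this
  simp at this

theorem ζ_ne_one : B.ζ ≠ 1 := by
  intro h
  have := B.hζ
  rw [h, B.dbl, mul_one] at this
  exact one_ne_zero this

theorem u_ne_zero : B.ζ + 1 ≠ 0 := by
  intro h
  apply B.ζ_ne_one
  have := B.dbl 1
  exact (add_right_cancel (h.trans this.symm))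

theorem u_ne_one : B.ζ + 1 ≠ 1 := by
  intro h
  exact B.ζ_ne_zero (by simpa using h)

theorem ζu : B.ζ * (B.ζ + 1) = 1 := by
  rw [mul_add, B.hζ, mul_one]
  have := B.dbl B.ζ
  linear_combination this

theorem uζ : (B.ζ + 1) * B.ζ = 1 := by rw [mul_comm, B.ζu]

theorem uu : (B.ζ + 1) * (B.ζ + 1) = B.ζ := by
  have := B.dbl 1
  have h3 := B.dbl B.ζ
  have h4 := B.hζ
  linear_combination h4 + this + h3

theorem σζ : H.σ B.ζ = B.ζ + 1 := by rw [B.hσ, B.hζ]

theorem σu : H.σ (B.ζ + 1) = B.ζ := by rw [B.hσ, B.uu]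

theorem norm {a : F} (ha : a ≠ 0) : a * H.σ a = 1 := by
  rw [B.hσ]
  rcases B.hF a with h | h | h | h
  · exact absurd h ha
  · rw [h]; ring
  · rw [h, B.hζ, B.ζu]
  · rw [h, B.uu, B.uζ]

/-- the central admissible pair -/
def zc : Fr.Adm := Frame.Adm.tr B.ζ

theorem zc_w : B.zc.w = 0 := rfl

theorem tr_c (s : F) : (Frame.Adm.tr s : Fr.Adm).c = s + H.σ s := by
  rw [Frame.Adm.tr_c, B.hε, inv_one, one_mul, sub_eq_add_neg, neg_eq B.h2]

theorem zc_c : B.zc.c = 1 := by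
  rw [zc, B.tr_c, B.σζ, ← add_assoc, B.dbl, zero_add]

theorem adm_cases {p : Fr.Adm} (hp : p.w = 0) : p = 1 ∨ p = B.zc := by
  have h1 := p.herm
  rw [hp, H.zero_left, neg_zero, B.hε, one_mul, B.hσ] at h1
  have key : p.c = 0 ∨ p.c = 1 := by
    rcases B.hF p.c with h | h | h | h
    · exact Or.inl h
    · exact Or.inr h
    · exfalso
      rw [h, B.hζ, ← add_assoc, B.dbl, zero_add] at h1
      exact one_ne_zero h1
    · exfalso
      rw [h, B.uu] at h1
      have h3 : B.ζ + 1 + B.ζ = 1 := by linear_combination B.dbl B.ζ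
      rw [h3] at h1
      exact one_ne_zero h1
  rcases key with h | h
  · left; exact Frame.Adm.ext hp h
  · right; exact Frame.Adm.ext hp (by rw [h, B.zc_c])

theorem tr_cases (s : F) : (Frame.Adm.tr s : Fr.Adm) = 1 ∨ (Frame.Adm.tr s : Fr.Adm) = B.zc :=
  B.adm_cases rfl

theorem zc_ne : B.zc ≠ 1 := by
  intro h
  have := congrArg Frame.Adm.c h
  rw [B.zc_c] at this
  exact one_ne_zero this

theorem smul_fix {a : F} (ha : a ≠ 0) {p : Fr.Adm} (hp : p.w = 0) : Frame.Adm.smul a p = p := by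
  apply Frame.Adm.ext
  · rw [Frame.Adm.smul_w, hp, smul_zero]
  · rw [Frame.Adm.smul_c, B.norm ha, one_mul]

theorem zc_mul : B.zc * B.zc = 1 := by
  apply Frame.Adm.ext
  · rw [Frame.Adm.mul_w, B.zc_w, add_zero]; rfl
  · rw [Frame.Adm.mul_c, B.zc_c, B.zc_w, H.zero_left, mul_zero, sub_zero, B.dbl]; rfl

theorem ZC_mul (x : Fin m × Bool) : M.Z x B.zc * M.Z x B.zc = 1 := by
  rw [← Z_mul, B.zc_mul, Z_one]

/-! ### Moving and centralising -/

theorem fixX {t : K} {a : Fin m × Bool → F} {a0 : F} (h : TW M t a a0) {x y : Fin m × Bool}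
    (hw : a x * H.σ (a y) = 1) (s : F) : Commute t (M.X x y s) := by
  have := h.X x y s
  rw [hw, one_mul, mul_inv_eq_iff_eq_mul] at this
  exact this

theorem moveX {t : K} {a : Fin m × Bool → F} {a0 : F} (h : TW M t a a0) {x y : Fin m × Bool}
    (hw : a x * H.σ (a y) ≠ 1) (s : F) : ∃ s', ⁅t, M.X x y s'⁆ = M.X x y s := by
  set c := a x * H.σ (a y)
  refine ⟨(c - 1)⁻¹ * s, ?_⟩
  have hc : c - 1 ≠ 0 := sub_ne_zero.2 hw
  rw [commutatorElement_def, h.X, mul_inv_eq_iff_eq_mul, ← X_add]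
  congr 1
  field_simp
  ring

theorem fixZ {t : K} {a : Fin m × Bool → F} {a0 : F} (h : TW M t a a0) {x : Fin m × Bool}
    (hw : H.σ (a x) * a0 = 1) (p : Fr.Adm) : Commute t (M.Z x p) := by
  have := h.Z x p
  rw [hw, Frame.Adm.one_smul, mul_inv_eq_iff_eq_mul] at this
  exact this

theorem fixC {t : K} {a : Fin m × Bool → F} {a0 : F} (h : TW M t a a0) (x : Fin m × Bool) {p : Fr.Adm}
    (hp : p.w = 0) : Commute t (M.Z x p) := by
  have := h.Z x p
  rw [B.smul_fix (mul_ne_zero (by simpa using h.ne x) h.ne0) hp, mul_inv_eq_iff_eq_mul] at this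
  exact this

theorem moveZ {t : K} {a : Fin m × Bool → F} {a0 : F} (h : TW M t a a0) {x : Fin m × Bool}
    (hw : H.σ (a x) * a0 ≠ 1) (p : Fr.Adm) : ∃ q e : Fr.Adm, e.w = 0 ∧ M.Z x p = ⁅t, M.Z x q⁆ * M.Z x e := by
  set c := H.σ (a x) * a0
  have hc : c - 1 ≠ 0 := sub_ne_zero.2 hw
  refine ⟨Frame.Adm.smul (c - 1)⁻¹ p,
    (Frame.Adm.smul c (Frame.Adm.smul (c - 1)⁻¹ p) * (Frame.Adm.smul (c - 1)⁻¹ p)⁻¹)⁻¹ * p, ?_, ?_⟩
  · simp only [Frame.Adm.mul_w, Frame.Adm.inv_w, Frame.Adm.smul_w]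
    rw [smul_smul, ← sub_eq_add_neg, ← sub_smul]
    have : c * (c - 1)⁻¹ - (c - 1)⁻¹ = 1 := by field_simp
    rw [this, one_smul, neg_add_cancel]
  · rw [commutatorElement_def, h.Z, ← Z_inv, ← Z_mul, ← Z_mul, mul_inv_cancel_left]

end UBase

/-- The commutators of lifts. -/
structure Facts {M : Model Fr K} (B : UBase M) {L : Type*} [Group L] {π : L →* K} (ce : CE π)
    (zt : Fin m × Bool → L) : Prop where
  map_zt : ∀ x, π (zt x) = M.Z x B.zc
  sq_zt : ∀ x, zt x * zt x = 1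
  tT : ∀ x, ∀ t ∈ B.T, ∀ t' : L, π t' = t → t' * zt x * t'⁻¹ = zt x
  xx : ∀ x y z w : Fin m × Bool, x.1 ≠ y.1 → z.1 ≠ w.1 → z ≠ neg x → z ≠ neg y → w ≠ neg x → w ≠ neg y →
    ∀ s t, ce.lc (M.X x y s) (M.X z w t) = 1
  xxD : ∀ x y : Fin m × Bool, x.1 ≠ y.1 → ∀ s t,
    ce.lc (M.X x y s) (M.X x (neg y) t) = 1 ∨ ce.lc (M.X x y s) (M.X x (neg y) t) = zt x
  xz : ∀ x y z : Fin m × Bool, x.1 ≠ y.1 → x ≠ neg z → y ≠ neg z → ∀ s p, ce.lc (M.X x y s) (M.Z z p) = 1
  xxT : ∀ x y z : Fin m × Bool, x.1 ≠ y.1 → y.1 ≠ z.1 → x.1 ≠ z.1 →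
    ∃ h ∈ B.T, (∀ t, Commute h (M.X (neg y) z t)) ∧ ∀ s, ∃ s', ⁅h, M.X x y s'⁆ = M.X x y s
  xzT : ∀ x z : Fin m × Bool, x.1 ≠ z.1 →
    ∃ h ∈ B.T, (∀ p, Commute h (M.Z z p)) ∧ ∀ s, ∃ s', ⁅h, M.X x (neg z) s'⁆ = M.X x (neg z) s
  zzT : ∀ x y : Fin m × Bool, x.1 ≠ y.1 →
    ∃ h ∈ B.T, (∀ p, Commute h (M.Z x p)) ∧
      ∀ q, ∃ q' e : Fr.Adm, e.w = 0 ∧ M.Z y q = ⁅h, M.Z y q'⁆ * M.Z y e
  zcc : ∀ (x y : Fin m × Bool) (p e : Fr.Adm), x ≠ neg y → e.w = 0 → ce.lc (M.Z x p) (M.Z y e) = 1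
  zz : ∀ (x : Fin m × Bool) (p q : Fr.Adm), ce.lc (M.Z x p) (M.Z x q) = 1 ∨ ce.lc (M.Z x p) (M.Z x q) = zt x

namespace Facts

variable {M : Model Fr K} {B : UBase M} {L : Type*} [Group L] {π : L →* K} {ce : CE π}
  {zt : Fin m × Bool → L} (E : Facts B ce zt) {c : L} (hd : Dbl π c) {W : Subgroup L} {n k : ℕ}

theorem n1 {a b : Fin m × Bool} (h : a.1 ≠ b.1) : a ≠ neg b := by
  rintro rfl; exact h rfl

/-- `W` contains the lifts `zt x` of key `< k`. -/
def Sp (W : Subgroup L) (zt : Fin m × Bool → L) (k : ℕ) : Prop :=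
  ∀ x : Fin m × Bool, x.2 = true → key m (pos x) (pos x) < k → zt x ∈ W

theorem ps_of_pos {x y : Fin m × Bool} (h : x ≠ y) (hx : x.2 = true) (hy : y.2 = true) : Ps x y := by
  have l1 := (pos_lt_iff x).2 hx
  have l2 := (pos_lt_iff y).2 hy
  refine ⟨fst_ne h ?_, by omega⟩
  rintro rfl
  simp [neg] at hx
  rw [hy] at hx; exact absurd hx (by simp)

theorem conj_mem {h a : K} {U : Subgroup K} (h1 : ⁅h, a⁆ ∈ U) (h2 : a ∈ U) : h * a * h⁻¹ ∈ U := by
  have : h * a * h⁻¹ = ⁅h, a⁆ * a := by rw [commutatorElement_def, inv_mul_cancel_right]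
  rw [this]; exact mul_mem h1 h2

include E hd

theorem cmXX (hn : n = (2 * m + 1) * (2 * m + 1)) (hW : Cpl π c (Vk (gens M) n) B.T (Vk (gens M) k) W)
    (hs : Sp W zt k) {x y z w : Fin m × Bool} (h1 : Ps x y) (h2 : Ps z w)
    (hk : ∀ j, j < key m (pos x) (pos y) → j < key m (pos z) (pos w) → j < k) (s t : F) :
    CM π W (M.X x y s) (M.X z w t) := by
  have hU : ∀ {x y : Fin m × Bool} (s : F), Ps x y → M.X x y s ∈ Vk (gens M) n := by
    intro x y s h
    rw [hn]; exact mem_Vk (key_lt_bound (pos_le _) (pos_le _)) (X_mem_gens M h s)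
  have main : ∀ {x y z w : Fin m × Bool} (s t : F), Ps x y → Ps z w →
      (∀ j, j < key m (pos x) (pos y) → j < key m (pos z) (pos w) → j < k) → z = neg y →
      CM π W (M.X x y s) (M.X z w t) := by
    rintro x y _ w s t h1 h2 hk rfl
    have e := pos_add_neg y
    have l1 := h1.2
    have l2 := h2.2
    have hyw : y.1 ≠ w.1 := h2.1
    by_cases hxw : x = w
    · subst hxw
      have h3 := E.xxD x y h1.1 s (H.σ t)
      have h4 : M.X (neg y) x t = M.X x (neg y) (H.σ t) := X_swap M B.h2 B.hε (x := neg y) (y := x) hyw t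
      rw [← h4] at h3
      rcases h3 with h3 | h3
      · exact CM.of_lc_one ce h3
      · refine CM.of_lc ce ?_
        rw [h3]
        refine hs x ((pos_lt_iff x).1 (by omega)) (hk _ ?_ ?_)
        · exact key_lt_of_lt (pos_le _) (pos_le _) (by omega)
        · exact key_lt_of_lt' (pos_le _) (pos_le _) (by omega)
    · have hxw' : x.1 ≠ w.1 := by
        refine fst_ne hxw ?_
        rintro rfl
        have := pos_add_neg w
        omega
      obtain ⟨h, hT, hc1, hc2⟩ := E.xxT x y w h1.1 hyw hxw'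
      obtain ⟨s', hs'⟩ := hc2 s
      refine CM.of_torus hd hW (h := h) (x' := M.X x y s') (v := 1) hT (hU t h2) (hc1 t).eq
        (by rw [hs', mul_one]) (one_mem _) (hU _ h1) (conj_mem (by rw [hs']; exact hU _ h1) (hU _ h1)) ?_
      rw [br_XX M h1.1 hyw hxw']
      refine mem_Vk (hk _ ?_ ?_) (X_mem_gens M ⟨hxw', by omega⟩ _)
      · exact key_lt_of_lt (pos_le _) (pos_le _) (by omega)
      · exact key_lt_of_lt' (pos_le _) (pos_le _) (by omega)
  have sw : ∀ {x y : Fin m × Bool} (h : Ps x y) (s : F), M.X x y s = M.X y x (H.σ s) :=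
    fun h s => X_swap M B.h2 B.hε h.1 s
  by_cases a1 : z = neg y
  · exact main s t h1 h2 hk a1
  by_cases a2 : z = neg x
  · rw [sw h1]
    exact main _ _ h1.symm h2 (by rw [key_comm]; exact hk) a2
  by_cases a3 : w = neg y
  · rw [sw h2]
    exact main _ _ h1 h2.symm (by rw [key_comm (pos w)]; exact hk) a3
  by_cases a4 : w = neg x
  · rw [sw h1, sw h2]
    exact main _ _ h1.symm h2.symm (by rw [key_comm (pos y), key_comm (pos w)]; exact hk) a4
  exact CM.of_lc_one ce (E.xx x y z w h1.1 h2.1 a2 a1 a4 a3 s t)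

theorem cmXZ (hn : n = (2 * m + 1) * (2 * m + 1)) (hW : Cpl π c (Vk (gens M) n) B.T (Vk (gens M) k) W)
    {x y z : Fin m × Bool} (h1 : Ps x y) (h2 : z.2 = true) (s : F) (p : Fr.Adm)
    (hk : (∀ j, j < key m (pos x) (pos y) → j < key m (pos z) m → j < k) ∨
      p.w = 0 ∧ ∀ j, j < key m (pos x) (pos y) → j < key m (pos z) (pos z) → j < k) :
    CM π W (M.X x y s) (M.Z z p) := by
  have lz := (pos_lt_iff z).2 h2
  have hU : ∀ {x y : Fin m × Bool} (s : F), Ps x y → M.X x y s ∈ Vk (gens M) n := by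
    intro x y s h
    rw [hn]; exact mem_Vk (key_lt_bound (pos_le _) (pos_le _)) (X_mem_gens M h s)
  have main : ∀ {x y : Fin m × Bool} (s : F), Ps x y →
      ((∀ j, j < key m (pos x) (pos y) → j < key m (pos z) m → j < k) ∨
      p.w = 0 ∧ ∀ j, j < key m (pos x) (pos y) → j < key m (pos z) (pos z) → j < k) → y = neg z →
      CM π W (M.X x y s) (M.Z z p) := by
    rintro x _ s h1 hk rfl
    have e := pos_add_neg z
    have l1 := h1.2
    have hxz : x.1 ≠ z.1 := h1.1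
    have hx : x.2 = true := (pos_lt_iff x).1 (by omega)
    obtain ⟨h, hT, hc1, hc2⟩ := E.xzT x z hxz
    obtain ⟨s', hs'⟩ := hc2 s
    refine CM.of_torus hd hW (h := h) (x' := M.X x (neg z) s') (v := 1) hT ?_ (hc1 p).eq
      (by rw [hs', mul_one]) (one_mem _) (hU _ h1) (conj_mem (by rw [hs']; exact hU _ h1) (hU _ h1)) ?_
    · rw [hn]; exact mem_Vk (key_lt_bound (pos_le _) (by omega)) (Z_mem_gens M h2 p)
    · rw [br_XZ M B.h2 B.hε hxz]
      have hps : Ps x z := ⟨hxz, by omega⟩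
      rcases hk with hk | ⟨hp, hk⟩
      · refine mul_mem (mem_Vk (hk _ ?_ ?_) (Z_mem_gens M hx _)) (mem_Vk (hk _ ?_ ?_) (X_mem_gens M hps _))
        · exact key_lt_of_lt (pos_le _) (pos_le _) (by omega)
        · exact key_lt_of_lt' (by omega) (pos_le _) (by omega)
        · exact key_lt_of_lt (pos_le _) (pos_le _) (by omega)
        · rw [key_comm]; exact key_lt_of_lt (pos_le _) (by omega) (by omega)
      · refine mul_mem (mem_Vk (hk _ ?_ ?_) (C_mem_gens M hx _ (by rw [Frame.Adm.smul_w, hp, smul_zero])))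
          (mem_Vk (hk _ ?_ ?_) (X_mem_gens M hps _))
        · exact key_lt_of_lt (pos_le _) (pos_le _) (by omega)
        · refine (key_lt_of_lt (b' := pos x) (b := pos z) (pos_le _) (pos_le _) (by omega)).trans ?_
          exact key_lt_of_lt' (pos_le _) (pos_le _) (by omega)
        · exact key_lt_of_lt (pos_le _) (pos_le _) (by omega)
        · exact key_lt_of_lt' (pos_le _) (pos_le _) (by omega)
  have sw : ∀ {x y : Fin m × Bool} (h : Ps x y) (s : F), M.X x y s = M.X y x (H.σ s) :=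
    fun h s => X_swap M B.h2 B.hε h.1 s
  by_cases a1 : y = neg z
  · exact main s h1 hk a1
  by_cases a2 : x = neg z
  · rw [sw h1]
    exact main _ h1.symm (by rw [key_comm (pos y)]; exact hk) a2
  exact CM.of_lc_one ce (E.xz x y z h1.1 a2 a1 s p)

theorem cmZZ (hn : n = (2 * m + 1) * (2 * m + 1)) (hW : Cpl π c (Vk (gens M) n) B.T (Vk (gens M) k) W)
    (hs : Sp W zt k) {x y : Fin m × Bool} (h1 : x.2 = true) (h2 : y.2 = true) (p q : Fr.Adm)
    (hk : ∀ j, j < key m (pos x) m → j < key m (pos y) m → j < k) :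
    CM π W (M.Z x p) (M.Z y q) := by
  have l1 := (pos_lt_iff x).2 h1
  have l2 := (pos_lt_iff y).2 h2
  by_cases hxy : x = y
  · subst hxy
    rcases E.zz x p q with h | h
    · exact CM.of_lc_one ce h
    · refine CM.of_lc ce ?_
      rw [h]
      refine hs x h1 (hk _ ?_ ?_) <;> exact key_lt_of_lt (pos_le _) (by omega) l1
  · have hps := ps_of_pos hxy h1 h2
    have hU : ∀ {x : Fin m × Bool} (p : Fr.Adm), x.2 = true → M.Z x p ∈ Vk (gens M) n := by
      intro x p hx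
      rw [hn]; exact mem_Vk (key_lt_bound (pos_le _) (by omega)) (Z_mem_gens M hx p)
    obtain ⟨h, hT, hc1, hc2⟩ := E.zzT x y hps.1
    obtain ⟨q', e, he, hq⟩ := hc2 q
    refine CM.symm ?_
    have hqU : ⁅h, M.Z y q'⁆ ∈ Vk (gens M) n := by
      have : ⁅h, M.Z y q'⁆ = M.Z y q * (M.Z y e)⁻¹ := by rw [hq, mul_inv_cancel_right]
      rw [this]; exact mul_mem (hU _ h2) (inv_mem (hU _ h2))
    rw [hq]
    refine CM.mul_left' hd hW hqU ?_ (CM.symm (CM.of_lc_one ce (E.zcc x y p e (n1 hps.1) he)))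
    refine CM.of_torus hd hW (h := h) (x' := M.Z y q') (v := 1) hT (hU p h1) (hc1 p).eq
        (by rw [mul_one]) (one_mem _) (hU _ h2) (conj_mem hqU (hU _ h2)) ?_
    rw [br_ZZ M B.h2 B.hε hps.1.symm]
    refine mem_Vk (hk _ ?_ ?_) (X_mem_gens M hps.symm _)
    · rw [key_comm]; exact key_lt_of_lt (pos_le _) (by omega) l2
    · exact key_lt_of_lt (pos_le _) (by omega) l1

end Facts

/-- **No perfect double cover.** -/
theorem false_of_facts {M : Model Fr K} {B : UBase M} {L : Type*} [Group L] [Finite L] {π : L →* K} {ce : CE π}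
    {zt : Fin m × Bool → L} (E : Facts B ce zt) {c : L} (hd : Dbl π c) (hm : 2 ≤ m)
    (hidx : ¬ 2 ∣ (Vk (gens M) ((2 * m + 1) * (2 * m + 1))).index) : False := by
  have hfin : Finite K := Finite.of_surjective π hd.surj
  have other : ∀ x : Fin m × Bool, ∃ y : Fin m × Bool, y.1 ≠ x.1 := fun x => by
    have : Nontrivial (Fin m) := Fin.nontrivial_iff_two_le.2 hm
    obtain ⟨k, hk⟩ := exists_ne x.1
    exact ⟨(k, true), hk⟩
  set n := (2 * m + 1) * (2 * m + 1) with hn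
  refine false_of_chain hd (T := B.T) B.odd n (gens M)
    (fun k => {s | ∃ x : Fin m × Bool, x.2 = true ∧ key m (pos x) (pos x) = k ∧ s = zt x}) hidx ?_ ?_ ?_
  · -- the torus
    intro k hk t ht g hg
    obtain ⟨a, a0, htw⟩ := B.tw t ht
    rcases gens_cases M hg with ⟨x, y, s, h1, h2, h3, rfl⟩ | ⟨x, p, h1, h2, rfl⟩ | ⟨x, p, h1, h2, h3, rfl⟩
    · rw [htw.X, ← h3]
      exact mem_Vk (Nat.lt_succ_self _) (X_mem_gens M h1 _)
    · rw [htw.Z, ← h2]
      exact mem_Vk (Nat.lt_succ_self _) (Z_mem_gens M h1 _)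
    · rw [htw.Z, ← h3]
      exact mem_Vk (Nat.lt_succ_self _) (C_mem_gens M h1 _ (by rw [Frame.Adm.smul_w, h2, smul_zero]))
  · -- pairs
    intro k hk W hW hspec g hg l hl g' hg'
    have hs : Facts.Sp W zt k := fun x h1 h2 => hspec _ h2 _ ⟨x, h1, rfl, rfl⟩
    rcases gens_cases M hg with ⟨x, y, s, h1, h2, h3, rfl⟩ | ⟨x, p, h1, h2, rfl⟩ | ⟨x, p, h1, h2, h3, rfl⟩
    · rcases gens_cases M hg' with ⟨x', y', s', h1', h2', h3', rfl⟩ | ⟨x', p', h1', h2', rfl⟩ |
        ⟨x', p', h1', h2', h3', rfl⟩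
      · exact E.cmXX hd hn hW hs h1 h1' (fun j hj _ => by rw [h3] at hj; exact hj) _ _
      · exact E.cmXZ hd hn hW h1 h1' _ _ (Or.inl fun j hj _ => by rw [h3] at hj; exact hj)
      · exact E.cmXZ hd hn hW h1 h1' _ _ (Or.inl fun j hj _ => by rw [h3] at hj; exact hj)
    · rcases gens_cases M hg' with ⟨x', y', s', h1', h2', h3', rfl⟩ | ⟨x', p', h1', h2', rfl⟩ |
        ⟨x', p', h1', h2', h3', rfl⟩
      · exact (E.cmXZ hd hn hW h1' h1 _ _ (Or.inl fun j _ hj => by rw [h2] at hj; exact hj)).symm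
      · exact E.cmZZ hd hn hW hs h1 h1' _ _ (fun j hj _ => by rw [h2] at hj; exact hj)
      · exact CM.of_lc_one ce (E.zcc _ _ _ _ (by
          rintro rfl; simp [neg] at h1; rw [h1'] at h1; exact absurd h1 (by simp)) h2')
    · rcases gens_cases M hg' with ⟨x', y', s', h1', h2', h3', rfl⟩ | ⟨x', p', h1', h2', rfl⟩ |
        ⟨x', p', h1', h2', h3', rfl⟩
      · exact (E.cmXZ hd hn hW h1' h1 _ _ (Or.inr ⟨h2, fun j _ hj => by rw [h3] at hj; exact hj⟩)).symm
      · exact (CM.of_lc_one ce (E.zcc _ _ _ _ (by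
          rintro rfl; simp [neg] at h1'; rw [h1] at h1'; exact absurd h1' (by simp)) h2)).symm
      · exact CM.of_lc_one ce (E.zcc _ _ _ _ (by
          rintro rfl; simp [neg] at h1; rw [h1'] at h1; exact absurd h1 (by simp)) h2')
  · -- kinds
    intro k hk
    by_cases hC : ∃ x : Fin m × Bool, x.2 = true ∧ key m (pos x) (pos x) = k
    · right
      obtain ⟨x, h1, h3⟩ := hC
      have uniq : ∀ x' : Fin m × Bool, x'.2 = true → key m (pos x') (pos x') = k → x' = x := by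
        intro x' h1' h3'
        rcases key_inj (pos_le _) (pos_le _) (pos_le _) (pos_le _) (h3'.trans h3.symm) with ⟨e1, e2⟩ | ⟨e1, e2⟩ <;>
        exact pos_inj e1
      refine ⟨M.Z x B.zc, zt x, ⟨by rw [← h3]; exact C_mem_gens M h1 _ B.zc_w, ?_⟩, E.map_zt x, E.sq_zt x,
        ?_, ?_, fun t ht t' ht' => E.tT x t ht t' ht'⟩
      · intro g hg
        rcases gens_cases M hg with ⟨x', y', s', h1', h2', h3', rfl⟩ | ⟨x', p', h1', h2', rfl⟩ |
          ⟨x', p', h1', h2', h3', rfl⟩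
        · exfalso
          rcases key_inj (pos_le _) (pos_le _) (pos_le _) (pos_le _) (h3'.trans h3.symm) with ⟨e1, e2⟩ | ⟨e1, e2⟩ <;>
          omega
        · exfalso
          rcases key_inj (by omega) (pos_le _) (pos_le _) (pos_le _) (h2'.trans h3.symm) with ⟨e1, e2⟩ | ⟨e1, e2⟩ <;>
          exact pos_ne _ e2.symm
        · have := uniq x' h1' h3'
          subst this
          rcases B.adm_cases h2' with rfl | rfl
          · left; exact Z_one M x'
          · right; rfl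
      · ext s
        constructor
        · rintro ⟨x', h1', h3', rfl⟩
          rw [uniq x' h1' h3']
          rfl
        · rintro rfl
          exact ⟨x, h1, h3, rfl⟩
      · intro h
        rw [← h3] at h
        have := indep_C M h1 B.zc_w h
        rw [B.zc_c] at this
        exact one_ne_zero this
    · left
      refine ⟨?_, ?_⟩
      · ext s
        simp only [Set.mem_ofPred_eq, Set.mem_empty_iff_false, iff_false]
        rintro ⟨x, h1, h3, -⟩
        exact hC ⟨x, h1, h3⟩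
      · intro g hg
        rcases gens_cases M hg with ⟨x, y, s, h1, h2, h3, rfl⟩ | ⟨x, p, h1, h2, rfl⟩ | ⟨x, p, h1, h2, h3, rfl⟩
        · obtain ⟨h, hT, -, h5⟩ := E.xzT x (neg y) h1.1
          rw [TitsThree.WittFrame.neg_neg] at h5
          obtain ⟨s', hs'⟩ := h5 s
          refine ⟨h, hT, M.X x y s', ?_, 1, one_mem _, ?_⟩
          · rw [← h3]; exact mem_Vk (Nat.lt_succ_self _) (X_mem_gens M h1 _)
          · rw [mul_one, ← commutatorElement_def, hs']
        · obtain ⟨y, hy⟩ := other x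
          obtain ⟨h, hT, -, h5⟩ := E.zzT y x hy
          obtain ⟨q, e, he, hq⟩ := h5 p
          refine ⟨h, hT, M.Z x q, ?_, M.Z x e, ?_, ?_⟩
          · rw [← h2]; exact mem_Vk (Nat.lt_succ_self _) (Z_mem_gens M h1 _)
          · rw [← h2]
            refine mem_Vk ?_ (C_mem_gens M h1 e he)
            exact key_lt_of_lt (pos_le _) (by omega) ((pos_lt_iff x).2 h1)
          · rw [← commutatorElement_def, ← hq]
        · exact absurd ⟨x, h1, h3⟩ hC

end Cfsg.Agent.KFacts.Mult.UnitTwo
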