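import Cfsg.Agent.KFacts.Mult.UnitChain

/-!
# Unitary groups of even dimension `≥ 8` over the field with four elements (helper430)
-/

set_option autoImplicit false
set_option linter.unusedVariables false

namespace Cfsg.Agent.KFacts.Mult.UnitTwo

open Cfsg.Agent.TitsThree.Siegel Cfsg.Agent.TitsThree.WittFrame Cfsg.Agent.TitsThree.WittWeyl
open Cfsg.Agent.TitsThree.FrameCN Cfsg.Agent.KFacts.Mult.ChainZ Cfsg.Agent.KFacts.Mult.WittTwo
open Cfsg.Agent.KFacts.Mult.Calc Cfsg.Agent.KFacts.MulDef Cfsg.Agent.KFacts.Mult.Chain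
open scoped commutatorElement

variable {F : Type*} [Field F] {V : Type*} [AddCommGroup V] [Module F V] {H : HForm F V} {m : ℕ}
  {Fr : Frame H (Fin m)} {K : Type*} [Group K]

/-- The data in even dimension. -/
structure UEven {M : Model Fr K} (B : UBase M) where
  w0 : ∀ p : Fr.Adm, p.w = 0
  hX : ∀ i j : Fin m, i ≠ j → ∃ t ∈ B.T, TW M t (fun z => if z.1 = i then B.ζ else if z.1 = j then B.ζ + 1 else 1) 1

namespace UEven

variable {M : Model Fr K} {B : UBase M} (D : UEven B)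

theorem exists_fourth (hm : 4 ≤ m) (i j l : Fin m) : ∃ k, k ≠ i ∧ k ≠ j ∧ k ≠ l := by
  classical
  obtain ⟨k, hk⟩ : ∃ k, k ∉ ({i, j, l} : Finset (Fin m)) := by
    by_contra hcon
    push Not at hcon
    have h1 : (Finset.univ : Finset (Fin m)) ⊆ {i, j, l} := fun k _ => hcon k
    have h2 := Finset.card_le_card h1
    rw [Finset.card_univ, Fintype.card_fin] at h2
    have h3 := Finset.card_le_three (a := i) (b := j) (c := l)
    omega
  simp only [Finset.mem_insert, Finset.mem_singleton, not_or] at hk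
  exact ⟨k, hk⟩

include D

section CE

variable {L : Type*} [Group L] {π : L →* K} (ce : CE π)

omit D in
theorem n1 {a b : Fin m × Bool} (h : a.1 ≠ b.1) : a ≠ neg b := by
  rintro rfl; exact h rfl

theorem xz {x y z : Fin m × Bool} (hxy : x.1 ≠ y.1) (h1 : x ≠ neg z) (h2 : y ≠ neg z) (s : F) (p : Fr.Adm) :
    ce.lc (M.X x y s) (M.Z z p) = 1 := by
  obtain ⟨t, ht, hw⟩ := D.hX x.1 y.1 hxy
  obtain ⟨s', hs⟩ := B.moveX hw (x := x) (y := y) (by
    simp only [if_true, if_neg hxy.symm, B.σu, B.hζ]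
    exact B.u_ne_one) s
  rw [← hs, ce.lc_swap, ce.lc_comm_eq_one (B.fixC hw z (D.w0 p)).symm (M.commute_ZX h1 h2 p s'), inv_one]

theorem xz' {x y z : Fin m × Bool} (hxy : x.1 ≠ y.1) (h1 : x ≠ neg z) (h2 : y ≠ neg z) (s : F) (p : Fr.Adm) :
    ce.lc (M.Z z p) (M.X x y s) = 1 := by
  rw [ce.lc_swap, D.xz ce hxy h1 h2, inv_one]

variable (hm : 4 ≤ m)

include hm

/-- the same root group -/
theorem xx0 {x y : Fin m × Bool} (hxy : x.1 ≠ y.1) (s t : F) : ce.lc (M.X x y s) (M.X x y t) = 1 := by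
  obtain ⟨k, h1, h2, -⟩ := exists_fourth hm x.1 y.1 y.1
  set z : Fin m × Bool := (k, true)
  have hxz : x.1 ≠ z.1 := h1.symm
  have hzy : z.1 ≠ y.1 := h2
  have e := br_XX M hxz hzy hxy t 1
  rw [mul_one] at e
  rw [← e]
  exact ce.lc_comm_eq_one
    (M.commute_XX (ne_neg_self x) (n1 hxy) (n1 hxz.symm) (n1 hzy) _ _)
    (M.commute_XX (n1 (a := neg z) hxz.symm) (n1 (a := neg z) hzy) (n1 hxy.symm) (ne_neg_self y) _ _)

/-- one common index -/
theorem xx1 {x y w : Fin m × Bool} (hxy : x.1 ≠ y.1) (hxw : x.1 ≠ w.1) (hyw : y.1 ≠ w.1) (s t : F) :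
    ce.lc (M.X x y s) (M.X x w t) = 1 := by
  obtain ⟨k, h1, h2, h3⟩ := exists_fourth hm x.1 y.1 w.1
  obtain ⟨r, hr, hw⟩ := D.hX w.1 k h3.symm
  obtain ⟨t', ht⟩ := B.moveX hw (x := x) (y := w) (by
    simp only [if_true, if_neg hxw, if_neg h1.symm, B.σζ, one_mul]
    exact B.u_ne_one) t
  rw [← ht]
  refine ce.lc_comm_eq_one (B.fixX hw ?_ s).symm
    (M.commute_XX (ne_neg_self x) (n1 hxy) (n1 hxw.symm) (n1 hyw.symm) _ _)
  simp only [if_neg hxw, if_neg h1.symm, if_neg hyw, if_neg h2.symm, map_one, mul_one]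

/-- no common index -/
theorem xx2 {x y z w : Fin m × Bool} (hxz : x.1 ≠ z.1) (hxw : x.1 ≠ w.1) (hyz : y.1 ≠ z.1)
    (hyw : y.1 ≠ w.1) (hzw : z.1 ≠ w.1) (s t : F) :
    ce.lc (M.X x y s) (M.X z w t) = 1 := by
  obtain ⟨r, hr, hw⟩ := D.hX z.1 w.1 hzw
  obtain ⟨t', ht⟩ := B.moveX hw (x := z) (y := w) (by
    simp only [if_true, if_neg hzw.symm, B.σu, B.hζ]
    exact B.u_ne_one) t
  rw [← ht]
  refine ce.lc_comm_eq_one (B.fixX hw ?_ s).symm
    (M.commute_XX (n1 hxz.symm) (n1 hyz.symm) (n1 hxw.symm) (n1 hyw.symm) _ _)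
  simp only [if_neg hxz, if_neg hxw, if_neg hyz, if_neg hyw, map_one, mul_one]

omit D hm in
theorem eq_of_fst {x y : Fin m × Bool} (h : x.1 = y.1) (h' : x ≠ neg y) : x = y := by
  by_contra hne
  exact fst_ne hne h' h

theorem xx {x y z w : Fin m × Bool} (hxy : x.1 ≠ y.1) (hzw : z.1 ≠ w.1) (h1 : z ≠ neg x) (h2 : z ≠ neg y)
    (h3 : w ≠ neg x) (h4 : w ≠ neg y) (s t : F) : ce.lc (M.X x y s) (M.X z w t) = 1 := by
  -- `z = x`
  have main : ∀ {x y z w : Fin m × Bool}, x.1 ≠ y.1 → z.1 ≠ w.1 → z ≠ neg x → w ≠ neg y → z.1 = x.1 →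
      ∀ s t, ce.lc (M.X x y s) (M.X z w t) = 1 := by
    intro x y z w hxy hzw h1 h4 e s t
    have := eq_of_fst e h1
    subst this
    by_cases f : w.1 = y.1
    · have := eq_of_fst f h4
      subst this
      exact D.xx0 ce hm hxy s t
    · exact D.xx1 ce hm hxy hzw (Ne.symm f) s t
  have sw : ∀ {x y : Fin m × Bool} (h : x.1 ≠ y.1) (s : F), M.X x y s = M.X y x (H.σ s) :=
    fun h s => X_swap M B.h2 B.hε h s
  by_cases e1 : z.1 = x.1
  · exact main hxy hzw h1 h4 e1 s t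
  by_cases e2 : z.1 = y.1
  · rw [sw hxy]
    exact main hxy.symm hzw h2 h3 e2 _ _
  by_cases e3 : w.1 = x.1
  · rw [sw hzw]
    exact main hxy hzw.symm h3 h2 e3 _ _
  by_cases e4 : w.1 = y.1
  · rw [sw hxy, sw hzw]
    exact main hxy.symm hzw.symm h4 h1 e4 _ _
  exact D.xx2 ce hm (Ne.symm e1) (Ne.symm e3) (Ne.symm e2) (Ne.symm e4) hzw s t

/-! ### The pairs `X_{x,y}`, `X_{x,-y}` -/

omit hm in
theorem addL {x y : Fin m × Bool} (hxy : x.1 ≠ y.1) (s s' t : F) :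
    ce.lc (M.X x y (s + s')) (M.X x (neg y) t) =
      ce.lc (M.X x y s') (M.X x (neg y) t) * ce.lc (M.X x y s) (M.X x (neg y) t) := by
  rw [X_add, ce.lc_mul_left', br_same M B.hε hxy, D.xz ce hxy (ne_neg_self x) (n1 hxy.symm), one_mul]

omit hm in
theorem addR {x y : Fin m × Bool} (hxy : x.1 ≠ y.1) (s t t' : F) :
    ce.lc (M.X x y s) (M.X x (neg y) (t + t')) =
      ce.lc (M.X x y s) (M.X x (neg y) t) * ce.lc (M.X x y s) (M.X x (neg y) t') := by
  rw [X_add, ce.lc_mul_right', br_same M B.hε hxy,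
    D.xz ce (y := neg y) hxy (ne_neg_self x) (n1 (a := neg y) hxy.symm), mul_one]

omit hm in
theorem sq {x y : Fin m × Bool} (hxy : x.1 ≠ y.1) (s t : F) :
    ce.lc (M.X x y s) (M.X x (neg y) t) * ce.lc (M.X x y s) (M.X x (neg y) t) = 1 := by
  rw [← D.addL ce hxy, B.dbl, X_zero, ce.lc_one_left]

theorem e1 {x y z : Fin m × Bool} (hxy : x.1 ≠ y.1) (hxz : x.1 ≠ z.1) (hyz : y.1 ≠ z.1) (s t u : F) :
    ce.lc (M.X x y s) (M.X x (neg y) (t * u)) = ce.lc (M.X x z t) (M.X x (neg z) (s * H.σ u)) := by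
  have h1 := ce.hw (c := M.X x y s) (a := M.X x z t) (b := M.X (neg z) (neg y) u)
    (M.commute_XX (ne_neg_self x) (n1 hxy) (n1 hxz.symm) (n1 hyz.symm) _ _)
  have b1 : ⁅M.X x z t, M.X (neg z) (neg y) u⁆ = M.X x (neg y) (t * u) :=
    br_XX M (x := x) (y := z) (z := neg y) hxz hyz.symm hxy t u
  have b2 : ⁅M.X x y s, M.X (neg z) (neg y) u⁆ = M.X x (neg z) (s * H.σ u) := by
    rw [X_swap M B.h2 B.hε (x := neg z) (y := neg y) hyz.symm]
    exact br_XX M (x := x) (y := y) (z := neg z) hxy hyz hxz s (H.σ u)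
  rw [b1, b2, D.xx ce hm (x := x) (y := neg z) (z := x) (w := neg y) hxz hxy (ne_neg_self x)
    (n1 (b := neg z) hxz) (n1 (a := neg y) hxy.symm) (n1 (a := neg y) (b := neg z) hyz), mul_one] at h1
  exact h1

theorem swapD {x y : Fin m × Bool} (hxy : x.1 ≠ y.1) (s t : F) :
    ce.lc (M.X x (neg y) t) (M.X x (neg (neg y)) s) = ce.lc (M.X x y s) (M.X x (neg y) t) := by
  rw [TitsThree.WittFrame.neg_neg, ce.lc_swap]
  exact inv_eq_of_mul_eq_one_left (D.sq ce hxy s t)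

/-- `Δ_z(σ u) = Δ_z(u)` -/
theorem dσ {x z : Fin m × Bool} (hxz : x.1 ≠ z.1) (u : F) :
    ce.lc (M.X x z 1) (M.X x (neg z) (H.σ u)) = ce.lc (M.X x z 1) (M.X x (neg z) u) := by
  obtain ⟨k, h1, h2, -⟩ := exists_fourth hm x.1 z.1 z.1
  set y : Fin m × Bool := (k, true)
  have hxy : x.1 ≠ y.1 := h1.symm
  have hyz : y.1 ≠ z.1 := h2
  -- `Δ_{-y}(u) = Δ_z(σ u)`
  have a1 := D.e1 ce hm (x := x) (y := neg y) (z := z) hxy hxz hyz 1 1 u
  rw [one_mul, one_mul] at a1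
  -- `Δ_{-y}(u) = D_{x,y}(u,1) = D_{x,z}(1,u)`
  have a2 := D.swapD ce hm hxy u 1
  rw [a2] at a1
  have a3 := D.e1 ce hm hxy hxz hyz u 1 1
  rw [mul_one, map_one, mul_one] at a3
  rw [← a1, a3]

theorem dzy {x y z : Fin m × Bool} (hxy : x.1 ≠ y.1) (hxz : x.1 ≠ z.1) (hyz : y.1 ≠ z.1) (u : F) :
    ce.lc (M.X x y 1) (M.X x (neg y) u) = ce.lc (M.X x z 1) (M.X x (neg z) u) := by
  have a1 := D.e1 ce hm hxy hxz hyz 1 1 u
  rw [one_mul, one_mul, D.dσ ce hm hxz] at a1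
  exact a1

theorem d1 {x z : Fin m × Bool} (hxz : x.1 ≠ z.1) : ce.lc (M.X x z 1) (M.X x (neg z) 1) = 1 := by
  have h1 := D.addR ce hxz 1 B.ζ (H.σ B.ζ)
  rw [D.dσ ce hm hxz, D.sq ce hxz, B.σζ, ← add_assoc, B.dbl, zero_add] at h1
  exact h1

theorem dcases {x z : Fin m × Bool} (hxz : x.1 ≠ z.1) (u : F) :
    ce.lc (M.X x z 1) (M.X x (neg z) u) = 1 ∨
      ce.lc (M.X x z 1) (M.X x (neg z) u) = ce.lc (M.X x z 1) (M.X x (neg z) B.ζ) := by
  rcases B.hF u with h | h | h | h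
  · left; rw [h, X_zero, ce.lc_one_right]
  · left; rw [h]; exact D.d1 ce hm hxz
  · right; rw [h]
  · right
    rw [h, ← B.σζ, D.dσ ce hm hxz]

/-- another index -/
noncomputable def oth (x : Fin m × Bool) : Fin m × Bool :=
  ((exists_fourth hm x.1 x.1 x.1).choose, true)

omit D in
theorem oth_ne (x : Fin m × Bool) : x.1 ≠ (oth hm x).1 := (exists_fourth hm x.1 x.1 x.1).choose_spec.1.symm

/-- the lift of the central element -/
noncomputable def zt (_ : UEven B) (ce : CE π) (hm : 4 ≤ m) (x : Fin m × Bool) : L :=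
  ce.lc (M.X x (oth hm x) 1) (M.X x (neg (oth hm x)) B.ζ)

theorem zt_eq {x z : Fin m × Bool} (hxz : x.1 ≠ z.1) :
    ce.lc (M.X x z 1) (M.X x (neg z) B.ζ) = D.zt ce hm x := by
  obtain ⟨k, h1, h2, h3⟩ := exists_fourth hm x.1 z.1 (oth hm x).1
  rw [D.dzy ce hm (x := x) (y := z) (z := (k, true)) hxz h1.symm h2.symm B.ζ]
  exact D.dzy ce hm (x := x) (y := (k, true)) (z := oth hm x) h1.symm (oth_ne hm x) h3 B.ζ

theorem xxD {x y : Fin m × Bool} (hxy : x.1 ≠ y.1) (s t : F) :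
    ce.lc (M.X x y s) (M.X x (neg y) t) = 1 ∨ ce.lc (M.X x y s) (M.X x (neg y) t) = D.zt ce hm x := by
  obtain ⟨k, h1, h2, -⟩ := exists_fourth hm x.1 y.1 y.1
  set z : Fin m × Bool := (k, true)
  have hxz : x.1 ≠ z.1 := h1.symm
  have hyz : y.1 ≠ z.1 := h2.symm
  have a1 := D.e1 ce hm hxy hxz hyz s 1 t
  rw [one_mul] at a1
  rw [a1]
  rcases D.dcases ce hm hxz (s * H.σ t) with h | h
  · left; exact h
  · right; rw [h, D.zt_eq ce hm hxz]

theorem map_zt (x : Fin m × Bool) : π (D.zt ce hm x) = M.Z x B.zc := by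
  rw [zt, ce.map_lc, br_same M B.hε (oth_ne hm x), map_one, one_mul]
  rfl

theorem sq_zt (x : Fin m × Bool) : D.zt ce hm x * D.zt ce hm x = 1 := D.sq ce (oth_ne hm x) _ _

theorem tT (x : Fin m × Bool) (t : K) (ht : t ∈ B.T) (t' : L) (h : π t' = t) :
    t' * D.zt ce hm x * t'⁻¹ = D.zt ce hm x := by
  obtain ⟨a, a0, hw⟩ := B.tw t ht
  have h1 := ce.conj_lc t' (M.X x (oth hm x) 1) (M.X x (neg (oth hm x)) B.ζ)
  rw [h, hw.X, hw.X] at h1
  change t' * D.zt ce hm x * t'⁻¹ = _ at h1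
  rcases D.xxD ce hm (oth_ne hm x) (a x * H.σ (a (oth hm x)) * 1) (a x * H.σ (a (neg (oth hm x))) * B.ζ) with h3 | h3
  · rw [h3] at h1
    have : D.zt ce hm x = 1 := by
      have h4 : D.zt ce hm x = t'⁻¹ * (t' * D.zt ce hm x * t'⁻¹) * t' := by group
      rw [h4, h1]; group
    rw [this]; group
  · rw [h1, h3]

/-- `C`-pairs -/
theorem zcc {x y : Fin m × Bool} (hxy : x ≠ neg y) (p e : Fr.Adm) : ce.lc (M.Z x p) (M.Z y e) = 1 := by
  rcases B.adm_cases (D.w0 p) with rfl | rfl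
  · rw [Z_one, ce.lc_one_left]
  rcases B.adm_cases (D.w0 e) with rfl | rfl
  · rw [Z_one, ce.lc_one_right]
  by_cases h : x = y
  · rw [h, ce.lc_self]
  have hne : x.1 ≠ y.1 := fst_ne h hxy
  obtain ⟨k, h1, h2, -⟩ := exists_fourth hm x.1 y.1 y.1
  set z : Fin m × Bool := (k, true)
  have hxz : x.1 ≠ z.1 := h1.symm
  have hyz : y.1 ≠ z.1 := h2.symm
  have e1 : ⁅M.X y (neg z) 1, M.Z z B.zc⁆ = M.Z y B.zc * M.X y z 1 := by
    rw [br_XZ M B.h2 B.hε hyz, map_one, Frame.Adm.one_smul, B.zc_c, map_one, one_mul]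
  have c1 : Commute (M.Z x B.zc) (M.X y (neg z) 1) :=
    M.commute_ZX (n1 hne.symm) (n1 (a := neg z) hxz.symm) _ _
  have c2 : Commute (M.Z x B.zc) (M.Z z B.zc) := by
    rw [← commutatorElement_eq_one_iff_commute, br_ZZ M B.h2 B.hε hxz, B.zc_w, H.zero_left, map_zero, X_zero]
  have c3 : Commute (M.Z x B.zc) (M.X y z 1) := M.commute_ZX (n1 hne.symm) (n1 hxz.symm) _ _
  have h3 := ce.lc_comm_eq_one c1 c2
  rw [e1, ce.lc_mul_right c3, D.xz' ce hyz (n1 hne.symm) (n1 hxz.symm), mul_one] at h3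
  exact h3

/-- **The facts.** -/
theorem facts : Facts B ce (D.zt ce hm) where
  map_zt := D.map_zt ce hm
  sq_zt := D.sq_zt ce hm
  tT := fun x t ht t' h => D.tT ce hm x t ht t' h
  xx := fun x y z w hxy hzw h1 h2 h3 h4 s t => D.xx ce hm hxy hzw h1 h2 h3 h4 s t
  xxD := fun x y hxy s t => D.xxD ce hm hxy s t
  xz := fun x y z hxy h1 h2 s p => D.xz ce hxy h1 h2 s p
  xxT := by
    intro x y z hxy hyz hxz
    obtain ⟨k, h1, h2, h3⟩ := exists_fourth hm x.1 y.1 z.1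
    obtain ⟨t, ht, hw⟩ := D.hX x.1 k h1.symm
    refine ⟨t, ht, fun s => B.fixX hw ?_ s, fun s => B.moveX hw ?_ s⟩
    · have a1 : (neg y).1 ≠ x.1 := hxy.symm
      have a2 : (neg y).1 ≠ k := h2.symm
      simp only [if_neg a1, if_neg a2, if_neg hxz.symm, if_neg h3.symm, map_one, mul_one]
    · simp only [if_true, if_neg hxy.symm, if_neg h2.symm, map_one, mul_one]
      exact B.ζ_ne_one
  xzT := by
    intro x z hxz
    obtain ⟨t, ht, hw⟩ := D.hX x.1 z.1 hxz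
    refine ⟨t, ht, fun p => B.fixC hw z (D.w0 p), fun s => B.moveX hw ?_ s⟩
    have : (neg z).1 = z.1 := rfl
    simp only [this, if_true, if_neg hxz.symm, B.σu, B.hζ]
    exact B.u_ne_one
  zzT := by
    intro x y hxy
    refine ⟨1, one_mem _, fun p => Commute.one_left _, fun q => ⟨1, q, D.w0 q, ?_⟩⟩
    rw [commutatorElement_one_left, one_mul]
  zcc := fun x y p e h he => D.zcc ce hm h p e
  zz := fun x p q => Or.inl (D.zcc ce hm (ne_neg_self x) p q)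

end CE

/-- **No perfect double cover, even dimension.** -/
theorem noDouble (hm : 4 ≤ m) (hidx : ¬ 2 ∣ (Vk (gens M) ((2 * m + 1) * (2 * m + 1))).index) : NoDouble K := by
  intro L _ _ π c hd
  have ce : CE π := CE.of_ker hd.surj hd.cen fun x hx => (hd.ker x).1 hx
  exact false_of_facts (D.facts ce hm) hd (by omega) hidx

end UEven

end Cfsg.Agent.KFacts.Mult.UnitTwo
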