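import Cfsg.Agent.KFacts.Mult.UnitOdd
import Cfsg.Agent.KFacts.Mult.UnitEven
import Cfsg.Agent.TitsThree.KInstU
import Cfsg.Agent.S0280

/-!
# `PSU_5(2)` and `PSU_n(2)`, `n ≥ 7`, have no perfect double cover (helper430)
-/

set_option autoImplicit false
set_option linter.unusedVariables false

namespace Cfsg.Agent.KFacts.Mult.UnitTwo

open Cfsg.Agent.TitsThree.Siegel Cfsg.Agent.TitsThree.SiegelGen Cfsg.Agent.TitsThree.WittFrame
open Cfsg.Agent.TitsThree.WittWeyl Cfsg.Agent.TitsThree.WBridge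
open Cfsg.Agent.TitsThree.FrameCN Cfsg.Agent.KFacts.Mult.ChainZ Cfsg.Agent.KFacts.Mult.WittTwo
open Cfsg.Agent.KFacts.Mult.Calc Cfsg.Agent.KFacts.MulDef Cfsg.Agent.KFacts.Mult.Chain
open scoped commutatorElement

section Gen

variable {F : Type*} [Field F] {V : Type*} [AddCommGroup V] [Module F V] {H : HForm F V} {m : ℕ}
  {Fr : Frame H (Fin m)} {K : Type*} [Group K] (M : Model Fr K)

/-- The diagonal isometries. -/
def torI : Subgroup M.I where
  carrier := {g | H.IsIso (g : V ≃ₗ[F] V) ∧ (∀ x, ∃ a : F, a ≠ 0 ∧ (g : V ≃ₗ[F] V) (Fr.b x) = a • Fr.b x) ∧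
    ∃ a : F, a ≠ 0 ∧ ∀ w ∈ Fr.V0, (g : V ≃ₗ[F] V) w = a • w}
  one_mem' := ⟨fun _ _ => rfl, fun x => ⟨1, one_ne_zero, (one_smul F _).symm⟩,
    ⟨1, one_ne_zero, fun w _ => (one_smul F _).symm⟩⟩
  mul_mem' := by
    rintro g k ⟨h1, h2, a0, ha0, h3⟩ ⟨h1', h2', a0', ha0', h3'⟩
    refine ⟨HForm.IsIso.mul H h1 h1', fun x => ?_, a0 * a0', mul_ne_zero ha0 ha0', fun w hw => ?_⟩
    · obtain ⟨a, ha, e⟩ := h2 x
      obtain ⟨a', ha', e'⟩ := h2' x
      refine ⟨a * a', mul_ne_zero ha ha', ?_⟩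
      show (g : V ≃ₗ[F] V) ((k : V ≃ₗ[F] V) (Fr.b x)) = _
      rw [e', map_smul, e, smul_smul, mul_comm]
    · show (g : V ≃ₗ[F] V) ((k : V ≃ₗ[F] V) w) = _
      rw [h3' w hw, map_smul, h3 w hw, smul_smul, mul_comm]
  inv_mem' := by
    rintro g ⟨h1, h2, a0, ha0, h3⟩
    have inv_smul : ∀ (v : V) (a : F), a ≠ 0 → (g : V ≃ₗ[F] V) v = a • v → (g : V ≃ₗ[F] V)⁻¹ v = a⁻¹ • v := by
      intro v a ha h
      have e : (g : V ≃ₗ[F] V)⁻¹ ((g : V ≃ₗ[F] V) v) = v := (g : V ≃ₗ[F] V).symm_apply_apply v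
      rw [h, map_smul] at e
      have e2 : a⁻¹ • a • (g : V ≃ₗ[F] V)⁻¹ v = a⁻¹ • v := by rw [e]
      rwa [smul_smul, inv_mul_cancel₀ ha, one_smul] at e2
    refine ⟨HForm.IsIso.inv H h1, fun x => ?_, a0⁻¹, inv_ne_zero ha0, fun w hw => inv_smul w a0 ha0 (h3 w hw)⟩
    obtain ⟨a, ha, e⟩ := h2 x
    exact ⟨a⁻¹, inv_ne_zero ha, inv_smul _ a ha e⟩

/-- The torus. -/
def tor : Subgroup K := (torI M).map M.φ

variable {M}

theorem tw_of (hε : H.ε = 1) (hnorm : ∀ a : F, a ≠ 0 → a * H.σ a = 1) (g : M.I) (hiso : H.IsIso (g : V ≃ₗ[F] V))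
    (a : Fin m × Bool → F)
    (ha : ∀ x, a x ≠ 0) (hb : ∀ x, (g : V ≃ₗ[F] V) (Fr.b x) = a x • Fr.b x) (a0 : F) (ha0 : a0 ≠ 0)
    (h0 : ∀ w ∈ Fr.V0, (g : V ≃ₗ[F] V) w = a0 • w) : M.φ g ∈ tor M ∧ TW M (M.φ g) a a0 := by
  refine ⟨Subgroup.mem_map_of_mem _ ⟨hiso, fun x => ⟨a x, ha x, hb x⟩, a0, ha0, h0⟩, ?_⟩
  refine ⟨ha, ha0, fun x => ?_, fun x y s => model_conj_X M hε g hiso (hb x) (hb y) s, fun x p => ?_⟩
  · have h1 := hiso (Fr.b x) (Fr.b (neg x))
    rw [hb, hb, H.smul_left, H.smul_right, Fr.hb_self_neg, eta hε, mul_one] at h1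
    exact h1
  · have h1 := model_conj_Z M g hiso (hb x) p (Frame.Adm.smul a0 p) (by
      rw [h0 _ (Fr.ok_mem p.ok)]; rfl) (by rw [Frame.Adm.smul_c, hnorm a0 ha0, one_mul])
    rw [h1, Frame.Adm.smul_smul]

theorem inv_apply_of {g k : V ≃ₗ[F] V} {v w : V} (h : k v = w) : (g * k⁻¹) w = g v := by
  show g (k⁻¹ w) = _
  rw [← h]
  congr 1
  exact k.symm_apply_apply v

/-- The base data. -/
noncomputable def uBase [Finite K] (h2 : (2 : F) = 0) (hε : H.ε = 1) (ζ : F) (hζ : ζ * ζ = ζ + 1)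
    (hF : ∀ s : F, s = 0 ∨ s = 1 ∨ s = ζ ∨ s = ζ + 1) (hσ : ∀ s, H.σ s = s * s)
    (hfix : ∀ g : V ≃ₗ[F] V, (∀ x, g (Fr.b x) = Fr.b x) → (∀ w ∈ Fr.V0, g w = w) → g = 1) : UBase M := by
  have hcube : ∀ a : F, a ≠ 0 → a * a * a = 1 := by
    intro a ha
    have h11 : (1 : F) + 1 = 0 := by rw [one_add_one_eq_two, h2]
    rcases hF a with h | h | h | h
    · exact absurd h ha
    · rw [h]; ring
    · rw [h]; linear_combination (ζ + 1) * hζ + ζ * h2
    · rw [h]; linear_combination (ζ + 4) * hζ + (4 * ζ + 2) * h2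
  have hnorm : ∀ a : F, a ≠ 0 → a * H.σ a = 1 := by
    intro a ha
    rw [hσ, ← mul_assoc]; exact hcube a ha
  have hpow : ∀ g ∈ torI M, g ^ 3 = 1 := by
    rintro g ⟨h1, h2, a0, ha0, h3⟩
    apply Subtype.ext
    refine hfix _ (fun x => ?_) (fun w hw => ?_)
    · obtain ⟨a, ha, e⟩ := h2 x
      show (g : V ≃ₗ[F] V) ((g : V ≃ₗ[F] V) ((g : V ≃ₗ[F] V) (Fr.b x))) = _
      rw [e, map_smul, map_smul, e, map_smul, e, smul_smul, smul_smul, hcube a ha, one_smul]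
    · show (g : V ≃ₗ[F] V) ((g : V ≃ₗ[F] V) ((g : V ≃ₗ[F] V) w)) = _
      rw [h3 w hw, map_smul, map_smul, h3 w hw, map_smul, h3 w hw, smul_smul, smul_smul, hcube a0 ha0, one_smul]
  have hodd : Odd (Nat.card (tor M)) := by
    have hp : IsPGroup 3 (tor M) := by
      rintro ⟨t, g, hg, rfl⟩
      refine ⟨1, Subtype.ext ?_⟩
      show M.φ g ^ 3 ^ 1 = 1
      rw [pow_one, ← map_pow, hpow g hg, map_one]
    have : Fact (Nat.Prime 3) := ⟨Nat.prime_three⟩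
    obtain ⟨k, hk⟩ := IsPGroup.iff_card.1 hp
    rw [hk]
    exact Odd.pow (by decide)
  exact
    { h2 := h2, hε := hε, ζ := ζ, hζ := hζ, hF := hF, hσ := hσ, T := tor M, odd := hodd
      tw := by
        rintro t ⟨g, ⟨h1, h4, a0, ha0, h5⟩, rfl⟩
        choose a ha hb using h4
        exact ⟨a, a0, (tw_of hε hnorm g h1 a ha hb a0 ha0 h5).2⟩ }

/-- the elements `h_{i,j}` -/
theorem exists_hX (B : UBase M) (hT : B.T = tor M) {i j : Fin m} (hij : i ≠ j) :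
    ∃ t ∈ B.T, TW M t (fun z => if z.1 = i then B.ζ else if z.1 = j then B.ζ + 1 else 1) 1 := by
  set x : Fin m × Bool := (i, true) with hx
  set y : Fin m × Bool := (j, true) with hy
  have hxy : x.1 ≠ y.1 := hij
  have hz := B.ζ_ne_zero
  have neg1 : ∀ v : V, -v = v := fun v => by
    rw [neg_eq_iff_add_eq_zero, ← two_smul F, B.h2, zero_smul]
  have zinv : (B.ζ)⁻¹ = B.ζ + 1 := inv_eq_of_mul_eq_one_right B.ζu
  have uinv : (B.ζ + 1)⁻¹ = B.ζ := by rw [← zinv, inv_inv]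
  have a1 : ∀ {s : F}, s ≠ 0 → nX Fr x y s (Fr.b (neg y)) = s • Fr.b x := fun hs => nX_apply_neg Fr hxy hs
  have a2 : ∀ {s : F}, s ≠ 0 → nX Fr x y s (Fr.b x) = s⁻¹ • Fr.b (neg y) := fun hs => by
    rw [nX_apply_self Fr hxy hs, neg1]
  have a3 : ∀ {s : F}, s ≠ 0 → nX Fr x y s (Fr.b (neg x)) = H.σ s • Fr.b y := fun hs => by
    rw [nX_apply_neg' Fr hxy hs, neg1, eta B.hε, eta B.hε, B.hε, inv_one, one_mul, one_mul, one_mul]
  have a4 : ∀ {s : F}, s ≠ 0 → nX Fr x y s (Fr.b y) = (H.σ s)⁻¹ • Fr.b (neg x) := fun hs => by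
    rw [nX_apply_self' Fr hxy hs, eta B.hε, eta B.hε, B.hε, inv_one, one_mul, one_mul, one_mul]
  have hiso : H.IsIso ((mnX M x y B.ζ * (mnX M x y 1)⁻¹ : M.I) : V ≃ₗ[F] V) :=
    HForm.IsIso.mul H (isIso_nX Fr _ _ _) (HForm.IsIso.inv H (isIso_nX Fr _ _ _))
  have key := tw_of (M := M) B.hε (fun a ha => B.norm ha) (mnX M x y B.ζ * (mnX M x y 1)⁻¹) hiso
    (fun z => if z.1 = i then B.ζ else if z.1 = j then B.ζ + 1 else 1) ?_ ?_ 1 one_ne_zero ?_
  · exact ⟨_, hT ▸ key.1, key.2⟩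
  · intro z
    show (if z.1 = i then B.ζ else if z.1 = j then B.ζ + 1 else 1) ≠ 0
    split_ifs
    · exact hz
    · exact B.u_ne_zero
    · exact one_ne_zero
  · intro z
    show (nX Fr x y B.ζ * (nX Fr x y 1)⁻¹) (Fr.b z) =
      (if z.1 = i then B.ζ else if z.1 = j then B.ζ + 1 else 1) • Fr.b z
    by_cases h1 : z = x
    · subst h1
      have e : nX Fr x y 1 (Fr.b (neg y)) = Fr.b x := by rw [a1 one_ne_zero, one_smul]
      rw [inv_apply_of e, a1 hz, if_pos rfl]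
    by_cases h3 : z = neg x
    · subst h3
      have e : nX Fr x y 1 (Fr.b y) = Fr.b (neg x) := by rw [a4 one_ne_zero, map_one, inv_one, one_smul]
      rw [inv_apply_of e, a4 hz, if_pos (show (neg x).1 = i from rfl), B.σζ, uinv]
    have h4 : z.1 ≠ i := fst_ne h1 h3
    by_cases h5 : z = y
    · subst h5
      have e : nX Fr x y 1 (Fr.b (neg x)) = Fr.b y := by rw [a3 one_ne_zero, map_one, one_smul]
      rw [inv_apply_of e, a3 hz, if_neg h4, if_pos rfl, B.σζ]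
    by_cases h6 : z = neg y
    · subst h6
      have e : nX Fr x y 1 (Fr.b x) = Fr.b (neg y) := by rw [a2 one_ne_zero, inv_one, one_smul]
      rw [inv_apply_of e, a2 hz, if_neg h4, if_pos (show (neg y).1 = j from rfl), zinv]
    have h7 : z.1 ≠ j := fst_ne h5 h6
    rw [inv_apply_of (nX_apply_of_ne Fr hxy h4 h7 1), nX_apply_of_ne Fr hxy h4 h7, if_neg h4, if_neg h7, one_smul]
  · intro w hw
    show (nX Fr x y B.ζ * (nX Fr x y 1)⁻¹) w = _
    rw [inv_apply_of (nX_apply_V0 Fr hxy hw 1), nX_apply_V0 Fr hxy hw, one_smul]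

/-- the elements `g_i` -/
theorem exists_gZ (B : UBase M) (hT : B.T = tor M) {d : V} (hd : H.h d d = 1)
    (hspan : ∀ w ∈ Fr.V0, ∃ a : F, w = a • d) (p q : Fr.Adm) (hp : p.w = d) (hpc : p.c = B.ζ) (hq : q.w = d)
    (hqc : q.c = B.ζ + 1) (i : Fin m) :
    ∃ t ∈ B.T, TW M t (fun y => if y.1 = i then B.ζ + 1 else 1) (B.ζ + 1) := by
  set x : Fin m × Bool := (i, true) with hx
  have hz := B.ζ_ne_zero
  have hu := B.u_ne_zero
  have zinv : (B.ζ)⁻¹ = B.ζ + 1 := inv_eq_of_mul_eq_one_right B.ζu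
  have uinv : (B.ζ + 1)⁻¹ = B.ζ := by rw [← zinv, inv_inv]
  have a1 : ∀ r : Fr.Adm, r.c ≠ 0 → nZ Fr x r (Fr.b x) = (H.σ r.c)⁻¹ • Fr.b (neg x) := fun r hr => by
    rw [nZ_apply_self Fr x r hr, eta B.hε, B.hε, inv_one, one_mul, one_mul]
  have a2 : ∀ r : Fr.Adm, r.c ≠ 0 → nZ Fr x r (Fr.b (neg x)) = r.c • Fr.b x := fun r hr => by
    rw [nZ_apply_neg Fr x r hr, eta B.hε, one_mul]
  have a3 : ∀ r : Fr.Adm, r.c ≠ 0 → r.w = d → ∀ a : F, a • d ∈ Fr.V0 → nZ Fr x r (a • d) = (a * (1 + r.c⁻¹)) • d := by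
    intro r hr hrw a ha
    rw [nZ_apply_V0 Fr x r hr ha, hrw, H.smul_left, hd, B.hε, inv_one, one_mul, mul_one, ← add_smul]
    congr 1; ring
  have hpc' : p.c ≠ 0 := by rw [hpc]; exact hz
  have hqc' : q.c ≠ 0 := by rw [hqc]; exact hu
  have hiso : H.IsIso ((mnZ M x p * (mnZ M x q)⁻¹ : M.I) : V ≃ₗ[F] V) :=
    HForm.IsIso.mul H (isIso_nZ Fr _ _) (HForm.IsIso.inv H (isIso_nZ Fr _ _))
  have key := tw_of (M := M) B.hε (fun a ha => B.norm ha) (mnZ M x p * (mnZ M x q)⁻¹) hiso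
    (fun z => if z.1 = i then B.ζ + 1 else 1) ?_ ?_ (B.ζ + 1) hu ?_
  · exact ⟨_, hT ▸ key.1, key.2⟩
  · intro z
    show (if z.1 = i then B.ζ + 1 else 1) ≠ 0
    split_ifs
    · exact hu
    · exact one_ne_zero
  · intro z
    show (nZ Fr x p * (nZ Fr x q)⁻¹) (Fr.b z) = (if z.1 = i then B.ζ + 1 else 1) • Fr.b z
    by_cases h1 : z = x
    · subst h1
      have e : nZ Fr x q ((q.c)⁻¹ • Fr.b (neg x)) = Fr.b x := by
        rw [map_smul, a2 q hqc', smul_smul, inv_mul_cancel₀ hqc', one_smul]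
      rw [inv_apply_of e, map_smul, a2 p hpc', smul_smul, if_pos rfl, hqc, hpc, uinv, B.hζ]
    by_cases h3 : z = neg x
    · subst h3
      have hσ : H.σ q.c ≠ 0 := by simpa using hqc'
      have e : nZ Fr x q ((H.σ q.c) • Fr.b x) = Fr.b (neg x) := by
        rw [map_smul, a1 q hqc', smul_smul, mul_inv_cancel₀ hσ, one_smul]
      rw [inv_apply_of e, map_smul, a1 p hpc', smul_smul, if_pos (show (neg x).1 = i from rfl), hqc, hpc, B.σu, B.σζ,
        uinv, B.hζ]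
    have h4 : z.1 ≠ i := fst_ne h1 h3
    rw [inv_apply_of (nZ_apply_of_ne Fr (x := x) h4 q), nZ_apply_of_ne Fr (x := x) h4, if_neg h4, one_smul]
  · intro w hw
    show (nZ Fr x p * (nZ Fr x q)⁻¹) w = _
    obtain ⟨a, rfl⟩ := hspan w hw
    have hmem : ∀ c : F, c • d ∈ Fr.V0 := fun c => by
      rw [← hp]; exact Fr.V0.smul_mem c (Fr.ok_mem p.ok)
    have e : nZ Fr x q ((B.ζ * a) • d) = a • d := by
      rw [a3 q hqc' hq _ (hmem _), hqc, uinv]
      congr 1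
      have := B.ζu
      linear_combination a * this
    rw [inv_apply_of e, a3 p hpc' hp _ (hmem _), hpc, zinv, smul_smul]
    congr 1
    have h3 : (1 : F) + (B.ζ + 1) = B.ζ := by linear_combination B.h2
    rw [h3]
    linear_combination a * B.hζ

end Gen

/-! ### `PSU` -/

section Inst

open Cfsg Cfsg.Agent.LieClassical.HermBasic
open Cfsg.Agent.TitsThree.KSideU Cfsg.Agent.TitsThree.KSideUDesc Cfsg.Agent.TitsThree.KInstU

theorem four_facts {F : Type*} [Field F] [Fintype F] (hF : Fintype.card F = 2 ^ 2) :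
    (2 : F) = 0 ∧ ∃ ζ : F, ζ * ζ = ζ + 1 ∧ ∀ s : F, s = 0 ∨ s = 1 ∨ s = ζ ∨ s = ζ + 1 := by
  classical
  have h2 : (2 : F) = 0 := by
    have h1 := FiniteField.cast_card_eq_zero F
    rw [hF] at h1
    push_cast at h1
    have h3 : (2 : F) * 2 = 0 := by linear_combination h1
    exact mul_self_eq_zero.1 h3
  have h11 : (1 : F) + 1 = 0 := by rw [one_add_one_eq_two, h2]
  obtain ⟨ζ, hζ⟩ : ∃ ζ : F, ζ ∉ ({0, 1} : Finset F) := by
    by_contra hcon
    push Not at hcon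
    have h1 : (Finset.univ : Finset F) ⊆ {0, 1} := fun k _ => hcon k
    have h3 := Finset.card_le_card h1
    rw [Finset.card_univ, hF] at h3
    have h4 := Finset.card_le_two (a := (0 : F)) (b := 1)
    omega
  simp only [Finset.mem_insert, Finset.mem_singleton, not_or] at hζ
  have h3 : ζ * ζ = ζ + 1 := by
    have h4 : ζ ^ 4 = ζ := by
      have := FiniteField.pow_card ζ
      rw [hF] at this
      exact this
    have h5 : ζ * ((ζ - 1) * (ζ * ζ + ζ + 1)) = 0 := by linear_combination h4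
    have h6 : ζ * ζ + ζ + 1 = 0 :=
      (mul_eq_zero.1 ((mul_eq_zero.1 h5).resolve_left hζ.1)).resolve_left (sub_ne_zero.2 hζ.2)
    linear_combination h6 - (ζ + 1) * h2
  refine ⟨h2, ζ, h3, ?_⟩
  have d1 : ζ ≠ ζ + 1 := fun h => one_ne_zero (left_eq_add.1 h)
  have d2 : (1 : F) ≠ ζ + 1 := fun h => hζ.1 (by simpa using h)
  have d3 : (0 : F) ≠ ζ + 1 := fun h => hζ.2 (by linear_combination -h - h11)
  have hcard : ({0, 1, ζ, ζ + 1} : Finset F).card = 4 := by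
    rw [Finset.card_insert_of_notMem, Finset.card_insert_of_notMem, Finset.card_insert_of_notMem,
      Finset.card_singleton]
    · simp only [Finset.mem_singleton]; exact d1
    · simp only [Finset.mem_insert, Finset.mem_singleton, not_or]
      exact ⟨fun h => hζ.2 h.symm, d2⟩
    · simp only [Finset.mem_insert, Finset.mem_singleton, not_or]
      exact ⟨zero_ne_one, fun h => hζ.1 h.symm, d3⟩
  have huniv : ({0, 1, ζ, ζ + 1} : Finset F) = Finset.univ := by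
    apply Finset.eq_univ_of_card
    rw [hcard, hF]; norm_num
  intro s
  have : s ∈ ({0, 1, ζ, ζ + 1} : Finset F) := by rw [huniv]; exact Finset.mem_univ s
  simpa using this

/-- arithmetic -/
theorem exists_odd_part {g N e P : ℕ} (h : g * N = 2 ^ e * P) (hg : ¬ 2 ∣ g) (hP : ¬ 2 ∣ P) :
    ∃ b, N = 2 ^ e * b ∧ ¬ 2 ∣ b := by
  have h1 : (2 ^ e).Coprime g := Nat.Coprime.pow_left _ ((Nat.Prime.coprime_iff_not_dvd Nat.prime_two).2 hg)
  have h2 : 2 ^ e ∣ N := h1.dvd_of_dvd_mul_left (h ▸ Dvd.intro _ rfl)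
  obtain ⟨b, rfl⟩ := h2
  refine ⟨b, rfl, fun hb => hP ?_⟩
  have h3 : g * b = P := by
    have : 2 ^ e * (g * b) = 2 ^ e * P := by rw [← h]; ring
    exact Nat.eq_of_mul_eq_mul_left (by positivity) this
  rw [← h3]
  exact Dvd.dvd.mul_left hb g

theorem card_psu {F : Type*} [Field F] [Fintype F] (hF : Fintype.card F = 2 ^ 2) (N : ℕ) (hN : 2 ≤ N) :
    ∃ b, Nat.card (PSU N F 2) = 2 ^ (N * (N - 1) / 2) * b ∧ ¬ 2 ∣ b := by
  have h1 := Cfsg.Agent.S0280.result hF N hN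
  rw [← mul_assoc] at h1
  refine exists_odd_part h1 ?_ ?_
  · intro h
    rcases Nat.prime_two.dvd_mul.1 h with h2 | h2
    · have := h2.trans (Nat.gcd_dvd_right N (2 + 1))
      omega
    · omega
  · intro h
    obtain ⟨i, -, h3⟩ := (Prime.dvd_finsetProd_iff Nat.prime_two.prime _).1 h
    have h4 : 2 ∣ 2 ^ (i + 1) := dvd_pow_self 2 (by omega)
    have h5 : 1 ≤ 2 ^ (i + 1) := Nat.one_le_two_pow
    split_ifs at h3 <;> omega

/-- **`PSU_{2m}(2)`, `m ≥ 4`.** -/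
theorem noDouble_even {F : Type*} [Field F] [Fintype F] (hF : Fintype.card F = 2 ^ 2) {m : ℕ} (hm : 4 ≤ m) :
    NoDouble (PSU (2 * m) F 2) := by
  intro L _ _ π c hd
  have hfin : Finite (PSU (2 * m) F 2) := Finite.of_surjective π hd.surj
  obtain ⟨h2, ζ, hζ, h4⟩ := four_facts hF
  obtain ⟨W, hW⟩ := exists_wframe_even (N := 2 * m) hF rfl
  let M := model hF (N := 2 * m) (by omega) W
  let B : UBase M := uBase h2 rfl ζ hζ h4 (fun s => by rw [HU_σ, pow_two]) (fun g h1 h3 => eq_one_of_fix _ h1 h3)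
  have hw0 : ∀ w ∈ (toFrame W).V0, w = 0 := fun w hw => by
    have : w ∈ W.V0 := hw
    rw [hW] at this
    exact (Submodule.mem_bot F).1 this
  let D : UEven B := ⟨fun p => hw0 _ (Frame.ok_mem _ p.ok), fun i j hij => exists_hX B rfl hij⟩
  have nd : ∀ w ∈ (toFrame W).V0, (∀ w' ∈ (toFrame W).V0, (HU hF (2 * m)).h w w' = 0) → w = 0 :=
    fun w hw _ => hw0 w hw
  obtain ⟨b, hb1, hb2⟩ := card_psu hF (2 * m) (by omega)
  refine D.noDouble hm ?_ L π c hd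
  refine not_dvd_index (isPGroup M h2 (fun v hv => mem_V0 _ hv) nd _) hb1 hb2 ?_
  have h3 := card_le M nd (fun w hw => ⟨0, hw, by rw [hw0 w hw]; exact (PU hF (2 * m)).zero⟩)
  have h5 : 1 ≤ Nat.card (toFrame W).V0 := Nat.card_pos
  have h6 : 2 ≤ Nat.card {c : F // (toFrame W).ok 0 c} := by
    have : Nontrivial {c : F // (toFrame W).ok 0 c} :=
      ⟨⟨0, Frame.ok_zero _⟩, ⟨1, by
        have := B.zc.ok
        rw [B.zc_c] at this
        exact this⟩, fun h => zero_ne_one (congrArg Subtype.val h)⟩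
    exact Finite.one_lt_card
  rw [Nat.card_eq_fintype_card (α := F), hF] at h3
  refine le_trans ?_ h3
  have e1 : 2 * m * (2 * m - 1) / 2 = 2 * (m * m - m) + m := by
    obtain ⟨k, rfl⟩ : ∃ k, m = k + 1 := ⟨m - 1, by omega⟩
    have a1 : (k + 1) * (k + 1) - (k + 1) = (k + 1) * k := by
      rw [Nat.sub_eq_iff_eq_add (Nat.le_mul_self _)]; ring
    have a2 : 2 * (k + 1) - 1 = 2 * k + 1 := by omega
    rw [a1, a2]
    have a3 : 2 * (k + 1) * (2 * k + 1) = 2 * ((k + 1) * (2 * k + 1)) := by ring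
    rw [a3, Nat.mul_div_cancel_left _ (by norm_num)]
    ring
  rw [e1, pow_add, pow_mul]
  refine Nat.mul_le_mul_left _ ?_
  calc 2 ^ m = 1 ^ m * 2 ^ m := by rw [one_pow, one_mul]
    _ ≤ _ := Nat.mul_le_mul (Nat.pow_le_pow_left h5 m) (Nat.pow_le_pow_left h6 m)

/-- **`PSU_{2m+1}(2)`, `m ≥ 2`.** -/
theorem noDouble_odd {F : Type*} [Field F] [Fintype F] (hF : Fintype.card F = 2 ^ 2) {m : ℕ} (hm : 2 ≤ m) :
    NoDouble (PSU (2 * m + 1) F 2) := by
  intro L _ _ π c hd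
  have hfin : Finite (PSU (2 * m + 1) F 2) := Finite.of_surjective π hd.surj
  obtain ⟨h2, ζ, hζ, h4⟩ := four_facts hF
  obtain ⟨W, d, hdd, hW⟩ := exists_wframe_odd (N := 2 * m + 1) hF rfl
  let M := model hF (N := 2 * m + 1) (by omega) W
  let B : UBase M := uBase h2 rfl ζ hζ h4 (fun s => by rw [HU_σ, pow_two]) (fun g h1 h3 => eq_one_of_fix _ h1 h3)
  have hspan : ∀ w ∈ (toFrame W).V0, ∃ a : F, w = a • d := fun w hw => by
    have : w ∈ W.V0 := hw
    rw [hW] at this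
    obtain ⟨a, ha⟩ := Submodule.mem_span_singleton.1 this
    exact ⟨a, ha.symm⟩
  have hmem : ∀ a : F, a • d ∈ (toFrame W).V0 := fun a => by
    show a • d ∈ W.V0
    rw [hW]; exact Submodule.smul_mem _ _ (Submodule.mem_span_singleton_self d)
  have hh : (HU hF (2 * m + 1)).h d d = 1 := hdd
  -- admissible pairs
  have hpair : ∀ c : F, c + c * c = 1 → (toFrame W).ok d c := fun c hc => by
    refine ⟨by simpa using hmem 1, ?_⟩
    rw [ok_iff, pow_two, hc, hdd, neg_eq h2]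
  let p : (toFrame W).Adm := ⟨d, ζ, hpair ζ (by rw [hζ]; linear_combination ζ * h2)⟩
  let q : (toFrame W).Adm := ⟨d, ζ + 1, hpair (ζ + 1) (by linear_combination hζ + (2 * ζ + 1) * h2)⟩
  let D : UOdd B :=
    { d := d, hd := hh, span := hspan
      ex := fun a => ⟨Frame.Adm.smul a p, rfl⟩
      gZ := fun i => exists_gZ B rfl hh hspan p q rfl rfl rfl rfl i }
  have nd : ∀ w ∈ (toFrame W).V0, (∀ w' ∈ (toFrame W).V0, (HU hF (2 * m + 1)).h w w' = 0) → w = 0 := by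
    intro w hw h
    obtain ⟨a, rfl⟩ := hspan w hw
    have h5 := h d (by simpa using hmem 1)
    rw [(HU hF (2 * m + 1)).smul_left, hh, mul_one] at h5
    rw [h5, zero_smul]
  obtain ⟨b, hb1, hb2⟩ := card_psu hF (2 * m + 1) (by omega)
  refine D.noDouble hm ?_ L π c hd
  refine not_dvd_index (isPGroup M h2 (fun v hv => mem_V0 _ hv) nd _) hb1 hb2 ?_
  have h3 := card_le M nd (fun w hw => by
    obtain ⟨a, rfl⟩ := hspan w hw
    exact ⟨_, (Frame.Adm.smul a p).ok⟩)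
  have h5 : 2 ^ 2 ≤ Nat.card (toFrame W).V0 := by
    rw [← hF, ← Nat.card_eq_fintype_card]
    refine Nat.card_le_card_of_injective (fun a : F => (⟨a • d, hmem a⟩ : (toFrame W).V0)) ?_
    intro a a' h
    have h6 : a • d = a' • d := congrArg Subtype.val h
    have h7 := congrArg (fun v => (HU hF (2 * m + 1)).h v d) h6
    simpa only [(HU hF (2 * m + 1)).smul_left, hh, mul_one] using h7
  have h6 : 2 ≤ Nat.card {c : F // (toFrame W).ok 0 c} := by
    have : Nontrivial {c : F // (toFrame W).ok 0 c} :=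
      ⟨⟨0, Frame.ok_zero _⟩, ⟨1, by
        have := B.zc.ok
        rw [B.zc_c] at this
        exact this⟩, fun h => zero_ne_one (congrArg Subtype.val h)⟩
    exact Finite.one_lt_card
  rw [Nat.card_eq_fintype_card (α := F), hF] at h3
  refine le_trans ?_ h3
  have e1 : (2 * m + 1) * (2 * m + 1 - 1) / 2 = 2 * (m * m - m) + (2 * m + m) := by
    obtain ⟨k, rfl⟩ : ∃ k, m = k + 1 := ⟨m - 1, by omega⟩
    have a1 : (k + 1) * (k + 1) - (k + 1) = (k + 1) * k := by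
      rw [Nat.sub_eq_iff_eq_add (Nat.le_mul_self _)]; ring
    rw [a1, Nat.add_sub_cancel]
    have a3 : (2 * (k + 1) + 1) * (2 * (k + 1)) = 2 * ((2 * (k + 1) + 1) * (k + 1)) := by ring
    rw [a3, Nat.mul_div_cancel_left _ (by norm_num)]
    ring
  rw [e1, pow_add, pow_mul, pow_add, pow_mul]
  exact Nat.mul_le_mul_left _ (Nat.mul_le_mul (Nat.pow_le_pow_left h5 m) (Nat.pow_le_pow_left h6 m))

/-- **`PSU_5(2)` and `PSU_n(2)`, `n ≥ 7`, have no perfect double cover.** -/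
theorem noDouble_psu {F : Type*} [Field F] [Fintype F] (hF : Fintype.card F = 2 ^ 2) {n : ℕ}
    (hn : n = 5 ∨ 7 ≤ n) : NoDouble (PSU n F 2) := by
  rcases Nat.even_or_odd' n with ⟨m, rfl | rfl⟩
  · exact noDouble_even hF (by omega)
  · exact noDouble_odd hF (by omega)

end Inst

end Cfsg.Agent.KFacts.Mult.UnitTwo
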