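import Cfsg.Agent.KFacts.Mult.Unitary
import Cfsg.Agent.KFacts.Mult.UnitInst

/-!
# `PSU_5(2^a)`, `PSU_n(2^a)`, `n ≥ 6`, `(n, a) ≠ (6, 1)`: the literal fields `u5`, `u` of
`OddHalf.D9.MultOf.LieND`
-/

set_option autoImplicit false

namespace Cfsg.Agent.KFacts.Mult.UnitLit

open Cfsg.Agent.KFacts.MulDef

/-- The literal field `u5` of `LieND` (all `a ≥ 1`). -/
theorem u5 (F : Type) [Field F] [Fintype F] (a : ℕ) (ha : 1 ≤ a) (hF : Fintype.card F = 4 ^ a) :
    NoDouble (PSU 5 F (2 ^ a)) := by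
  by_cases h1 : a = 1
  · subst h1
    rw [pow_one]
    exact UnitTwo.noDouble_psu (by rw [hF]; norm_num) (Or.inl rfl)
  · exact Unitary.u5 F a (by omega) hF

/-- The literal field `u` of `LieND` (all `a ≥ 1`). -/
theorem u (F : Type) [Field F] [Fintype F] (a n : ℕ) (ha : 1 ≤ a) (hF : Fintype.card F = 4 ^ a) (hn : 6 ≤ n)
    (h6 : n = 6 → 2 ≤ a) : NoDouble (PSU n F (2 ^ a)) := by
  by_cases h1 : a = 1
  · subst h1
    rw [pow_one]
    exact UnitTwo.noDouble_psu (by rw [hF]; norm_num) (Or.inr (by omega))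
  · exact Unitary.u F a n (by omega) hF hn

end Cfsg.Agent.KFacts.Mult.UnitLit
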