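import Cfsg.Agent.KFacts.Mult.UnitChain

/-!
# Unitary groups of odd dimension over the field with four elements (helper430)
-/

set_option autoImplicit false
set_option linter.unusedVariables false

namespace Cfsg.Agent.KFacts.Mult.UnitTwo

open Cfsg.Agent.TitsThree.Siegel Cfsg.Agent.TitsThree.WittFrame Cfsg.Agent.TitsThree.WittWeyl
open Cfsg.Agent.TitsThree.FrameCN Cfsg.Agent.KFacts.Mult.ChainZ Cfsg.Agent.KFacts.Mult.WittTwo
open Cfsg.Agent.KFacts.Mult.Calc Cfsg.Agent.KFacts.MulDef Cfsg.Agent.KFacts.Mult.Chain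
open scoped commutatorElement

variable {F : Type*} [Field F] {V : Type*} [AddCommGroup V] [Module F V] {H : HForm F V} {m : ℕ}
  {Fr : Frame H (Fin m)} {K : Type*} [Group K]

theorem TW.mul {M : Model Fr K} {t t' : K} {a a' : Fin m × Bool → F} {a0 a0' : F} (h : TW M t a a0)
    (h' : TW M t' a' a0') : TW M (t * t') (fun x => a x * a' x) (a0 * a0') where
  ne x := mul_ne_zero (h.ne x) (h'.ne x)
  ne0 := mul_ne_zero h.ne0 h'.ne0
  opp x := by
    rw [map_mul]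
    have h1 := h.opp x
    have h2 := h'.opp x
    calc a x * a' x * (H.σ (a (neg x)) * H.σ (a' (neg x))) = (a x * H.σ (a (neg x))) * (a' x * H.σ (a' (neg x))) := by
          ring
      _ = 1 := by rw [h1, h2, one_mul]
  X x y s := by
    have e : t * t' * M.X x y s * (t * t')⁻¹ = t * (t' * M.X x y s * t'⁻¹) * t⁻¹ := by group
    rw [e, h'.X, h.X]
    congr 1
    rw [map_mul]; ring
  Z x p := by
    have e : t * t' * M.Z x p * (t * t')⁻¹ = t * (t' * M.Z x p * t'⁻¹) * t⁻¹ := by group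
    rw [e, h'.Z, h.Z, Frame.Adm.smul_smul]
    congr 2
    rw [map_mul]; ring

/-- The data in odd dimension. -/
structure UOdd {M : Model Fr K} (B : UBase M) where
  d : V
  hd : H.h d d = 1
  span : ∀ w ∈ Fr.V0, ∃ a : F, w = a • d
  ex : ∀ a : F, ∃ p : Fr.Adm, p.w = a • d
  gZ : ∀ i : Fin m, ∃ t ∈ B.T, TW M t (fun y => if y.1 = i then B.ζ + 1 else 1) (B.ζ + 1)

namespace UOdd

variable {M : Model Fr K} {B : UBase M} (D : UOdd B)

include D

theorem h_smul (a b : F) : H.h (a • D.d) (b • D.d) = a * H.σ b := by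
  rw [H.smul_left, H.smul_right, D.hd, mul_one]

theorem exists_ZZ {x y : Fin m × Bool} (hxy : x.1 ≠ y.1) (s : F) : ∃ p q, ⁅M.Z x p, M.Z y q⁆ = M.X x y s := by
  obtain ⟨p, hp⟩ := D.ex (H.σ s)
  obtain ⟨q, hq⟩ := D.ex 1
  refine ⟨p, q, ?_⟩
  rw [br_ZZ M B.h2 B.hε hxy, hp, hq, D.h_smul, map_one, mul_one, H.σσ]

omit D in
include B in
theorem adm_comm (p q : Fr.Adm) : p * q = Frame.Adm.tr (H.h p.w q.w) * (q * p) := by
  apply Frame.Adm.ext
  · simp only [Frame.Adm.mul_w, Frame.Adm.tr_w]; abel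
  · simp only [Frame.Adm.mul_c, Frame.Adm.tr_w, Frame.Adm.mul_w, Frame.Adm.tr_c, H.zero_right, B.hε, inv_one, one_mul,
      H.swap p.w q.w]
    ring

omit D in
include B in
theorem brZZ_same (x : Fin m × Bool) (p q : Fr.Adm) : ⁅M.Z x p, M.Z x q⁆ = M.Z x (Frame.Adm.tr (H.h p.w q.w)) := by
  rw [commutatorElement_def, mul_inv_eq_iff_eq_mul, mul_inv_eq_iff_eq_mul, ← Z_mul, ← Z_mul, ← Z_mul]
  congr 1
  rw [mul_assoc]
  exact adm_comm (B := B) p q

omit D in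
include B in
theorem commute_C {x y : Fin m × Bool} (hxy : x ≠ neg y) (p : Fr.Adm) {e : Fr.Adm} (he : e.w = 0) :
    Commute (M.Z x p) (M.Z y e) := by
  by_cases h : x = y
  · subst h
    rw [← commutatorElement_eq_one_iff_commute, brZZ_same (B := B), he, H.zero_right]
    have : (Frame.Adm.tr 0 : Fr.Adm) = 1 := by
      apply Frame.Adm.ext
      · rfl
      · rw [Frame.Adm.tr_c]; simp
    rw [this, Z_one]
  · rw [← commutatorElement_eq_one_iff_commute, br_ZZ M B.h2 B.hε (fst_ne h hxy), he, H.zero_right, map_zero, X_zero]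

section CE

variable {L : Type*} [Group L] {π : L →* K} (ce : CE π)

theorem xx {x y z w : Fin m × Bool} (hzw : z.1 ≠ w.1) (h1 : z ≠ neg x) (h2 : z ≠ neg y) (h3 : w ≠ neg x)
    (h4 : w ≠ neg y) (s t : F) : ce.lc (M.X x y s) (M.X z w t) = 1 := by
  obtain ⟨p, q, e⟩ := D.exists_ZZ hzw t
  rw [← e]
  have e : ∀ {a b : Fin m × Bool}, a ≠ neg b → b ≠ neg a := by
    rintro a b h rfl
    exact h (TitsThree.WittFrame.neg_neg a).symm
  exact ce.lc_comm_eq_one (M.commute_ZX (e h1) (e h2) _ s).symm (M.commute_ZX (e h3) (e h4) _ s).symm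

/-- weights of the elements of the torus -/
theorem exists_fixZ (i : Fin m) : ∃ t ∈ B.T, TW M t (fun y => if y.1 = i then B.ζ + 1 else 1) (B.ζ + 1) ∧
    ∀ (x : Fin m × Bool), x.1 = i → ∀ p, Commute t (M.Z x p) := by
  obtain ⟨t, ht, hw⟩ := D.gZ i
  refine ⟨t, ht, hw, fun x hx p => B.fixZ hw ?_ p⟩
  simp only [hx, if_true, B.σu, B.ζu]

theorem exists_moveZ (i : Fin m) : ∃ t ∈ B.T, TW M t (fun y => if y.1 = i then B.ζ + 1 else 1) (B.ζ + 1) ∧
    ∀ (x : Fin m × Bool), x.1 ≠ i → ∀ p, ∃ q e : Fr.Adm, e.w = 0 ∧ M.Z x p = ⁅t, M.Z x q⁆ * M.Z x e := by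
  obtain ⟨t, ht, hw⟩ := D.gZ i
  refine ⟨t, ht, hw, fun x hx p => B.moveZ hw ?_ p⟩
  simp only [hx, if_false, map_one, one_mul]
  exact B.u_ne_one

theorem xz {x y z : Fin m × Bool} (hxy : x.1 ≠ y.1) (h1 : x ≠ neg z) (h2 : y ≠ neg z) (s : F) (p : Fr.Adm) :
    ce.lc (M.X x y s) (M.Z z p) = 1 := by
  have key : ∃ t, Commute t (M.Z z p) ∧ ∃ s', ⁅t, M.X x y s'⁆ = M.X x y s := by
    by_cases h3 : z.1 = x.1
    · obtain ⟨t, ht, hw⟩ := D.gZ x.1
      refine ⟨t, B.fixZ hw ?_ p, B.moveX hw ?_ s⟩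
      · simp only [h3, if_true, B.σu, B.ζu]
      · simp only [if_true, if_neg hxy.symm, map_one, mul_one]
        exact B.u_ne_one
    by_cases h4 : z.1 = y.1
    · obtain ⟨t, ht, hw⟩ := D.gZ y.1
      refine ⟨t, B.fixZ hw ?_ p, B.moveX hw ?_ s⟩
      · simp only [h4, if_true, B.σu, B.ζu]
      · simp only [if_true, if_neg hxy, B.σu, one_mul]
        exact B.ζ_ne_one
    · obtain ⟨t, ht, hw⟩ := D.gZ x.1
      obtain ⟨r, hr, hv⟩ := D.gZ y.1
      have hw' := hw.mul (hv.mul hv)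
      refine ⟨_, B.fixZ hw' ?_ p, B.moveX hw' ?_ s⟩
      · simp only [if_neg h3, if_neg h4, mul_one, map_one, one_mul, B.uu, B.uζ]
      · simp only [if_true, if_neg hxy, if_neg hxy.symm, mul_one, one_mul, B.uu, B.σζ]
        exact B.ζ_ne_one
  obtain ⟨t, hc, s', hs⟩ := key
  rw [← hs, ce.lc_swap, ce.lc_comm_eq_one hc.symm (M.commute_ZX h1 h2 p s'), inv_one]

theorem xz' {x y z : Fin m × Bool} (hxy : x.1 ≠ y.1) (h1 : x ≠ neg z) (h2 : y ≠ neg z) (s : F) (p : Fr.Adm) :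
    ce.lc (M.Z z p) (M.X x y s) = 1 := by
  rw [ce.lc_swap, D.xz ce hxy h1 h2, inv_one]

theorem zc_eq (x : Fin m × Bool) : ∃ p q, ⁅M.Z x p, M.Z x q⁆ = M.Z x B.zc := by
  obtain ⟨p, hp⟩ := D.ex 1
  obtain ⟨q, hq⟩ := D.ex (B.ζ + 1)
  refine ⟨p, q, ?_⟩
  rw [brZZ_same (B := B), hp, hq, D.h_smul, B.σu, one_mul]
  rfl

variable (hm : 2 ≤ m)

include hm in
omit D in
theorem exists_other (i : Fin m) : ∃ k, i ≠ k := by
  have : Nontrivial (Fin m) := Fin.nontrivial_iff_two_le.2 hm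
  obtain ⟨k, hk⟩ := exists_ne i
  exact ⟨k, hk.symm⟩

include hm in
theorem zcc {x y : Fin m × Bool} (hxy : x ≠ neg y) (p : Fr.Adm) {e : Fr.Adm} (he : e.w = 0) :
    ce.lc (M.Z x p) (M.Z y e) = 1 := by
  -- both central
  have h0 : ∀ e' : Fr.Adm, e'.w = 0 → ce.lc (M.Z x e') (M.Z y e) = 1 := by
    intro e' he'
    rcases B.adm_cases he' with rfl | rfl
    · rw [Z_one, ce.lc_one_left]
    obtain ⟨r, q, h⟩ := D.zc_eq x
    rw [← h, ce.lc_swap, ce.lc_comm_eq_one (commute_C (B := B) hxy r he).symm (commute_C (B := B) hxy q he).symm,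
      inv_one]
  obtain ⟨k, hk⟩ := exists_other hm x.1
  obtain ⟨t, ht, hw, hmv⟩ := D.exists_moveZ k
  obtain ⟨q, e', he', hq⟩ := hmv x hk p
  rw [hq, ce.lc_mul_left (commute_C (B := B) hxy e' he), h0 e' he', mul_one, ce.lc_swap,
    ce.lc_comm_eq_one (B.fixC hw y he).symm (commute_C (B := B) hxy q he).symm, inv_one]

include hm

theorem zcc' {x y : Fin m × Bool} (hxy : x ≠ neg y) (p : Fr.Adm) {e : Fr.Adm} (he : e.w = 0) :
    ce.lc (M.Z y e) (M.Z x p) = 1 := by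
  rw [ce.lc_swap, D.zcc ce hm hxy p he, inv_one]

theorem ind {x : Fin m × Bool} {p p' q q' : Fr.Adm} (h1 : p.w = p'.w) (h2 : q.w = q'.w) :
    ce.lc (M.Z x p) (M.Z x q) = ce.lc (M.Z x p') (M.Z x q') := by
  have hx := ne_neg_self x
  obtain ⟨e, e1, rfl⟩ : ∃ e : Fr.Adm, e.w = 0 ∧ p = p' * e :=
    ⟨p'⁻¹ * p, by rw [Frame.Adm.mul_w, Frame.Adm.inv_w, h1, neg_add_cancel], by group⟩
  obtain ⟨f, e2, rfl⟩ : ∃ e : Fr.Adm, e.w = 0 ∧ q = q' * e :=
    ⟨q'⁻¹ * q, by rw [Frame.Adm.mul_w, Frame.Adm.inv_w, h2, neg_add_cancel], by group⟩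
  rw [Z_mul M x p' e, ce.lc_mul_left (commute_C (B := B) hx _ e1).symm, D.zcc' ce hm hx _ e1, mul_one, Z_mul,
    ce.lc_mul_right (commute_C (B := B) hx _ e2), D.zcc ce hm hx _ e2, mul_one]

theorem mulL {x : Fin m × Bool} (p p' q : Fr.Adm) :
    ce.lc (M.Z x (p * p')) (M.Z x q) = ce.lc (M.Z x p') (M.Z x q) * ce.lc (M.Z x p) (M.Z x q) := by
  rw [Z_mul, ce.lc_mul_left', brZZ_same (B := B), D.zcc ce hm (ne_neg_self x) _ (Frame.Adm.tr_w _), one_mul]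

theorem mulR {x : Fin m × Bool} (p q q' : Fr.Adm) :
    ce.lc (M.Z x p) (M.Z x (q * q')) = ce.lc (M.Z x p) (M.Z x q) * ce.lc (M.Z x p) (M.Z x q') := by
  rw [Z_mul, ce.lc_mul_right', brZZ_same (B := B), D.zcc ce hm (ne_neg_self x) _ (Frame.Adm.tr_w _), mul_one]

/-- chosen admissible pairs -/
noncomputable def P1 : Fr.Adm := (D.ex 1).choose
noncomputable def Pz : Fr.Adm := (D.ex B.ζ).choose

omit hm in
theorem P1_w : D.P1.w = (1 : F) • D.d := (D.ex 1).choose_spec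
omit hm in
theorem Pz_w : D.Pz.w = B.ζ • D.d := (D.ex B.ζ).choose_spec

/-- the lift of the central element `Z_x(0, 1)` -/
noncomputable def zt (x : Fin m × Bool) : L := ce.lc (M.Z x D.P1) (M.Z x D.Pz)

omit hm in
theorem map_zt (x : Fin m × Bool) : π (D.zt ce x) = M.Z x B.zc := by
  rw [zt, ce.map_lc, brZZ_same (B := B), D.P1_w, D.Pz_w, D.h_smul, B.σζ, one_mul]
  congr 1
  refine (B.tr_cases _).resolve_left fun h => ?_
  have := congrArg Frame.Adm.c h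
  rw [B.tr_c, B.σu] at this
  have h3 : B.ζ + 1 + B.ζ = 1 := by linear_combination B.dbl B.ζ
  rw [h3] at this
  exact one_ne_zero this

theorem sq_zt (x : Fin m × Bool) : D.zt ce x * D.zt ce x = 1 := by
  have h1 := D.mulL ce hm (x := x) D.P1 D.P1 D.Pz
  have h2 : (D.P1 * D.P1).w = (1 : Fr.Adm).w := by
    rw [Frame.Adm.mul_w, ← two_smul F, B.h2, zero_smul]; rfl
  rw [D.ind ce hm h2 rfl, Z_one, ce.lc_one_left] at h1
  exact h1.symm

theorem zz (x : Fin m × Bool) (p q : Fr.Adm) :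
    ce.lc (M.Z x p) (M.Z x q) = 1 ∨ ce.lc (M.Z x p) (M.Z x q) = D.zt ce x := by
  have rep : ∀ p : Fr.Adm, p.w = (1 : Fr.Adm).w ∨ p.w = D.P1.w ∨ p.w = D.Pz.w ∨ p.w = (D.P1 * D.Pz).w := by
    intro p
    obtain ⟨a, ha⟩ := D.span p.w (Fr.ok_mem p.ok)
    rw [ha, Frame.Adm.mul_w, D.P1_w, D.Pz_w, ← add_smul, add_comm (1 : F)]
    rcases B.hF a with h | h | h | h
    · left; rw [h, zero_smul]; rfl
    · right; left; rw [h]
    · right; right; left; rw [h]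
    · right; right; right; rw [h]
  have e1 : ce.lc (M.Z x D.P1) (M.Z x D.Pz) = D.zt ce x := rfl
  have e4 := D.sq_zt ce hm x
  have e2 : ce.lc (M.Z x D.Pz) (M.Z x D.P1) = D.zt ce x := by
    rw [ce.lc_swap, e1]
    exact inv_eq_of_mul_eq_one_left e4
  have aux : ∀ p q : Fr.Adm, (p = 1 ∨ p = D.P1 ∨ p = D.Pz ∨ p = D.P1 * D.Pz) →
      (q = 1 ∨ q = D.P1 ∨ q = D.Pz ∨ q = D.P1 * D.Pz) →
      ce.lc (M.Z x p) (M.Z x q) = 1 ∨ ce.lc (M.Z x p) (M.Z x q) = D.zt ce x := by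
    rintro p q (rfl | rfl | rfl | rfl) (rfl | rfl | rfl | rfl) <;>
    simp only [Z_one, CE.lc_one_left, CE.lc_one_right, e1, e2, CE.lc_self, D.mulL ce hm, D.mulR ce hm, e4, mul_one,
      one_mul, true_or, or_true]
  obtain ⟨p', hp', hp⟩ : ∃ p', (p' = 1 ∨ p' = D.P1 ∨ p' = D.Pz ∨ p' = D.P1 * D.Pz) ∧ p.w = p'.w := by
    rcases rep p with h | h | h | h
    · exact ⟨_, Or.inl rfl, h⟩
    · exact ⟨_, Or.inr (Or.inl rfl), h⟩
    · exact ⟨_, Or.inr (Or.inr (Or.inl rfl)), h⟩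
    · exact ⟨_, Or.inr (Or.inr (Or.inr rfl)), h⟩
  obtain ⟨q', hq', hq⟩ : ∃ p', (p' = 1 ∨ p' = D.P1 ∨ p' = D.Pz ∨ p' = D.P1 * D.Pz) ∧ q.w = p'.w := by
    rcases rep q with h | h | h | h
    · exact ⟨_, Or.inl rfl, h⟩
    · exact ⟨_, Or.inr (Or.inl rfl), h⟩
    · exact ⟨_, Or.inr (Or.inr (Or.inl rfl)), h⟩
    · exact ⟨_, Or.inr (Or.inr (Or.inr rfl)), h⟩
  rw [D.ind ce hm hp hq]
  exact aux p' q' hp' hq'

theorem xxD {x y : Fin m × Bool} (hxy : x.1 ≠ y.1) (s t : F) :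
    ce.lc (M.X x y s) (M.X x (neg y) t) = 1 ∨ ce.lc (M.X x y s) (M.X x (neg y) t) = D.zt ce x := by
  obtain ⟨p, q, e⟩ := D.exists_ZZ hxy s
  have n1 : ∀ {a b : Fin m × Bool}, a.1 ≠ b.1 → a ≠ neg b := by
    rintro a b h rfl; exact h rfl
  have hx := ne_neg_self x
  have h1 := ce.hw (c := M.X x (neg y) t) (a := M.Z x p) (b := M.Z y q)
    (M.commute_ZX hx (n1 (a := neg y) hxy.symm) p t).symm
  rw [e, br_XZ M B.h2 B.hε hxy] at h1
  have c1 : Commute (M.Z x p) (M.X x y (H.σ q.c * t)) := M.commute_ZX hx (n1 hxy.symm) _ _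
  have c2 : Commute (M.X x y (H.σ q.c * t)) (M.X x y s) :=
    M.commute_XX hx (n1 hxy) (n1 hxy.symm) (ne_neg_self y) _ _
  rw [ce.lc_mul_right c1, D.xz' ce hxy hx (n1 hxy.symm), mul_one, ce.lc_mul_left c2,
    D.xz' ce hxy hx (n1 hxy.symm), one_mul, D.xx ce hxy hx (n1 hxy) (n1 hxy.symm) (ne_neg_self y), mul_one] at h1
  rw [ce.lc_swap, h1]
  rcases D.zz ce hm x p (Frame.Adm.smul (H.σ t) q) with h | h
  · left; rw [h, inv_one]
  · right; rw [h]; exact inv_eq_of_mul_eq_one_left (D.sq_zt ce hm x)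

theorem tT (x : Fin m × Bool) (t : K) (ht : t ∈ B.T) (t' : L) (h : π t' = t) :
    t' * D.zt ce x * t'⁻¹ = D.zt ce x := by
  obtain ⟨a, a0, hw⟩ := B.tw t ht
  have h1 := ce.conj_lc t' (M.Z x D.P1) (M.Z x D.Pz)
  rw [h, hw.Z, hw.Z] at h1
  change t' * D.zt ce x * t'⁻¹ = _ at h1
  rcases D.zz ce hm x (Frame.Adm.smul (H.σ (a x) * a0) D.P1) (Frame.Adm.smul (H.σ (a x) * a0) D.Pz) with h3 | h3
  · rw [h3] at h1
    have : D.zt ce x = 1 := by
      have h4 : D.zt ce x = t'⁻¹ * (t' * D.zt ce x * t'⁻¹) * t' := by group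
      rw [h4, h1]; group
    rw [this]; group
  · rw [h1, h3]

/-- **The facts.** -/
theorem facts : Facts B ce (D.zt ce) where
  map_zt := D.map_zt ce
  sq_zt := D.sq_zt ce hm
  tT := fun x t ht t' h => D.tT ce hm x t ht t' h
  xx := fun x y z w _ hzw h1 h2 h3 h4 s t => D.xx ce hzw h1 h2 h3 h4 s t
  xxD := fun x y hxy s t => D.xxD ce hm hxy s t
  xz := fun x y z hxy h1 h2 s p => D.xz ce hxy h1 h2 s p
  xxT := by
    intro x y z hxy hyz hxz
    obtain ⟨t, ht, hw⟩ := D.gZ x.1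
    refine ⟨t, ht, fun s => B.fixX hw ?_ s, fun s => B.moveX hw ?_ s⟩
    · have : (neg y).1 ≠ x.1 := hxy.symm
      simp only [if_neg this, if_neg hxz.symm, map_one, mul_one]
    · simp only [if_true, if_neg hxy.symm, map_one, mul_one]
      exact B.u_ne_one
  xzT := by
    intro x z hxz
    obtain ⟨t, ht, hw⟩ := D.gZ z.1
    refine ⟨t, ht, fun s => B.fixZ hw ?_ s, fun s => B.moveX hw ?_ s⟩
    · simp only [if_true, B.σu, B.ζu]
    · have : (neg z).1 = z.1 := rfl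
      simp only [this, if_true, if_neg hxz, B.σu, one_mul]
      exact B.ζ_ne_one
  zzT := by
    intro x y hxy
    obtain ⟨t, ht, hw⟩ := D.gZ x.1
    refine ⟨t, ht, fun s => B.fixZ hw ?_ s, fun s => B.moveZ hw ?_ s⟩
    · simp only [if_true, B.σu, B.ζu]
    · simp only [if_neg hxy.symm, map_one, one_mul]
      exact B.u_ne_one
  zcc := fun x y p e h he => D.zcc ce hm h p he
  zz := D.zz ce hm

end CE

/-- **No perfect double cover, odd dimension.** -/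
theorem noDouble (hm : 2 ≤ m) (hidx : ¬ 2 ∣ (Vk (gens M) ((2 * m + 1) * (2 * m + 1))).index) : NoDouble K := by
  intro L _ _ π c hd
  have ce : CE π := CE.of_ker hd.surj hd.cen fun x hx => (hd.ker x).1 hx
  exact false_of_facts (D.facts ce hm) hd hm hidx

end UOdd

end Cfsg.Agent.KFacts.Mult.UnitTwo
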