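import Mathlib
import Cfsg.Agent.KFacts.Mult.Num

/-!
# Scalars in `F_{q²}`, `q = 2^a ≥ 4` (for the unitary groups)
-/

set_option autoImplicit false

namespace Cfsg.Agent.KFacts.Mult.UnitaryNum

open Cfsg.Agent.KFacts.Mult.Num

variable {F : Type*} [Field F] [Finite F]

/-- an odd prime divisor of `2^a - 1`, `a ≥ 2` -/
theorem exists_odd_prime_dvd {a : ℕ} (ha : 2 ≤ a) : ∃ p : ℕ, p.Prime ∧ Odd p ∧ p ∣ 2 ^ a - 1 := by
  have : Fact (Nat.Prime 2) := ⟨Nat.prime_two⟩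
  have hc : Nat.card (GaloisField 2 a) = 2 ^ a := GaloisField.card 2 a (by omega)
  have h4 : 2 ^ 2 ≤ 2 ^ a := Nat.pow_le_pow_right (by norm_num) ha
  have : Finite (GaloisField 2 a) := Nat.finite_of_card_ne_zero (by rw [hc]; positivity)
  obtain ⟨p, hp, l, hodd, hl0, hl⟩ := exists_odd_prime (K := GaloisField 2 a) (by omega)
  refine ⟨p, hp.out, hodd, ?_⟩
  rw [← hc, ← Nat.card_units, ← hl, ← Units.val_mk0 hl0, orderOf_units]
  exact orderOf_dvd_natCard _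

/-- a prime divisor at least 5 of `2^a - 1`, `a ≥ 3` -/
theorem exists_prime_five_dvd {a : ℕ} (ha : 3 ≤ a) : ∃ p : ℕ, p.Prime ∧ 5 ≤ p ∧ p ∣ 2 ^ a - 1 := by
  have : Fact (Nat.Prime 2) := ⟨Nat.prime_two⟩
  have hc : Nat.card (GaloisField 2 a) = 2 ^ a := GaloisField.card 2 a (by omega)
  have h4 : 2 ^ 3 ≤ 2 ^ a := Nat.pow_le_pow_right (by norm_num) ha
  have : Finite (GaloisField 2 a) := Nat.finite_of_card_ne_zero (by rw [hc]; positivity)
  obtain ⟨p, hp, l, -, h5, hl0, hl⟩ := exists_prime_five (K := GaloisField 2 a) (by omega)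
  refine ⟨p, hp.out, h5, ?_⟩
  rw [← hc, ← Nat.card_units, ← hl, ← Units.val_mk0 hl0, orderOf_units]
  exact orderOf_dvd_natCard _

variable {q a : ℕ}

omit [Finite F] in
/-- elements whose order divides `q - 1` are fixed by `x ↦ x^q` -/
theorem pow_q_of_order {p : ℕ} (hq1 : 1 ≤ q) (hd : p ∣ q - 1) {l : F} (hl : orderOf l = p) : l ^ q = l := by
  obtain ⟨k, hk⟩ := hd
  have h1 : q = p * k + 1 := by omega
  rw [h1, pow_succ, pow_mul, ← hl, pow_orderOf_eq_one, one_pow, one_mul]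

theorem exists_fixed {p : ℕ} (hp : p.Prime) (hF : Nat.card F = q ^ 2) (hq1 : 1 ≤ q) (hd : p ∣ q - 1) :
    ∃ l : F, l ≠ 0 ∧ orderOf l = p ∧ l ^ q = l := by
  have : Fact p.Prime := ⟨hp⟩
  have h1 : p ∣ Nat.card F - 1 := by
    rw [hF]
    have : q ^ 2 - 1 = (q - 1) * (q + 1) := by
      obtain ⟨k, rfl⟩ : ∃ k, q = k + 1 := ⟨q - 1, by omega⟩
      have : (k + 1) ^ 2 = (k + 1 - 1) * (k + 1 + 1) + 1 := by
        simp; ring
      omega
    rw [this]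
    exact Dvd.dvd.mul_right hd _
  obtain ⟨l, hl0, hl⟩ := exists_orderOf (K := F) h1
  exact ⟨l, hl0, hl, pow_q_of_order hq1 hd hl⟩

/-- the scalar `l` of the theorem on Witt frames -/
theorem exists_scalar (hF : Nat.card F = q ^ 2) (hq : q = 2 ^ a) (ha : 2 ≤ a) :
    ∃ (p : ℕ) (_ : Fact p.Prime) (l : F), Odd p ∧ l ≠ 0 ∧ orderOf l = p ∧ l ^ q = l := by
  obtain ⟨p, hp, hodd, hd⟩ := exists_odd_prime_dvd ha
  have hq1 : 1 ≤ q := by rw [hq]; exact Nat.one_le_two_pow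
  obtain ⟨l, h1, h2, h3⟩ := exists_fixed hp hF hq1 (hq ▸ hd)
  exact ⟨p, ⟨hp⟩, l, hodd, h1, h2, h3⟩

omit [Finite F] in
theorem cube_ne {u : F} {p : ℕ} (h5 : 5 ≤ p) (hu : orderOf u = p) : u * u + u + 1 ≠ 0 ∧ u ≠ 1 := by
  constructor
  · intro h0
    have h1 : u ^ 3 = 1 := by
      have : u ^ 3 - 1 = (u - 1) * (u * u + u + 1) := by ring
      rw [h0, mul_zero] at this
      exact sub_eq_zero.1 this
    have h2 : orderOf u ∣ 3 := orderOf_dvd_of_pow_eq_one h1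
    rw [hu] at h2
    have := Nat.le_of_dvd (by norm_num) h2
    omega
  · rintro rfl
    rw [orderOf_one] at hu
    omega

/-- the scalars `u`, `1 + u` of the Heisenberg lemma, `q ≥ 4` -/
theorem exists_u [CharP F 2] (hF : Nat.card F = q ^ 2) (hq : q = 2 ^ a) (ha : 2 ≤ a) :
    ∃ u a₁ a₂ : F, u ≠ 0 ∧ 1 + u ≠ 0 ∧ u * u + u + 1 ≠ 0 ∧ a₁ ≠ 0 ∧ a₂ ≠ 0 ∧
      a₁ ^ q * a₁ ^ q * a₁⁻¹ = u ∧ a₂ ^ q * a₂ ^ q * a₂⁻¹ = 1 + u := by
  have : Fact (Nat.Prime 2) := ⟨Nat.prime_two⟩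
  have hq1 : 1 ≤ q := by rw [hq]; exact Nat.one_le_two_pow
  have h1u : ∀ u : F, u ≠ 1 → 1 + u ≠ 0 := by
    intro u hu h0
    apply hu
    have h2 : (1 : F) + 1 = 0 := CharTwo.add_self_eq_zero 1
    exact (add_left_cancel (h0.trans h2.symm))
  rcases Nat.lt_or_ge a 3 with h3 | h3
  · have ha2 : a = 2 := by omega
    subst ha2
    have hq4 : q = 4 := by rw [hq]; norm_num
    subst hq4
    have hp5 : Nat.Prime 5 := by norm_num
    have : Fact (Nat.Prime 5) := ⟨hp5⟩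
    obtain ⟨u, hu0, hu⟩ := exists_orderOf (K := F) (p := 5) (by rw [hF]; norm_num)
    have hu2 := cube_ne (le_refl 5) hu
    have h15 : ∀ v : F, v ≠ 0 → v ^ 15 = 1 := by
      intro v hv
      have := Fintype.ofFinite F
      have h6 := FiniteField.pow_card_sub_one_eq_one v hv
      rwa [← Nat.card_eq_fintype_card, hF] at h6
    have key : ∀ v : F, v ≠ 0 → (v ^ 13) ^ 4 * (v ^ 13) ^ 4 * (v ^ 13)⁻¹ = v := by
      intro v hv
      have h7 : (v ^ 13) ^ 4 * (v ^ 13) ^ 4 = v * v ^ 13 := by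
        calc (v ^ 13) ^ 4 * (v ^ 13) ^ 4 = (v ^ 15) ^ 6 * v ^ 14 := by ring
          _ = v * v ^ 13 := by rw [h15 v hv]; ring
      rw [h7, mul_assoc, mul_inv_cancel₀ (pow_ne_zero _ hv), mul_one]
    exact ⟨u, u ^ 13, (1 + u) ^ 13, hu0, h1u u hu2.2, hu2.1, pow_ne_zero _ hu0, pow_ne_zero _ (h1u u hu2.2),
      key u hu0, key _ (h1u u hu2.2)⟩
  · obtain ⟨p, hp, h5, hd⟩ := exists_prime_five_dvd h3
    obtain ⟨u, hu0, hu, huq⟩ := exists_fixed (F := F) hp hF hq1 (hq ▸ hd)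
    have hu2 := cube_ne h5 hu
    have h1 := h1u u hu2.2
    have h1q : (1 + u) ^ q = 1 + u := by
      rw [hq, add_pow_char_pow, one_pow, ← hq, huq]
    refine ⟨u, u, 1 + u, hu0, h1, hu2.1, hu0, h1, ?_, ?_⟩
    · rw [huq, mul_assoc, mul_inv_cancel₀ hu0, mul_one]
    · rw [h1q, mul_assoc, mul_inv_cancel₀ h1, mul_one]

/-- an element of norm 1 with nontrivial cube, `q ≥ 4` -/
theorem exists_norm_one (hF : Nat.card F = q ^ 2) (hq : 4 ≤ q) :
    ∃ b : F, b ≠ 0 ∧ b * b ^ q = 1 ∧ b ^ q * b ^ q * b⁻¹ ≠ 1 := by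
  obtain ⟨ζ, hζ⟩ := IsCyclic.exists_generator (α := Fˣ)
  have ho : orderOf ζ = q ^ 2 - 1 := by
    rw [orderOf_eq_card_of_forall_mem_zpowers hζ, Nat.card_units, hF]
  have hfac : q ^ 2 - 1 = (q - 1) * (q + 1) := by
    obtain ⟨k, rfl⟩ : ∃ k, q = k + 1 := ⟨q - 1, by omega⟩
    have : (k + 1) ^ 2 = (k + 1 - 1) * (k + 1 + 1) + 1 := by
      simp; ring
    omega
  set β : Fˣ := ζ ^ (q - 1) with hβ
  have h1 : β ^ (q + 1) = 1 := by rw [hβ, ← pow_mul, ← hfac, ← ho, pow_orderOf_eq_one]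
  have h3 : β ^ 3 ≠ 1 := by
    intro h3
    rw [hβ, ← pow_mul] at h3
    have h4 := orderOf_dvd_of_pow_eq_one h3
    rw [ho, hfac] at h4
    have h5 := Nat.le_of_dvd (by have : 0 < q - 1 := by omega
                                 positivity) h4
    have h6 : (q - 1) * 3 < (q - 1) * (q + 1) := Nat.mul_lt_mul_of_pos_left (by omega) (by omega)
    omega
  refine ⟨(β : F), β.ne_zero, ?_, ?_⟩
  · have := congrArg Units.val h1
    rw [Units.val_pow_eq_pow_val, Units.val_one, pow_succ'] at this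
    exact this
  · intro h4
    apply h3
    apply Units.ext
    rw [Units.val_pow_eq_pow_val, Units.val_one]
    have h5 : (β : F) * (β : F) ^ q = 1 := by
      have := congrArg Units.val h1
      rw [Units.val_pow_eq_pow_val, Units.val_one, pow_succ'] at this
      exact this
    have h6 : (β : F) ^ q = (β : F)⁻¹ := eq_inv_of_mul_eq_one_right h5
    rw [h6] at h4
    have h7 : (β : F) ^ 3 = ((β : F)⁻¹ * (β : F)⁻¹ * (β : F)⁻¹)⁻¹ := by
      rw [mul_inv, mul_inv, inv_inv]; ring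
    rw [h7, h4, inv_one]

end Cfsg.Agent.KFacts.Mult.UnitaryNum
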