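import Cfsg.Agent.KFacts.Mult.WittW
import Cfsg.Agent.KFacts.Mult.Heis
import Cfsg.Agent.KFacts.Mult.UnitaryNum
import Cfsg.Agent.Nodes.WittU

/-!
# No double covers of `PSU N F q`, `q = 2^a ≥ 4`, `N ≥ 3` (ODD D10)
-/

set_option autoImplicit false
set_option linter.unusedSectionVars false

namespace Cfsg.Agent.KFacts.Mult.Unitary

open Cfsg Cfsg.Agent.LieClassical.HermBasic
open Cfsg.Agent.KFacts.MulDef Cfsg.Agent.KFacts.Mult.WeightsTwo Cfsg.Agent.KFacts.Mult.RGDW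
  Cfsg.Agent.KFacts.Mult.RGDQ Cfsg.Agent.KFacts.Mult.RGDS Cfsg.Agent.KFacts.Mult.FieldAlt
  Cfsg.Agent.KFacts.Mult.Num Cfsg.Agent.KFacts.Mult.WittT Cfsg.Agent.KFacts.Mult.WittW
open Cfsg.Agent.ChevalleyStructure.CoxeterGeom Cfsg.Agent.Tits.Roots Cfsg.Agent.Nodes.TypeC
open Cfsg.Agent.Nodes.Comb Cfsg.Agent.Nodes.Reps Cfsg.Agent.Nodes.WittRoot Cfsg.Agent.Nodes.BNOf
  Cfsg.Agent.Nodes.WittRGD Cfsg.Agent.Nodes.RGDLib
open Cfsg.Agent.TitsThree Cfsg.Agent.TitsThree.Siegel Cfsg.Agent.TitsThree.SiegelGen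
  Cfsg.Agent.TitsThree.WittFrame Cfsg.Agent.TitsThree.WittWeyl Cfsg.Agent.TitsThree.WBridge
  Cfsg.Agent.TitsThree.KSideU Cfsg.Agent.TitsThree.KSideUDesc Cfsg.Agent.TitsThree.FrameCN
open scoped commutatorElement

/-! ### Frames with one dimensional anisotropic part -/

section Odd

variable {F : Type*} [Field F] {V : Type*} [AddCommGroup V] [Module F V] {H : HForm F V} {n : ℕ}
  {Fr : Frame H (Fin n)} {W : Type*} [Group W] (cs : CoxeterSystem (CoxeterMatrix.B n) W)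

/-- `g` is diagonal on the frame, and scalar on `V0`. -/
def Dia (Fr : Frame H (Fin n)) (g : V ≃ₗ[F] V) : Prop :=
  (∀ x, ∃ l : F, g (Fr.b x) = l • Fr.b x) ∧ ∃ τ : F, ∀ w ∈ Fr.V0, g w = τ • w

theorem Dia.comm (hV0 : ∀ v, (∀ x, H.h v (Fr.b x) = 0) → v ∈ Fr.V0) {g k : V ≃ₗ[F] V} (hg : Dia Fr g)
    (hk : Dia Fr k) : g * k = k * g := by
  have hb : ∀ x, (g * k) (Fr.b x) = (k * g) (Fr.b x) := by
    intro x
    obtain ⟨l, hl⟩ := hg.1 x
    obtain ⟨m, hm⟩ := hk.1 x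
    rw [mul_apply', mul_apply', hm, map_smul, hl, map_smul, hm, smul_comm]
  have h0 : ∀ w ∈ Fr.V0, (g * k) w = (k * g) w := by
    intro w hw
    obtain ⟨τ, hτ⟩ := hg.2
    obtain ⟨ρ, hρ⟩ := hk.2
    rw [mul_apply', mul_apply', hρ w hw, map_smul, hτ w hw, map_smul, hρ w hw, smul_comm]
  have h1 : (k * g)⁻¹ * (g * k) = 1 := by
    have hinv : (k * g)⁻¹ * (k * g) = 1 := inv_mul_cancel _
    refine eq_one_of_fix' hV0 (fun x => ?_) fun w hw => ?_
    · rw [mul_apply' (k * g)⁻¹, hb, ← mul_apply', hinv]; rfl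
    · rw [mul_apply' (k * g)⁻¹, h0 w hw, ← mul_apply', hinv]; rfl
  exact (inv_mul_eq_one.1 h1).symm

variable {i : Fin n} {d : V}

/-- `g` is the torus element with parameter `a` in the last plane. -/
structure Tr (Fr : Frame H (Fin n)) (i : Fin n) (d : V) (g : V ≃ₗ[F] V) (a : F) : Prop where
  good : Good Fr g
  ap : g (Fr.b (i, true)) = a • Fr.b (i, true)
  ap' : g (Fr.b (i, false)) = (H.σ a)⁻¹ • Fr.b (i, false)
  ne : ∀ x : Fin n × Bool, x.1 ≠ i → g (Fr.b x) = Fr.b x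
  d : g d = (H.σ a * a⁻¹) • d

theorem Tr.dia {g : V ≃ₗ[F] V} {a : F} (h : Tr Fr i d g a) (hd : ∀ w ∈ Fr.V0, ∃ s : F, w = s • d) : Dia Fr g := by
  refine ⟨fun x => ?_, H.σ a * a⁻¹, fun w hw => ?_⟩
  · by_cases hx : x.1 = i
    · obtain ⟨j, s⟩ := x
      simp only at hx
      subst hx
      cases s
      · exact ⟨_, h.ap'⟩
      · exact ⟨_, h.ap⟩
    · exact ⟨1, by rw [one_smul]; exact h.ne x hx⟩
  · obtain ⟨s, rfl⟩ := hd w hw
    rw [map_smul, h.d, smul_comm]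

/-- the action on the last root group -/
theorem Tr.conj_Z {g : V ≃ₗ[F] V} {a : F} (h : Tr Fr i d g a) (p : Fr.Adm) :
    ∃ q : Fr.Adm, g * Fr.Z (i, true) p * g⁻¹ = Fr.Z (i, true) q ∧ q.w = H.σ a • g p.w ∧ q.c = a * H.σ a * p.c := by
  obtain ⟨q, h1, h2⟩ := h.good.2 p
  refine ⟨Frame.Adm.smul (H.σ a) q, WittWeyl.conj_Z Fr h.good.1 h.ap p q h1 h2, ?_, ?_⟩
  · rw [Frame.Adm.smul_w, h1]
  · rw [Frame.Adm.smul_c, H.σσ, h2]; ring

/-- existence of torus elements -/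
theorem exists_Tr {p0 : Fr.Adm} (hp0 : p0.c ≠ 0) (hp0w : p0.w = 0) (hε : H.ε = 1) (hdd : H.h d d = 1)
    (hdV : d ∈ Fr.V0) [Finite V]
    (hex : ∀ c : F, ∃ p : Fr.Adm, p.c = c ∧ ∃ s : F, p.w = s • d) (i : Fin n) {a : F} (ha : a ≠ 0) :
    ∃ g ∈ Y0 Fr cs, Tr Fr i d g a := by
  obtain ⟨p, hpc, s, hps⟩ := hex (a * p0.c)
  have hσa : H.σ a ≠ 0 := by simpa using ha
  have hσp : H.σ p0.c ≠ 0 := by simpa using hp0
  have hpc0 : p.c ≠ 0 := by rw [hpc]; exact mul_ne_zero ha hp0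
  have hη := Fr.η_ne (i, true)
  have hinv : (nZ Fr (i, true) p0)⁻¹ * nZ Fr (i, true) p0 = 1 := inv_mul_cancel _
  have hσ0 : H.σ p0.c = -p0.c := by
    have h1 := p0.herm
    rw [hp0w, H.zero_left, neg_zero, hε, one_mul] at h1
    exact (neg_eq_of_add_eq_zero_right h1).symm
  refine ⟨nZ Fr (i, true) p * (nZ Fr (i, true) p0)⁻¹,
    mul_mem (nZ_mem_Y0 cs _ _) (inv_mem (nZ_mem_Y0 cs _ _)), ?_⟩
  refine ⟨(good_nZ _ hpc0).mul (good_nZ _ hp0).inv, ?_, ?_, ?_, ?_⟩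
  · have e1 := nZ_apply_neg Fr (i, true) p0 hp0
    have e2 : (nZ Fr (i, true) p0)⁻¹ (Fr.b (i, true)) = (Fr.η (i, true) * p0.c)⁻¹ • Fr.b (neg (i, true)) := by
      have e3 : Fr.b (i, true) = (Fr.η (i, true) * p0.c)⁻¹ • nZ Fr (i, true) p0 (Fr.b (neg (i, true))) := by
        rw [e1, smul_smul, inv_mul_cancel₀ (mul_ne_zero hη hp0), one_smul]
      conv_lhs => rw [e3]
      rw [map_smul, ← mul_apply', hinv]; rfl
    rw [mul_apply', e2, map_smul, nZ_apply_neg Fr (i, true) _ hpc0, hpc, smul_smul]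
    congr 1
    field_simp
  · have e1 := nZ_apply_self Fr (i, true) p0 hp0
    have hne : H.ε * (Fr.η (i, true))⁻¹ * (H.σ p0.c)⁻¹ ≠ 0 := by
      rw [hε, one_mul]; exact mul_ne_zero (inv_ne_zero hη) (inv_ne_zero hσp)
    have e2 : (nZ Fr (i, true) p0)⁻¹ (Fr.b (neg (i, true))) =
        (H.ε * (Fr.η (i, true))⁻¹ * (H.σ p0.c)⁻¹)⁻¹ • Fr.b (i, true) := by
      have e3 : Fr.b (neg (i, true)) =
          (H.ε * (Fr.η (i, true))⁻¹ * (H.σ p0.c)⁻¹)⁻¹ • nZ Fr (i, true) p0 (Fr.b (i, true)) := by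
        rw [e1, smul_smul, inv_mul_cancel₀ hne, one_smul]
      conv_lhs => rw [e3]
      rw [map_smul, ← mul_apply', hinv]; rfl
    show (nZ Fr (i, true) p * (nZ Fr (i, true) p0)⁻¹) (Fr.b (neg (i, true))) = _ • Fr.b (neg (i, true))
    rw [mul_apply', e2, map_smul, nZ_apply_self Fr (i, true) _ hpc0, hpc, map_mul, smul_smul, hε]
    congr 1
    field_simp
  · intro x hx
    have e1 := nZ_apply_of_ne Fr (x := (i, true)) (z := x) hx p0
    have e2 : (nZ Fr (i, true) p0)⁻¹ (Fr.b x) = Fr.b x := by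
      conv_lhs => rw [← e1]
      rw [← mul_apply', hinv]; rfl
    rw [mul_apply', e2, nZ_apply_of_ne Fr (x := (i, true)) hx]
  · have e1 : nZ Fr (i, true) p0 d = d := by
      rw [nZ_apply_V0 Fr _ _ hp0 hdV, hp0w]; simp
    have e2 : (nZ Fr (i, true) p0)⁻¹ d = d := by
      conv_lhs => rw [← e1]
      rw [← mul_apply', hinv]; rfl
    have h1 := p.herm
    rw [hps, H.smul_left, H.smul_right, hdd, hε, one_mul, mul_one, hpc, map_mul, hσ0] at h1
    rw [mul_apply', e2, nZ_apply_V0 Fr _ _ hpc0 hdV, hps, H.smul_right, hdd, mul_one, smul_smul, hε, hpc]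
    have h2 : H.σ s * s = -(a * p0.c) + H.σ a * p0.c := by linear_combination h1
    have h3 : d + ((1 : F)⁻¹ * (a * p0.c)⁻¹ * H.σ s * s) • d = ((1 : F) + (a * p0.c)⁻¹ * (H.σ s * s)) • d := by
      rw [add_smul, one_smul]; congr 2; rw [inv_one]; ring
    rw [h3, h2]
    congr 1
    field_simp
    ring

/-- the coordinate of an element of the last root group modulo its centre -/
def kap (Fr : Frame H (Fin n)) (i : Fin n) (d : V) (g : Y0 Fr cs) : F :=
  H.h (g.1 (Fr.b (neg (i, true)))) d * (Fr.η (i, true))⁻¹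

theorem kap_Z (hdV : d ∈ Fr.V0) {g : Y0 Fr cs} {p : Fr.Adm} (hg : g.1 = Fr.Z (i, true) p) :
    kap cs Fr i d g = H.h p.w d := by
  have hη := Fr.η_ne (i, true)
  rw [kap, hg, Z_apply_neg, H.add_left, H.add_left, H.smul_left, H.smul_left, Fr.h0 _ _ hdV, Fr.h0 _ _ hdV]
  field_simp
  ring

theorem exists_of_mem {g : Y0 Fr cs} (hg : g ∈ (ZG Fr (i, true)).subgroupOf (Y0 Fr cs)) :
    ∃ p : Fr.Adm, g.1 = Fr.Z (i, true) p := Subgroup.mem_subgroupOf.1 hg

theorem mem_of_eq {g : Y0 Fr cs} {p : Fr.Adm} (hg : g.1 = Fr.Z (i, true) p) :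
    g ∈ (ZG Fr (i, true)).subgroupOf (Y0 Fr cs) := Subgroup.mem_subgroupOf.2 ⟨p, hg⟩

/-- assumptions on the frame -/
structure OddFr (Fr : Frame H (Fin n)) (d : V) : Prop where
  two : ∀ a : F, a + a = 0
  ε : H.ε = 1
  dd : H.h d d = 1
  dV : d ∈ Fr.V0
  span : ∀ w ∈ Fr.V0, ∃ s : F, w = s • d
  ex : ∀ s : F, ∃ p : Fr.Adm, p.w = s • d
  exc : ∀ c : F, ∃ p : Fr.Adm, p.c = c ∧ ∃ s : F, p.w = s • d
  tr : ∀ c : F, H.σ c = c → ∃ s : F, s + H.σ s = c
  V0 : ∀ v, (∀ x, H.h v (Fr.b x) = 0) → v ∈ Fr.V0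

variable (hO : OddFr Fr d)

include hO

theorem w_eq_zero {p : Fr.Adm} (h : H.h p.w d = 0) : p.w = 0 := by
  obtain ⟨s, hs⟩ := hO.span _ (Fr.ok_mem p.ok)
  rw [hs, H.smul_left, hO.dd, mul_one] at h
  rw [hs, h, zero_smul]

theorem acts_of {g : V ≃ₗ[F] V} (hgY : g ∈ Y0 Fr cs) {a : F} (hg : Tr Fr i d g a) :
    Heis.Acts ((ZG Fr (i, true)).subgroupOf (Y0 Fr cs)) (kap cs Fr i d) ⟨g, hgY⟩ (H.σ a * H.σ a * a⁻¹) := by
  constructor
  · intro x hx
    obtain ⟨p, hp⟩ := exists_of_mem cs hx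
    obtain ⟨q, h1, -, -⟩ := hg.conj_Z p
    refine mem_of_eq cs (p := q) ?_
    rw [← h1, ← hp]; rfl
  · intro x hx
    obtain ⟨p, hp⟩ := exists_of_mem cs hx
    obtain ⟨q, h1, h2, -⟩ := hg.conj_Z p
    obtain ⟨s, hs⟩ := hO.span _ (Fr.ok_mem p.ok)
    rw [kap_Z cs hO.dV hp, kap_Z cs hO.dV (p := q) (by rw [← h1, ← hp]; rfl), h2, hs, map_smul, hg.d,
      H.smul_left, H.smul_left, H.smul_left, H.smul_left, hO.dd]
    ring

/-- commutators in the last root group -/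
theorem mem_der {z : Y0 Fr cs} (hz : z ∈ (ZG Fr (i, true)).subgroupOf (Y0 Fr cs)) (hz0 : kap cs Fr i d z = 0) :
    z ∈ ⁅(ZG Fr (i, true)).subgroupOf (Y0 Fr cs), (ZG Fr (i, true)).subgroupOf (Y0 Fr cs)⁆ := by
  obtain ⟨p, hp⟩ := exists_of_mem cs hz
  rw [kap_Z cs hO.dV hp] at hz0
  have hw := w_eq_zero hO hz0
  have hneg : ∀ a : F, -a = a := fun a => neg_eq_of_add_eq_zero_left (hO.two a)
  have hc : H.σ p.c = p.c := by
    have h1 := p.herm
    rw [hw, H.zero_left, neg_zero, hO.ε, one_mul] at h1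
    rw [← hneg (H.σ p.c)]
    exact (eq_neg_of_add_eq_zero_left h1).symm
  obtain ⟨s, hs⟩ := hO.tr p.c hc
  obtain ⟨p₁, h₁⟩ := hO.ex s
  obtain ⟨p₂, h₂⟩ := hO.ex 1
  rw [one_smul] at h₂
  have h3 : p₁ * p₂ = p * (p₂ * p₁) := by
    apply Frame.Adm.ext
    · rw [Frame.Adm.mul_w, Frame.Adm.mul_w, Frame.Adm.mul_w, hw, zero_add, add_comm]
    · rw [Frame.Adm.mul_c, Frame.Adm.mul_c, Frame.Adm.mul_c, hw, H.zero_right, h₁, h₂, hO.ε, H.smul_right,
        H.smul_left, hO.dd, ← hs]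
      have := hneg (H.σ s * 1)
      have := hneg (s * 1)
      rw [sub_eq_add_neg, sub_eq_add_neg, sub_eq_add_neg, inv_one, one_mul, one_mul, mul_one, mul_one, hneg, hneg,
        mul_zero, neg_zero, add_zero]
      have h4 := hO.two s
      linear_combination -h4
  have h4 : z = ⁅(⟨Fr.Z (i, true) p₁, Z_mem_Y0 cs _ _⟩ : Y0 Fr cs), (⟨Fr.Z (i, true) p₂, Z_mem_Y0 cs _ _⟩ : Y0 Fr cs)⁆ := by
    apply Subtype.ext
    show z.1 = ⁅Fr.Z (i, true) p₁, Fr.Z (i, true) p₂⁆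
    rw [commutatorElement_def, ← Fr.Z_mul, h3, Fr.Z_mul, Fr.Z_mul, hp]
    group
  rw [h4]
  exact Subgroup.commutator_mem_commutator (mem_of_eq cs (p := p₁) rfl) (mem_of_eq cs (p := p₂) rfl)

/-- **The preimage of the last root group splits.** -/
theorem spl_last [Finite V] {T0 : Subgroup (V ≃ₗ[F] V)} {p : ℕ} [hpf : Fact p.Prime] {p0 : Fr.Adm} {l : F}
    (hh : Hyp Fr p0 T0 p l) (hp0w : p0.w = 0) (i : Fin n)
    {u a₁ a₂ b : F} (hu0 : u ≠ 0) (hu1 : 1 + u ≠ 0) (hu2 : u * u + u + 1 ≠ 0) (ha₁ : a₁ ≠ 0) (ha₂ : a₂ ≠ 0)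
    (e₁ : H.σ a₁ * H.σ a₁ * a₁⁻¹ = u) (e₂ : H.σ a₂ * H.σ a₂ * a₂⁻¹ = 1 + u)
    (hb0 : b ≠ 0) (hb1 : b * H.σ b = 1) (hb2 : H.σ b * H.σ b * b⁻¹ ≠ 1) :
    Spl ((TD Fr T0 p).subgroupOf (Y0 Fr cs)) ((ZG Fr (i, true)).subgroupOf (Y0 Fr cs)) := by
  obtain ⟨gμ, hμY, hμ⟩ := exists_Tr cs hh.c0 hp0w hO.ε hO.dd hO.dV hO.exc i hb0
  obtain ⟨gt, htY, ht⟩ := exists_Tr cs hh.c0 hp0w hO.ε hO.dd hO.dV hO.exc i hh.l0
  obtain ⟨g₁, h₁Y, h₁⟩ := exists_Tr cs hh.c0 hp0w hO.ε hO.dd hO.dV hO.exc i ha₁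
  obtain ⟨g₂, h₂Y, h₂⟩ := exists_Tr cs hh.c0 hp0w hO.ε hO.dd hO.dV hO.exc i ha₂
  have hdt := ht.dia hO.span
  have hl1 := hh.ne_one
  have hl2 := hh.sq_ne
  have hσl := hh.lσ
  have hD : Heis.Data ((ZG Fr (i, true)).subgroupOf (Y0 Fr cs)) (kap cs Fr i d) ⟨gμ, hμY⟩ ⟨gt, htY⟩ ⟨g₁, h₁Y⟩
      ⟨g₂, h₂Y⟩ (H.σ b * H.σ b * b⁻¹) (H.σ l * H.σ l * l⁻¹) u :=
    { add := by
        intro x hx y hy
        obtain ⟨p, hp⟩ := exists_of_mem cs hx
        obtain ⟨q, hq⟩ := exists_of_mem cs hy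
        rw [kap_Z cs hO.dV hp, kap_Z cs hO.dV hq, kap_Z cs hO.dV (p := p * q) (by
          rw [Fr.Z_mul, ← hp, ← hq]; rfl), Frame.Adm.mul_w, H.add_left]
      surj := by
        intro a
        obtain ⟨p, hp⟩ := hO.ex a
        refine ⟨⟨Fr.Z (i, true) p, Z_mem_Y0 cs _ _⟩, mem_of_eq cs (p := p) rfl, ?_⟩
        rw [kap_Z cs hO.dV (p := p) rfl, hp, H.smul_left, hO.dd, mul_one]
      cen := by
        intro z hz hz0 x hx
        obtain ⟨p, hp⟩ := exists_of_mem cs hz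
        obtain ⟨q, hq⟩ := exists_of_mem cs hx
        rw [kap_Z cs hO.dV hp] at hz0
        have hw := w_eq_zero hO hz0
        apply Subtype.ext
        show z.1 * x.1 = x.1 * z.1
        rw [hp, hq, ← Fr.Z_mul, ← Fr.Z_mul]
        congr 1
        apply Frame.Adm.ext
        · rw [Frame.Adm.mul_w, Frame.Adm.mul_w, add_comm]
        · rw [Frame.Adm.mul_c, Frame.Adm.mul_c, hw, H.zero_left, H.zero_right]; ring
      der := fun z hz hz0 => mem_der cs hO hz hz0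
      actμ := acts_of cs hO hμY hμ
      hm := hb2
      centμ := by
        intro z hz hz0
        obtain ⟨p, hp⟩ := exists_of_mem cs hz
        rw [kap_Z cs hO.dV hp] at hz0
        have hw := w_eq_zero hO hz0
        obtain ⟨q, hq1, hq2, hq3⟩ := hμ.conj_Z p
        have hqp : q = p := by
          apply Frame.Adm.ext
          · rw [hq2, hw, map_zero, smul_zero]
          · rw [hq3, hb1, one_mul]
        apply Subtype.ext
        show gμ * z.1 = z.1 * gμ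
        rw [hp, ← mul_inv_eq_iff_eq_mul, hq1, hqp]
      actt := acts_of cs hO htY ht
      hl := by
        rw [hσl, mul_assoc, mul_inv_cancel₀ hh.l0, mul_one]; exact hl1
      free := by
        intro z hz hz0 hc
        obtain ⟨p, hp⟩ := exists_of_mem cs hz
        rw [kap_Z cs hO.dV hp] at hz0
        have hw := w_eq_zero hO hz0
        obtain ⟨q, hq1, hq2, hq3⟩ := ht.conj_Z p
        have hc' : gt * z.1 = z.1 * gt := congrArg Subtype.val hc
        rw [hp, ← mul_inv_eq_iff_eq_mul, hq1] at hc'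
        have hqp := Z_inj hc'
        rw [hqp, hσl] at hq3
        have hc0 : p.c = 0 := by
          by_contra hne
          exact hl2 (mul_right_cancel₀ hne (hq3.symm.trans (one_mul _).symm))
        have hp1 : p = 1 := Frame.Adm.ext hw hc0
        apply Subtype.ext
        rw [hp, hp1, Fr.Z_one]; rfl
      odd := by
        refine ⟨p, hh.odd, Subtype.ext ?_⟩
        show gt ^ p = 1
        have hpow : ∀ (v : V) (m : F), gt v = m • v → ∀ k : ℕ, (gt ^ k) v = m ^ k • v := by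
          intro v m hv k
          induction k with
          | zero => rw [pow_zero, pow_zero, one_smul]; rfl
          | succ k ih => rw [pow_succ, mul_apply', hv, map_smul, ih, smul_smul, pow_succ, mul_comm]
        refine eq_one_of_fix' hO.V0 (fun x => ?_) fun w hw => ?_
        · by_cases hx : x.1 = i
          · obtain ⟨j, s⟩ := x
            simp only at hx
            subst hx
            cases s
            · rw [hpow _ _ ht.ap', hσl, inv_pow, hh.pow, inv_one, one_smul]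
            · rw [hpow _ _ ht.ap, hh.pow, one_smul]
          · rw [hpow _ 1 (by rw [one_smul]; exact ht.ne x hx), one_pow, one_smul]
        · obtain ⟨s, rfl⟩ := hO.span w hw
          rw [map_smul, hpow d _ ht.d, hσl, mul_inv_cancel₀ hh.l0, one_pow, one_smul]
      act₁ := e₁ ▸ acts_of cs hO h₁Y h₁
      act₂ := e₂ ▸ acts_of cs hO h₂Y h₂
      comm₁ := Subtype.ext ((h₁.dia hO.span).comm hO.V0 hdt)
      comm₂ := Subtype.ext ((h₂.dia hO.span).comm hO.V0 hdt)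
      u0 := hu0
      u1 := hu1
      u2 := hu2
      two := hO.two }
  -- elements of `TD`
  have hTD : ∀ s : Y0 Fr cs, s ∈ (TD Fr T0 p).subgroupOf (Y0 Fr cs) → ∃ l : F, s.1 (Fr.b (i, true)) = l • Fr.b (i, true) ∧
      H.σ l = l ∧ Dia Fr s.1 ∧ H.IsIso s.1 ∧ ∀ w ∈ Fr.V0, s.1 w = w := by
    intro s hs
    obtain ⟨h1, h2, h3⟩ := mem_TD.1 (Subgroup.mem_subgroupOf.1 hs)
    obtain ⟨l, -, hl', e⟩ := h2 (i, true)
    refine ⟨l, e, hl', ⟨fun x => ?_, 1, fun w hw => by rw [one_smul]; exact h3 w hw⟩, (hh.tor.good _ h1).1, h3⟩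
    obtain ⟨m, -, -, e'⟩ := h2 x
    exact ⟨m, e'⟩
  have hconj : ∀ s : Y0 Fr cs, s ∈ (TD Fr T0 p).subgroupOf (Y0 Fr cs) → ∀ q : Fr.Adm, ∃ l : F,
      s.1 * Fr.Z (i, true) q * s.1⁻¹ = Fr.Z (i, true) (Frame.Adm.smul l q) := by
    intro s hs q
    obtain ⟨l, e, hl, -, hiso, h0⟩ := hTD s hs
    exact ⟨H.σ l, WittWeyl.conj_Z Fr hiso e q q (h0 _ (Fr.ok_mem q.ok)) rfl⟩
  refine hD.spl ?_ ?_ ?_
  · intro s hs
    obtain ⟨l, -, -, hdia, -, -⟩ := hTD s hs
    exact Subtype.ext (hdia.comm hO.V0 hdt)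
  · intro s hs x hx
    obtain ⟨q, hq⟩ := exists_of_mem cs hx
    obtain ⟨l, hl⟩ := hconj s hs q
    refine mem_of_eq cs (p := Frame.Adm.smul l q) ?_
    rw [← hl, ← hq]; rfl
  · intro s hs x hx hx0
    obtain ⟨q, hq⟩ := exists_of_mem cs hx
    obtain ⟨l, hl⟩ := hconj s hs q
    rw [kap_Z cs hO.dV hq] at hx0
    rw [kap_Z cs hO.dV (p := Frame.Adm.smul l q) (by rw [← hl, ← hq]; rfl), Frame.Adm.smul_w, H.smul_left, hx0,
      mul_zero]

end Odd

/-! ### Frames without anisotropic part -/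

section Even

variable {F : Type*} [Field F] {V : Type*} [AddCommGroup V] [Module F V] {H : HForm F V} {n : ℕ}
  {Fr : Frame H (Fin n)} {W : Type*} [Group W] (cs : CoxeterSystem (CoxeterMatrix.B n) W)

/-- commutative preimage of a type II root group `{Z_x(0, c)}` from another index -/
theorem abPre_even (htr : ∀ p : Fr.Adm, ∃ m : F, p = Frame.Adm.tr m)
    {x y : Fin n × Bool} (hxy : x.1 ≠ y.1) : AbPre ((ZG Fr x).subgroupOf (Y0 Fr cs)) := by
  apply AbPre.of_le_commutator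
  rintro ⟨g, hg⟩ hgz
  rw [Subgroup.mem_subgroupOf] at hgz
  obtain ⟨p, hp⟩ := hgz
  have hp' : g = Fr.Z x p := hp
  subst hp'
  obtain ⟨m, hm⟩ := htr p
  have hη := Fr.η_ne (neg y)
  have e0 := Fr.X_mul_X_same hxy (1 : F) (m * Fr.η (neg y))
  rw [map_one, one_mul, mul_assoc, mul_inv_cancel₀ hη, mul_one, ← hm] at e0
  have e1 : (⟨Fr.Z x p, hg⟩ : Y0 Fr cs) =
      ⁅(⟨Fr.X x y 1, X_mem_Y0 cs _ _ _⟩ : Y0 Fr cs), (⟨Fr.X x (neg y) (m * Fr.η (neg y)), X_mem_Y0 cs _ _ _⟩ : Y0 Fr cs)⁆ := by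
    apply Subtype.ext
    show Fr.Z x p = ⁅Fr.X x y 1, Fr.X x (neg y) (m * Fr.η (neg y))⁆
    rw [commutatorElement_def, e0]
    group
  rw [e1]
  have hself : ∀ x : Fin n × Bool, x ≠ neg x := ne_neg_self
  have hcomm : ∀ z : Fin n × Bool, x.1 ≠ z.1 → ∀ t, (⟨Fr.X x z t, X_mem_Y0 cs _ _ _⟩ : Y0 Fr cs) ∈
      Subgroup.centralizer ((ZG Fr x).subgroupOf (Y0 Fr cs) : Set (Y0 Fr cs)) := by
    intro z hz t
    rw [Subgroup.mem_centralizer_iff]
    rintro ⟨k, hk⟩ hkz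
    rw [SetLike.mem_coe, Subgroup.mem_subgroupOf] at hkz
    obtain ⟨q, hq⟩ := hkz
    have hq' : k = Fr.Z x q := hq
    subst hq'
    apply Subtype.ext
    exact (Fr.commute_ZX (x := x) (y := x) (z := z) (hself x) (Frame.ne_neg hz) q t).eq
  exact Subgroup.commutator_mem_commutator (hcomm y hxy _) (hcomm (neg y) hxy _)

end Even

/-! ### The unitary groups -/

section Main

variable {F : Type*} [Field F] [Fintype F] {q N a : ℕ}

theorem charTwo_of_card (hF : Fintype.card F = q ^ 2) (hq : q = 2 ^ a) : CharP F 2 := by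
  obtain ⟨p, hp⟩ := CharP.exists F
  have hpp : p.Prime := (CharP.char_is_prime_or_zero F p).resolve_right (fun h0 => by
    subst h0
    exact CharP.char_ne_zero_of_finite F 0 rfl)
  obtain ⟨n, -, hn⟩ := FiniteField.card F p
  have h2 : p ∣ 2 := by
    have h3 : p ∣ 2 ^ (a * 2) := by
      rw [pow_mul, ← hq, ← hF, hn]
      exact dvd_pow_self p n.2.ne'
    exact hpp.dvd_of_dvd_pow h3
  have h3 : p = 2 := (Nat.prime_dvd_prime_iff_eq hpp Nat.prime_two).1 h2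
  exact h3 ▸ hp

theorem noDouble_PSU (hF : Fintype.card F = q ^ 2) (hq : q = 2 ^ a) (ha : 2 ≤ a) (hN : 3 ≤ N) :
    NoDouble (PSU N F q) := by
  have hchar := charTwo_of_card hF hq
  have hF' : Nat.card F = q ^ 2 := by rw [Nat.card_eq_fintype_card, hF]
  have hq4 : 4 ≤ q := by
    rw [hq]; exact Nat.pow_le_pow_right (n := 2) (by norm_num) ha
  have hcardF : 4 < Nat.card F := by rw [hF']; nlinarith
  have htwo : ∀ x : F, x + x = 0 := fun x => CharTwo.add_self_eq_zero x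
  have hneg : ∀ x : F, -x = x := fun x => CharTwo.neg_eq x
  obtain ⟨p, hp, l, hodd, hl0, hlo, hlq⟩ := UnitaryNum.exists_scalar (F := F) hF' hq ha
  obtain ⟨u, a₁, a₂, hu0, hu1, hu2, ha₁, ha₂, e₁, e₂⟩ := UnitaryNum.exists_u (F := F) hF' hq ha
  obtain ⟨b, hb0, hb1, hb2⟩ := UnitaryNum.exists_norm_one (F := F) hF' hq4
  obtain ⟨m, hm⟩ : ∃ m, N = 2 * m ∨ N = 2 * m + 1 := ⟨N / 2, by omega⟩
  have hm0 : 0 < m := by omega
  -- the common part
  have main : ∀ (W : WFrame (PU hF N) m), (∀ (p0 : (toFrame W).Adm) (hh : Hyp (toFrame W) p0 (Tor (toFrame W) (IU F q N)) p l),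
      p0.w = 0 → ∀ i : Fin m, ¬ (i : ℕ) + 1 < m →
      Spl ((TD (toFrame W) (Tor (toFrame W) (IU F q N)) p).subgroupOf (Y0 (toFrame W) (CoxeterMatrix.B m).toCoxeterSystem))
        ((ZG (toFrame W) (i, true)).subgroupOf (Y0 (toFrame W) (CoxeterMatrix.B m).toCoxeterSystem))) →
      NoDouble (PSU N F q) := by
    intro W hspl
    obtain ⟨p0, hp0, hp0w⟩ := Cfsg.Agent.Nodes.WittU.exists_adm hF W
    have hA := Cfsg.Agent.Nodes.WittU.amb_U hF W
    have hh : Hyp (toFrame W) p0 (Tor (toFrame W) (IU F q N)) p l :=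
      { tor := torT_of_amb hA hp0
        aniso := hA.ok_aniso
        c0 := hp0
        V0 := hA.V0
        odd := hodd
        l0 := hl0
        lσ := hlq
        ord := hlo }
    refine noDouble_model (CoxeterMatrix.B m).toCoxeterSystem hh hm0 (KInstU.model hF hN W) fun i => ?_
    by_cases hi : (i : ℕ) + 1 < m
    · exact spl_of_abPre' _ hh (abPre_field _ hcardF (nx_ne hi))
    · have hnx : nx i = (i, true) := by unfold nx; rw [dif_neg hi]
      rw [hnx, PG_self]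
      exact hspl p0 hh hp0w i hi
  rcases hm with hm | hm
  · -- even dimension
    obtain ⟨W, hW⟩ := exists_wframe_even hF hm
    refine main W fun p0 hh _ i hi => ?_
    have hm2 : 2 ≤ m := by omega
    have hw : ∀ r : (toFrame W).Adm, r.w = 0 := by
      intro r
      have h1 := r.ok.1
      rw [hW] at h1
      exact (Submodule.mem_bot F).1 h1
    have htr : ∀ r : (toFrame W).Adm, ∃ s : F, r = Frame.Adm.tr s := by
      intro r
      have h1 := r.herm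
      rw [hw r, HForm.zero_left, neg_zero, HU_ε, one_mul, HU_σ] at h1
      have h2 : r.c ^ q = r.c := by
        rw [← hneg (r.c ^ q)]
        exact (eq_neg_of_add_eq_zero_left h1).symm
      obtain ⟨s, hs⟩ := exists_trace_eq hF h2
      refine ⟨s, Frame.Adm.ext (hw r) ?_⟩
      rw [Frame.Adm.tr_c, HU_ε, inv_one, one_mul, HU_σ, sub_eq_add_neg, hneg, hs]
    have hj : ∃ j : Fin m, i ≠ j := by
      by_contra hcon
      push Not at hcon
      have h1 := hcon ⟨0, hm0⟩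
      have h2 := hcon ⟨1, by omega⟩
      have h3 := h1.symm.trans h2
      rw [Fin.mk.injEq] at h3
      omega
    obtain ⟨j, hij⟩ := hj
    have hab := abPre_even (CoxeterMatrix.B m).toCoxeterSystem htr (x := (i, true)) (y := (j, true)) hij
    have hnx : nx i = (i, true) := by unfold nx; rw [dif_neg hi]
    have h3 := spl_of_abPre' (CoxeterMatrix.B m).toCoxeterSystem hh (i := i) (by rw [hnx, PG_self]; exact hab)
    rwa [hnx, PG_self] at h3
  · -- odd dimension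
    obtain ⟨W, d, hdd, hW⟩ := exists_wframe_odd hF hm
    refine main W fun p0 hh hp0w i hi => ?_
    have hO : OddFr (toFrame W) d :=
      { two := htwo
        ε := rfl
        dd := hdd
        dV := by
          show d ∈ W.V0
          rw [hW]; exact Submodule.mem_span_singleton_self d
        span := by
          intro w hw
          have h1 : w ∈ W.V0 := hw
          rw [hW] at h1
          obtain ⟨s, hs⟩ := Submodule.mem_span_singleton.1 h1
          exact ⟨s, hs.symm⟩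
        ex := by
          intro s
          obtain ⟨c, hc⟩ := (PU hF N).ex (s • d)
          exact ⟨⟨s • d, c, by
            show s • d ∈ W.V0
            rw [hW]; exact Submodule.smul_mem _ _ (Submodule.mem_span_singleton_self d), hc⟩, rfl⟩
        exc := by
          intro c
          have h1 : (-(c + c ^ q)) ^ q = -(c + c ^ q) := by
            rw [neg_pow_q hF, add_pow_q hF, pow_q_pow_q hF, add_comm]
          obtain ⟨s, hs⟩ := exists_norm_eq hF h1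
          refine ⟨⟨s • d, c, ?_, ?_⟩, rfl, s, rfl⟩
          · show s • d ∈ W.V0
            rw [hW]; exact Submodule.smul_mem _ _ (Submodule.mem_span_singleton_self d)
          · rw [ok_iff, herm_smul_left, herm_smul_right, hdd, mul_one, hs, _root_.neg_neg]
        tr := by
          intro c hc
          exact exists_trace_eq hF hc
        V0 := hh.V0 }
    exact spl_last (CoxeterMatrix.B m).toCoxeterSystem hO hh hp0w i hu0 hu1 hu2 ha₁ ha₂ e₁ e₂ hb0 hb1 hb2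

/-! ### The literal fields of `OddHalf/D9/MultOf.lean` -/

theorem card_eq {F : Type*} [Fintype F] {a : ℕ} (hF : Fintype.card F = 4 ^ a) : Fintype.card F = (2 ^ a) ^ 2 := by
  rw [hF, ← pow_mul, mul_comm, pow_mul]
  norm_num

theorem u3 (F : Type) [Field F] [Fintype F] (a : ℕ) (ha : 2 ≤ a) (hF : Fintype.card F = 4 ^ a) :
    NoDouble (PSU 3 F (2 ^ a)) := noDouble_PSU (card_eq hF) rfl ha le_rfl

theorem u4 (F : Type) [Field F] [Fintype F] (a : ℕ) (ha : 2 ≤ a) (hF : Fintype.card F = 4 ^ a) :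
    NoDouble (PSU 4 F (2 ^ a)) := noDouble_PSU (card_eq hF) rfl ha (by norm_num)

theorem u5 (F : Type) [Field F] [Fintype F] (a : ℕ) (ha : 2 ≤ a) (hF : Fintype.card F = 4 ^ a) :
    NoDouble (PSU 5 F (2 ^ a)) := noDouble_PSU (card_eq hF) rfl ha (by norm_num)

theorem u (F : Type) [Field F] [Fintype F] (a n : ℕ) (ha : 2 ≤ a) (hF : Fintype.card F = 4 ^ a) (hn : 6 ≤ n) :
    NoDouble (PSU n F (2 ^ a)) := noDouble_PSU (card_eq hF) rfl ha (by omega)

end Main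

end Cfsg.Agent.KFacts.Mult.Unitary
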