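import Mathlib
import Cfsg.Agent.Lib.CoprimeCommutator
import Cfsg.Agent.Lib.CoprimeAbelian

/-!
helper517 (ODD D10, MULT-LIE2): a splitting criterion for double covers of 2-groups with a torus action
("weights").

`WData p c P T V` : `P` is a normal 2-subgroup of `B = P T`, `T` a `p`-group (`p` odd), `c` a central
involution in `P`; `P` is generated by `c` and by `T`-invariant subgroups `V i` such that every element
of `P` fixed by `C_T(V i)` lies in `V i`, `C_P(T) = <c>` and every `V i` splits over `<c>`.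
`exists_compl` : then `P` splits over `<c>`.
-/

set_option autoImplicit false

namespace Cfsg.Agent.KFacts.Mult.Weights

open Subgroup Cfsg.Agent.Lib
open scoped commutatorElement

universe u v

/-- See the header. -/
structure WData {ι : Type v} {B : Type u} [Group B] (p : ℕ) (c : B) (P T : Subgroup B)
    (V : ι → Subgroup B) : Prop where
  pg : IsPGroup 2 P
  tp : IsPGroup p T
  odd : Odd p
  nP : P.Normal
  top : P ⊔ T = ⊤
  cP : c ∈ P
  c1 : c ≠ 1
  cc : c * c = 1
  cz : ∀ g : B, g * c = c * g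
  VP : ∀ i, V i ≤ P
  VT : ∀ i, ∀ t ∈ T, ∀ v ∈ V i, t * v * t⁻¹ ∈ V i
  gen : P ≤ (⨆ i, V i) ⊔ zpowers c
  fix : ∀ i, ∀ u ∈ P, (∀ t ∈ T, (∀ v ∈ V i, t * v = v * t) → t * u = u * t) → u ∈ V i
  fixT : ∀ u ∈ P, (∀ t ∈ T, t * u = u * t) → u = 1 ∨ u = c
  spl : ∀ i, ∃ M : Subgroup B, c ∉ M ∧ M ≤ V i ∧ (∀ v ∈ V i, v ∈ M ∨ v * c ∈ M) ∧
    ∀ t ∈ T, ∀ m ∈ M, t * m * t⁻¹ ∈ M

namespace WData

variable {ι : Type v} {B : Type u} [Group B] [Finite B] {p : ℕ} [Fact p.Prime] {c : B}
  {P T : Subgroup B} {V : ι → Subgroup B}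

omit [Finite B] [Fact p.Prime] in
theorem c_mem_V (h : WData p c P T V) (i : ι) : c ∈ V i :=
  h.fix i c h.cP fun t _ _ => h.cz t

omit [Finite B] [Fact p.Prime] in
theorem cinv (h : WData p c P T V) : c⁻¹ = c := inv_eq_of_mul_eq_one_left h.cc

omit [Finite B] [Fact p.Prime] in
theorem mem_zpowers_c (h : WData p c P T V) {x : B} : x ∈ zpowers c ↔ x = 1 ∨ x = c := by
  constructor
  · intro hx
    obtain ⟨n, rfl⟩ := mem_zpowers_iff.mp hx
    rcases Int.even_or_odd' n with ⟨k, rfl | rfl⟩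
    · left
      rw [zpow_mul, zpow_two, h.cc, one_zpow]
    · right
      rw [zpow_add, zpow_mul, zpow_two, h.cc, one_zpow, one_mul, zpow_one]
  · rintro (rfl | rfl)
    · exact one_mem _
    · exact mem_zpowers _

omit [Finite B] [Fact p.Prime] in
/-- a subgroup normalised by `P` and `T` is normal -/
theorem normal_of (h : WData p c P T V) {K : Subgroup B} (h1 : ∀ x ∈ P, ∀ k ∈ K, x * k * x⁻¹ ∈ K)
    (h2 : ∀ t ∈ T, ∀ k ∈ K, t * k * t⁻¹ ∈ K) : K.Normal := by
  have key : ∀ S : Subgroup B, (∀ x ∈ S, ∀ k ∈ K, x * k * x⁻¹ ∈ K) → S ≤ normalizer (K : Set B) := by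
    intro S hS x hx
    rw [mem_normalizer_iff]
    intro k
    constructor
    · exact fun hk => hS x hx k hk
    · intro hk
      have := hS x⁻¹ (inv_mem hx) _ hk
      simpa [mul_assoc] using this
  have h3 : P ⊔ T ≤ normalizer (K : Set B) := sup_le (key P h1) (key T h2)
  rw [h.top, top_le_iff] at h3
  exact normalizer_eq_top_iff.mp h3

/-- passing to a quotient -/
theorem quotient (h : WData p c P T V) {K : Subgroup B} [hK : K.Normal] (hKP : K ≤ P) (hcK : c ∉ K) :
    WData p (QuotientGroup.mk' K c) (P.map (QuotientGroup.mk' K)) (T.map (QuotientGroup.mk' K))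
      (fun i => (V i).map (QuotientGroup.mk' K)) := by
  have hp : ¬ p ∣ Nat.card K := by
    have hk2 : IsPGroup 2 K := h.pg.to_le hKP
    obtain ⟨n, hn⟩ := IsPGroup.iff_card.mp hk2
    rw [hn]
    intro hd
    have h2 := (Nat.prime_dvd_prime_iff_eq (Fact.out : p.Prime) Nat.prime_two).mp
      ((Fact.out : p.Prime).dvd_of_dvd_pow hd)
    have := h.odd
    rw [h2] at this
    exact absurd this (by decide)
  have hmk : ∀ x : B, QuotientGroup.mk' K x = 1 ↔ x ∈ K := fun x => by
    rw [← MonoidHom.mem_ker, QuotientGroup.ker_mk']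
  have hcomm : ∀ x y : B, QuotientGroup.mk' K x * QuotientGroup.mk' K y =
      QuotientGroup.mk' K y * QuotientGroup.mk' K x ↔ y⁻¹ * (x * y * x⁻¹) ∈ K := by
    intro x y
    rw [← hmk, map_mul, map_mul, map_mul, map_inv, map_inv, inv_mul_eq_one, eq_mul_inv_iff_mul_eq]
    exact eq_comm
  -- lifting fixed points
  have lift : ∀ S : Subgroup B, S ≤ T → ∀ u ∈ P, (∀ t ∈ S, QuotientGroup.mk' K t * QuotientGroup.mk' K u =
      QuotientGroup.mk' K u * QuotientGroup.mk' K t) → ∃ w ∈ P, (∀ t ∈ S, t * w = w * t) ∧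
      QuotientGroup.mk' K w = QuotientGroup.mk' K u := by
    intro S hS u hu hfix
    obtain ⟨w, hw, huw⟩ := CoprimeCommutator.exists_fixed_in_coset p S K (h.tp.to_le hS)
      (fun t _ => by rw [normalizer_eq_top_iff.mpr hK]; exact mem_top t) hp u
      (fun t ht => (hcomm t u).mp (hfix t ht))
    refine ⟨w, ?_, ?_, ?_⟩
    · have : w = u * (u⁻¹ * w) := by group
      rw [this]
      exact P.mul_mem hu (hKP huw)
    · intro t ht
      exact mem_centralizer_iff.mp hw t ht
    · have h1 := (hmk _).mpr huw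
      rw [map_mul, map_inv, inv_mul_eq_one] at h1
      exact h1.symm
  refine ⟨h.pg.map _, h.tp.map _, h.odd, h.nP.map _ (QuotientGroup.mk'_surjective K), ?_,
    mem_map_of_mem _ h.cP, fun h0 => hcK ((hmk _).mp h0), by rw [← map_mul, h.cc, map_one], ?_, ?_, ?_, ?_, ?_,
    ?_, ?_⟩
  · rw [← Subgroup.map_sup, h.top, map_top_of_surjective _ (QuotientGroup.mk'_surjective K)]
  · intro g
    obtain ⟨g, rfl⟩ := QuotientGroup.mk'_surjective K g
    rw [← map_mul, h.cz, map_mul]
  · intro i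
    exact map_mono (h.VP i)
  · rintro i _ ⟨t, ht, rfl⟩ _ ⟨v, hv, rfl⟩
    rw [← map_mul, ← map_inv, ← map_mul]
    exact mem_map_of_mem _ (h.VT i t ht v hv)
  · have h1 := map_mono (f := QuotientGroup.mk' K) h.gen
    rw [Subgroup.map_sup, Subgroup.map_iSup, MonoidHom.map_zpowers] at h1
    exact h1
  · rintro i _ ⟨u, hu, rfl⟩ hfix
    obtain ⟨w, hw, hwf, hwu⟩ := lift (T ⊓ centralizer (V i : Set B)) inf_le_left u hu (by
      rintro t ⟨ht, htc⟩
      refine hfix _ (mem_map_of_mem _ ht) ?_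
      rintro _ ⟨v, hv, rfl⟩
      rw [← map_mul, ← map_mul, ← mem_centralizer_iff.mp htc v hv])
    rw [← hwu]
    refine mem_map_of_mem _ (h.fix i w hw fun t ht htv => hwf t ⟨ht, ?_⟩)
    exact mem_centralizer_iff.mpr fun v hv => (htv v hv).symm
  · rintro _ ⟨u, hu, rfl⟩ hfix
    obtain ⟨w, hw, hwf, hwu⟩ := lift T le_rfl u hu (fun t ht => hfix _ (mem_map_of_mem _ ht))
    rcases h.fixT w hw hwf with rfl | rfl
    · left; rw [← hwu, map_one]
    · right; exact hwu.symm
  · intro i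
    obtain ⟨M, hcM, hMV, hM, hMT⟩ := h.spl i
    have hcV := h.c_mem_V i
    refine ⟨M.map (QuotientGroup.mk' K), ?_, map_mono hMV, ?_, ?_⟩
    · rintro ⟨m, hm, hmc⟩
      have hk : m⁻¹ * c ∈ K := by
        rw [← hmk, map_mul, map_inv, inv_mul_eq_one]; exact hmc
      have hkV : m⁻¹ * c ∈ V i := (V i).mul_mem ((V i).inv_mem (hMV hm)) hcV
      -- `V i ⊓ K ≤ M`
      have hKn : ∀ t : B, ∀ k ∈ K, t * k * t⁻¹ ∈ K := fun t k hk => hK.conj_mem k hk t
      have hTn : T ≤ normalizer ((V i ⊓ K : Subgroup B) : Set B) := by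
        intro t ht
        rw [mem_normalizer_iff]
        intro x
        constructor
        · rintro ⟨h1, h2⟩
          exact ⟨h.VT i t ht x h1, hKn t x h2⟩
        · rintro ⟨h1, h2⟩
          have h3 := h.VT i t⁻¹ (inv_mem ht) _ h1
          have h4 := hKn t⁻¹ _ h2
          constructor
          · simpa [mul_assoc] using h3
          · simpa [mul_assoc] using h4
      obtain ⟨w, hw, f, ⟨hfV, hfT⟩, hwf⟩ := CoprimeCommutator.exists_commutator_mul_fixed_of_isPGroup p T
        (V i ⊓ K) h.tp hTn (fun hd => hp (hd.trans (card_dvd_of_le inf_le_right))) _ ⟨hkV, hk⟩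
      have hf1 : f = 1 := by
        rcases h.fixT f (hKP hfV.2) (fun t ht => mem_centralizer_iff.mp hfT t ht) with h1 | h1
        · exact h1
        · exact absurd (h1 ▸ hfV.2) hcK
      have hwM : ⁅V i ⊓ K, T⁆ ≤ M := by
        rw [commutator_le]
        rintro x ⟨hx, -⟩ t ht
        rw [commutatorElement_def]
        rcases hM x hx with h1 | h1
        · have : x * t * x⁻¹ * t⁻¹ = x * (t * x⁻¹ * t⁻¹) := by group
          rw [this]
          exact M.mul_mem h1 (hMT t ht _ (M.inv_mem h1))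
        · have : x * t * x⁻¹ * t⁻¹ = (x * c) * (t * (x * c)⁻¹ * t⁻¹) := by
            rw [mul_inv_rev, h.cinv]
            calc x * t * x⁻¹ * t⁻¹ = x * (t * x⁻¹ * t⁻¹) := by group
              _ = x * (c * c) * (t * x⁻¹ * t⁻¹) := by rw [h.cc, mul_one]
              _ = x * c * ((c * t) * x⁻¹ * t⁻¹) := by group
              _ = x * c * ((t * c) * x⁻¹ * t⁻¹) := by rw [h.cz t]
              _ = x * c * (t * (c * x⁻¹) * t⁻¹) := by group
          rw [this]
          exact M.mul_mem h1 (hMT t ht _ (M.inv_mem h1))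
      apply hcM
      have h5 : m⁻¹ * c ∈ M := by
        rw [hwf, hf1, mul_one]
        exact hwM hw
      have h6 := M.mul_mem hm h5
      rwa [mul_inv_cancel_left] at h6
    · rintro _ ⟨v, hv, rfl⟩
      rcases hM v hv with h1 | h1
      · exact Or.inl (mem_map_of_mem _ h1)
      · right
        rw [← map_mul]
        exact mem_map_of_mem _ h1
    · rintro _ ⟨t, ht, rfl⟩ _ ⟨m, hm, rfl⟩
      rw [← map_mul, ← map_inv, ← map_mul]
      exact mem_map_of_mem _ (hMT t ht m hm)

/-- two elements of `P` whose commutator lies in `<c>` for all partners: elements of the second centre -/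
theorem exists_mem_second (h : WData p c P T V) {x0 : B} (hx0 : x0 ∈ P) (h01 : x0 ≠ 1) (h0c : x0 ≠ c) :
    ∃ x ∈ P, x ≠ 1 ∧ x ≠ c ∧ ∀ y ∈ P, x * y = y * x ∨ x * y = c * (y * x) := by
  let C : Subgroup P := zpowers (⟨c, h.cP⟩ : P)
  have hC : C.Normal := by
    constructor
    intro n hn g
    have : g * n * g⁻¹ = n := by
      obtain ⟨k, rfl⟩ := mem_zpowers_iff.mp hn
      have h1 : Commute g ((⟨c, h.cP⟩ : P) ^ k) := by
        apply Commute.zpow_right
        exact Subtype.ext (h.cz g)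
      rw [h1.eq, mul_inv_cancel_right]
    rw [this]; exact hn
  have hmem : ∀ x : P, x ∈ C ↔ (x : B) = 1 ∨ (x : B) = c := by
    intro x
    rw [← h.mem_zpowers_c, mem_zpowers_iff, mem_zpowers_iff]
    constructor
    · rintro ⟨k, hk⟩
      exact ⟨k, by rw [← hk]; rfl⟩
    · rintro ⟨k, hk⟩
      exact ⟨k, Subtype.ext (by rw [← hk]; rfl)⟩
  have hne : Nontrivial (P ⧸ C) := by
    refine ⟨⟨QuotientGroup.mk ⟨x0, hx0⟩, 1, ?_⟩⟩
    intro h1
    rw [QuotientGroup.eq_one_iff, hmem] at h1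
    rcases h1 with h1 | h1
    · exact h01 h1
    · exact h0c h1
  have h2 : IsPGroup 2 (P ⧸ C) := h.pg.to_quotient C
  have h3 : Nontrivial (center (P ⧸ C)) := h2.center_nontrivial
  obtain ⟨z, hz⟩ := exists_ne (1 : center (P ⧸ C))
  obtain ⟨x, hx⟩ := QuotientGroup.mk_surjective (z : P ⧸ C)
  have hxC : x ∉ C := by
    intro h4
    rw [← QuotientGroup.eq_one_iff, hx] at h4
    exact hz (Subtype.ext h4)
  rw [hmem, not_or] at hxC
  refine ⟨x, x.2, hxC.1, hxC.2, fun y hy => ?_⟩
  have h4 := mem_center_iff.mp z.2 (QuotientGroup.mk (⟨y, hy⟩ : P))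
  rw [← hx, ← QuotientGroup.mk_mul, ← QuotientGroup.mk_mul, QuotientGroup.eq, hmem] at h4
  have e : (((⟨y, hy⟩ * x : P)⁻¹ * (x * ⟨y, hy⟩ : P) : P) : B) = (y * x)⁻¹ * (x * y) := rfl
  rw [e] at h4
  rcases h4 with h4 | h4
  · left
    rw [inv_mul_eq_one] at h4
    exact h4.symm
  · right
    rw [inv_mul_eq_iff_eq_mul] at h4
    rw [h4, h.cz]

/-- an element of odd order which commutes with `x` up to `c` commutes with `x` -/
theorem _root_.Cfsg.Agent.KFacts.Mult.Weights.commute_of_odd {B : Type u} [Group B] {c : B}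
    (c1 : c ≠ 1) (cc : c * c = 1) (cz : ∀ g : B, g * c = c * g) {t x : B} {n : ℕ} (hn : Odd n)
    (ht : t ^ n = 1) (h : t * x = x * t ∨ t * x = c * (x * t)) : t * x = x * t := by
  rcases h with h | h
  · exact h
  · exfalso
    have h1 : x⁻¹ * t * x = c * t := by
      rw [mul_assoc, h, ← mul_assoc, ← mul_assoc, cz x⁻¹]
      group
    have h2 : (c * t) ^ n = 1 := by
      rw [← h1]
      have h3 : ∀ m : ℕ, (x⁻¹ * t * x) ^ m = x⁻¹ * t ^ m * x := by
        intro m
        induction m with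
        | zero => simp
        | succ m ih => rw [pow_succ, ih, pow_succ]; group
      rw [h3, ht]; group
    have h3 : (c * t) ^ n = c ^ n * t ^ n := (show Commute c t from (cz t).symm).mul_pow n
    rw [h3, ht, mul_one] at h2
    obtain ⟨k, rfl⟩ := hn
    rw [pow_succ, pow_mul, pow_two, cc, one_pow, one_mul] at h2
    exact c1 h2

omit [Finite B] [Fact p.Prime] in
theorem pow_odd (h : WData p c P T V) {t : B} (ht : t ∈ T) : ∃ n, Odd n ∧ t ^ n = 1 := by
  obtain ⟨k, hk⟩ := h.tp ⟨t, ht⟩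
  exact ⟨p ^ k, h.odd.pow, congrArg Subtype.val hk⟩

/-- the irreducible case -/
theorem base (h : WData p c P T V)
    (hmin : ∀ K : Subgroup B, K.Normal → K ≤ P → c ∉ K → K = ⊥) : ∀ x ∈ P, x = 1 ∨ x = c := by
  by_contra hcon
  push Not at hcon
  obtain ⟨x0, hx0, h01, h0c⟩ := hcon
  obtain ⟨x, hx, hx1, hxc, hxz⟩ := h.exists_mem_second hx0 h01 h0c
  -- the second centre
  let Z : Subgroup B :=
    { carrier := {x | x ∈ P ∧ ∀ y ∈ P, x * y = y * x ∨ x * y = c * (y * x)}
      one_mem' := ⟨P.one_mem, fun y _ => Or.inl (by rw [one_mul, mul_one])⟩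
      mul_mem' := by
        rintro a b ⟨ha, ha'⟩ ⟨hb, hb'⟩
        refine ⟨P.mul_mem ha hb, fun y hy => ?_⟩
        rcases hb' y hy with h1 | h1 <;> rcases ha' y hy with h2 | h2
        · left; rw [mul_assoc, h1, ← mul_assoc, h2, mul_assoc]
        · right; rw [mul_assoc, h1, ← mul_assoc, h2]; group
        · right
          calc a * b * y = a * (b * y) := by group
            _ = (a * c) * (y * b) := by rw [h1]; group
            _ = c * (a * y) * b := by rw [h.cz a]; group
            _ = c * (y * (a * b)) := by rw [h2]; group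
        · left
          calc a * b * y = a * (b * y) := by group
            _ = (a * c) * (y * b) := by rw [h1]; group
            _ = c * (a * y) * b := by rw [h.cz a]; group
            _ = (c * c) * (y * (a * b)) := by rw [h2]; group
            _ = y * (a * b) := by rw [h.cc, one_mul]
      inv_mem' := by
        rintro a ⟨ha, ha'⟩
        refine ⟨P.inv_mem ha, fun y hy => ?_⟩
        rcases ha' y hy with h2 | h2
        · left
          calc a⁻¹ * y = a⁻¹ * (y * a) * a⁻¹ := by group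
            _ = a⁻¹ * (a * y) * a⁻¹ := by rw [h2]
            _ = y * a⁻¹ := by group
        · right
          have h3 : y * a = c * (a * y) := by rw [h2, ← mul_assoc, h.cc, one_mul]
          calc a⁻¹ * y = a⁻¹ * (y * a) * a⁻¹ := by group
            _ = (a⁻¹ * c) * a * y * a⁻¹ := by rw [h3]; group
            _ = (c * a⁻¹) * a * y * a⁻¹ := by rw [h.cz a⁻¹]
            _ = c * (y * a⁻¹) := by group }
  have hZP : Z ≤ P := fun x hx => hx.1
  have hPconj : ∀ g x : B, x ∈ P → g * x * g⁻¹ ∈ P := fun g x hx => h.nP.conj_mem x hx g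
  have hZT : ∀ t : B, ∀ z ∈ Z, t * z * t⁻¹ ∈ Z := by
    rintro t z ⟨hz, hz'⟩
    refine ⟨hPconj t z hz, fun y hy => ?_⟩
    have hy' : t⁻¹ * y * t ∈ P := by simpa using hPconj t⁻¹ y hy
    rcases hz' _ hy' with h1 | h1
    · left
      calc t * z * t⁻¹ * y = t * (z * (t⁻¹ * y * t)) * t⁻¹ := by group
        _ = t * ((t⁻¹ * y * t) * z) * t⁻¹ := by rw [h1]
        _ = y * (t * z * t⁻¹) := by group
    · right
      calc t * z * t⁻¹ * y = t * (z * (t⁻¹ * y * t)) * t⁻¹ := by group
        _ = (t * c) * ((t⁻¹ * y * t) * z) * t⁻¹ := by rw [h1]; group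
        _ = (c * t) * ((t⁻¹ * y * t) * z) * t⁻¹ := by rw [h.cz t]
        _ = c * (y * (t * z * t⁻¹)) := by group
  have hcZ : c ∈ Z := ⟨h.cP, fun y _ => Or.inl (h.cz y).symm⟩
  -- a minimal `T`-invariant subgroup
  let PE : Subgroup B → Prop := fun E => c ∈ E ∧ (∃ x ∈ E, x ≠ 1 ∧ x ≠ c) ∧ E ≤ Z ∧
    ∀ t ∈ T, ∀ e ∈ E, t * e * t⁻¹ ∈ E
  obtain ⟨E, ⟨hcE, ⟨e1, he1, he11, he1c⟩, hEZ, hET⟩, hEmin⟩ :=
    (Set.toFinite {E | PE E}).exists_minimal ⟨Z, hcZ, ⟨x, ⟨hx, hxz⟩, hx1, hxc⟩, le_rfl,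
      fun t _ z hz => hZT t z hz⟩
  have hmin' : ∀ F : Subgroup B, F ≤ E → c ∈ F → (∀ t ∈ T, ∀ e ∈ F, t * e * t⁻¹ ∈ F) → F ≠ E →
      ∀ x ∈ F, x = 1 ∨ x = c := by
    intro F hFE hcF hFT hne x hx
    by_contra hcon
    push Not at hcon
    exact hne (le_antisymm hFE (hEmin ⟨hcF, ⟨x, hx, hcon.1, hcon.2⟩, hFE.trans hEZ, hFT⟩ hFE))
  have hEP : E ≤ P := hEZ.trans hZP
  have hTodd : ∀ t ∈ T, ∀ x : B, (t * x = x * t ∨ t * x = c * (x * t)) → t * x = x * t := by
    intro t ht x hx
    obtain ⟨n, hn, htn⟩ := h.pow_odd ht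
    exact commute_of_odd h.c1 h.cc h.cz hn htn hx
  by_cases hcent : ∀ e ∈ E, ∀ y ∈ P, e * y = y * e
  · -- `E` is central in `P`
    have hTE : T ≤ normalizer (E : Set B) := by
      intro t ht
      rw [mem_normalizer_iff]
      intro x
      constructor
      · exact fun hx => hET t ht x hx
      · intro hx
        have := hET t⁻¹ (inv_mem ht) _ hx
        simpa [mul_assoc] using this
    have hcop : (Nat.card T).Coprime (Nat.card E) := by
      obtain ⟨a, ha⟩ := IsPGroup.iff_card.mp h.tp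
      obtain ⟨b, hb⟩ := IsPGroup.iff_card.mp (h.pg.to_le hEP)
      rw [ha, hb]
      exact Nat.Coprime.pow _ _ (Nat.Coprime.symm (Nat.coprime_two_left.mpr h.odd))
    have habE : ∀ x ∈ E, ∀ y ∈ E, x * y = y * x := fun x hx y hy => hcent x hx y (hEP hy)
    have h1 := CoprimeAbelian.inf_commutator_eq_bot T E habE hTE hcop
    have hKE : ⁅E, T⁆ ≤ E := CoprimeCommutator.commutator_le_left hTE
    have hcK : c ∉ ⁅E, T⁆ := by
      intro hc
      have h2 : c ∈ (E ⊓ centralizer (T : Set B)) ⊓ ⁅E, T⁆ :=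
        ⟨⟨hcE, mem_centralizer_iff.mpr fun t _ => h.cz t⟩, hc⟩
      rw [h1, mem_bot] at h2
      exact h.c1 h2
    have hKn : (⁅E, T⁆ : Subgroup B).Normal := by
      refine h.normal_of ?_ ?_
      · intro x hx k hk
        rw [← hcent k (hKE hk) x hx, mul_inv_cancel_right]
        exact hk
      · intro t ht k hk
        exact (mem_normalizer_iff.mp (CoprimeCommutator.right_le_normalizer_commutator E T ht) k).mp hk
    have hK := hmin _ hKn (hKE.trans hEP) hcK
    have h3 : T ≤ centralizer (E : Set B) := by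
      rw [← commutator_eq_bot_iff_le_centralizer, commutator_comm]
      exact hK
    rcases h.fixT e1 (hEP he1) (fun t ht => (mem_centralizer_iff.mp (h3 ht) e1 he1).symm) with h4 | h4
    · exact he11 h4
    · exact he1c h4
  · -- some `V i` does not centralise `E`
    push Not at hcent
    obtain ⟨e0, he0, y0, hy0, hne⟩ := hcent
    have hi : ∃ i, ∃ e ∈ E, ∃ v ∈ V i, e * v ≠ v * e := by
      by_contra hcon
      push Not at hcon
      have h1 : P ≤ centralizer (E : Set B) := by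
        refine h.gen.trans (sup_le (iSup_le fun i v hv => ?_) ?_)
        · exact mem_centralizer_iff.mpr fun e he => hcon i e he v hv
        · rw [zpowers_le, mem_centralizer_iff]
          exact fun e _ => h.cz e
      exact hne (mem_centralizer_iff.mp (h1 hy0) e0 he0)
    obtain ⟨i, e2, he2, v2, hv2, hne2⟩ := hi
    have hcomm2 : ∀ e ∈ E, ∀ v ∈ V i, e * v = v * e ∨ e * v = c * (v * e) := fun e he v hv =>
      (hEZ he).2 v (h.VP i hv)
    -- the centraliser of `V i` in `E` is `<c>`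
    have hF : ∀ x ∈ E ⊓ centralizer (V i : Set B), x = 1 ∨ x = c := by
      refine hmin' _ inf_le_left ⟨hcE, mem_centralizer_iff.mpr fun v _ => h.cz v⟩ ?_ ?_
      · rintro t ht e ⟨he, hev⟩
        refine ⟨hET t ht e he, mem_centralizer_iff.mpr fun v hv => ?_⟩
        have hv' : t⁻¹ * v * t ∈ V i := by
          have := h.VT i t⁻¹ (inv_mem ht) v hv
          simpa using this
        have h1 := mem_centralizer_iff.mp hev _ hv'
        calc v * (t * e * t⁻¹) = t * ((t⁻¹ * v * t) * e) * t⁻¹ := by group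
          _ = t * (e * (t⁻¹ * v * t)) * t⁻¹ := by rw [h1]
          _ = t * e * t⁻¹ * v := by group
      · intro h0
        have : e2 ∈ E ⊓ centralizer (V i : Set B) := by rw [h0]; exact he2
        exact hne2 (mem_centralizer_iff.mp this.2 v2 hv2).symm
    -- so `C_T(V i)` centralises `E`
    have hfix : ∀ e ∈ E, ∀ t ∈ T, (∀ v ∈ V i, t * v = v * t) → t * e = e * t := by
      intro e he t ht htv
      have h1 : t * e * t⁻¹ * e⁻¹ ∈ E ⊓ centralizer (V i : Set B) := by
        refine ⟨E.mul_mem (hET t ht e he) (E.inv_mem he), mem_centralizer_iff.mpr fun v hv => ?_⟩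
        have htv' : t⁻¹ * v * t = v := by rw [mul_assoc, ← htv v hv, inv_mul_cancel_left]
        rcases hcomm2 e he v hv with h2 | h2
        · calc v * (t * e * t⁻¹ * e⁻¹) = t * ((t⁻¹ * v * t) * e) * t⁻¹ * e⁻¹ := by group
            _ = t * (e * v) * t⁻¹ * e⁻¹ := by rw [htv', h2]
            _ = t * e * ((t⁻¹ * v * t) * t⁻¹) * e⁻¹ := by rw [htv']; group
            _ = t * e * t⁻¹ * e⁻¹ * (e * v * e⁻¹) := by group
            _ = t * e * t⁻¹ * e⁻¹ * v := by rw [h2, mul_inv_cancel_right]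
        · have h3 : v * e = c * (e * v) := by rw [h2, ← mul_assoc, h.cc, one_mul]
          calc v * (t * e * t⁻¹ * e⁻¹) = t * ((t⁻¹ * v * t) * e) * t⁻¹ * e⁻¹ := by group
            _ = (t * c) * (e * v) * t⁻¹ * e⁻¹ := by rw [htv', h3]; group
            _ = (c * t) * (e * v) * t⁻¹ * e⁻¹ := by rw [h.cz t]
            _ = c * (t * e * ((t⁻¹ * v * t) * t⁻¹) * e⁻¹) := by rw [htv']; group
            _ = c * (t * e * t⁻¹ * e⁻¹) * (e * v * e⁻¹) := by group
            _ = c * (t * e * t⁻¹ * e⁻¹) * ((c * (v * e)) * e⁻¹) := by rw [h2]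
            _ = (c * ((t * e * t⁻¹ * e⁻¹) * c)) * v := by group
            _ = (c * (c * (t * e * t⁻¹ * e⁻¹))) * v := by rw [h.cz (t * e * t⁻¹ * e⁻¹)]
            _ = (c * c) * (t * e * t⁻¹ * e⁻¹) * v := by group
            _ = t * e * t⁻¹ * e⁻¹ * v := by rw [h.cc, one_mul]
      apply hTodd t ht
      rcases hF _ h1 with h2 | h2
      · left
        rw [mul_inv_eq_one, mul_inv_eq_iff_eq_mul] at h2
        exact h2
      · right
        rw [mul_inv_eq_iff_eq_mul, mul_inv_eq_iff_eq_mul] at h2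
        rw [h2, mul_assoc]
    have hEV : E ≤ V i := fun e he => h.fix i e (hEP he) fun t ht htv => hfix e he t ht htv
    obtain ⟨M, hcM, hMV, hM, -⟩ := h.spl i
    -- commutators of `V i` lie in `M`
    have hcom : ∀ a ∈ V i, ∀ b ∈ V i, a * b * a⁻¹ * b⁻¹ ∈ M := by
      intro a ha b hb
      have h1 : ∀ a' b' : B, a' ∈ M → b' ∈ M → a' * b' * a'⁻¹ * b'⁻¹ ∈ M := fun a' b' h1 h2 =>
        M.mul_mem (M.mul_mem (M.mul_mem h1 h2) (M.inv_mem h1)) (M.inv_mem h2)
      have h2 : ∀ a b : B, (a * c) * b * (a * c)⁻¹ * b⁻¹ = a * b * a⁻¹ * b⁻¹ := by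
        intro a b
        rw [mul_inv_rev, h.cinv]
        calc a * c * b * (c * a⁻¹) * b⁻¹ = a * c * (b * c) * a⁻¹ * b⁻¹ := by group
          _ = a * c * (c * b) * a⁻¹ * b⁻¹ := by rw [h.cz b]
          _ = a * (c * c) * b * a⁻¹ * b⁻¹ := by group
          _ = _ := by rw [h.cc, mul_one]
      have h3 : ∀ a b : B, a * (b * c) * a⁻¹ * (b * c)⁻¹ = a * b * a⁻¹ * b⁻¹ := by
        intro a b
        rw [mul_inv_rev, h.cinv]
        calc a * (b * c) * a⁻¹ * (c * b⁻¹) = a * b * (c * (a⁻¹ * c)) * b⁻¹ := by group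
          _ = a * b * (c * (c * a⁻¹)) * b⁻¹ := by rw [h.cz a⁻¹]
          _ = a * b * ((c * c) * a⁻¹) * b⁻¹ := by group
          _ = _ := by rw [h.cc, one_mul]
      rcases hM a ha with h4 | h4 <;> rcases hM b hb with h5 | h5
      · exact h1 _ _ h4 h5
      · rw [← h3]; exact h1 _ _ h4 h5
      · rw [← h2]; exact h1 _ _ h4 h5
      · rw [← h2, ← h3]; exact h1 _ _ h4 h5
    have h1 := hcom e2 (hEV he2) v2 hv2
    rcases hcomm2 e2 he2 v2 hv2 with h2 | h2
    · exact hne2 h2
    · apply hcM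
      have h3 : e2 * v2 * e2⁻¹ * v2⁻¹ = c := by
        rw [h2]; group
      rwa [h3] at h1

end WData

/-- **The splitting criterion.** -/
theorem exists_compl {ι : Type v} {p : ℕ} [Fact p.Prime] : ∀ (n : ℕ) {B : Type u} [Group B] [Finite B]
    {c : B} {P T : Subgroup B} {V : ι → Subgroup B}, WData p c P T V → Nat.card B = n →
      ∃ K : Subgroup B, K ≤ P ∧ c ∉ K ∧ ∀ x ∈ P, x ∈ K ∨ x * c ∈ K := by
  intro n
  induction n using Nat.strong_induction_on with
  | _ n ih =>
    intro B _ _ c P T V h hn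
    by_cases hex : ∃ K : Subgroup B, K.Normal ∧ K ≤ P ∧ c ∉ K ∧ K ≠ ⊥
    · obtain ⟨K, hK, hKP, hcK, hne⟩ := hex
      have hlt : Nat.card (B ⧸ K) < n := by
        have h1 := K.card_mul_index
        rw [hn] at h1
        have h2 : 1 < Nat.card K := (K.one_lt_card_iff_ne_bot).mpr hne
        have h3 : Nat.card (B ⧸ K) = K.index := rfl
        rw [h3, ← h1]
        have h4 : 0 < K.index := Nat.pos_of_ne_zero K.index_ne_zero_of_finite
        nlinarith
      obtain ⟨K', hK'P, hcK', hall⟩ := ih _ hlt (h.quotient hKP hcK) rfl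
      refine ⟨K'.comap (QuotientGroup.mk' K), ?_, hcK', ?_⟩
      · refine (Subgroup.comap_mono hK'P).trans ?_
        rw [Subgroup.comap_map_eq, QuotientGroup.ker_mk']
        exact sup_le le_rfl hKP
      · intro x hx
        rcases hall _ (mem_map_of_mem _ hx) with h1 | h1
        · exact Or.inl h1
        · right
          rw [mem_comap, map_mul]
          exact h1
    · push Not at hex
      refine ⟨⊥, bot_le, fun h0 => h.c1 (mem_bot.mp h0), fun x hx => ?_⟩
      rcases h.base (fun K h1 h2 h3 => hex K h1 h2 h3) x hx with rfl | rfl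
      · exact Or.inl (mem_bot.mpr rfl)
      · exact Or.inr (mem_bot.mpr h.cc)

end Cfsg.Agent.KFacts.Mult.Weights
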