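import Cfsg.Agent.KFacts.Mult.WittW
import Cfsg.Agent.Nodes.WittAll

/-!
# `TorT` from the ambient structure `AmbT` (covers `O⁻` in characteristic 2)
-/

set_option autoImplicit false

namespace Cfsg.Agent.KFacts.Mult.WittA

open Cfsg.Agent.KFacts.Mult.WittT Cfsg.Agent.KFacts.Mult.WittW
open Cfsg.Agent.Nodes.TypeC Cfsg.Agent.Nodes.Comb Cfsg.Agent.Nodes.Reps Cfsg.Agent.Nodes.WittRoot
  Cfsg.Agent.Nodes.BNOf Cfsg.Agent.Nodes.WittRGD Cfsg.Agent.Nodes.WittAll
open Cfsg.Agent.TitsThree Cfsg.Agent.TitsThree.Siegel Cfsg.Agent.TitsThree.WittFrame Cfsg.Agent.TitsThree.WittWeyl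

variable {F : Type*} [Field F] {V : Type*} [AddCommGroup V] [Module F V] {H : HForm F V} {n : ℕ}
  {Fr : Frame H (Fin n)} {G0 : Subgroup (V ≃ₗ[F] V)}

theorem torT_of_ambT [Finite V] [CharP F 2] (hA : AmbT Fr 2 G0) {p0 : Fr.Adm} (hp0 : p0.c ≠ 0) :
    TorT Fr p0 (Tor Fr G0) where
  good g hg := ⟨hA.iso g hg.1, fun p => hA.exists_adm hg.1 hg.2 (ρ := id) (fun _ => rfl) p⟩
  mono g hg := hg.2
  norm i g hg := (Subgroup.mem_normalizer_iff.1 ((nsysC hA hp0).norm i) g).1 hg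
  rel i j := (nsysC hA hp0).rel i j
  qX i hi t ht := Cfsg.Agent.Nodes.WittAll.tor_of_mono (Cfsg.Agent.Nodes.WittAll.nX_mem hA _ _ _)
    (Cfsg.Agent.Nodes.WittAll.nX_mem hA _ _ _) (mono_nX hi ht) (mono_nX hi one_ne_zero)
  qZ i p q hp hq := by
    refine ⟨mul_mem (Cfsg.Agent.Nodes.WittAll.nZ_mem hA _ _) (inv_mem (Cfsg.Agent.Nodes.WittAll.nZ_mem hA _ _)), ?_⟩
    intro x
    have hm : ∀ (p : Fr.Adm), p.c ≠ 0 → ∀ x : Fin n × Bool, ∃ l : F, l ≠ 0 ∧
        nZ Fr (i, true) p (Fr.b x) = l • Fr.b (if x.1 = i then ng x else x) := by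
      intro p hp x
      have h3 := H.ε_ne
      have hσ : H.σ p.c ≠ 0 := by simpa using hp
      have hη := Fr.η_ne (i, true)
      by_cases h1 : x.1 = i
      · obtain ⟨j, s⟩ := x
        simp only at h1
        subst h1
        rw [if_pos rfl]
        cases s
        · exact ⟨Fr.η (j, true) * p.c, mul_ne_zero hη hp, nZ_apply_neg Fr (j, true) p hp⟩
        · exact ⟨_, by simp [*], nZ_apply_self Fr (j, true) p hp⟩
      · refine ⟨1, one_ne_zero, ?_⟩
        rw [one_smul, if_neg h1]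
        exact nZ_apply_of_ne Fr (x := (i, true)) (z := x) h1 p
    -- the permutation is an involution
    set π : Fin n × Bool → Fin n × Bool := fun x => if x.1 = i then ng x else x with hπ
    have hππ : ∀ x, π (π x) = x := by
      intro x
      simp only [hπ]
      by_cases h1 : x.1 = i
      · rw [if_pos h1, if_pos (by rw [ng_fst]; exact h1), ng_ng]
      · rw [if_neg h1, if_neg h1]
    have h1 : Mono Fr (nZ Fr (i, true) p) π := hm p hp
    have h2 : Mono Fr (nZ Fr (i, true) q) π := hm q hq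
    exact ((h1.mul (h2.inv hππ)).congr fun x => hππ x) x
  cop := hA.tcop

/-- The assumptions of `WittW` from an ambient structure. -/
theorem hyp_of_ambT [Finite V] [CharP F 2] (hA : AmbT Fr 2 G0) {p0 : Fr.Adm} (hp0 : p0.c ≠ 0) {p : ℕ}
    {l : F} (hodd : Odd p) (l0 : l ≠ 0) (lσ : H.σ l = l) (ord : orderOf l = p) :
    Hyp Fr p0 (Tor Fr G0) p l :=
  ⟨torT_of_ambT hA hp0, hA.ok_aniso, hp0, hA.V0, hodd, l0, lσ, ord⟩

end Cfsg.Agent.KFacts.Mult.WittA
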