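import Cfsg.Agent.KFacts.Mult.WittTwo

/-!
# The order of the positive subgroup of a model over a Witt frame (helper430)
-/

set_option autoImplicit false
set_option linter.unusedVariables false

namespace Cfsg.Agent.KFacts.Mult.WittTwo

open Cfsg.Agent.TitsThree.Siegel Cfsg.Agent.TitsThree.WittFrame Cfsg.Agent.TitsThree.WittWeyl
open Cfsg.Agent.TitsThree.FrameCN Cfsg.Agent.KFacts.Mult.ChainZ
open scoped commutatorElement

theorem card_step {X : Type*} [Group X] [Finite X] {gens : ℕ → Set X} {k : ℕ} {A : Type*} (f : A → X)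
    (hf : ∀ a, f a ∈ gens k) (hinj : ∀ a b, (f a)⁻¹ * f b ∈ Vk gens k → a = b) :
    Nat.card A * Nat.card (Vk gens k) ≤ Nat.card (Vk gens (k + 1)) := by
  rw [← Nat.card_prod]
  refine Nat.card_le_card_of_injective
    (fun p : A × Vk gens k => (⟨f p.1 * p.2, mul_mem (mem_Vk (Nat.lt_succ_self k) (hf _))
      (Vk_mono (Nat.le_succ k) p.2.2)⟩ : Vk gens (k + 1))) ?_
  rintro ⟨a, v⟩ ⟨b, w⟩ h
  have h1 : f a * v = f b * w := congrArg Subtype.val h
  have h2 : a = b := hinj a b (by
    have : (f a)⁻¹ * f b = (v : X) * (w : X)⁻¹ := by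
      rw [eq_mul_inv_iff_mul_eq, mul_assoc, ← h1]; group
    rw [this]; exact mul_mem v.2 (inv_mem w.2))
  subst h2
  have h3 : (v : X) = w := mul_left_cancel h1
  exact Prod.ext rfl (Subtype.ext h3)

theorem prod_le {X : Type*} [Group X] [Finite X] {gens : ℕ → Set X} {R : Type*} [Fintype R]
    (key : R → ℕ) (hk : Function.Injective key) (c : R → ℕ)
    (hc : ∀ r, c r * Nat.card (Vk gens (key r)) ≤ Nat.card (Vk gens (key r + 1))) (k : ℕ) :
    ∏ r with key r < k, c r ≤ Nat.card (Vk gens k) := by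
  classical
  induction k with
  | zero =>
    have : (Finset.univ.filter fun r : R => key r < 0) = ∅ := by
      ext r; simp
    rw [this, Finset.prod_empty]
    exact Nat.card_pos
  | succ k ih =>
    by_cases h : ∃ r, key r = k
    · obtain ⟨r, hr⟩ := h
      have e : (Finset.univ.filter fun s : R => key s < k + 1) =
          insert r (Finset.univ.filter fun s : R => key s < k) := by
        ext s
        simp only [Finset.mem_filter, Finset.mem_univ, true_and, Finset.mem_insert]
        constructor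
        · intro hs
          rcases Nat.lt_succ_iff_lt_or_eq.1 hs with h1 | h1
          · right; exact h1
          · left; exact hk (h1.trans hr.symm)
        · rintro (rfl | h1)
          · omega
          · omega
      have hn : r ∉ (Finset.univ.filter fun s : R => key s < k) := by
        simp [hr]
      rw [e, Finset.prod_insert hn]
      have := hc r
      rw [hr] at this
      exact (Nat.mul_le_mul_left _ ih).trans this
    · have e : (Finset.univ.filter fun s : R => key s < k + 1) = (Finset.univ.filter fun s : R => key s < k) := by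
        ext s
        simp only [Finset.mem_filter, Finset.mem_univ, true_and]
        have : key s ≠ k := fun h' => h ⟨s, h'⟩
        omega
      rw [e]
      exact ih.trans (Nat.card_mono (Set.toFinite _) (Vk_mono (Nat.le_succ k)))

theorem not_dvd_index {K : Type*} [Group K] [Finite K] {S : Subgroup K} (hp : IsPGroup 2 S) {a b : ℕ}
    (hK : Nat.card K = 2 ^ a * b) (hb : ¬ 2 ∣ b) (hle : 2 ^ a ≤ Nat.card S) : ¬ 2 ∣ S.index := by
  obtain ⟨k, hk⟩ := IsPGroup.iff_card.1 hp
  have h1 := S.card_mul_index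
  rw [hK, hk] at h1
  rw [hk] at hle
  have h2 : a ≤ k := (Nat.pow_le_pow_iff_right (by norm_num)).1 hle
  intro h3
  have h4 : 2 ^ (a + 1) ∣ 2 ^ a * b := by
    rw [← h1]
    obtain ⟨j, hj⟩ := h3
    rw [hj]
    have : 2 ^ k * (2 * j) = 2 ^ (k + 1) * j := by ring
    rw [this]
    exact Dvd.dvd.mul_right (Nat.pow_dvd_pow 2 (by omega)) j
  rw [pow_succ] at h4
  exact hb (Nat.dvd_of_mul_dvd_mul_left (by positivity) h4)

variable {F : Type*} [Field F] {V : Type*} [AddCommGroup V] [Module F V] {H : HForm F V} {m : ℕ}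
  {Fr : Frame H (Fin m)} {K : Type*} [Group K] (M : Model Fr K)

/-- the type of the positive roots -/
abbrev RT (m : ℕ) : Type := {p : Fin m × Fin m // p ∈ (Finset.univ : Finset (Fin m)).offDiag} ⊕ (Fin m ⊕ Fin m)

/-- the pair of signed indices of a root of type I -/
def rI (p : Fin m × Fin m) : (Fin m × Bool) × (Fin m × Bool) :=
  if p.1 < p.2 then ((p.1, true), (p.2, true)) else ((p.2, true), (p.1, false))

theorem rI_spec {p : Fin m × Fin m} (h : p.1 ≠ p.2) :
    Ps (rI p).1 (rI p).2 ∧ pos (rI p).1 < pos (rI p).2 := by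
  have h1 := p.1.2
  have h2 := p.2.2
  unfold rI
  have h3 : (p.1 : ℕ) ≠ p.2 := fun e => h (Fin.ext e)
  split_ifs with hlt
  · have hlt' : (p.1 : ℕ) < p.2 := hlt
    refine ⟨⟨h, ?_⟩, ?_⟩ <;> simp only [pos] <;> simp <;> omega
  · have hlt' : ¬ (p.1 : ℕ) < p.2 := hlt
    refine ⟨⟨fun e => h e.symm, ?_⟩, ?_⟩ <;> simp only [pos] <;> simp <;> omega

theorem rI_inj {p q : Fin m × Fin m} (hp : p.1 ≠ p.2) (hq : q.1 ≠ q.2) (h1 : (rI p).1 = (rI q).1)
    (h2 : (rI p).2 = (rI q).2) : p = q := by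
  unfold rI at h1 h2
  split_ifs at h1 h2 with a b b <;> simp at h1 h2 <;> ext <;> simp [h1, h2]

/-- the keys of the positive roots -/
def rkey : RT m → ℕ
  | Sum.inl p => key m (pos (rI p.1).1) (pos (rI p.1).2)
  | Sum.inr (Sum.inl i) => key m (pos ((i, true) : Fin m × Bool)) m
  | Sum.inr (Sum.inr i) => key m (pos ((i, true) : Fin m × Bool)) (pos ((i, true) : Fin m × Bool))

theorem pos_true (i : Fin m) : pos ((i, true) : Fin m × Bool) = i := by simp [pos]

theorem rkey_inj : Function.Injective (rkey : RT m → ℕ) := by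
  have hm : m ≤ 2 * m := by omega
  rintro (⟨p, hp⟩ | i | i) (⟨q, hq⟩ | j | j) h
  · have hp' : p.1 ≠ p.2 := (Finset.mem_offDiag.1 hp).2.2
    have hq' : q.1 ≠ q.2 := (Finset.mem_offDiag.1 hq).2.2
    simp only [rkey] at h
    have s1 := rI_spec hp'
    have s2 := rI_spec hq'
    rcases key_inj (pos_le _) (pos_le _) (pos_le _) (pos_le _) h with ⟨h1, h2⟩ | ⟨h1, h2⟩
    · have := rI_inj hp' hq' (pos_inj h1) (pos_inj h2)
      subst this; rfl
    · omega
  · have hp' : p.1 ≠ p.2 := (Finset.mem_offDiag.1 hp).2.2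
    simp only [rkey] at h
    rcases key_inj (pos_le _) hm (pos_le _) (pos_le _) h with ⟨h1, h2⟩ | ⟨h1, h2⟩
    · exact absurd h2 (pos_ne _)
    · exact absurd h1 (pos_ne _)
  · have hp' : p.1 ≠ p.2 := (Finset.mem_offDiag.1 hp).2.2
    simp only [rkey] at h
    have s1 := rI_spec hp'
    rcases key_inj (pos_le _) (pos_le _) (pos_le _) (pos_le _) h with ⟨h1, h2⟩ | ⟨h1, h2⟩ <;> omega
  · have hq' : q.1 ≠ q.2 := (Finset.mem_offDiag.1 hq).2.2
    simp only [rkey] at h
    rcases key_inj hm (pos_le _) (pos_le _) (pos_le _) h with ⟨h1, h2⟩ | ⟨h1, h2⟩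
    · exact absurd h2.symm (pos_ne _)
    · exact absurd h2.symm (pos_ne _)
  · simp only [rkey] at h
    rcases key_inj hm hm (pos_le _) (pos_le _) h with ⟨h1, h2⟩ | ⟨h1, h2⟩
    · have := pos_inj h1
      simp only [Prod.mk.injEq, and_true] at this
      rw [this]
    · exact absurd h1 (pos_ne _)
  · simp only [rkey] at h
    rcases key_inj hm (pos_le _) (pos_le _) (pos_le _) h with ⟨h1, h2⟩ | ⟨h1, h2⟩
    · exact absurd h2.symm (pos_ne _)
    · exact absurd h2.symm (pos_ne _)
  · have hq' : q.1 ≠ q.2 := (Finset.mem_offDiag.1 hq).2.2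
    simp only [rkey] at h
    have s1 := rI_spec hq'
    rcases key_inj (pos_le _) (pos_le _) (pos_le _) (pos_le _) h with ⟨h1, h2⟩ | ⟨h1, h2⟩ <;> omega
  · simp only [rkey] at h
    rcases key_inj (pos_le _) hm (pos_le _) (pos_le _) h with ⟨h1, h2⟩ | ⟨h1, h2⟩
    · exact absurd h2 (pos_ne _)
    · exact absurd h1 (pos_ne _)
  · simp only [rkey] at h
    rcases key_inj (pos_le _) (pos_le _) (pos_le _) (pos_le _) h with ⟨h1, h2⟩ | ⟨h1, h2⟩
    · have := pos_inj h1
      simp only [Prod.mk.injEq, and_true] at this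
      rw [this]
    · have := pos_inj h1
      simp only [Prod.mk.injEq, and_true] at this
      rw [this]

theorem rkey_lt (r : RT m) : rkey r < (2 * m + 1) * (2 * m + 1) := by
  rcases r with ⟨p, hp⟩ | i | i
  · exact key_lt_bound (pos_le _) (pos_le _)
  · exact key_lt_bound (pos_le _) (by omega)
  · exact key_lt_bound (pos_le _) (pos_le _)

theorem card_le [Finite K] (nd : ∀ w ∈ Fr.V0, (∀ w' ∈ Fr.V0, H.h w w' = 0) → w = 0)
    (hex : ∀ w ∈ Fr.V0, ∃ c, Fr.ok w c) :
    Nat.card F ^ (m * m - m) * (Nat.card Fr.V0 ^ m * Nat.card {c : F // Fr.ok 0 c} ^ m) ≤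
      Nat.card (Vk (gens M) ((2 * m + 1) * (2 * m + 1))) := by
  classical
  let c : RT m → ℕ
    | Sum.inl p => Nat.card F
    | Sum.inr (Sum.inl i) => Nat.card Fr.V0
    | Sum.inr (Sum.inr i) => Nat.card {c : F // Fr.ok 0 c}
  have hc : ∀ r : RT m, c r * Nat.card (Vk (gens M) (rkey r)) ≤ Nat.card (Vk (gens M) (rkey r + 1)) := by
    rintro (⟨p, hp⟩ | i | i)
    · have hp' : p.1 ≠ p.2 := (Finset.mem_offDiag.1 hp).2.2
      have s1 := rI_spec hp'
      refine card_step (A := F) (fun t => M.X (rI p).1 (rI p).2 t) (fun t => X_mem_gens M s1.1 t) ?_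
      intro s t hst
      have e : (M.X (rI p).1 (rI p).2 s)⁻¹ * M.X (rI p).1 (rI p).2 t = M.X (rI p).1 (rI p).2 (t - s) := by
        rw [inv_mul_eq_iff_eq_mul, ← X_add]; congr 1; ring
      change (M.X (rI p).1 (rI p).2 s)⁻¹ * M.X (rI p).1 (rI p).2 t ∈ _ at hst
      rw [e] at hst
      exact (sub_eq_zero.1 (indep_X M s1.1 s1.2 hst)).symm
    · choose g hg using hex
      refine card_step (A := Fr.V0) (fun w => M.Z (i, true) ⟨w.1, g w.1 w.2, hg w.1 w.2⟩)
        (fun w => Z_mem_gens M rfl _) ?_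
      intro v w hvw
      change (M.Z (i, true) _)⁻¹ * M.Z (i, true) _ ∈ _ at hvw
      rw [← Z_inv, ← Z_mul] at hvw
      have := indep_Z M nd rfl hvw
      rw [Frame.Adm.mul_w, Frame.Adm.inv_w, neg_add_eq_zero] at this
      exact Subtype.ext this
    · refine card_step (A := {c : F // Fr.ok 0 c}) (fun c => M.Z (i, true) ⟨0, c.1, c.2⟩)
        (fun c => C_mem_gens M rfl _ rfl) ?_
      intro v w hvw
      change (M.Z (i, true) _)⁻¹ * M.Z (i, true) _ ∈ _ at hvw
      rw [← Z_inv, ← Z_mul] at hvw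
      have := indep_C M rfl (by simp) hvw
      simp only [Frame.Adm.mul_c, Frame.Adm.inv_c, Frame.Adm.inv_w, H.zero_left, mul_zero, sub_zero] at this
      rw [neg_add_eq_zero] at this
      exact Subtype.ext this
  have h1 := prod_le (gens := gens M) (rkey : RT m → ℕ) rkey_inj c hc ((2 * m + 1) * (2 * m + 1))
  have h2 : (Finset.univ.filter fun r : RT m => rkey r < (2 * m + 1) * (2 * m + 1)) = Finset.univ := by
    ext r; simp [rkey_lt]
  rw [h2, Fintype.prod_sum_type, Fintype.prod_sum_type] at h1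
  simp only [c, Finset.prod_const, Finset.card_univ, Fintype.card_fin] at h1
  have h3 : Fintype.card {p : Fin m × Fin m // p ∈ (Finset.univ : Finset (Fin m)).offDiag} = m * m - m := by
    rw [Fintype.card_coe, Finset.offDiag_card, Finset.card_univ, Fintype.card_fin]
  rwa [h3] at h1

end Cfsg.Agent.KFacts.Mult.WittTwo
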