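import Cfsg.Agent.KFacts.Mult.WittW
import Cfsg.Agent.Nodes.WittInst

/-!
# No double covers of the groups of a hyperbolic Witt frame (type `D_{n+2}`) in characteristic 2

`noDouble_D` : `Y` a group of isometries with the root group datum of type `D`;
`noDouble_POmegaPlus` : `PΩ⁺_{2m}(q)`, `m ≥ 4`, `q ≥ 4` even, has no perfect double cover.
-/

set_option autoImplicit false
set_option linter.unusedSectionVars false

namespace Cfsg.Agent.KFacts.Mult.WittD

open Subgroup Cfsg.Agent.KFacts.MulDef Cfsg.Agent.KFacts.Mult.WeightsTwo Cfsg.Agent.KFacts.Mult.RGDW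
  Cfsg.Agent.KFacts.Mult.RGDQ Cfsg.Agent.KFacts.Mult.RGDS Cfsg.Agent.KFacts.Mult.Num
  Cfsg.Agent.KFacts.Mult.WittT Cfsg.Agent.KFacts.Mult.WittW
open Cfsg.Agent.ChevalleyStructure.CoxeterGeom Cfsg.Agent.Tits.Roots
open Cfsg.Agent.Nodes.TypeC (wt wt_apply ng ng_ng ng_fst ng_snd wt_ng)
open Cfsg.Agent.Nodes.TypeD
open Cfsg.Agent.Nodes.Comb Cfsg.Agent.Nodes.Reps Cfsg.Agent.Nodes.WittRoot Cfsg.Agent.Nodes.BNOf
  Cfsg.Agent.Nodes.RGDLib
open Cfsg.Agent.Nodes.WittRGD (Tor mem_Tor not_prop b_ne_zero eq_or_ng)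
open Cfsg.Agent.TitsThree Cfsg.Agent.TitsThree.Siegel Cfsg.Agent.TitsThree.WittFrame Cfsg.Agent.TitsThree.WittWeyl
open scoped commutatorElement

variable {F : Type*} [Field F] {V : Type*} [AddCommGroup V] [Module F V] {H : HForm F V} {N : ℕ}
  {Fr : Frame H (Fin N)}

/-! ### Torus elements of type I -/

theorem eig_hX {x y : Fin N × Bool} (h : x.1 ≠ y.1) {t : F} (ht : t ≠ 0) (hσ : H.σ t = t) :
    Eig Fr (nX Fr x y t * (nX Fr x y 1)⁻¹)
      (fun z => if z = x ∨ z = y then t else if z = neg x ∨ z = neg y then t⁻¹ else 1) := by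
  have h3 := H.ε_ne
  have h4 := Fr.η_ne x
  have h5 := Fr.η_ne y
  have hinv : (nX Fr x y 1)⁻¹ * nX Fr x y 1 = 1 := inv_mul_cancel _
  have hi : ∀ v, (nX Fr x y 1)⁻¹ (nX Fr x y 1 v) = v := fun v => by
    rw [← mul_apply', hinv]; rfl
  have e1 : (nX Fr x y 1)⁻¹ (Fr.b x) = Fr.b (neg y) := by
    have := nX_apply_neg Fr h (one_ne_zero (α := F))
    rw [one_smul] at this
    rw [← this, hi]
  have e2 : (nX Fr x y 1)⁻¹ (Fr.b (neg y)) = -Fr.b x := by
    have := nX_apply_self Fr h (one_ne_zero (α := F))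
    rw [inv_one, one_smul] at this
    have h6 := hi (Fr.b x)
    rw [this, map_neg] at h6
    rw [← h6, _root_.neg_neg]
  have e3 : (nX Fr x y 1)⁻¹ (Fr.b y) = -((H.ε⁻¹ * Fr.η x * Fr.η y)⁻¹ • Fr.b (neg x)) := by
    have := nX_apply_neg' Fr h (one_ne_zero (α := F))
    rw [map_one, mul_one] at this
    have h6 := hi (Fr.b (neg x))
    rw [this, map_neg, map_smul] at h6
    rw [← h6, smul_neg, smul_smul, inv_mul_cancel₀ (by simp [*]), one_smul, _root_.neg_neg]
  have e4 : (nX Fr x y 1)⁻¹ (Fr.b (neg x)) = (H.ε⁻¹ * Fr.η x * Fr.η y) • Fr.b y := by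
    have := nX_apply_self' Fr h (one_ne_zero (α := F))
    rw [map_one, mul_one] at this
    have h6 := hi (Fr.b y)
    rw [this, map_smul] at h6
    rw [← h6, smul_smul, mul_inv_cancel₀ (by simp [*]), one_smul]
  have hne : ∀ {u v : Fin N × Bool}, u.1 ≠ v.1 → u ≠ v := fun h e => h (congrArg Prod.fst e)
  have hxy : x ≠ y := hne h
  have hnx : neg x ≠ x := (ne_neg_self x).symm
  have hny : neg y ≠ y := (ne_neg_self y).symm
  have hnxy : neg x ≠ y := hne h
  have hnyx : neg y ≠ x := hne (Ne.symm h)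
  refine ⟨HForm.IsIso.mul H (isIso_nX Fr _ _ _) (HForm.IsIso.inv H (isIso_nX Fr _ _ _)), ?_, ?_, ?_⟩
  · intro z
    rw [mul_apply']
    by_cases hz1 : z = x
    · rw [if_pos (Or.inl hz1), hz1, e1, nX_apply_neg Fr h ht]
    by_cases hz2 : z = y
    · rw [if_pos (Or.inr hz2), hz2, e3, map_neg, map_smul, nX_apply_neg' Fr h ht, smul_neg, _root_.neg_neg, smul_smul, hσ]
      congr 1
      field_simp
    rw [if_neg (by rintro (h6 | h6); exacts [hz1 h6, hz2 h6])]
    by_cases hz3 : z = neg x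
    · rw [if_pos (Or.inl hz3), hz3, e4, map_smul, nX_apply_self' Fr h ht, smul_smul, hσ]
      congr 1
      field_simp
    by_cases hz4 : z = neg y
    · rw [if_pos (Or.inr hz4), hz4, e2, map_neg, nX_apply_self Fr h ht, _root_.neg_neg]
    rw [if_neg (by rintro (h6 | h6); exacts [hz3 h6, hz4 h6]), one_smul]
    have h6 : z.1 ≠ x.1 := fun h7 => by
      rcases eq_or_ng h7 with h8 | h8
      · exact hz1 h8
      · exact hz3 h8
    have h7 : z.1 ≠ y.1 := fun h7 => by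
      rcases eq_or_ng h7 with h8 | h8
      · exact hz2 h8
      · exact hz4 h8
    have e5 : (nX Fr x y 1)⁻¹ (Fr.b z) = Fr.b z := by
      have := hi (Fr.b z)
      rwa [nX_apply_of_ne Fr h h6 h7] at this
    rw [e5, nX_apply_of_ne Fr h h6 h7]
  · intro z
    split_ifs
    · exact hσ
    · rw [map_inv₀, hσ]
    · exact map_one _
  · intro w hw
    have e5 : (nX Fr x y 1)⁻¹ w = w := by
      have := hi w
      rwa [nX_apply_V0 Fr h hw] at this
    rw [mul_apply', e5, nX_apply_V0 Fr h hw]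

/-! ### Separation for an arbitrary group containing the root elements -/

section Sep

variable {Y : Subgroup (V ≃ₗ[F] V)} (hY : ∀ a b t, Fr.X a b t ∈ Y) {T0 : Subgroup (V ≃ₗ[F] V)} {p : ℕ}

/-- The supply of torus elements. -/
def Sup (Fr : Frame H (Fin N)) (Y T0 : Subgroup (V ≃ₗ[F] V)) (p : ℕ) [Fact p.Prime] (l : F) : Prop :=
  ∀ (c : Fin N × Bool) (m : F), (m = l ∨ m = l⁻¹) → ∃ g, g ∈ TD Fr T0 p ∧ g ∈ Y ∧
    Eig Fr g (fun x => if x = c then m else if x = ng c then m⁻¹ else 1)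

variable [hpf : Fact p.Prime]

omit hpf in
theorem free_of_eig {g : V ≃ₗ[F] V} (hg2 : g ∈ Y) {m : Fin N × Bool → F}
    (hE : Eig Fr g m) {c d : Fin N × Bool} (hcd : c.1 ≠ d.1) (h2 : m c * m d ≠ 1) :
    ∀ v : Y, v ∈ (XG Fr c d).subgroupOf Y → (⟨g, hg2⟩ : Y) * v = v * ⟨g, hg2⟩ → v = 1 := by
  rintro ⟨x, hx⟩ hxz hc
  rw [Subgroup.mem_subgroupOf] at hxz
  have hc' : g * x = x * g := congrArg Subtype.val hc
  rw [← mul_inv_eq_iff_eq_mul] at hc'
  apply Subtype.ext
  show x = 1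
  obtain ⟨t, ht⟩ := hxz
  have ht' : x = Fr.X c d t := ht
  rw [ht', hE.conj_X hcd] at hc'
  have h3 := X_inj hcd hc'
  have h4 : t = 0 := by
    by_contra ht0
    exact h2 (mul_right_cancel₀ ht0 (h3.trans (one_mul t).symm))
  rw [ht', h4, Fr.X_zero]

theorem sep_XG {g : V ≃ₗ[F] V} (hg1 : g ∈ TD Fr T0 p) (hg2 : g ∈ Y) {m : Fin N × Bool → F} (hE : Eig Fr g m)
    {a b c d : Fin N × Bool} (hab : a.1 ≠ b.1) (hcd : c.1 ≠ d.1)
    (h1 : m a * m b = 1) (h2 : m c * m d ≠ 1) :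
    Sep ((TD Fr T0 p).subgroupOf Y) ((XG Fr a b).subgroupOf Y) ((XG Fr c d).subgroupOf Y) := by
  refine ⟨⟨g, hg2⟩, hg1, ?_, free_of_eig hg2 hE hcd h2⟩
  rintro ⟨x, hx⟩ hxz
  rw [Subgroup.mem_subgroupOf] at hxz
  apply Subtype.ext
  show g * x = x * g
  rw [← mul_inv_eq_iff_eq_mul]
  obtain ⟨t, ht⟩ := hxz
  have ht' : x = Fr.X a b t := ht
  rw [ht', hE.conj_X hab, h1, one_mul]

variable {l : F} (hS : Sup Fr Y T0 p l) (l0 : l ≠ 0) (l1 : l ≠ 1) (l2 : l * l ≠ 1)

include hS l0 l1 l2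

theorem sep_pairs {a b c d : Fin N × Bool} (hab : a.1 ≠ b.1) (hcd : c.1 ≠ d.1)
    (h1 : ¬ (c = a ∧ d = b)) (h2 : ¬ (c = b ∧ d = a)) (h3 : ¬ (c = ng a ∧ d = ng b)) (h4 : ¬ (c = ng b ∧ d = ng a)) :
    Sep ((TD Fr T0 p).subgroupOf Y) ((XG Fr a b).subgroupOf Y) ((XG Fr c d).subgroupOf Y) := by
  have hinv1 : l⁻¹ ≠ 1 := fun h => l1 (inv_eq_one.1 h)
  have hfst : ∀ {x y : Fin N × Bool}, x.1 ≠ y.1 → x ≠ y ∧ x ≠ ng y := fun h =>
    ⟨fun e => h (congrArg Prod.fst e), fun e => h (by rw [e, ng_fst])⟩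
  have hngself : ∀ x : Fin N × Bool, ng x ≠ x := fun x h => by
    have := congrArg Prod.snd h
    simp at this
  have one : ∀ e : Fin N × Bool, e.1 ≠ a.1 → e.1 ≠ b.1 →
      ((if c = e then l else if c = ng e then l⁻¹ else 1 : F) * (if d = e then l else if d = ng e then l⁻¹ else 1) ≠ 1) →
      Sep ((TD Fr T0 p).subgroupOf Y) ((XG Fr a b).subgroupOf Y) ((XG Fr c d).subgroupOf Y) := by
    intro e hea heb h5
    obtain ⟨g, hg1, hg2, hE⟩ := hS e l (Or.inl rfl)
    refine sep_XG hg1 hg2 hE hab hcd ?_ h5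
    have ha := hfst (Ne.symm hea)
    have hb := hfst (Ne.symm heb)
    rw [if_neg ha.1, if_neg ha.2, if_neg hb.1, if_neg hb.2, mul_one]
  by_cases hc : c.1 ≠ a.1 ∧ c.1 ≠ b.1
  · refine one c hc.1 hc.2 ?_
    rw [if_pos rfl, if_neg (hfst (Ne.symm hcd)).1, if_neg (hfst (Ne.symm hcd)).2, mul_one]
    exact l1
  by_cases hd : d.1 ≠ a.1 ∧ d.1 ≠ b.1
  · refine one d hd.1 hd.2 ?_
    rw [if_neg (hfst hcd).1, if_neg (hfst hcd).2, if_pos rfl, one_mul]
    exact l1
  obtain ⟨g, hg1, hg2, hE⟩ := hS a l (Or.inl rfl)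
  obtain ⟨k, hk1, hk2, hE'⟩ := hS b l⁻¹ (Or.inr rfl)
  have hmul := hE.mul hE'
  have hc' : c.1 = a.1 ∨ c.1 = b.1 := by
    by_contra hcon; push Not at hcon; exact hc hcon
  have hd' : d.1 = a.1 ∨ d.1 = b.1 := by
    by_contra hcon; push Not at hcon; exact hd hcon
  have hva : ∀ x : Fin N × Bool, x.1 = a.1 →
      ((if x = a then l else if x = ng a then l⁻¹ else 1 : F) * (if x = b then l⁻¹ else if x = ng b then l⁻¹⁻¹ else 1)) =
        if x = a then l else l⁻¹ := by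
    intro x hx
    have hxb : x.1 ≠ b.1 := by rw [hx]; exact hab
    rw [if_neg (hfst hxb).1, if_neg (hfst hxb).2, mul_one]
    rcases eq_or_ng hx with h | h
    · rw [if_pos h, if_pos h]
    · by_cases h' : x = a
      · rw [if_pos h', if_pos h']
      · rw [if_neg h', if_pos h, if_neg h']
  have hvb : ∀ x : Fin N × Bool, x.1 = b.1 →
      ((if x = a then l else if x = ng a then l⁻¹ else 1 : F) * (if x = b then l⁻¹ else if x = ng b then l⁻¹⁻¹ else 1)) =
        if x = b then l⁻¹ else l := by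
    intro x hx
    have hxa : x.1 ≠ a.1 := by rw [hx]; exact Ne.symm hab
    rw [if_neg (hfst hxa).1, if_neg (hfst hxa).2, one_mul, inv_inv]
    rcases eq_or_ng hx with h | h
    · rw [if_pos h, if_pos h]
    · by_cases h' : x = b
      · rw [if_pos h', if_pos h']
      · rw [if_neg h', if_pos h, if_neg h']
  have hii : l⁻¹ * l⁻¹ ≠ 1 := by
    intro h5
    apply l2
    have h6 : (l * l)⁻¹ = 1 := by rw [mul_inv]; exact h5
    exact inv_eq_one.1 h6
  refine sep_XG (mul_mem hg1 hk1) (mul_mem hg2 hk2) hmul hab hcd ?_ ?_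
  · have e1 := hva a rfl
    have e2 := hvb b rfl
    rw [if_pos rfl] at e1 e2
    show _ * _ = (1 : F)
    rw [if_pos rfl, if_pos rfl]
    rw [if_pos rfl] at e1 e2
    simp only [e1, e2, mul_inv_cancel₀ l0]
  · rcases hc' with hc' | hc'
    · have hdb : d.1 = b.1 := by
        rcases hd' with h | h
        · exact absurd (hc'.trans h.symm) hcd
        · exact h
      show (_ * _) * (_ * _) ≠ (1 : F)
      rw [hva c hc', hvb d hdb]
      rcases eq_or_ng hc' with h5 | h5 <;> rcases eq_or_ng hdb with h6 | h6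
      · exact absurd ⟨h5, h6⟩ h1
      · rw [if_pos h5, if_neg (by rw [h6]; exact hngself b)]
        exact l2
      · rw [if_neg (by rw [h5]; exact hngself a), if_pos h6]
        exact hii
      · exact absurd ⟨h5, h6⟩ h3
    · have hda : d.1 = a.1 := by
        rcases hd' with h | h
        · exact h
        · exact absurd (hc'.trans h.symm) hcd
      show (_ * _) * (_ * _) ≠ (1 : F)
      rw [hvb c hc', hva d hda]
      rcases eq_or_ng hc' with h5 | h5 <;> rcases eq_or_ng hda with h6 | h6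
      · exact absurd ⟨h5, h6⟩ h2
      · rw [if_pos h5, if_neg (by rw [h6]; exact hngself a)]
        exact hii
      · rw [if_neg (by rw [h5]; exact hngself b), if_pos h6]
        exact l2
      · exact absurd ⟨h5, h6⟩ h4

omit l0 l2 in
theorem free_XG {c d : Fin N × Bool} (hcd : c.1 ≠ d.1) :
    Cfsg.Agent.KFacts.Mult.RGDW.Free ((TD Fr T0 p).subgroupOf Y) ((XG Fr c d).subgroupOf Y) := by
  obtain ⟨g, hg1, hg2, hE⟩ := hS c l (Or.inl rfl)
  refine ⟨⟨g, hg2⟩, hg1, free_of_eig hg2 hE hcd ?_⟩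
  have h2 : d ≠ c := fun h => hcd (by rw [h])
  have h3 : d ≠ ng c := fun h => hcd (by rw [h, ng_fst])
  rw [if_pos rfl, if_neg h2, if_neg h3, mul_one]
  exact l1

end Sep

/-- commutative preimage of a type I root group from a third index -/
theorem abPre_three {Y : Subgroup (V ≃ₗ[F] V)} (hY : ∀ a b t, Fr.X a b t ∈ Y) {a b c : Fin N × Bool}
    (hac : a.1 ≠ c.1) (hcb : c.1 ≠ b.1) (hab : a.1 ≠ b.1) : AbPre ((XG Fr a b).subgroupOf Y) := by
  apply AbPre.of_le_commutator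
  rintro ⟨g, hg⟩ hgz
  rw [Subgroup.mem_subgroupOf] at hgz
  obtain ⟨t, ht⟩ := hgz
  have ht' : g = Fr.X a b t := ht
  subst ht'
  have e0 := Fr.conj_X_X hac hcb hab t 1
  have e1 : (⟨Fr.X a b t, hg⟩ : Y) =
      ⁅(⟨Fr.X a c t, hY _ _ _⟩ : Y), (⟨Fr.X (neg c) b 1, hY _ _ _⟩ : Y)⁆ := by
    apply Subtype.ext
    show Fr.X a b t = ⁅Fr.X a c t, Fr.X (neg c) b 1⁆
    rw [commutatorElement_def, e0, mul_one, mul_inv_cancel_right]
  rw [e1]
  have hne : ∀ {x y : Fin N × Bool}, x.1 ≠ y.1 → y ≠ neg x := fun h => Frame.ne_neg h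
  have hself : ∀ x : Fin N × Bool, x ≠ neg x := ne_neg_self
  refine Subgroup.commutator_mem_commutator ?_ ?_
  · rw [Subgroup.mem_centralizer_iff]
    rintro ⟨x, hx⟩ hxz
    rw [SetLike.mem_coe, Subgroup.mem_subgroupOf] at hxz
    obtain ⟨s, hs⟩ := hxz
    have hs' : x = Fr.X a b s := hs
    subst hs'
    apply Subtype.ext
    exact (Fr.commute_XX (x := a) (y := b) (z := a) (u := c) (hself a) (hne hab.symm) (hne hac) (hne hcb.symm) s t).eq
  · rw [Subgroup.mem_centralizer_iff]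
    rintro ⟨x, hx⟩ hxz
    rw [SetLike.mem_coe, Subgroup.mem_subgroupOf] at hxz
    obtain ⟨s, hs⟩ := hxz
    have hs' : x = Fr.X a b s := hs
    subst hs'
    apply Subtype.ext
    refine (Fr.commute_XX (x := a) (y := b) (z := neg c) (u := b) ?_ ?_ (hne hab) (hself b) s 1).eq
    · exact hne (by rw [neg_fst]; exact hac)
    · exact hne (by rw [neg_fst]; exact hcb.symm)

/-! ### The main theorem -/

section Main

open Cfsg.Agent.Nodes.WittRGDD

variable {n : ℕ} {Fr : Frame H (Fin (n + 2))} {G0 : Subgroup (V ≃ₗ[F] V)} (hA : Amb Fr G0) {p : ℕ}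
  [hpf : Fact p.Prime] {W : Type*} [Group W] (cs : CoxeterSystem (M n) W)

include hA

/-- The supply of torus elements of `G0`. -/
theorem sup_of_amb {l : F} (hodd : Odd p) (hl : l ^ p = 1) (hσ : H.σ l = l) :
    Sup Fr G0 (Tor Fr G0) p l := by
  have key : ∀ (c : Fin (n + 2) × Bool) (m : F), m ^ p = 1 → H.σ m = m → ∃ g, g ∈ TD Fr (Tor Fr G0) p ∧ g ∈ G0 ∧
      Eig Fr g (fun x => if x = c then m else if x = ng c then m⁻¹ else 1) := by
    intro c m hm hσ
    have hm0 : m ≠ 0 := by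
      rintro rfl
      rw [zero_pow hpf.out.ne_zero] at hm
      exact zero_ne_one hm
    obtain ⟨k, hk⟩ := hodd
    have hσt : H.σ (m ^ (k + 1)) = m ^ (k + 1) := by rw [map_pow, hσ]
    have ht : m ^ (k + 1) * m ^ (k + 1) = m := by
      rw [← pow_add]
      have e : k + 1 + (k + 1) = p + 1 := by omega
      rw [e, pow_succ, hm, one_mul]
    set t := m ^ (k + 1) with htdef
    have ht0 : t ≠ 0 := pow_ne_zero _ hm0
    -- another index
    obtain ⟨y, hy⟩ : ∃ y : Fin (n + 2) × Bool, c.1 ≠ y.1 := by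
      by_cases h : c.1 = 0
      · exact ⟨(1, true), by rw [h]; simp⟩
      · exact ⟨(0, true), h⟩
    have E1 := eig_hX (Fr := Fr) hy ht0 hσt
    have E2 := eig_hX (Fr := Fr) (x := c) (y := neg y) hy ht0 hσt
    have hne : ∀ {u v : Fin (n + 2) × Bool}, u.1 ≠ v.1 → u ≠ v := fun h e => h (congrArg Prod.fst e)
    have hcy : c ≠ y := hne hy
    have hcny : c ≠ neg y := hne hy
    have hncy : neg c ≠ y := hne hy
    have hncny : neg c ≠ neg y := hne hy
    have hnc : neg c ≠ c := (ne_neg_self c).symm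
    have hny : neg y ≠ y := (ne_neg_self y).symm
    have E3 := E1.mul E2
    have hval : (fun z => (if z = c ∨ z = y then t else if z = neg c ∨ z = neg y then t⁻¹ else 1) *
        (if z = c ∨ z = neg y then t else if z = neg c ∨ z = neg (neg y) then t⁻¹ else 1)) =
        fun x => if x = c then m else if x = ng c then m⁻¹ else 1 := by
      funext z
      have hnn : neg (neg y) = y := WittFrame.neg_neg y
      rw [hnn]
      by_cases h1 : z = c
      · subst h1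
        rw [if_pos (Or.inl rfl), if_pos (Or.inl rfl), if_pos rfl, ht]
      by_cases h2 : z = neg c
      · subst h2
        rw [if_neg (by rintro (h | h); exacts [hnc h, hncy h]), if_pos (Or.inl rfl),
          if_neg (by rintro (h | h); exacts [hnc h, hncny h]), if_pos (Or.inl rfl), if_neg hnc,
          if_pos (show neg c = ng c from rfl), ← mul_inv, ht]
      rw [if_neg h1, if_neg (show z ≠ ng c from h2)]
      by_cases h3 : z = y
      · subst h3
        rw [if_pos (Or.inr rfl), if_neg (by rintro (h | h); exacts [h1 h, hny h.symm]), if_pos (Or.inr rfl),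
          mul_inv_cancel₀ ht0]
      by_cases h4 : z = neg y
      · subst h4
        rw [if_neg (by rintro (h | h); exacts [h1 h, h3 h]), if_pos (Or.inr rfl), if_pos (Or.inr rfl),
          inv_mul_cancel₀ ht0]
      rw [if_neg (by rintro (h | h); exacts [h1 h, h3 h]), if_neg (by rintro (h | h); exacts [h2 h, h4 h]),
        if_neg (by rintro (h | h); exacts [h1 h, h4 h]), if_neg (by rintro (h | h); exacts [h2 h, h3 h]), one_mul]
    rw [hval] at E3
    have hG : nX Fr c y t * (nX Fr c y 1)⁻¹ * (nX Fr c (neg y) t * (nX Fr c (neg y) 1)⁻¹) ∈ G0 :=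
      mul_mem (mul_mem (nX_mem hA _ _ _) (inv_mem (nX_mem hA _ _ _)))
        (mul_mem (nX_mem hA _ _ _) (inv_mem (nX_mem hA _ _ _)))
    have hmon : ∀ x, (if x = c then m else if x = ng c then m⁻¹ else 1) ≠ (0 : F) := by
      intro x
      split_ifs
      · exact hm0
      · exact inv_ne_zero hm0
      · exact one_ne_zero
    refine ⟨_, ⟨⟨hG, fun x => ⟨_, hmon x, E3.ap x⟩⟩, fun x => ⟨_, ?_, E3.fix x, E3.ap x⟩, E3.V0⟩, hG, E3⟩
    split_ifs
    · exact hm
    · rw [inv_pow, hm, inv_one]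
    · exact one_pow _
  intro c m hm
  rcases hm with rfl | rfl
  · exact key c _ hl hσ
  · exact key c _ (by rw [inv_pow, hl, inv_one]) (by rw [map_inv₀, hσ])

theorem nn_conj_TD [Finite V] (i : Fin (n + 2)) {g : V ≃ₗ[F] V} (hg : g ∈ TD Fr (Tor Fr G0) p) :
    nn Fr i * g * (nn Fr i)⁻¹ ∈ TD Fr (Tor Fr G0) p := by
  obtain ⟨h1, h2, h3⟩ := hg
  have hm := mono_nn (Fr := Fr) i
  have hinv : (nn Fr i)⁻¹ * nn Fr i = 1 := inv_mul_cancel _
  refine ⟨(Subgroup.mem_normalizer_iff.1 ((nsys hA).norm i) g).1 h1, fun x => ?_, fun w hw => ?_⟩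
  · obtain ⟨m, hm0, em⟩ := hm (Cfsg.Agent.Nodes.TypeD.sg i x)
    rw [Cfsg.Agent.Nodes.TypeD.sg_sg] at em
    obtain ⟨l, hl, hl', e⟩ := h2 (Cfsg.Agent.Nodes.TypeD.sg i x)
    refine ⟨l, hl, hl', ?_⟩
    have e1 : (nn Fr i)⁻¹ (Fr.b x) = m⁻¹ • Fr.b (Cfsg.Agent.Nodes.TypeD.sg i x) := by
      have e2 : Fr.b x = m⁻¹ • nn Fr i (Fr.b (Cfsg.Agent.Nodes.TypeD.sg i x)) := by
        rw [em, smul_smul, inv_mul_cancel₀ hm0, one_smul]
      rw [e2, map_smul, ← mul_apply', hinv]; rfl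
    rw [mul_apply', mul_apply', e1, map_smul, e, map_smul, map_smul, em, smul_smul, smul_smul]
    congr 1
    field_simp
  · have h4 : (nn Fr i)⁻¹ w = w := by
      have h5 : nn Fr i w = w := nX_apply_V0 Fr (ok_nx i) hw 1
      conv_lhs => rw [← h5]
      rw [← mul_apply', hinv]; rfl
    rw [mul_apply', mul_apply', h4, h3 w hw]
    exact nX_apply_V0 Fr (ok_nx i) hw 1

variable [Finite V] [CharP F 2] (h0 : ∀ p : Fr.Adm, p = 1)

include h0

omit hpf in
theorem rgd_G0 : RGD cs (isCartan n) 2 ((Tor Fr G0).subgroupOf G0) (fun i => (⟨nn Fr i, nn_mem hA i⟩ : G0))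
    (fun x => (Cfsg.Agent.Nodes.WittRGDD.rg Fr x).subgroupOf G0) := by
  have : Fact (Nat.Prime 2) := ⟨Nat.prime_two⟩
  exact rgd_restrict (Cfsg.Agent.Nodes.WittAll.rgdD hA h0 cs) G0
    (fun x _ => iSup_le fun q => by rintro _ ⟨t, rfl⟩; exact hA.X_mem _ _ _) fun i => nn_mem hA i

omit [CharP F 2] h0 in
theorem nn_mem_normalizer (i : Fin (n + 2)) :
    (⟨nn Fr i, nn_mem hA i⟩ : G0) ∈
      Subgroup.normalizer (((TD Fr (Tor Fr G0) p).subgroupOf G0 : Subgroup G0) : Set G0) := by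
  have : Finite (V ≃ₗ[F] V) := Finite.of_injective (fun g : V ≃ₗ[F] V => (g : V → V)) DFunLike.coe_injective
  refine mem_normalizer_of_le ?_
  rintro ⟨g, hg⟩ hgT
  exact nn_conj_TD hA i hgT

omit [CharP F 2] [Finite V] h0 in
theorem isPGroup_TD : IsPGroup p ↥((TD Fr (Tor Fr G0) p).subgroupOf G0) := by
  rintro ⟨⟨g, hg⟩, hgT⟩
  refine ⟨1, Subtype.ext (Subtype.ext ?_)⟩
  show g ^ p ^ 1 = 1
  rw [pow_one]
  exact pow_eq_one_of_mem hA.V0 hgT

/-- **No double covers**, type `D_{n+2}`, `n ≥ 1`. -/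
theorem noDouble_D (hn : 1 ≤ n) (hG1 : G1 cs (isCartan n) (fun x => (Cfsg.Agent.Nodes.WittRGDD.rg Fr x).subgroupOf G0) = ⊤) (hodd : Odd p)
    {l : F} (l0 : l ≠ 0) (hσ : H.σ l = l) (ord : orderOf l = p) {K : Type*} [Group K] (f : G0 →* K)
    (hf : Function.Surjective f) (hker : f.ker ≤ center G0) : NoDouble K := by
  have : Finite (V ≃ₗ[F] V) := Finite.of_injective (fun g : V ≃ₗ[F] V => (g : V → V)) DFunLike.coe_injective
  have : Finite W := Cfsg.Agent.Nodes.TypeD.finite_W cs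
  have hl : l ^ p = 1 := by rw [← ord, pow_orderOf_eq_one]
  have l1 : l ≠ 1 := by
    rintro rfl
    rw [orderOf_one] at ord
    exact hpf.out.one_lt.ne ord
  have l2 : l * l ≠ 1 := by
    intro h1
    have h2 : l ^ (2 : ℤ) = 1 := by rw [zpow_ofNat, pow_two, h1]
    have h3 := Int.le_of_dvd (by norm_num) ((zpow_eq_one_iff l0 ord 2).1 h2)
    have h4 := hpf.out.two_le
    obtain ⟨k, hk⟩ := hodd
    omega
  have hS := sup_of_amb hA hodd hl hσ
  have hfree : ∀ x, IsRoot cs (isCartan n) x →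
      Cfsg.Agent.KFacts.Mult.RGDW.Free ((TD Fr (Tor Fr G0) p).subgroupOf G0) ((Cfsg.Agent.Nodes.WittRGDD.rg Fr x).subgroupOf G0) := by
    intro x hx
    obtain ⟨c, d, hcd, e⟩ := Cfsg.Agent.Nodes.TypeD.exists_of_isRoot cs hx
    rw [rg_eq Fr hcd e]
    exact free_XG hS l1 hcd
  have hTT : (TD Fr (Tor Fr G0) p).subgroupOf G0 ≤ (Tor Fr G0).subgroupOf G0 := fun _ hg => hg.1
  refine noDouble_quot (rgd_G0 hA cs h0) hG1 hTT hfree ?_ f hf hker
  refine noDouble_of_spl (rgd_G0 hA cs h0) (GG_eq_top_of_G1 hG1) hodd (T' := (TD Fr (Tor Fr G0) p).subgroupOf G0)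
    hTT (isPGroup_TD hA) (nn_mem_normalizer hA) ?_ (fun i => hfree _ (isRoot_sr cs _ i)) ?_
  · intro i y hy h1 h2
    obtain ⟨c, d, hcd, e⟩ := Cfsg.Agent.Nodes.TypeD.exists_of_isRoot cs hy
    rw [rg_sr, rg_eq Fr hcd e]
    have e1 : ee (sr i : Fin (n + 2) → ℤ) = wt (i, true) + wt (nx i) := Cfsg.Agent.Nodes.TypeD.ee_sr i
    refine sep_pairs hS l0 l1 l2 (ok_nx i) hcd ?_ ?_ ?_ ?_
    · rintro ⟨rfl, rfl⟩
      exact h1 (Cfsg.Agent.Nodes.TypeD.ee_injective (e.trans e1.symm))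
    · rintro ⟨rfl, rfl⟩
      exact h1 (Cfsg.Agent.Nodes.TypeD.ee_injective (e.trans (by rw [e1, add_comm (wt (nx i)) (wt (i, true))])))
    · rintro ⟨rfl, rfl⟩
      exact h2 (Cfsg.Agent.Nodes.TypeD.ee_injective (e.trans (ee_neg_sr i).symm))
    · rintro ⟨rfl, rfl⟩
      exact h2 (Cfsg.Agent.Nodes.TypeD.ee_injective (e.trans (by rw [ee_neg_sr i, add_comm (wt (ng (nx i))) (wt (ng (i, true)))])))
  · intro i
    have hok : ((i, true) : Fin (n + 2) × Bool).1 ≠ (nx i).1 := ok_nx i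
    -- a third index
    obtain ⟨c, hc1, hc2⟩ : ∃ c : Fin (n + 2) × Bool, (i, true).1 ≠ c.1 ∧ c.1 ≠ (nx i).1 := by
      have h3 : ∃ k : Fin (n + 2), k ∉ ({i, (nx i).1} : Finset (Fin (n + 2))) := by
        by_contra hcon
        push Not at hcon
        have h4 : (Finset.univ : Finset (Fin (n + 2))) ⊆ {i, (nx i).1} := fun k _ => hcon k
        have h5 := Finset.card_le_card h4
        have h6 : ({i, (nx i).1} : Finset (Fin (n + 2))).card ≤ 2 := Finset.card_le_two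
        rw [Finset.card_univ, Fintype.card_fin] at h5
        omega
      obtain ⟨k, hk⟩ := h3
      simp only [Finset.mem_insert, Finset.mem_singleton, not_or] at hk
      exact ⟨(k, true), fun h => hk.1 h.symm, hk.2⟩
    refine spl_of_abPre (rgd_G0 hA cs h0) hodd hTT (isPGroup_TD hA) (hfree _ (isRoot_sr cs _ i)) ?_
    rw [rg_sr]
    exact abPre_three hA.X_mem hc1 hc2 hok

end Main

/-! ### `PΩ⁺` -/

section Plus

open Cfsg.Agent.Nodes.WittInst Cfsg.Agent.TitsThree.WBridge Cfsg.Agent.LieClassical Cfsg.Agent.LieClassical.OrthCore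
  Cfsg.Agent.LieClassical.OrthTrans Cfsg.Agent.LieClassical.OrthSimple Cfsg.Agent.LieClassical.OrthFinite
  Cfsg.Agent.LieClassical.OrthForms Cfsg.Agent.TitsThree.KSideO

/-- **`PΩ⁺_{2m}(q)`, `m ≥ 3`, `q ≥ 4` even, has no perfect double cover.** -/
theorem noDouble_POmegaPlus {F : Type*} [Field F] [Finite F] [CharP F 2] (hq : 2 < Nat.card F) (n : ℕ) :
    NoDouble (Cfsg.POmega F (Cfsg.quadFormPlus (n + 3) F)) := by
  obtain ⟨p, hpf, l, hodd, hl0, hord⟩ := exists_odd_prime (K := F) hq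
  rw [← coe_plusForm]
  have hG : Good (plusForm (n + 3) F) := by
    apply good_of_finite (nondeg_plusForm (n + 3) F)
    rw [Module.finrank_fintype_fun_eq_card, Fintype.card_sum, Fintype.card_fin]
    omega
  have hG1 := G1D_eq_top (wplus (n + 3) F) (MonoidHom.id (E (plusForm (n + 3) F))) (fun x => ⟨x, rfl⟩) (adm_plus _)
    (M (n + 1)).toCoxeterSystem
  have e : XD (wplus (n + 3) F) (MonoidHom.id (E (plusForm (n + 3) F))) =
      fun x => (Cfsg.Agent.Nodes.WittRGDD.rg (toFrame (wplus (n + 3) F)) x).subgroupOf (E (plusForm (n + 3) F)) := by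
    funext x
    exact Subgroup.map_id _
  rw [e] at hG1
  exact noDouble_D (amb_plus (n + 3)) (M (n + 1)).toCoxeterSystem (adm_plus _) (by omega) hG1 hodd hl0 rfl hord
    (toPOmega hG) (toPOmega_surjective hG) (ker_toPOmega hG)

end Plus

end Cfsg.Agent.KFacts.Mult.WittD
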