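import Cfsg.Agent.KFacts.Mult.RGDQ
import Cfsg.Agent.Nodes.WittRGD

/-!
# The root group datum of a Witt frame, characteristic 2, with a prescribed torus

`TorT Fr p0 T0`: `T0` is a group of good isometries fixing the lines of the frame, normalised by the Weyl
elements, containing the rank one tori and the Coxeter relations, of odd order.
`rgdT`: the root group datum. `torT_of_amb`: the torus of `Nodes.WittRGD` has these properties.
-/

set_option autoImplicit false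
set_option linter.unusedSectionVars false

namespace Cfsg.Agent.KFacts.Mult.WittT

open Cfsg.Agent.ChevalleyStructure.CoxeterGeom Cfsg.Agent.Tits.Roots Cfsg.Agent.Nodes.TypeC
open Cfsg.Agent.Nodes.Comb Cfsg.Agent.Nodes.Reps Cfsg.Agent.Nodes.WittRoot Cfsg.Agent.Nodes.BNOf
  Cfsg.Agent.Nodes.WittRGD
open Cfsg.Agent.TitsThree Cfsg.Agent.TitsThree.Siegel Cfsg.Agent.TitsThree.WittFrame Cfsg.Agent.TitsThree.WittWeyl
open scoped commutatorElement

variable {F : Type*} [Field F] {V : Type*} [AddCommGroup V] [Module F V] {H : HForm F V} {n : ℕ}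
  (Fr : Frame H (Fin n))

/-- An isometry preserving the admissible pairs. -/
def Good (g : V ≃ₗ[F] V) : Prop := H.IsIso g ∧ ∀ p : Fr.Adm, ∃ q : Fr.Adm, g p.w = q.w ∧ p.c = q.c

variable {Fr}

theorem Good.mul {g k : V ≃ₗ[F] V} (hg : Good Fr g) (hk : Good Fr k) : Good Fr (g * k) := by
  refine ⟨HForm.IsIso.mul H hg.1 hk.1, fun p => ?_⟩
  obtain ⟨q, h1, h2⟩ := hk.2 p
  obtain ⟨r, h3, h4⟩ := hg.2 q
  exact ⟨r, by rw [mul_apply', h1, h3], by rw [h2, h4]⟩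

theorem Good.one : Good Fr (1 : V ≃ₗ[F] V) := ⟨fun _ _ => rfl, fun p => ⟨p, rfl, rfl⟩⟩

theorem Good.pow {g : V ≃ₗ[F] V} (hg : Good Fr g) (k : ℕ) : Good Fr (g ^ k) := by
  induction k with
  | zero => rw [pow_zero]; exact Good.one
  | succ k ih => rw [pow_succ]; exact ih.mul hg

theorem Good.inv [Finite V] {g : V ≃ₗ[F] V} (hg : Good Fr g) : Good Fr g⁻¹ := by
  have : Finite (V ≃ₗ[F] V) := Finite.of_injective (fun g : V ≃ₗ[F] V => (g : V → V)) DFunLike.coe_injective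
  have h1 : g⁻¹ = g ^ (orderOf g - 1) := by
    have h2 := orderOf_pos g
    rw [inv_eq_iff_mul_eq_one, ← pow_succ']
    have : orderOf g - 1 + 1 = orderOf g := by omega
    rw [this, pow_orderOf_eq_one]
  rw [h1]
  exact hg.pow _

theorem good_nX {x y : Fin n × Bool} (h : x.1 ≠ y.1) (t : F) : Good Fr (nX Fr x y t) :=
  ⟨isIso_nX Fr x y t, fun p => ⟨p, nX_apply_V0 Fr h (Fr.ok_mem p.ok) t, rfl⟩⟩

theorem good_nZ (x : Fin n × Bool) {p : Fr.Adm} (hp : p.c ≠ 0) : Good Fr (nZ Fr x p) :=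
  ⟨isIso_nZ Fr x p, fun q => ⟨refl Fr p hp q, nZ_w Fr x p hp q, rfl⟩⟩

theorem nx_ne {i : Fin n} (hi : (i : ℕ) + 1 < n) : ((i, true) : Fin n × Bool).1 ≠ (nx i).1 := by
  unfold nx; rw [dif_pos hi]; simp [Fin.ext_iff]

theorem good_nn {p0 : Fr.Adm} (hp0 : p0.c ≠ 0) (i : Fin n) : Good Fr (nn Fr p0 i) := by
  unfold nn
  split_ifs with h
  · exact good_nX (nx_ne h) 1
  · exact good_nZ _ hp0

theorem Good.conj_PG {g : V ≃ₗ[F] V} (hg : Good Fr g) {π : Fin n × Bool → Fin n × Bool} (hm : Mono Fr g π)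
    {a b : Fin n × Bool} (hab : Ok a b) (hab' : Ok (π a) (π b))
    (hne : a.1 ≠ b.1 → (π a).1 ≠ (π b).1) : cj g (PG Fr a b) ≤ PG Fr (π a) (π b) := by
  rintro u hu
  rw [mem_cj] at hu
  have e0 : u = g * (g⁻¹ * u * g) * g⁻¹ := by group
  rcases hab with h | rfl
  · rw [PG_ne Fr h] at hu
    obtain ⟨t, ht⟩ := hu
    obtain ⟨l, -, hl⟩ := hm a
    obtain ⟨m, -, hm'⟩ := hm b
    rw [e0, ht, conj_X Fr hg.1 h (hne h) hl hm', PG_ne Fr (hne h)]
    exact ⟨_, rfl⟩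
  · rw [PG_self] at hu ⊢
    obtain ⟨p, hp⟩ := hu
    obtain ⟨l, -, hl⟩ := hm a
    obtain ⟨q, hq, hq'⟩ := hg.2 p
    rw [e0, hp, conj_Z Fr hg.1 hl p q hq hq']
    exact ⟨_, rfl⟩

theorem Good.cj_sg [Finite V] {g : V ≃ₗ[F] V} (hg : Good Fr g) {i : Fin n} (hm : Mono Fr g (sg i))
    {a b : Fin n × Bool} (hab : Ok a b) : cj g (PG Fr a b) = PG Fr (sg i a) (sg i b) := by
  have hm' : Mono Fr g⁻¹ (sg i) := hm.inv (sg_sg i)
  apply le_antisymm
  · exact hg.conj_PG hm hab (hab.sg i) fun h h' => h ((sg_fst_eq i).1 h')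
  · have h1 := hg.inv.conj_PG hm' (hab.sg i) ((hab.sg i).sg i) fun h h' => h ((sg_fst_eq i).1 h')
    rw [sg_sg, sg_sg] at h1
    have h2 := cj_mono g h1
    rwa [cj_cj_inv] at h2

theorem Good.cj_id [Finite V] {g : V ≃ₗ[F] V} (hg : Good Fr g) (hm : Mono Fr g id) {a b : Fin n × Bool}
    (hab : Ok a b) : cj g (PG Fr a b) = PG Fr a b := by
  have hm' : Mono Fr g⁻¹ id := hm.inv fun _ => rfl
  apply le_antisymm
  · exact hg.conj_PG hm hab hab fun h => h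
  · have h1 := hg.inv.conj_PG hm' hab hab fun h => h
    have h2 := cj_mono g h1
    rwa [cj_cj_inv] at h2

variable (Fr)

/-- A torus. -/
structure TorT (p0 : Fr.Adm) (T0 : Subgroup (V ≃ₗ[F] V)) : Prop where
  good : ∀ g ∈ T0, Good Fr g
  mono : ∀ g ∈ T0, Mono Fr g id
  norm : ∀ i, ∀ g ∈ T0, nn Fr p0 i * g * (nn Fr p0 i)⁻¹ ∈ T0
  rel : ∀ i j, (nn Fr p0 i * nn Fr p0 j) ^ CoxeterMatrix.B n i j ∈ T0
  qX : ∀ i : Fin n, (i : ℕ) + 1 < n → ∀ t : F, t ≠ 0 →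
    nX Fr (i, true) (nx i) t * (nX Fr (i, true) (nx i) 1)⁻¹ ∈ T0
  qZ : ∀ i : Fin n, ∀ p q : Fr.Adm, p.c ≠ 0 → q.c ≠ 0 → nZ Fr (i, true) p * (nZ Fr (i, true) q)⁻¹ ∈ T0
  cop : (Nat.card T0).Coprime 2

variable {Fr} {p0 : Fr.Adm} {T0 : Subgroup (V ≃ₗ[F] V)}

theorem TorT.nsys [Finite V] (hT : TorT Fr p0 T0) : NSys (CoxeterMatrix.B n) T0 (nn Fr p0) where
  norm i := by
    have : Finite (V ≃ₗ[F] V) := Finite.of_injective (fun g : V ≃ₗ[F] V => (g : V → V)) DFunLike.coe_injective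
    rw [mem_normalizer_iff_cj]
    have h1 : cj (nn Fr p0 i) T0 ≤ T0 := by
      rintro u hu
      rw [mem_cj] at hu
      have e0 : u = nn Fr p0 i * ((nn Fr p0 i)⁻¹ * u * nn Fr p0 i) * (nn Fr p0 i)⁻¹ := by group
      rw [e0]
      exact hT.norm i _ hu
    refine Subgroup.eq_of_le_of_card_ge h1 ?_
    have h2 : Nat.card T0 = Nat.card (cj (nn Fr p0 i) T0) :=
      Nat.card_congr (T0.equivMapOfInjective _ (MulAut.conj (nn Fr p0 i)).injective).toEquiv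
    exact h2.le
  rel i j := hT.rel i j

theorem rk1T (hT : TorT Fr p0 T0) (haniso : ∀ w, Fr.ok w 0 → w = 0) (hp0 : p0.c ≠ 0) (i : Fin n)
    {u : V ≃ₗ[F] V} (hu : u ∈ rg Fr (-sr i)) (hne : u ≠ 1) :
    ∃ a ∈ rg Fr (sr i), ∃ t ∈ T0, ∃ b ∈ rg Fr (sr i), u = a * t * nn Fr p0 i * b := by
  rw [rg_neg_sr] at hu
  rw [rg_sr]
  by_cases hi : (i : ℕ) + 1 < n
  · have hnx : nx i = (⟨i + 1, hi⟩, false) := by unfold nx; rw [dif_pos hi]
    have hne' : ((i, true) : Fin n × Bool).1 ≠ (nx i).1 := nx_ne hi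
    rw [PG_ne Fr (a := ng (i, true)) (b := ng (nx i)) hne', XG_swap Fr (a := ng (i, true)) (b := ng (nx i)) hne'] at hu
    rw [PG_ne Fr hne']
    obtain ⟨s, rfl⟩ := hu
    have hs : s ≠ 0 := by rintro rfl; exact hne (Fr.X_zero _ _)
    have ht : -s⁻¹ ≠ 0 := neg_ne_zero.2 (inv_ne_zero hs)
    refine ⟨Fr.X (i, true) (nx i) s⁻¹, ⟨_, rfl⟩, nX Fr (i, true) (nx i) (-s⁻¹) * (nn Fr p0 i)⁻¹, ?_,
      Fr.X (i, true) (nx i) s⁻¹, ⟨_, rfl⟩, ?_⟩
    · have := hT.qX i hi _ ht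
      rwa [show nn Fr p0 i = nX Fr (i, true) (nx i) 1 from if_pos hi]
    have e1 : Fr.X (i, true) (nx i) s⁻¹ = (Fr.X (i, true) (nx i) (-s⁻¹))⁻¹ := by
      rw [← Fr.X_neg, _root_.neg_neg]
    have e2 : -(-s⁻¹)⁻¹ = s := by rw [inv_neg, inv_inv, _root_.neg_neg]
    rw [e1, nX, e2]
    show Fr.X (neg (nx i)) (neg (i, true)) s = _
    group
  · have hnx : nx i = (i, true) := by unfold nx; rw [dif_neg hi]
    rw [hnx, PG_self] at hu ⊢
    obtain ⟨q, rfl⟩ := hu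
    have hη := Fr.η_ne (i, true)
    have hq : q.c ≠ 0 := by
      intro h0
      apply hne
      have hw : q.w = 0 := haniso _ (by have := q.ok; rwa [h0] at this)
      have : q = 1 := by ext <;> simp [hw, h0]
      rw [this, Fr.Z_one]
    set μ : F := -(Fr.η (i, true) * q.c)⁻¹ with hμ
    have hμ0 : μ ≠ 0 := neg_ne_zero.2 (inv_ne_zero (mul_ne_zero hη hq))
    have hσμ : H.σ μ ≠ 0 := by simpa using hμ0
    have hσq : H.σ q.c ≠ 0 := by simpa using hq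
    set p : Fr.Adm := Frame.Adm.smul μ q with hp
    have hpc : p.c = μ * H.σ μ * q.c := rfl
    have hp' : p.c ≠ 0 := by rw [hpc]; exact mul_ne_zero (mul_ne_zero hμ0 hσμ) hq
    have hmid : Frame.Adm.smul (-(Fr.η (i, true) * (H.σ p.c)⁻¹)) p = q := by
      rw [hp, Frame.Adm.smul_smul]
      have e1 : -(Fr.η (i, true) * (H.σ (Frame.Adm.smul μ q).c)⁻¹) * μ = 1 := by
        rw [Frame.Adm.smul_c, map_mul, map_mul, H.σσ, hμ]
        simp only [map_neg, map_inv₀, map_mul, Fr.σ_η]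
        field_simp
      rw [e1, Frame.Adm.one_smul]
    refine ⟨(Fr.Z (i, true) p)⁻¹, ⟨p⁻¹, (Fr.Z_inv _ _).symm⟩, nZ Fr (i, true) p * (nn Fr p0 i)⁻¹, ?_,
      (Fr.Z (i, true) (Frame.Adm.smul (H.ε * p.c * (H.σ p.c)⁻¹) p))⁻¹, ⟨_, (Fr.Z_inv _ _).symm⟩, ?_⟩
    · have := hT.qZ i p p0 hp' hp0
      rwa [show nn Fr p0 i = nZ Fr (i, true) p0 from if_neg hi]
    rw [nZ, hmid]
    show Fr.Z (neg (i, true)) q = _
    group

/-- Two opposite root groups do not generate a 2-group, if there is a norm `≠ 1`. -/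
theorem notpT [CharP F 2] (hp0 : p0.c ≠ 0) {a : F} (ha0 : a ≠ 0) (ha : a * H.σ a ≠ 1) (i : Fin n) :
    ¬ IsPGroup 2 ↥(rg Fr (sr i) ⊔ rg Fr (-sr i)) := by
  intro hP
  have : Fact (Nat.Prime 2) := ⟨Nat.prime_two⟩
  have hσa : H.σ a ≠ 0 := by simpa using ha0
  have ha1 : a ≠ 1 := by
    rintro rfl
    exact ha (by simp)
  -- an element with eigenvalue `s ≠ 1`
  have key : ∀ g ∈ rg Fr (sr i) ⊔ rg Fr (-sr i), ∀ (x : Fin n × Bool) (s : F), g (Fr.b x) = s • Fr.b x → s = 1 := by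
    intro g hg x s hs
    obtain ⟨k, hk⟩ := hP ⟨g, hg⟩
    have hk' : g ^ 2 ^ k = 1 := congrArg Subtype.val hk
    have h1 : ∀ m : ℕ, (g ^ m) (Fr.b x) = s ^ m • Fr.b x := by
      intro m
      induction m with
      | zero => rw [pow_zero, pow_zero, one_smul]; rfl
      | succ m ih => rw [pow_succ, mul_apply', hs, map_smul, ih, smul_smul, pow_succ, mul_comm]
    have h2 := h1 (2 ^ k)
    rw [hk'] at h2
    have h3 : s ^ 2 ^ k = 1 := by
      by_contra hne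
      have h4 : (s ^ 2 ^ k - 1) • Fr.b x = 0 := by
        rw [sub_smul, ← h2, one_smul]
        exact sub_self _
      exact b_ne_zero x ((smul_eq_zero.1 h4).resolve_left (sub_ne_zero.2 hne))
    have h4 : (s - 1) ^ 2 ^ k = 0 := by rw [sub_pow_char_pow, h3, one_pow, sub_self]
    exact sub_eq_zero.1 ((pow_eq_zero_iff (pow_ne_zero k two_ne_zero)).1 h4)
  by_cases hi : (i : ℕ) + 1 < n
  · have hne' : ((i, true) : Fin n × Bool).1 ≠ (nx i).1 := nx_ne hi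
    have hmem : ∀ t, nX Fr (i, true) (nx i) t ∈ rg Fr (sr i) ⊔ rg Fr (-sr i) := by
      intro t
      rw [rg_sr, rg_neg_sr, PG_ne Fr (a := ng (i, true)) (b := ng (nx i)) hne',
        XG_swap Fr (a := ng (i, true)) (b := ng (nx i)) hne', PG_ne Fr hne']
      have h1 : ∀ t, Fr.X (i, true) (nx i) t ∈ XG Fr (i, true) (nx i) ⊔ XG Fr (ng (nx i)) (ng (i, true)) :=
        fun t => (le_sup_left : _ ≤ XG Fr (i, true) (nx i) ⊔ XG Fr (ng (nx i)) (ng (i, true))) ⟨t, rfl⟩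
      exact mul_mem (mul_mem (h1 _) ((le_sup_right : XG Fr (ng (nx i)) (ng (i, true)) ≤ _) ⟨_, rfl⟩)) (h1 _)
    apply ha1
    refine key (nX Fr (i, true) (nx i) a * (nX Fr (i, true) (nx i) 1)⁻¹) (mul_mem (hmem _) (inv_mem (hmem _)))
      (i, true) a ?_
    have e1 := nX_apply_neg Fr hne' (one_ne_zero : (1 : F) ≠ 0)
    rw [one_smul] at e1
    have e2 : (nX Fr (i, true) (nx i) 1)⁻¹ (Fr.b (i, true)) = Fr.b (neg (nx i)) := by
      rw [← e1, ← mul_apply', inv_mul_cancel]; rfl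
    rw [mul_apply', e2, nX_apply_neg Fr hne' ha0]
  · have hnx : nx i = (i, true) := by unfold nx; rw [dif_neg hi]
    have hmem : ∀ p, nZ Fr (i, true) p ∈ rg Fr (sr i) ⊔ rg Fr (-sr i) := by
      intro p
      rw [rg_sr, rg_neg_sr, hnx, PG_self, PG_self]
      have h1 : ∀ t, Fr.Z (i, true) t ∈ ZG Fr (i, true) ⊔ ZG Fr (ng (i, true)) :=
        fun t => (le_sup_left : _ ≤ ZG Fr (i, true) ⊔ ZG Fr (ng (i, true))) ⟨t, rfl⟩
      exact mul_mem (mul_mem (h1 _) ((le_sup_right : ZG Fr (ng (i, true)) ≤ _) ⟨_, rfl⟩)) (h1 _)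
    apply ha
    have hc : (Frame.Adm.smul a p0).c ≠ 0 := by
      rw [Frame.Adm.smul_c]; exact mul_ne_zero (mul_ne_zero ha0 hσa) hp0
    refine key (nZ Fr (i, true) (Frame.Adm.smul a p0) * (nZ Fr (i, true) p0)⁻¹)
      (mul_mem (hmem _) (inv_mem (hmem _))) (i, true) (a * H.σ a) ?_
    have hη := Fr.η_ne (i, true)
    have e1 := nZ_apply_neg Fr (i, true) p0 hp0
    have e2 : (nZ Fr (i, true) p0)⁻¹ (Fr.b (i, true)) = (Fr.η (i, true) * p0.c)⁻¹ • Fr.b (neg (i, true)) := by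
      have e3 : Fr.b (i, true) = (Fr.η (i, true) * p0.c)⁻¹ • nZ Fr (i, true) p0 (Fr.b (neg (i, true))) := by
        rw [e1, smul_smul, inv_mul_cancel₀ (mul_ne_zero hη hp0), one_smul]
      conv_lhs => rw [e3]
      rw [map_smul, ← mul_apply', inv_mul_cancel]; rfl
    rw [mul_apply', e2, map_smul, nZ_apply_neg Fr (i, true) _ hc, Frame.Adm.smul_c, smul_smul]
    congr 1
    field_simp

/-- **The root group datum of a Witt frame in characteristic 2.** -/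
theorem rgdT [Finite V] [CharP F 2] (hT : TorT Fr p0 T0) (haniso : ∀ w, Fr.ok w 0 → w = 0) (hp0 : p0.c ≠ 0)
    {a : F} (ha0 : a ≠ 0) (ha : a * H.σ a ≠ 1) {W : Type*} [Group W] (cs : CoxeterSystem (CoxeterMatrix.B n) W) :
    RGD cs (isCartan n) 2 T0 (nn Fr p0) (rg Fr) where
  nsys := hT.nsys
  conj i x hx := by
    obtain ⟨a, b, hab, e⟩ := exists_of_isRoot cs hx
    rw [rg_eq Fr hab e, rep_simple, rg_eq Fr (hab.sg i) (ee_refl_of e)]
    exact (good_nn hp0 i).cj_sg (mono_nn hp0 i) hab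
  tor x hx t ht := by
    obtain ⟨a, b, hab, e⟩ := exists_of_isRoot cs hx
    rw [rg_eq Fr hab e]
    exact (hT.good t ht).cj_id (hT.mono t ht) hab
  comm x y hx hy hxy hxy' a ha b hb := comm_rg cs hx hy hxy hxy' ha hb
  rk1 i u hu hne := rk1T hT haniso hp0 i hu hne
  pgrp i := by
    have : Fact (Nat.Prime 2) := ⟨Nat.prime_two⟩
    rw [rg_sr]; exact isPGroup_PG _ _
  notp i := notpT hp0 ha0 ha i
  tcop := hT.cop

/-- The torus of an ambient group. -/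
theorem torT_of_amb [Finite V] [CharP F 2] {G0 : Subgroup (V ≃ₗ[F] V)} (hA : Amb Fr G0) (hp0 : p0.c ≠ 0) :
    TorT Fr p0 (Tor Fr G0) where
  good g hg := ⟨hA.iso g hg.1, fun p => hA.exists_adm hg.1 hg.2 (ρ := id) (fun _ => rfl) p⟩
  mono g hg := hg.2
  norm i g hg := (Subgroup.mem_normalizer_iff.1 ((Cfsg.Agent.Nodes.WittRGD.nsys hA hp0).norm i) g).1 hg
  rel i j := (Cfsg.Agent.Nodes.WittRGD.nsys hA hp0).rel i j
  qX i hi t ht := tor_of_mono hA (nX_mem hA _ _ _) (nX_mem hA _ _ _) (mono_nX hi ht) (mono_nX hi one_ne_zero)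
  qZ i p q hp hq := by
    refine ⟨mul_mem (nZ_mem hA _ _) (inv_mem (nZ_mem hA _ _)), ?_⟩
    intro x
    have hm : ∀ (p : Fr.Adm), p.c ≠ 0 → ∀ x : Fin n × Bool, ∃ l : F, l ≠ 0 ∧
        nZ Fr (i, true) p (Fr.b x) = l • Fr.b (if x.1 = i then ng x else x) := by
      intro p hp x
      have h3 := H.ε_ne
      have hσ : H.σ p.c ≠ 0 := by simpa using hp
      have hη := Fr.η_ne (i, true)
      by_cases h1 : x.1 = i
      · obtain ⟨j, s⟩ := x
        simp only at h1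
        subst h1
        rw [if_pos rfl]
        cases s
        · exact ⟨Fr.η (j, true) * p.c, mul_ne_zero hη hp, nZ_apply_neg Fr (j, true) p hp⟩
        · exact ⟨_, by simp [*], nZ_apply_self Fr (j, true) p hp⟩
      · refine ⟨1, one_ne_zero, ?_⟩
        rw [one_smul, if_neg h1]
        exact nZ_apply_of_ne Fr (x := (i, true)) (z := x) h1 p
    -- the permutation is an involution
    set π : Fin n × Bool → Fin n × Bool := fun x => if x.1 = i then ng x else x with hπ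
    have hππ : ∀ x, π (π x) = x := by
      intro x
      simp only [hπ]
      by_cases h1 : x.1 = i
      · rw [if_pos h1, if_pos (by rw [ng_fst]; exact h1), ng_ng]
      · rw [if_neg h1, if_neg h1]
    have h1 : Mono Fr (nZ Fr (i, true) p) π := hm p hp
    have h2 : Mono Fr (nZ Fr (i, true) q) π := hm q hq
    exact ((h1.mul (h2.inv hππ)).congr fun x => hππ x) x
  cop := by
    have : Fact (Nat.Prime 2) := ⟨Nat.prime_two⟩
    exact tcop hA

end Cfsg.Agent.KFacts.Mult.WittT
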