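import Cfsg.Agent.TitsThree.FrameCN
import Cfsg.Agent.KFacts.Mult.ChainZ

/-!
# Models over Witt frames in characteristic 2 (helper430)

Relations between the root elements of a model (`ε = 1`, `2 = 0`), positions of the signed indices, the flag of the
positive system, independence of the root groups.
-/

set_option autoImplicit false
set_option linter.unnecessarySeqFocus false
set_option linter.unusedVariables false

namespace Cfsg.Agent.KFacts.Mult.WittTwo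

open Cfsg.Agent.TitsThree.Siegel Cfsg.Agent.TitsThree.WittFrame Cfsg.Agent.TitsThree.WittWeyl
open Cfsg.Agent.TitsThree.FrameCN
open scoped commutatorElement

variable {F : Type*} [Field F] {V : Type*} [AddCommGroup V] [Module F V] {H : HForm F V} {m : ℕ}
  {Fr : Frame H (Fin m)} {K : Type*} [Group K]

/-! ### Relations -/

section Rel

variable (M : Model Fr K)

theorem X_add (x y : Fin m × Bool) (s t : F) : M.X x y (s + t) = M.X x y s * M.X x y t := by
  rw [Model.X, Model.X, Model.X, ← map_mul]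
  congr 1
  exact Subtype.ext (Fr.X_add x y s t)

theorem X_zero (x y : Fin m × Bool) : M.X x y 0 = 1 := by
  have := X_add M x y 0 0
  rw [add_zero] at this
  exact left_eq_mul.1 this

theorem Z_mul (x : Fin m × Bool) (p q : Fr.Adm) : M.Z x (p * q) = M.Z x p * M.Z x q := by
  rw [Model.Z, Model.Z, Model.Z, ← map_mul]
  congr 1
  exact Subtype.ext (Fr.Z_mul x p q)

theorem Z_one (x : Fin m × Bool) : M.Z x 1 = 1 := by
  have := Z_mul M x 1 1
  rw [mul_one] at this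
  exact left_eq_mul.1 this

theorem Z_inv (x : Fin m × Bool) (p : Fr.Adm) : M.Z x p⁻¹ = (M.Z x p)⁻¹ := by
  rw [eq_inv_iff_mul_eq_one, ← Z_mul, inv_mul_cancel, Z_one]

/-- from an identity of linear maps to an identity in `K` -/
theorem comm_of_eq {a b c : M.I} (h : (a : V ≃ₗ[F] V) * b * (a : V ≃ₗ[F] V)⁻¹ = c * b) :
    ⁅M.φ a, M.φ b⁆ = M.φ c := by
  rw [← map_commutatorElement]
  congr 1
  apply Subtype.ext
  show (a : V ≃ₗ[F] V) * b * (a : V ≃ₗ[F] V)⁻¹ * (b : V ≃ₗ[F] V)⁻¹ = c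
  rw [h, mul_inv_cancel_right]

variable (h2 : (2 : F) = 0) (hε : H.ε = 1)

include h2 in
theorem neg_eq (a : F) : -a = a := by
  have h3 : a + a = 0 := by rw [← two_mul, h2, zero_mul]
  rw [← sub_eq_zero, neg_sub_left, h3, neg_zero]

include hε in
theorem eta (x : Fin m × Bool) : Fr.η x = 1 := by
  rw [Frame.η, hε]; split_ifs <;> rfl

include h2 hε in
theorem X_swap {x y : Fin m × Bool} (h : x.1 ≠ y.1) (t : F) : M.X x y t = M.X y x (H.σ t) := by
  rw [Model.X, Model.X]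
  congr 1
  apply Subtype.ext
  show Fr.X x y t = Fr.X y x (H.σ t)
  rw [Fr.X_swap h, eta hε, eta hε, hε, inv_one, one_mul, one_mul, one_mul, neg_eq h2]

/-- (R2) -/
theorem br_XX {x y z : Fin m × Bool} (hxy : x.1 ≠ y.1) (hyz : y.1 ≠ z.1) (hxz : x.1 ≠ z.1) (s t : F) :
    ⁅M.X x y s, M.X (neg y) z t⁆ = M.X x z (s * t) := by
  rw [Model.X, Model.X, Model.X]
  exact comm_of_eq M (Fr.conj_X_X hxy hyz hxz s t)

include hε in
/-- (R3) -/
theorem br_same {x y : Fin m × Bool} (hxy : x.1 ≠ y.1) (s t : F) :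
    ⁅M.X x y s, M.X x (neg y) t⁆ = M.Z x (Frame.Adm.tr (H.σ s * t)) := by
  rw [Model.X, Model.X, Model.Z]
  apply comm_of_eq M
  have h1 := Fr.X_mul_X_same hxy s t
  rw [eta hε, inv_one, mul_one] at h1
  show Fr.X x y s * Fr.X x (neg y) t * (Fr.X x y s)⁻¹ = _
  rw [h1]
  show Fr.Z x _ * (Fr.X x (neg y) t * Fr.X x y s) * (Fr.X x y s)⁻¹ = Fr.Z x _ * Fr.X x (neg y) t
  group

include h2 hε in
/-- (R4) -/
theorem br_XZ {x y : Fin m × Bool} (hxy : x.1 ≠ y.1) (t : F) (p : Fr.Adm) :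
    ⁅M.X x (neg y) t, M.Z y p⁆ = M.Z x (Frame.Adm.smul (H.σ t) p) * M.X x y (H.σ p.c * t) := by
  rw [Model.X, Model.Z, Model.Z, Model.X, ← map_mul]
  apply comm_of_eq M
  have h1 := Fr.conj_X_Z hxy t p
  rw [eta hε, hε, inv_one, one_mul, one_mul, neg_eq h2] at h1
  exact h1

include h2 hε in
/-- (R5) -/
theorem br_ZZ {x y : Fin m × Bool} (hxy : x.1 ≠ y.1) (p q : Fr.Adm) :
    ⁅M.Z x p, M.Z y q⁆ = M.X x y (H.σ (H.h p.w q.w)) := by
  rw [Model.Z, Model.Z, Model.X]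
  apply comm_of_eq M
  have h1 := Fr.Z_mul_Z hxy p q
  rw [eta hε, one_mul, neg_eq h2] at h1
  show Fr.Z x p * Fr.Z y q * (Fr.Z x p)⁻¹ = _
  rw [h1]
  show Fr.X x y _ * (Fr.Z y q * Fr.Z x p) * (Fr.Z x p)⁻¹ = Fr.X x y _ * Fr.Z y q
  group

end Rel

/-! ### Positions -/

/-- position of a signed index in the flag -/
def pos (x : Fin m × Bool) : ℕ := if x.2 then x.1 else 2 * m - x.1

theorem pos_le (x : Fin m × Bool) : pos x ≤ 2 * m := by
  have := x.1.2
  unfold pos; split_ifs <;> omega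

theorem pos_neg (x : Fin m × Bool) : pos (neg x) = 2 * m - pos x := by
  have := x.1.2
  unfold pos neg
  cases h : x.2 <;> simp <;> omega

theorem pos_ne (x : Fin m × Bool) : pos x ≠ m := by
  have := x.1.2
  unfold pos; split_ifs <;> omega

theorem pos_lt_iff (x : Fin m × Bool) : pos x < m ↔ x.2 = true := by
  have := x.1.2
  unfold pos; cases h : x.2 <;> simp <;> omega

theorem pos_inj {x y : Fin m × Bool} (h : pos x = pos y) : x = y := by
  have hx := x.1.2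
  have hy := y.1.2
  unfold pos at h
  obtain ⟨a, s⟩ := x
  obtain ⟨b, t⟩ := y
  cases s <;> cases t <;> simp at h hx hy ⊢ <;> first | (apply Fin.ext; omega) | omega

theorem pos_add_neg (x : Fin m × Bool) : pos x + pos (neg x) = 2 * m := by
  have := pos_le x
  rw [pos_neg]; omega

theorem fst_ne {x y : Fin m × Bool} (h1 : x ≠ y) (h2 : x ≠ neg y) : x.1 ≠ y.1 := by
  intro h
  obtain ⟨a, s⟩ := x
  obtain ⟨b, t⟩ := y
  simp only at h
  subst h
  cases s <;> cases t <;> simp [neg] at h1 h2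

/-- the key of the pair of positions `a, b` -/
def key (m a b : ℕ) : ℕ := min a b * (2 * m + 1) + max a b

theorem key_comm (a b : ℕ) : key m a b = key m b a := by
  unfold key; rw [min_comm, max_comm]

theorem key_lt_of_lt {a b b' : ℕ} (ha : a ≤ 2 * m) (hb : b ≤ 2 * m) (h : b' < b) : key m a b' < key m a b := by
  unfold key
  rcases le_total a b' with h1 | h1
  · rw [min_eq_left h1, max_eq_right h1, min_eq_left (h1.trans h.le), max_eq_right (h1.trans h.le)]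
    omega
  · rw [min_eq_right h1, max_eq_left h1]
    rcases le_total a b with h3 | h3
    · rw [min_eq_left h3, max_eq_right h3]
      rcases h1.lt_or_eq with h4 | h4
      · have : b' * (2 * m + 1) + (2 * m + 1) ≤ a * (2 * m + 1) := by
          have : (b' + 1) * (2 * m + 1) ≤ a * (2 * m + 1) := Nat.mul_le_mul_right _ h4
          linarith [this]
        omega
      · subst h4; omega
    · rw [min_eq_right h3, max_eq_left h3]
      have : (b' + 1) * (2 * m + 1) ≤ b * (2 * m + 1) := Nat.mul_le_mul_right _ h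
      have h5 : (b' + 1) * (2 * m + 1) = b' * (2 * m + 1) + (2 * m + 1) := by ring
      omega

theorem lt_of_key_lt {a b b' : ℕ} (ha : a ≤ 2 * m) (hb' : b' ≤ 2 * m) (h : key m a b' < key m a b) : b' < b := by
  rcases lt_trichotomy b b' with h1 | h1 | h1
  · exact absurd (key_lt_of_lt ha hb' h1) (not_lt.2 h.le)
  · subst h1; exact absurd h (lt_irrefl _)
  · exact h1

theorem key_lt_of_lt' {a b b' : ℕ} (ha : a ≤ 2 * m) (hb : b ≤ 2 * m) (h : b' < b) : key m b' a < key m b a := by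
  rw [key_comm b', key_comm b]; exact key_lt_of_lt ha hb h

theorem key_inj {a b a' b' : ℕ} (hb : b ≤ 2 * m) (hb' : b' ≤ 2 * m) (ha : a ≤ 2 * m) (ha' : a' ≤ 2 * m)
    (h : key m a b = key m a' b') : (a = a' ∧ b = b') ∨ (a = b' ∧ b = a') := by
  unfold key at h
  have e1 : min a b = min a' b' := by
    have h1 : (min a b * (2 * m + 1) + max a b) / (2 * m + 1) = min a b := by
      rw [mul_comm, Nat.mul_add_div (by omega), Nat.div_eq_of_lt (by omega), add_zero]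
    have h2 : (min a' b' * (2 * m + 1) + max a' b') / (2 * m + 1) = min a' b' := by
      rw [mul_comm, Nat.mul_add_div (by omega), Nat.div_eq_of_lt (by omega), add_zero]
    rw [← h1, h, h2]
  rw [e1] at h
  omega

theorem key_lt_bound {a b : ℕ} (ha : a ≤ 2 * m) (hb : b ≤ 2 * m) : key m a b < (2 * m + 1) * (2 * m + 1) := by
  unfold key
  have : min a b * (2 * m + 1) ≤ 2 * m * (2 * m + 1) := Nat.mul_le_mul_right _ (by omega)
  have h5 : (2 * m + 1) * (2 * m + 1) = 2 * m * (2 * m + 1) + (2 * m + 1) := by ring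
  omega

/-! ### The flag -/

/-- A positive pair. -/
def Ps (x y : Fin m × Bool) : Prop := x.1 ≠ y.1 ∧ pos x + pos y < 2 * m

theorem Ps.symm {x y : Fin m × Bool} (h : Ps x y) : Ps y x := ⟨h.1.symm, by rw [add_comm]; exact h.2⟩

variable (Fr)

/-- The flag. -/
def N (p : ℕ) : Submodule F V where
  carrier := {v | (∀ u, p ≤ pos u → H.h v (Fr.b (neg u)) = 0) ∧ (p ≤ m → ∀ w ∈ Fr.V0, H.h v w = 0)}
  add_mem' := by
    rintro v v' ⟨h1, h3⟩ ⟨h1', h3'⟩
    exact ⟨fun u hu => by rw [H.add_left, h1 u hu, h1' u hu, add_zero],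
      fun hp w hw => by rw [H.add_left, h3 hp w hw, h3' hp w hw, add_zero]⟩
  zero_mem' := ⟨fun _ _ => H.zero_left _, fun _ _ _ => H.zero_left _⟩
  smul_mem' := by
    rintro a v ⟨h1, h3⟩
    exact ⟨fun u hu => by rw [H.smul_left, h1 u hu, mul_zero],
      fun hp w hw => by rw [H.smul_left, h3 hp w hw, mul_zero]⟩

variable {Fr}

theorem mem_N {p : ℕ} {v : V} : v ∈ N Fr p ↔
    (∀ u, p ≤ pos u → H.h v (Fr.b (neg u)) = 0) ∧ (p ≤ m → ∀ w ∈ Fr.V0, H.h v w = 0) := Iff.rfl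

theorem N_mono {p p' : ℕ} (h : p ≤ p') : N Fr p ≤ N Fr p' := fun v hv =>
  ⟨fun u hu => hv.1 u (h.trans hu), fun hp => hv.2 (h.trans hp)⟩

theorem b_mem_N {p : ℕ} {y : Fin m × Bool} (h : pos y < p) : Fr.b y ∈ N Fr p := by
  refine ⟨fun u hu => ?_, fun _ w hw => Fr.h0 y w hw⟩
  apply Fr.hb_ne
  intro h1
  have : u = y := by rw [← TitsThree.WittFrame.neg_neg u, h1, TitsThree.WittFrame.neg_neg]
  subst this; omega

theorem V0_le_N {p : ℕ} (h : m < p) {w : V} (hw : w ∈ Fr.V0) : w ∈ N Fr p :=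
  ⟨fun u _ => Fr.h0' _ hw, fun hp => absurd hp (by omega)⟩

theorem b_not_mem_N {y : Fin m × Bool} {t : F} (h : t • Fr.b y ∈ N Fr (pos y)) : t = 0 := by
  have := h.1 y le_rfl
  rw [H.smul_left, Fr.hb_self_neg] at this
  exact (mul_eq_zero.1 this).resolve_right (Fr.η_ne _)

theorem N_top : N Fr (2 * m + 1) = ⊤ := by
  rw [eq_top_iff]
  intro v _
  exact ⟨fun u hu => absurd (pos_le u) (by omega), fun hp => absurd hp (by omega)⟩

/-- `g - 1` maps `N (p+1)` to `N p`. -/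
def Lw (Fr : Frame H (Fin m)) (g : V ≃ₗ[F] V) : Prop := ∀ p, ∀ v ∈ N Fr (p + 1), g v - v ∈ N Fr p

theorem Lw_X {x y : Fin m × Bool} (h : Ps x y) (t : F) : Lw Fr (Fr.X x y t) := by
  intro p v hv
  have h1 := pos_neg x
  have h2 := pos_neg y
  have hx := pos_le x
  have hy := pos_le y
  have hps := h.2
  have e : Fr.X x y t v - v = (H.h v (Fr.b x) * Fr.sc y t) • Fr.b y
      - (H.ε⁻¹ * H.σ (Fr.sc y t) * H.h v (Fr.b y)) • Fr.b x := by
    rw [X_apply Fr h.1]; abel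
  rw [e]
  refine Submodule.sub_mem _ ?_ ?_
  · by_cases hp : pos y < p
    · exact Submodule.smul_mem _ _ (b_mem_N hp)
    · have := hv.1 (neg x) (by omega)
      rw [TitsThree.WittFrame.neg_neg] at this
      rw [this, zero_mul, zero_smul]; exact zero_mem _
  · by_cases hp : pos x < p
    · exact Submodule.smul_mem _ _ (b_mem_N hp)
    · have := hv.1 (neg y) (by omega)
      rw [TitsThree.WittFrame.neg_neg] at this
      rw [this, mul_zero, zero_smul]; exact zero_mem _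

theorem Lw_Z {x : Fin m × Bool} (h : x.2 = true) (q : Fr.Adm) : Lw Fr (Fr.Z x q) := by
  intro p v hv
  have h1 := pos_neg x
  have hx := (pos_lt_iff x).2 h
  have e : Fr.Z x q v - v = H.h v (Fr.b x) • q.w - (H.ε⁻¹ * H.h v q.w) • Fr.b x
      + (q.c * H.h v (Fr.b x)) • Fr.b x := by
    rw [Z_apply]; abel
  rw [e]
  have hb : p ≤ pos (neg x) - 1 → H.h v (Fr.b x) = 0 := by
    intro hp
    have := hv.1 (neg x) (by omega)
    rwa [TitsThree.WittFrame.neg_neg] at this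
  refine Submodule.add_mem _ (Submodule.sub_mem _ ?_ ?_) ?_
  · by_cases hp : m < p
    · exact Submodule.smul_mem _ _ (V0_le_N hp (Fr.ok_mem q.ok))
    · rw [hb (by omega), zero_smul]; exact zero_mem _
  · by_cases hp : pos x < p
    · exact Submodule.smul_mem _ _ (b_mem_N hp)
    · rw [hv.2 (by omega) _ (Fr.ok_mem q.ok), mul_zero, zero_smul]; exact zero_mem _
  · by_cases hp : pos x < p
    · exact Submodule.smul_mem _ _ (b_mem_N hp)
    · rw [hb (by omega), mul_zero, zero_smul]; exact zero_mem _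


theorem Lw.one : Lw Fr 1 := fun p v _ => by
  have : (1 : V ≃ₗ[F] V) v - v = 0 := sub_self v
  rw [this]; exact zero_mem _

theorem Lw.map {g : V ≃ₗ[F] V} (h : Lw Fr g) {p : ℕ} {v : V} (hv : v ∈ N Fr p) : g v ∈ N Fr p := by
  have h1 := h p v (N_mono (Nat.le_succ p) hv)
  have := Submodule.add_mem _ h1 hv
  rwa [sub_add_cancel] at this

theorem Lw.mul {g k : V ≃ₗ[F] V} (hg : Lw Fr g) (hk : Lw Fr k) : Lw Fr (g * k) := by
  intro p v hv
  have e : (g * k) v - v = g (k v - v) + (g v - v) := by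
    rw [mul_apply', map_sub]; abel
  rw [e]
  exact Submodule.add_mem _ (hg.map (hk p v hv)) (hg p v hv)

/-- Unipotent elements with `g b - b ∈ N p`. -/
def Fx (Fr : Frame H (Fin m)) (p : ℕ) (b : V) (g : V ≃ₗ[F] V) : Prop := Lw Fr g ∧ g b - b ∈ N Fr p

theorem Fx.mul {p : ℕ} {b : V} {g k : V ≃ₗ[F] V} (hg : Fx Fr p b g) (hk : Fx Fr p b k) : Fx Fr p b (g * k) := by
  refine ⟨hg.1.mul hk.1, ?_⟩
  have e : (g * k) b - b = g (k b - b) + (g b - b) := by
    rw [mul_apply', map_sub]; abel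
  rw [e]
  exact Submodule.add_mem _ (hg.1.map hk.2) hg.2

theorem Fx.closure {p : ℕ} {b : V} {S : Set (V ≃ₗ[F] V)} (hinv : ∀ g ∈ S, g⁻¹ ∈ S) (h : ∀ g ∈ S, Fx Fr p b g) :
    ∀ g ∈ Subgroup.closure S, Fx Fr p b g := by
  have key : ∀ g ∈ Subgroup.closure S, Fx Fr p b g ∧ Fx Fr p b g⁻¹ := by
    intro g hg
    induction hg using Subgroup.closure_induction with
    | mem g hg => exact ⟨h g hg, h _ (hinv g hg)⟩
    | one =>
      have : Fx Fr p b (1 : V ≃ₗ[F] V) := ⟨Lw.one, by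
        have : (1 : V ≃ₗ[F] V) b - b = 0 := sub_self b
        rw [this]; exact zero_mem _⟩
      rw [inv_one]; exact ⟨this, this⟩
    | mul g k _ _ h1 h2 => rw [mul_inv_rev]; exact ⟨h1.1.mul h2.1, h2.2.mul h1.2⟩
    | inv g _ h1 => rw [inv_inv]; exact ⟨h1.2, h1.1⟩
  exact fun g hg => (key g hg).1

/-! ### The generators -/

/-- The root elements of key `k`. -/
inductive GI (Fr : Frame H (Fin m)) (k : ℕ) : (V ≃ₗ[F] V) → Prop
  | X {x y : Fin m × Bool} (h : Ps x y) (hk : key m (pos x) (pos y) = k) (t : F) : GI Fr k (Fr.X x y t)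
  | Z {x : Fin m × Bool} (h : x.2 = true) (hk : key m (pos x) m = k) (p : Fr.Adm) : GI Fr k (Fr.Z x p)
  | C {x : Fin m × Bool} (h : x.2 = true) (hk : key m (pos x) (pos x) = k) (p : Fr.Adm) (hp : p.w = 0) :
      GI Fr k (Fr.Z x p)

theorem GI.inv {k : ℕ} {g : V ≃ₗ[F] V} (h : GI Fr k g) : GI Fr k g⁻¹ := by
  cases h with
  | X h hk t => rw [← Fr.X_neg]; exact .X h hk _
  | Z h hk p => rw [← Fr.Z_inv]; exact .Z h hk _
  | C h hk p hp => rw [← Fr.Z_inv]; exact .C h hk _ (by simp [hp])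

theorem GI.lw {k : ℕ} {g : V ≃ₗ[F] V} (h : GI Fr k g) : Lw Fr g := by
  cases h with
  | X h hk t => exact Lw_X h t
  | Z h hk p => exact Lw_Z h p
  | C h hk p hp => exact Lw_Z h p

/-- the group generated by the root elements of key `< k` -/
def VI (Fr : Frame H (Fin m)) (k : ℕ) : Subgroup (V ≃ₗ[F] V) := Subgroup.closure {g | ∃ j < k, GI Fr j g}

theorem GI.mem_VI {j k : ℕ} {g : V ≃ₗ[F] V} (h : GI Fr j g) (hj : j < k) : g ∈ VI Fr k :=
  Subgroup.subset_closure ⟨j, hj, h⟩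

theorem Fx.of_VI {p k : ℕ} {b : V} (h : ∀ j < k, ∀ g, GI Fr j g → g b - b ∈ N Fr p) {g : V ≃ₗ[F] V}
    (hg : g ∈ VI Fr k) : Fx Fr p b g :=
  Fx.closure (S := {g | ∃ j < k, GI Fr j g}) (fun _ ⟨j, hj, hg⟩ => ⟨j, hj, hg.inv⟩)
    (fun _ ⟨j, hj, hg⟩ => ⟨hg.lw, h j hj _ hg⟩) g hg

theorem lw_of_VI {k : ℕ} {g : V ≃ₗ[F] V} (hg : g ∈ VI Fr k) : Lw Fr g :=
  (Fx.of_VI (p := 0) (b := 0) (fun _ _ g _ => by rw [map_zero, sub_zero]; exact zero_mem _) hg).1

theorem b_fix {g : V ≃ₗ[F] V} (hg : Lw Fr g) {x : Fin m × Bool} (h : ∃ a : F, g (Fr.b x) = a • Fr.b x) :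
    g (Fr.b x) = Fr.b x := by
  obtain ⟨a, ha⟩ := h
  have h1 := hg (pos x) (Fr.b x) (b_mem_N (Nat.lt_succ_self _))
  rw [ha] at h1 ⊢
  have e : a • Fr.b x - Fr.b x = (a - 1) • Fr.b x := by rw [sub_smul, one_smul]
  rw [e] at h1
  rw [sub_eq_zero.1 (b_not_mem_N h1), one_smul]

/-- `b (-x)` is moved into `N (pos y)` by the root elements of key smaller than the key of `x, y` (`pos x ≤ pos y`). -/
theorem GI.mem_N {x : Fin m × Bool} (hx : x.2 = true) {p : ℕ} (hp : pos x ≤ p) (hp2 : p ≤ 2 * m) {j : ℕ}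
    (hj : j < key m (pos x) p) {g : V ≃ₗ[F] V} (h : GI Fr j g) : g (Fr.b (neg x)) - Fr.b (neg x) ∈ N Fr p := by
  have hxl := pos_le x
  have hxm := (pos_lt_iff x).2 hx
  cases h with
  | @X u v h hk t =>
    have hv := pos_le v
    have hu := pos_le u
    rw [← hk] at hj
    by_cases h1 : u = x
    · subst h1
      have h3 := lt_of_key_lt hu hv hj
      have h4 := X_apply_neg' Fr h.1 t
      rw [h4, sub_sub_cancel_left]
      exact Submodule.neg_mem _ (Submodule.smul_mem _ _ (b_mem_N h3))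
    · by_cases h2 : v = x
      · subst h2
        rw [key_comm] at hj
        have h4 := X_apply_neg Fr h.1 t
        rw [h4, add_sub_cancel_left]
        exact Submodule.smul_mem _ _ (b_mem_N (lt_of_key_lt hv hu hj))
      · rw [X_apply_of_ne Fr h.1 (fun h' => h1 (by
          rw [← TitsThree.WittFrame.neg_neg x, h', TitsThree.WittFrame.neg_neg])) (fun h' => h2 (by
          rw [← TitsThree.WittFrame.neg_neg x, h', TitsThree.WittFrame.neg_neg])), sub_self]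
        exact zero_mem _
  | @Z u h hk q =>
    rw [← hk] at hj
    by_cases h1 : u = x
    · subst h1
      have h3 : m < p := lt_of_key_lt hxl (by omega) hj
      rw [Z_apply_neg]
      have e : Fr.b (neg u) + Fr.η u • q.w + (q.c * Fr.η u) • Fr.b u - Fr.b (neg u) =
          Fr.η u • q.w + (q.c * Fr.η u) • Fr.b u := by abel
      rw [e]
      exact Submodule.add_mem _ (Submodule.smul_mem _ _ (V0_le_N h3 (Fr.ok_mem q.ok)))
        (Submodule.smul_mem _ _ (b_mem_N (by omega)))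
    · rw [Z_apply_of_ne Fr (fun h' => h1 (by
        rw [← TitsThree.WittFrame.neg_neg x, h', TitsThree.WittFrame.neg_neg])), sub_self]
      exact zero_mem _
  | @C u h hk q hq =>
    rw [← hk] at hj
    by_cases h1 : u = x
    · subst h1
      have h3 := lt_of_key_lt hxl hxl hj
      rw [Z_apply_neg, hq, smul_zero, add_zero, add_sub_cancel_left]
      exact Submodule.smul_mem _ _ (b_mem_N h3)
    · rw [Z_apply_of_ne Fr (fun h' => h1 (by
        rw [← TitsThree.WittFrame.neg_neg x, h', TitsThree.WittFrame.neg_neg])), sub_self]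
      exact zero_mem _


/-! ### Independence in `K` -/

section Indep

open Cfsg.Agent.KFacts.Mult.ChainZ

variable (M : Model Fr K)

/-- The root elements of key `k` in `K`. -/
def gens (k : ℕ) : Set K := {a | ∃ g : M.I, GI Fr k g ∧ M.φ g = a}

theorem X_mem_gens {x y : Fin m × Bool} (h : Ps x y) (t : F) : M.X x y t ∈ gens M (key m (pos x) (pos y)) :=
  ⟨⟨_, M.hX _ _ _⟩, .X h rfl t, rfl⟩

theorem Z_mem_gens {x : Fin m × Bool} (h : x.2 = true) (p : Fr.Adm) : M.Z x p ∈ gens M (key m (pos x) m) :=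
  ⟨⟨_, M.hZ _ _⟩, .Z h rfl p, rfl⟩

theorem C_mem_gens {x : Fin m × Bool} (h : x.2 = true) (p : Fr.Adm) (hp : p.w = 0) :
    M.Z x p ∈ gens M (key m (pos x) (pos x)) :=
  ⟨⟨_, M.hZ _ _⟩, .C h rfl p hp, rfl⟩

/-- case analysis for the generators -/
theorem gens_cases {k : ℕ} {a : K} (ha : a ∈ gens M k) :
    (∃ x y t, Ps x y ∧ pos x < pos y ∧ key m (pos x) (pos y) = k ∧ a = M.X x y t) ∨
    (∃ x p, x.2 = true ∧ key m (pos x) m = k ∧ a = M.Z x p) ∨
    (∃ x p, x.2 = true ∧ p.w = 0 ∧ key m (pos x) (pos x) = k ∧ a = M.Z x p) := by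
  obtain ⟨⟨g, hg⟩, h, rfl⟩ := ha
  cases h with
  | @X x y h hk t =>
    left
    rcases lt_trichotomy (pos x) (pos y) with h1 | h1 | h1
    · exact ⟨x, y, t, h, h1, hk, rfl⟩
    · exact absurd (congrArg Prod.fst (pos_inj h1)) h.1
    · refine ⟨y, x, -(H.ε⁻¹ * Fr.η x * Fr.η y * H.σ t), h.symm, h1, by rw [key_comm]; exact hk, ?_⟩
      rw [Model.X]
      congr 1
      exact Subtype.ext (Fr.X_swap h.1 t)
  | Z h hk p => exact Or.inr (Or.inl ⟨_, p, h, hk, rfl⟩)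
  | C h hk p hp => exact Or.inr (Or.inr ⟨_, p, h, hp, hk, rfl⟩)

theorem exists_of_mem {k : ℕ} {a : K} (ha : a ∈ Vk (gens M) k) : ∃ g : M.I, (g : V ≃ₗ[F] V) ∈ VI Fr k ∧ M.φ g = a := by
  have : Vk (gens M) k ≤ ((VI Fr k).subgroupOf M.I).map M.φ := by
    refine Vk_le fun j hj g hg => ?_
    obtain ⟨g, hg, rfl⟩ := hg
    exact Subgroup.mem_map_of_mem _ (Subgroup.mem_subgroupOf.2 (hg.mem_VI hj))
  obtain ⟨g, hg, e⟩ := this ha
  exact ⟨g, Subgroup.mem_subgroupOf.1 hg, e⟩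

theorem indep {x : Fin m × Bool} (hx : x.2 = true) {p : ℕ} (hp : pos x ≤ p) (hp2 : p ≤ 2 * m) {g : M.I}
    (hlw : Lw Fr g) (hlw' : Lw Fr (g : V ≃ₗ[F] V)⁻¹) (hmem : M.φ g ∈ Vk (gens M) (key m (pos x) p)) :
    (g : V ≃ₗ[F] V) (Fr.b (neg x)) - Fr.b (neg x) ∈ N Fr p := by
  obtain ⟨v, hv, e⟩ := exists_of_mem M hmem
  have hs : M.φ (v⁻¹ * g) = 1 := by rw [map_mul, map_inv, e, inv_mul_cancel]
  have hv' : Lw Fr (v : V ≃ₗ[F] V)⁻¹ := lw_of_VI (inv_mem hv)
  have h1 : ((v⁻¹ * g : M.I) : V ≃ₗ[F] V) (Fr.b (neg x)) = Fr.b (neg x) := by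
    refine b_fix (hv'.mul hlw) ?_
    exact M.ker _ _ hs
  have h2 : (g : V ≃ₗ[F] V) (Fr.b (neg x)) = (v : V ≃ₗ[F] V) (Fr.b (neg x)) := by
    have h3 := congrArg (v : V ≃ₗ[F] V) h1
    rw [← mul_apply'] at h3
    have h4 : (v : V ≃ₗ[F] V) * ((v⁻¹ * g : M.I) : V ≃ₗ[F] V) = g := by
      push_cast; group
    rwa [h4] at h3
  rw [h2]
  exact (Fx.of_VI (fun j hj g hg => hg.mem_N hx hp hp2 hj) hv).2

theorem indep_X {x y : Fin m × Bool} (h : Ps x y) (hlt : pos x < pos y) {t : F}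
    (hmem : M.X x y t ∈ Vk (gens M) (key m (pos x) (pos y))) : t = 0 := by
  have hx : x.2 = true := (pos_lt_iff x).1 (by have := h.2; omega)
  have h1 := indep M hx hlt.le (pos_le y) (g := ⟨_, M.hX x y t⟩) (Lw_X h t)
    (by rw [← Fr.X_neg]; exact Lw_X h _) hmem
  have h2 : Fr.X x y t (Fr.b (neg x)) - Fr.b (neg x) = (-(H.ε⁻¹ * Fr.η x * Fr.η y * H.σ t)) • Fr.b y := by
    rw [X_apply_neg' Fr h.1, neg_smul]; abel
  have h3 : (-(H.ε⁻¹ * Fr.η x * Fr.η y * H.σ t)) = 0 := b_not_mem_N (by rw [← h2]; exact h1)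
  have h4 := Fr.η_ne x
  have h5 := Fr.η_ne y
  have h6 := H.ε_ne
  have h7 : H.σ t = 0 := by
    rw [neg_eq_zero] at h3
    have h8 : H.ε⁻¹ * Fr.η x * Fr.η y ≠ 0 := mul_ne_zero (mul_ne_zero (inv_ne_zero h6) h4) h5
    exact (mul_eq_zero.1 h3).resolve_left h8
  simpa using h7

theorem indep_Z (nd : ∀ w ∈ Fr.V0, (∀ w' ∈ Fr.V0, H.h w w' = 0) → w = 0) {x : Fin m × Bool} (hx : x.2 = true)
    {p : Fr.Adm} (hmem : M.Z x p ∈ Vk (gens M) (key m (pos x) m)) : p.w = 0 := by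
  have hxm := (pos_lt_iff x).2 hx
  have h1 := indep M hx hxm.le (by omega) (g := ⟨_, M.hZ x p⟩) (Lw_Z hx p)
    (by rw [← Fr.Z_inv]; exact Lw_Z hx _) hmem
  have e : Fr.Z x p (Fr.b (neg x)) - Fr.b (neg x) = Fr.η x • p.w + (p.c * Fr.η x) • Fr.b x := by
    rw [Z_apply_neg]; abel
  change Fr.Z x p (Fr.b (neg x)) - Fr.b (neg x) ∈ _ at h1
  rw [e] at h1
  have h2 : Fr.η x • p.w ∈ N Fr m := by
    have := Submodule.sub_mem _ h1 (Submodule.smul_mem _ (p.c * Fr.η x) (b_mem_N (Fr := Fr) hxm))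
    rwa [add_sub_cancel_right] at this
  refine nd _ (Fr.ok_mem p.ok) fun w' hw' => ?_
  have h3 := h2.2 le_rfl w' hw'
  rw [H.smul_left] at h3
  exact (mul_eq_zero.1 h3).resolve_left (Fr.η_ne x)

theorem indep_C {x : Fin m × Bool} (hx : x.2 = true) {p : Fr.Adm} (hp : p.w = 0)
    (hmem : M.Z x p ∈ Vk (gens M) (key m (pos x) (pos x))) : p.c = 0 := by
  have hxm := (pos_lt_iff x).2 hx
  have h1 := indep M hx le_rfl (pos_le x) (g := ⟨_, M.hZ x p⟩) (Lw_Z hx p)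
    (by rw [← Fr.Z_inv]; exact Lw_Z hx _) hmem
  have e : Fr.Z x p (Fr.b (neg x)) - Fr.b (neg x) = (p.c * Fr.η x) • Fr.b x := by
    rw [Z_apply_neg, hp]; simp
  change Fr.Z x p (Fr.b (neg x)) - Fr.b (neg x) ∈ _ at h1
  rw [e] at h1
  exact (mul_eq_zero.1 (b_not_mem_N h1)).resolve_right (Fr.η_ne x)

end Indep

/-! ### The group is a 2-group -/

section TwoGroup

open Cfsg.Agent.KFacts.Mult.ChainZ

theorem N_zero (hV0 : ∀ v, (∀ x, H.h v (Fr.b x) = 0) → v ∈ Fr.V0)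
    (nd : ∀ w ∈ Fr.V0, (∀ w' ∈ Fr.V0, H.h w w' = 0) → w = 0) {v : V} (hv : v ∈ N Fr 0) : v = 0 := by
  refine nd v (hV0 v fun x => ?_) (hv.2 (Nat.zero_le _))
  have := hv.1 (neg x) (Nat.zero_le _)
  rwa [TitsThree.WittFrame.neg_neg] at this

theorem sq_step (h2 : (2 : F) = 0) {g : V ≃ₗ[F] V} {j : ℕ} (h : ∀ p, ∀ v ∈ N Fr (p + j), g v - v ∈ N Fr p) :
    ∀ p, ∀ v ∈ N Fr (p + 2 * j), (g * g) v - v ∈ N Fr p := by
  intro p v hv
  have e : (g * g) v - v = g (g v - v) - (g v - v) := by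
    rw [mul_apply', map_sub]
    have h3 : (2 : F) • (g v - v) = 0 := by rw [h2, zero_smul]
    rw [two_smul] at h3
    have : g (g v) - v - (g (g v) - g v - (g v - v)) = (g v - v) + (g v - v) := by abel
    rw [h3] at this
    exact sub_eq_zero.1 this
  rw [e]
  refine h p _ (h (p + j) v ?_)
  have : p + j + j = p + 2 * j := by ring
  rwa [this]

theorem pow_step (h2 : (2 : F) = 0) {g : V ≃ₗ[F] V} (h : Lw Fr g) (e : ℕ) :
    ∀ p, ∀ v ∈ N Fr (p + 2 ^ e), (g ^ 2 ^ e) v - v ∈ N Fr p := by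
  induction e with
  | zero =>
    intro p v hv
    rw [pow_zero] at hv ⊢
    rw [pow_one]
    exact h p v hv
  | succ e ih =>
    have := sq_step h2 ih
    intro p v hv
    have e1 : g ^ 2 ^ (e + 1) = g ^ 2 ^ e * g ^ 2 ^ e := by rw [← pow_add]; congr 1; ring
    rw [e1]
    apply this
    rwa [← pow_succ']

theorem pow_eq_one (h2 : (2 : F) = 0) (hV0 : ∀ v, (∀ x, H.h v (Fr.b x) = 0) → v ∈ Fr.V0)
    (nd : ∀ w ∈ Fr.V0, (∀ w' ∈ Fr.V0, H.h w w' = 0) → w = 0) {g : V ≃ₗ[F] V} (h : Lw Fr g) :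
    ∃ e, g ^ 2 ^ e = 1 := by
  refine ⟨2 * m + 1, ?_⟩
  ext v
  have h1 : v ∈ N Fr (0 + 2 ^ (2 * m + 1)) := by
    refine N_mono (p := 2 * m + 1) ?_ ?_
    · rw [zero_add]; exact Nat.lt_two_pow_self.le
    · rw [N_top]; trivial
  have h3 := N_zero hV0 nd (pow_step h2 h (2 * m + 1) 0 v h1)
  exact sub_eq_zero.1 h3

theorem isPGroup (M : Model Fr K) (h2 : (2 : F) = 0) (hV0 : ∀ v, (∀ x, H.h v (Fr.b x) = 0) → v ∈ Fr.V0)
    (nd : ∀ w ∈ Fr.V0, (∀ w' ∈ Fr.V0, H.h w w' = 0) → w = 0) (k : ℕ) : IsPGroup 2 ↥(Vk (gens M) k) := by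
  rintro ⟨a, ha⟩
  obtain ⟨g, hg, rfl⟩ := exists_of_mem M ha
  obtain ⟨e, he⟩ := pow_eq_one h2 hV0 nd (lw_of_VI hg)
  refine ⟨e, Subtype.ext ?_⟩
  show M.φ g ^ 2 ^ e = 1
  rw [← map_pow]
  have : g ^ 2 ^ e = 1 := Subtype.ext he
  rw [this, map_one]

end TwoGroup

end Cfsg.Agent.KFacts.Mult.WittTwo
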