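import Cfsg.Agent.KFacts.Mult.WittT
import Cfsg.Agent.KFacts.Mult.RGDS
import Cfsg.Agent.KFacts.Mult.FieldAlt
import Cfsg.Agent.KFacts.Mult.Num
import Cfsg.Agent.TitsThree.FrameCN

/-!
# No double covers of the groups of a Witt frame in characteristic 2

`Y0 Fr cs` : the group generated by the root groups of the frame.
`noDouble_Y0` : no double covers, if there are enough scalars of order `p` and the preimages of the simple root groups
split. `noDouble_model` : the same for a group `K` modelled on the frame.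
`abPre_three`, `abPre_field` : commutative preimages of the root groups of type I.
-/

set_option autoImplicit false
set_option linter.unusedSectionVars false

namespace Cfsg.Agent.KFacts.Mult.WittW

open Cfsg.Agent.KFacts.MulDef Cfsg.Agent.KFacts.Mult.WeightsTwo Cfsg.Agent.KFacts.Mult.RGDW
  Cfsg.Agent.KFacts.Mult.RGDQ Cfsg.Agent.KFacts.Mult.RGDS Cfsg.Agent.KFacts.Mult.FieldAlt
  Cfsg.Agent.KFacts.Mult.Num Cfsg.Agent.KFacts.Mult.WittT
open Cfsg.Agent.ChevalleyStructure.CoxeterGeom Cfsg.Agent.Tits.Roots Cfsg.Agent.Nodes.TypeC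
open Cfsg.Agent.Nodes.Comb Cfsg.Agent.Nodes.Reps Cfsg.Agent.Nodes.WittRoot Cfsg.Agent.Nodes.BNOf
  Cfsg.Agent.Nodes.WittRGD Cfsg.Agent.Nodes.RGDLib
open Cfsg.Agent.TitsThree Cfsg.Agent.TitsThree.Siegel Cfsg.Agent.TitsThree.WittFrame Cfsg.Agent.TitsThree.WittWeyl
  Cfsg.Agent.TitsThree.FrameCN
open scoped commutatorElement

variable {F : Type*} [Field F] {V : Type*} [AddCommGroup V] [Module F V] {H : HForm F V} {n : ℕ}
  {Fr : Frame H (Fin n)}

/-! ### Injectivity of the root elements -/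

theorem X_inj {x y : Fin n × Bool} (h : x.1 ≠ y.1) {s t : F} (e : Fr.X x y s = Fr.X x y t) : s = t := by
  have h1 := X_apply_neg Fr h s
  rw [e, X_apply_neg Fr h t] at h1
  have h2 : (t - s) • Fr.b x = 0 := by
    rw [sub_smul]; exact sub_eq_zero.2 (add_left_cancel h1)
  exact (sub_eq_zero.1 ((smul_eq_zero.1 h2).resolve_right (b_ne_zero x))).symm

theorem Z_inj {x : Fin n × Bool} {p q : Fr.Adm} (e : Fr.Z x p = Fr.Z x q) : p = q := by
  have h1 := Z_apply_neg Fr x p
  rw [e, Z_apply_neg Fr x q] at h1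
  have hη := Fr.η_ne x
  have hp := Fr.ok_mem p.ok
  have hq := Fr.ok_mem q.ok
  -- pair with `b (neg x)`
  have h2 := congrArg (fun v => H.h v (Fr.b (neg x))) h1
  simp only [H.add_left, H.smul_left, Fr.hb_self, Fr.h0' _ hp, Fr.h0' _ hq, mul_zero, zero_add, Fr.hb_self_neg] at h2
  have hc : p.c = q.c := by
    have h3 := mul_right_cancel₀ (Fr.η_ne (neg x)) h2
    exact (mul_right_cancel₀ hη h3).symm
  have hw : p.w = q.w := by
    rw [hc] at h1
    have h3 := add_left_cancel (add_right_cancel h1)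
    exact (smul_right_injective V hη h3).symm
  exact Frame.Adm.ext hw hc

/-! ### Elements with eigenvalues -/

/-- `g` is diagonal on the frame with `σ`-fixed eigenvalues `l` and trivial on `V0`. -/
structure Eig (Fr : Frame H (Fin n)) (g : V ≃ₗ[F] V) (l : Fin n × Bool → F) : Prop where
  iso : H.IsIso g
  ap : ∀ x, g (Fr.b x) = l x • Fr.b x
  fix : ∀ x, H.σ (l x) = l x
  V0 : ∀ w ∈ Fr.V0, g w = w

theorem Eig.mul {g k : V ≃ₗ[F] V} {l m : Fin n × Bool → F} (hg : Eig Fr g l) (hk : Eig Fr k m) :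
    Eig Fr (g * k) (fun x => l x * m x) where
  iso := HForm.IsIso.mul H hg.iso hk.iso
  ap x := by rw [mul_apply', hk.ap, map_smul, hg.ap, smul_smul, mul_comm]
  fix x := by rw [map_mul, hg.fix, hk.fix]
  V0 w hw := by rw [mul_apply', hk.V0 w hw, hg.V0 w hw]

theorem Eig.conj_X {g : V ≃ₗ[F] V} {l : Fin n × Bool → F} (hg : Eig Fr g l) {a b : Fin n × Bool} (hab : a.1 ≠ b.1)
    (t : F) : g * Fr.X a b t * g⁻¹ = Fr.X a b (l a * l b * t) := by
  rw [WittWeyl.conj_X Fr hg.iso hab hab (hg.ap a) (hg.ap b), hg.fix]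
  congr 1
  have := Fr.η_ne b
  field_simp

theorem Eig.conj_Z {g : V ≃ₗ[F] V} {l : Fin n × Bool → F} (hg : Eig Fr g l) (a : Fin n × Bool) (p : Fr.Adm) :
    g * Fr.Z a p * g⁻¹ = Fr.Z a (Frame.Adm.smul (l a) p) := by
  rw [WittWeyl.conj_Z Fr hg.iso (hg.ap a) p p (hg.V0 _ (Fr.ok_mem p.ok)) rfl, hg.fix]

/-! ### The torsion subgroup -/

section TD

variable (Fr) (T0 : Subgroup (V ≃ₗ[F] V)) (p : ℕ) [hpf : Fact p.Prime]

/-- the elements of `T0` with `σ`-fixed eigenvalues of order dividing `p`, trivial on `V0` -/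
def TD : Subgroup (V ≃ₗ[F] V) where
  carrier := {g | g ∈ T0 ∧ (∀ x, ∃ l : F, l ^ p = 1 ∧ H.σ l = l ∧ g (Fr.b x) = l • Fr.b x) ∧ ∀ w ∈ Fr.V0, g w = w}
  one_mem' := ⟨one_mem _, fun x => ⟨1, one_pow _, map_one _, by rw [one_smul]; rfl⟩, fun _ _ => rfl⟩
  mul_mem' := by
    rintro g k ⟨h1, h2, h3⟩ ⟨h4, h5, h6⟩
    refine ⟨mul_mem h1 h4, fun x => ?_, fun w hw => by rw [mul_apply', h6 w hw, h3 w hw]⟩
    obtain ⟨l, hl, hl', e⟩ := h2 x
    obtain ⟨m, hm, hm', e'⟩ := h5 x
    exact ⟨l * m, by rw [mul_pow, hl, hm, one_mul], by rw [map_mul, hl', hm'],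
      by rw [mul_apply', e', map_smul, e, smul_smul, mul_comm]⟩
  inv_mem' := by
    rintro g ⟨h1, h2, h3⟩
    refine ⟨inv_mem h1, fun x => ?_, fun w hw => ?_⟩
    · obtain ⟨l, hl, hl', e⟩ := h2 x
      have hl0 : l ≠ 0 := by
        rintro rfl
        rw [zero_pow hpf.out.ne_zero] at hl
        exact zero_ne_one hl
      refine ⟨l⁻¹, by rw [inv_pow, hl, inv_one], by rw [map_inv₀, hl'], ?_⟩
      have h4 : g⁻¹ (g (Fr.b x)) = Fr.b x := by
        rw [← mul_apply', inv_mul_cancel]; rfl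
      rw [e, map_smul] at h4
      nth_rw 2 [← h4]
      rw [smul_smul, inv_mul_cancel₀ hl0, one_smul]
    · have h4 : g⁻¹ (g w) = w := by
        rw [← mul_apply', inv_mul_cancel]; rfl
      rwa [h3 w hw] at h4

variable {Fr T0 p}

theorem mem_TD {g : V ≃ₗ[F] V} : g ∈ TD Fr T0 p ↔
    g ∈ T0 ∧ (∀ x, ∃ l : F, l ^ p = 1 ∧ H.σ l = l ∧ g (Fr.b x) = l • Fr.b x) ∧ ∀ w ∈ Fr.V0, g w = w := Iff.rfl

/-- a linear map fixing the frame and `V0` is trivial -/
theorem eq_one_of_fix' (hV0 : ∀ v, (∀ x, H.h v (Fr.b x) = 0) → v ∈ Fr.V0) {g : V ≃ₗ[F] V}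
    (hb : ∀ x, g (Fr.b x) = Fr.b x) (h0 : ∀ w ∈ Fr.V0, g w = w) : g = 1 := by
  ext v
  set u : V := ∑ x, (H.h v (Fr.b (neg x)) * (Fr.η (neg x))⁻¹) • Fr.b x with hu
  have h1 : v - u ∈ Fr.V0 := by
    apply hV0
    intro y
    rw [H.sub_left, sub_eq_zero]
    have h2 : H.h u (Fr.b y) = ∑ x, (H.h v (Fr.b (neg x)) * (Fr.η (neg x))⁻¹) * H.h (Fr.b x) (Fr.b y) := by
      rw [hu]
      have : ∀ (s : Finset (Fin n × Bool)) (f : Fin n × Bool → F), H.h (∑ x ∈ s, f x • Fr.b x) (Fr.b y) =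
          ∑ x ∈ s, f x * H.h (Fr.b x) (Fr.b y) := by
        intro s f
        induction s using Finset.induction_on with
        | empty => simp [H.zero_left]
        | insert a s ha ih => rw [Finset.sum_insert ha, Finset.sum_insert ha, H.add_left, H.smul_left, ih]
      exact this _ _
    rw [h2, Finset.sum_eq_single (neg y)]
    · rw [WittFrame.neg_neg, Fr.hb_neg_self]
      have := Fr.η_ne y
      field_simp
    · intro x _ hx
      rw [Fr.hb_ne, mul_zero]
      rintro rfl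
      exact hx (WittFrame.neg_neg x).symm
    · intro h; exact absurd (Finset.mem_univ _) h
  have h2 : g u = u := by
    rw [hu, map_sum]
    exact Finset.sum_congr rfl fun x _ => by rw [map_smul, hb]
  have h3 : v = (v - u) + u := by abel
  show g v = v
  rw [h3, map_add, h0 _ h1, h2]

theorem pow_eq_one_of_mem (hV0 : ∀ v, (∀ x, H.h v (Fr.b x) = 0) → v ∈ Fr.V0) {g : V ≃ₗ[F] V}
    (hg : g ∈ TD Fr T0 p) : g ^ p = 1 := by
  obtain ⟨-, h2, h3⟩ := hg
  apply eq_one_of_fix' hV0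
  · intro x
    obtain ⟨l, hl, -, e⟩ := h2 x
    have h1 : ∀ m : ℕ, (g ^ m) (Fr.b x) = l ^ m • Fr.b x := by
      intro m
      induction m with
      | zero => rw [pow_zero, pow_zero, one_smul]; rfl
      | succ m ih => rw [pow_succ, mul_apply', e, map_smul, ih, smul_smul, pow_succ, mul_comm]
    rw [h1, hl, one_smul]
  · intro w hw
    have h1 : ∀ m : ℕ, (g ^ m) w = w := by
      intro m
      induction m with
      | zero => rfl
      | succ m ih => rw [pow_succ, mul_apply', h3 w hw, ih]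
    exact h1 p

/-- A good monomial element preserves `V0`. -/
theorem Good.map_V0 (hV0 : ∀ v, (∀ x, H.h v (Fr.b x) = 0) → v ∈ Fr.V0) {g : V ≃ₗ[F] V} (hg : Good Fr g)
    {π ρ : Fin n × Bool → Fin n × Bool} (hm : Mono Fr g π) (hρ : ∀ x, π (ρ x) = x) {w : V} (hw : w ∈ Fr.V0) :
    g w ∈ Fr.V0 := by
  apply hV0
  intro x
  obtain ⟨l, hl, e⟩ := hm (ρ x)
  rw [hρ] at e
  have h1 : Fr.b x = l⁻¹ • g (Fr.b (ρ x)) := by rw [e, smul_smul, inv_mul_cancel₀ hl, one_smul]
  rw [h1, H.smul_right, hg.1, Fr.h0' _ hw, mul_zero]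

theorem nn_conj_TD [Finite V] {p0 : Fr.Adm} (hT : TorT Fr p0 T0) (hp0 : p0.c ≠ 0)
    (hV0 : ∀ v, (∀ x, H.h v (Fr.b x) = 0) → v ∈ Fr.V0) (i : Fin n) {g : V ≃ₗ[F] V} (hg : g ∈ TD Fr T0 p) :
    nn Fr p0 i * g * (nn Fr p0 i)⁻¹ ∈ TD Fr T0 p := by
  obtain ⟨h1, h2, h3⟩ := hg
  have hm := mono_nn hp0 i
  have hinv : (nn Fr p0 i)⁻¹ * nn Fr p0 i = 1 := inv_mul_cancel _
  refine ⟨hT.norm i g h1, fun x => ?_, fun w hw => ?_⟩
  · obtain ⟨m, hm0, em⟩ := hm (sg i x)
    rw [sg_sg] at em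
    obtain ⟨l, hl, hl', e⟩ := h2 (sg i x)
    refine ⟨l, hl, hl', ?_⟩
    have e1 : (nn Fr p0 i)⁻¹ (Fr.b x) = m⁻¹ • Fr.b (sg i x) := by
      have e2 : Fr.b x = m⁻¹ • nn Fr p0 i (Fr.b (sg i x)) := by
        rw [em, smul_smul, inv_mul_cancel₀ hm0, one_smul]
      rw [e2, map_smul, ← mul_apply', hinv]; rfl
    rw [mul_apply', mul_apply', e1, map_smul, e, map_smul, map_smul, em, smul_smul, smul_smul]
    congr 1
    field_simp
  · have h4 : (nn Fr p0 i)⁻¹ w ∈ Fr.V0 :=
      Good.map_V0 hV0 (good_nn hp0 i).inv (hm.inv (sg_sg i)) (ρ := sg i) (sg_sg i) hw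
    rw [mul_apply', mul_apply', h3 _ h4, ← mul_apply', mul_inv_cancel]; rfl

end TD

/-! ### Rank one elements -/

section Rank

variable {T0 : Subgroup (V ≃ₗ[F] V)} {p : ℕ} [hpf : Fact p.Prime] {p0 : Fr.Adm}

/-- the element with eigenvalue `a σ(a)` on `b (i, true)` -/
def ts (p0 : Fr.Adm) (i : Fin n) (a : F) : V ≃ₗ[F] V :=
  nZ Fr (i, true) (Frame.Adm.smul a p0) * (nZ Fr (i, true) p0)⁻¹

theorem eig_ts (hT : TorT Fr p0 T0) (hp0 : p0.c ≠ 0) (hV0 : ∀ v, (∀ x, H.h v (Fr.b x) = 0) → v ∈ Fr.V0) [Finite V]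
    (i : Fin n) {a l : F} (ha : a ≠ 0) (hl : a * H.σ a = l) (hσ : H.σ l = l) :
    Eig Fr (ts p0 i a) (fun x => if x = (i, true) then l else if x = (i, false) then l⁻¹ else 1) := by
  have hσa : H.σ a ≠ 0 := by simpa using ha
  have hl0 : l ≠ 0 := by rw [← hl]; exact mul_ne_zero ha hσa
  have hc : (Frame.Adm.smul a p0).c ≠ 0 := by
    rw [Frame.Adm.smul_c]; exact mul_ne_zero (mul_ne_zero ha hσa) hp0
  have hη := Fr.η_ne (i, true)
  have hε := H.ε_ne
  have hσp : H.σ p0.c ≠ 0 := by simpa using hp0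
  have hcc : (Frame.Adm.smul a p0).c = l * p0.c := by rw [Frame.Adm.smul_c, hl]
  have hinv : (nZ Fr (i, true) p0)⁻¹ * nZ Fr (i, true) p0 = 1 := inv_mul_cancel _
  refine ⟨HForm.IsIso.mul H (isIso_nZ Fr _ _) (HForm.IsIso.inv H (isIso_nZ Fr _ _)), ?_, ?_, ?_⟩
  · intro x
    by_cases h1 : x = (i, true)
    · subst h1
      rw [if_pos rfl]
      have e1 := nZ_apply_neg Fr (i, true) p0 hp0
      have e2 : (nZ Fr (i, true) p0)⁻¹ (Fr.b (i, true)) = (Fr.η (i, true) * p0.c)⁻¹ • Fr.b (neg (i, true)) := by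
        have e3 : Fr.b (i, true) = (Fr.η (i, true) * p0.c)⁻¹ • nZ Fr (i, true) p0 (Fr.b (neg (i, true))) := by
          rw [e1, smul_smul, inv_mul_cancel₀ (mul_ne_zero hη hp0), one_smul]
        conv_lhs => rw [e3]
        rw [map_smul, ← mul_apply', hinv]; rfl
      rw [ts, mul_apply', e2, map_smul, nZ_apply_neg Fr (i, true) _ hc, hcc, smul_smul]
      congr 1
      field_simp
    · by_cases h2 : x = (i, false)
      · subst h2
        rw [if_neg h1, if_pos rfl]
        have e1 := nZ_apply_self Fr (i, true) p0 hp0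
        have e2 : (nZ Fr (i, true) p0)⁻¹ (Fr.b (neg (i, true))) =
            (H.ε * (Fr.η (i, true))⁻¹ * (H.σ p0.c)⁻¹)⁻¹ • Fr.b (i, true) := by
          have e3 : Fr.b (neg (i, true)) =
              (H.ε * (Fr.η (i, true))⁻¹ * (H.σ p0.c)⁻¹)⁻¹ • nZ Fr (i, true) p0 (Fr.b (i, true)) := by
            rw [e1, smul_smul, inv_mul_cancel₀ (by simp [*]), one_smul]
          conv_lhs => rw [e3]
          rw [map_smul, ← mul_apply', hinv]; rfl
        show (ts p0 i a) (Fr.b (neg (i, true))) = l⁻¹ • Fr.b (neg (i, true))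
        rw [ts, mul_apply', e2, map_smul, nZ_apply_self Fr (i, true) _ hc, hcc, map_mul, hσ, smul_smul]
        congr 1
        field_simp
      · rw [if_neg h1, if_neg h2, one_smul]
        have h3 : x.1 ≠ ((i, true) : Fin n × Bool).1 := by
          intro h3
          obtain ⟨j, s⟩ := x
          simp only at h3
          subst h3
          cases s
          · exact h2 rfl
          · exact h1 rfl
        have e1 := nZ_apply_of_ne Fr (x := (i, true)) h3 p0
        have e2 : (nZ Fr (i, true) p0)⁻¹ (Fr.b x) = Fr.b x := by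
          conv_lhs => rw [← e1]
          rw [← mul_apply', hinv]; rfl
        rw [ts, mul_apply', e2, nZ_apply_of_ne Fr (x := (i, true)) h3]
  · intro x
    split_ifs
    · exact hσ
    · rw [map_inv₀, hσ]
    · exact map_one _
  · intro w hw
    have h4 : (nZ Fr (i, true) p0)⁻¹ w ∈ Fr.V0 := by
      apply hV0
      intro x
      have hiso := HForm.IsIso.inv H (isIso_nZ Fr (i, true) p0)
      obtain ⟨m, y, hm⟩ : ∃ (m : F) (y : Fin n × Bool), Fr.b x = m • (nZ Fr (i, true) p0)⁻¹ (Fr.b y) := by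
        by_cases h1 : x = (i, true)
        · subst h1
          refine ⟨H.ε * (Fr.η (i, true))⁻¹ * (H.σ p0.c)⁻¹, neg (i, true), ?_⟩
          have e1 := nZ_apply_self Fr (i, true) p0 hp0
          rw [← map_smul, ← e1, ← mul_apply', hinv]; rfl
        · by_cases h2 : x = (i, false)
          · subst h2
            refine ⟨Fr.η (i, true) * p0.c, (i, true), ?_⟩
            have e1 := nZ_apply_neg Fr (i, true) p0 hp0
            rw [← map_smul, ← e1, ← mul_apply', hinv]; rfl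
          · have h3 : x.1 ≠ ((i, true) : Fin n × Bool).1 := by
              intro h3
              obtain ⟨j, s⟩ := x
              simp only at h3
              subst h3
              cases s
              · exact h2 rfl
              · exact h1 rfl
            have e1 := nZ_apply_of_ne Fr (x := (i, true)) h3 p0
            refine ⟨1, x, ?_⟩
            rw [one_smul]
            conv_rhs => rw [← e1]
            rw [← mul_apply', hinv]; rfl
      rw [hm, H.smul_right, hiso, Fr.h0' _ hw, mul_zero]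
    have h5 : nZ Fr (i, true) (Frame.Adm.smul a p0) ((nZ Fr (i, true) p0)⁻¹ w) =
        nZ Fr (i, true) p0 ((nZ Fr (i, true) p0)⁻¹ w) := by
      rw [nZ_apply_V0 Fr _ _ hc h4, nZ_apply_V0 Fr _ _ hp0 h4, Frame.Adm.smul_w, Frame.Adm.smul_c, H.smul_right,
        smul_smul]
      congr 2
      field_simp
    rw [ts, mul_apply', h5, ← mul_apply', mul_inv_cancel]; rfl

end Rank

/-! ### The group generated by the root groups -/

section Grp

variable {W : Type*} [Group W] (cs : CoxeterSystem (CoxeterMatrix.B n) W)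

variable (Fr) in
/-- The group generated by the root groups. -/
def Y0 : Subgroup (V ≃ₗ[F] V) := G1 cs (isCartan n) (rg Fr)

theorem PG_le_Y0 {a b : Fin n × Bool} (hab : Ok a b) : PG Fr a b ≤ Y0 Fr cs := by
  obtain ⟨x, hx, e⟩ := (rt_of_ok (cs := cs) hab)
  rw [← rg_eq Fr hab e]
  exact X_le_G1 hx

theorem X_mem_Y0 (a b : Fin n × Bool) (t : F) : Fr.X a b t ∈ Y0 Fr cs := by
  by_cases h : a.1 ≠ b.1
  · refine PG_le_Y0 cs (Or.inl h) ?_
    rw [PG_ne Fr h]; exact ⟨t, rfl⟩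
  · rw [Frame.X, dif_neg h]; exact one_mem _

theorem Z_mem_Y0 (a : Fin n × Bool) (p : Fr.Adm) : Fr.Z a p ∈ Y0 Fr cs := by
  refine PG_le_Y0 cs (a := a) (b := a) (Or.inr rfl) ?_
  rw [PG_self]; exact ⟨p, rfl⟩

theorem nX_mem_Y0 (a b : Fin n × Bool) (t : F) : nX Fr a b t ∈ Y0 Fr cs :=
  mul_mem (mul_mem (X_mem_Y0 cs _ _ _) (X_mem_Y0 cs _ _ _)) (X_mem_Y0 cs _ _ _)

theorem nZ_mem_Y0 (a : Fin n × Bool) (p : Fr.Adm) : nZ Fr a p ∈ Y0 Fr cs :=
  mul_mem (mul_mem (Z_mem_Y0 cs _ _) (Z_mem_Y0 cs _ _)) (Z_mem_Y0 cs _ _)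

theorem nn_mem_Y0 (p0 : Fr.Adm) (i : Fin n) : Cfsg.Agent.Nodes.WittRGD.nn Fr p0 i ∈ Y0 Fr cs := by
  unfold Cfsg.Agent.Nodes.WittRGD.nn
  split_ifs
  · exact nX_mem_Y0 cs _ _ _
  · exact nZ_mem_Y0 cs _ _

theorem rg_le_Y0 {x : Fin n → ℤ} (hx : IsRoot cs (isCartan n) x) : rg Fr x ≤ Y0 Fr cs := X_le_G1 hx

/-- the root groups generate `Y0` -/
theorem G1_Y0 : G1 cs (isCartan n) (fun x => (rg Fr x).subgroupOf (Y0 Fr cs)) = ⊤ := by
  unfold G1 RGD.Sup
  rw [← iSup_subgroupOf (K := Y0 Fr cs) (fun z : {x | IsRoot cs (isCartan n) x} => rg Fr z.1)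
    (fun z => rg_le_Y0 cs z.2)]
  exact Subgroup.subgroupOf_self _

/-- commutative preimage of a type I root group from a third index -/
theorem abPre_three {a b c : Fin n × Bool} (hac : a.1 ≠ c.1) (hcb : c.1 ≠ b.1) (hab : a.1 ≠ b.1) :
    AbPre ((PG Fr a b).subgroupOf (Y0 Fr cs)) := by
  apply AbPre.of_le_commutator
  rintro ⟨g, hg⟩ hgz
  rw [Subgroup.mem_subgroupOf, PG_ne Fr hab] at hgz
  obtain ⟨t, ht⟩ := hgz
  have ht' : g = Fr.X a b t := ht
  subst ht'
  have e0 := Fr.conj_X_X hac hcb hab t 1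
  have e1 : (⟨Fr.X a b t, hg⟩ : Y0 Fr cs) =
      ⁅(⟨Fr.X a c t, X_mem_Y0 cs _ _ _⟩ : Y0 Fr cs), (⟨Fr.X (neg c) b 1, X_mem_Y0 cs _ _ _⟩ : Y0 Fr cs)⁆ := by
    apply Subtype.ext
    show Fr.X a b t = ⁅Fr.X a c t, Fr.X (neg c) b 1⁆
    rw [commutatorElement_def, e0, mul_one, mul_inv_cancel_right]
  rw [e1]
  have hne : ∀ {x y : Fin n × Bool}, x.1 ≠ y.1 → y ≠ neg x := fun h => Frame.ne_neg h
  have hself : ∀ x : Fin n × Bool, x ≠ neg x := ne_neg_self
  refine Subgroup.commutator_mem_commutator ?_ ?_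
  · rw [Subgroup.mem_centralizer_iff]
    rintro ⟨x, hx⟩ hxz
    rw [SetLike.mem_coe, Subgroup.mem_subgroupOf, PG_ne Fr hab] at hxz
    obtain ⟨s, hs⟩ := hxz
    have hs' : x = Fr.X a b s := hs
    subst hs'
    apply Subtype.ext
    exact (Fr.commute_XX (x := a) (y := b) (z := a) (u := c) (hself a) (hne hab.symm) (hne hac) (hne hcb.symm) s t).eq
  · rw [Subgroup.mem_centralizer_iff]
    rintro ⟨x, hx⟩ hxz
    rw [SetLike.mem_coe, Subgroup.mem_subgroupOf, PG_ne Fr hab] at hxz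
    obtain ⟨s, hs⟩ := hxz
    have hs' : x = Fr.X a b s := hs
    subst hs'
    apply Subtype.ext
    refine (Fr.commute_XX (x := a) (y := b) (z := neg c) (u := b) ?_ ?_ (hne hab) (hself b) s 1).eq
    · exact hne (by rw [neg_fst]; exact hac)
    · exact hne (by rw [neg_fst]; exact hcb.symm)

/-- commutative preimage of a type I root group from the field -/
theorem abPre_field [Finite F] [CharP F 2] (hq : 4 < Nat.card F) {a b : Fin n × Bool} (hab : a.1 ≠ b.1) :
    AbPre ((PG Fr a b).subgroupOf (Y0 Fr cs)) := by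
  refine AbPre.of_field hq (fun t => (⟨Fr.X a b t, X_mem_Y0 cs _ _ _⟩ : Y0 Fr cs)) ?_ ?_ ?_
  · intro s t
    exact Subtype.ext (Fr.X_add a b s t)
  · intro c hc
    obtain ⟨y, hy⟩ := sq_surjective c
    have hy0 : y ≠ 0 := by rintro rfl; exact hc (by rw [← hy, zero_mul])
    refine ⟨⟨nX Fr a b y * (nX Fr a b 1)⁻¹, mul_mem (nX_mem_Y0 cs _ _ _) (inv_mem (nX_mem_Y0 cs _ _ _))⟩,
      fun t => Subtype.ext ?_⟩
    show nX Fr a b y * (nX Fr a b 1)⁻¹ * Fr.X a b t * (nX Fr a b y * (nX Fr a b 1)⁻¹)⁻¹ = Fr.X a b (c * t)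
    have e1 := nX_conj_X_neg Fr hab (one_ne_zero : (1 : F) ≠ 0) (-t)
    rw [one_pow, one_mul, _root_.neg_neg] at e1
    have e2 : (nX Fr a b 1)⁻¹ * Fr.X a b t * nX Fr a b 1 = Fr.X (neg b) (neg a) (-t) := by
      rw [← e1]; group
    have e3 : nX Fr a b y * (nX Fr a b 1)⁻¹ * Fr.X a b t * (nX Fr a b y * (nX Fr a b 1)⁻¹)⁻¹ =
        nX Fr a b y * ((nX Fr a b 1)⁻¹ * Fr.X a b t * nX Fr a b 1) * (nX Fr a b y)⁻¹ := by group
    rw [e3, e2, nX_conj_X_neg Fr hab hy0]
    congr 1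
    rw [← hy]; ring
  · rintro ⟨x, hx⟩ hxz
    rw [Subgroup.mem_subgroupOf, PG_ne Fr hab] at hxz
    obtain ⟨s, hs⟩ := hxz
    exact ⟨s, Subtype.ext hs.symm⟩

end Grp

/-- A linear map fixing all lines commutes with every linear map. -/
theorem commute_of_lines {g : V ≃ₗ[F] V} (hs : ∀ v, ∃ a : F, g v = a • v) (k : V ≃ₗ[F] V) : g * k = k * g := by
  have hk : ∀ v, ∃ c : F, k v ≠ 0 → g v = c • v ∧ g (k v) = c • k v := by
    intro v
    by_cases hv : ∃ m : F, k v = m • v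
    · obtain ⟨m, hm⟩ := hv
      obtain ⟨a, ha⟩ := hs v
      exact ⟨a, fun _ => ⟨ha, by rw [hm, map_smul, ha, smul_comm]⟩⟩
    · obtain ⟨a, ha⟩ := hs v
      obtain ⟨c, hc⟩ := hs (k v)
      obtain ⟨d, hd⟩ := hs (v + k v)
      rw [map_add, ha, hc, smul_add] at hd
      have h1 : (c - d) • k v = (d - a) • v := by
        rw [sub_smul, sub_smul]
        have h2 := hd
        rw [← sub_eq_zero] at h2 ⊢
        rw [← h2]; abel
      have hcd : c = d := by
        by_contra hne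
        apply hv
        refine ⟨(c - d)⁻¹ * (d - a), ?_⟩
        rw [mul_smul, ← h1, smul_smul, inv_mul_cancel₀ (sub_ne_zero.2 hne), one_smul]
      have hv0 : v ≠ 0 := by
        rintro rfl
        exact hv ⟨0, by rw [map_zero, zero_smul]⟩
      have had : a = d := by
        subst hcd
        rw [sub_self, zero_smul] at h1
        rcases smul_eq_zero.1 h1.symm with h3 | h3
        · exact (sub_eq_zero.1 h3).symm
        · exact absurd h3 hv0
      exact ⟨c, fun _ => ⟨by rw [ha, had, hcd], hc⟩⟩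
  ext v
  change g (k v) = k (g v)
  obtain ⟨c, hc⟩ := hk v
  by_cases h0 : k v = 0
  · have hv : v = 0 := k.map_eq_zero_iff.1 h0
    rw [hv]; simp
  · obtain ⟨h1, h2⟩ := hc h0
    rw [h1, h2, map_smul]

/-! ### The main theorem -/

section Main

variable {T0 : Subgroup (V ≃ₗ[F] V)} {p : ℕ} [hpf : Fact p.Prime] {p0 : Fr.Adm}
  {W : Type*} [Group W] (cs : CoxeterSystem (CoxeterMatrix.B n) W)

/-- The assumptions. -/
structure Hyp (Fr : Frame H (Fin n)) (p0 : Fr.Adm) (T0 : Subgroup (V ≃ₗ[F] V)) (p : ℕ) (l : F) : Prop where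
  tor : TorT Fr p0 T0
  aniso : ∀ w, Fr.ok w 0 → w = 0
  c0 : p0.c ≠ 0
  V0 : ∀ v, (∀ x, H.h v (Fr.b x) = 0) → v ∈ Fr.V0
  odd : Odd p
  l0 : l ≠ 0
  lσ : H.σ l = l
  ord : orderOf l = p

variable {l : F} (hh : Hyp Fr p0 T0 p l)

include hh

theorem Hyp.pow : l ^ p = 1 := by rw [← hh.ord, pow_orderOf_eq_one]

theorem Hyp.ne_one : l ≠ 1 := by
  intro h1
  have := hh.ord
  rw [h1, orderOf_one] at this
  exact hpf.out.one_lt.ne this

theorem Hyp.sq_ne : l * l ≠ 1 := by
  intro h1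
  have h2 : l ^ (2 : ℤ) = 1 := by rw [zpow_ofNat, pow_two, h1]
  have h3 := Int.le_of_dvd (by norm_num) ((zpow_eq_one_iff hh.l0 hh.ord 2).1 h2)
  have h4 := hpf.out.two_le
  obtain ⟨k, hk⟩ := hh.odd
  omega

variable [Finite V]

/-- elements of the torsion subgroup with one given eigenvalue -/
theorem exists_ts (c : Fin n × Bool) {m : F} (hm : m ^ p = 1) (hσ : H.σ m = m) :
    ∃ g, g ∈ TD Fr T0 p ∧ g ∈ Y0 Fr cs ∧ Eig Fr g (fun x => if x = c then m else if x = ng c then m⁻¹ else 1) := by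
  -- first for `c = (i, true)`
  have key : ∀ (i : Fin n) (m : F), m ^ p = 1 → H.σ m = m → ∃ g, g ∈ TD Fr T0 p ∧ g ∈ Y0 Fr cs ∧
      Eig Fr g (fun x => if x = (i, true) then m else if x = (i, false) then m⁻¹ else 1) := by
    intro i m hm hσ
    have hm0 : m ≠ 0 := by
      rintro rfl
      rw [zero_pow hpf.out.ne_zero] at hm
      exact zero_ne_one hm
    obtain ⟨k, hk⟩ := hh.odd
    have ha : m ^ (k + 1) * H.σ (m ^ (k + 1)) = m := by
      rw [map_pow, hσ, ← pow_add]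
      have e : k + 1 + (k + 1) = p + 1 := by omega
      rw [e, pow_succ, hm, one_mul]
    have ha0 : m ^ (k + 1) ≠ 0 := pow_ne_zero _ hm0
    have hE := eig_ts hh.tor hh.c0 hh.V0 i ha0 ha hσ
    refine ⟨ts p0 i (m ^ (k + 1)), ⟨?_, fun x => ?_, hE.V0⟩, ?_, hE⟩
    · refine hh.tor.qZ i _ _ ?_ hh.c0
      rw [Frame.Adm.smul_c, ha]
      exact mul_ne_zero hm0 hh.c0
    · refine ⟨_, ?_, hE.fix x, hE.ap x⟩
      try dsimp only
      split_ifs
      · exact hm
      · rw [inv_pow, hm, inv_one]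
      · exact one_pow _
    · exact mul_mem (nZ_mem_Y0 cs _ _) (inv_mem (nZ_mem_Y0 cs _ _))
  obtain ⟨i, s⟩ := c
  cases s
  · obtain ⟨g, h1, h2, h3⟩ := key i m⁻¹ (by rw [inv_pow, hm, inv_one]) (by rw [map_inv₀, hσ])
    refine ⟨g, h1, h2, ⟨h3.iso, fun x => ?_, fun x => ?_, h3.V0⟩⟩
    · rw [h3.ap x]
      congr 1
      have e : ng ((i, false) : Fin n × Bool) = (i, true) := rfl
      rw [e, inv_inv]
      by_cases hx : x = (i, true)
      · subst hx; simp
      · by_cases hx' : x = (i, false)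
        · subst hx'; simp
        · rw [if_neg hx, if_neg hx', if_neg hx', if_neg hx]
    · try dsimp only
      split_ifs
      · exact hσ
      · rw [map_inv₀, hσ]
      · exact map_one _
  · exact key i m hm hσ

omit hh [Finite V] in
/-- an element with nontrivial eigenvalue on a root group acts freely -/
theorem free_of_eig {g : V ≃ₗ[F] V} (hg1 : g ∈ TD Fr T0 p) (hg2 : g ∈ Y0 Fr cs) {m : Fin n × Bool → F}
    (hE : Eig Fr g m) (hodd : Odd p) {c d : Fin n × Bool} (hcd : Ok c d)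
    (h2 : if c = d then m c ≠ 1 else m c * m d ≠ 1) :
    ∀ v : Y0 Fr cs, v ∈ (PG Fr c d).subgroupOf (Y0 Fr cs) → (⟨g, hg2⟩ : Y0 Fr cs) * v = v * ⟨g, hg2⟩ → v = 1 := by
  rintro ⟨x, hx⟩ hxz hc
  rw [Subgroup.mem_subgroupOf] at hxz
  have hc' : g * x = x * g := congrArg Subtype.val hc
  rw [← mul_inv_eq_iff_eq_mul] at hc'
  apply Subtype.ext
  show x = 1
  rcases hcd with hcd | rfl
  · rw [if_neg (fun h => hcd (congrArg Prod.fst h))] at h2
    rw [PG_ne Fr hcd] at hxz
    obtain ⟨t, ht⟩ := hxz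
    have ht' : x = Fr.X c d t := ht
    rw [ht', hE.conj_X hcd] at hc'
    have h3 := X_inj hcd hc'
    have h4 : t = 0 := by
      by_contra ht0
      exact h2 (mul_right_cancel₀ ht0 (h3.trans (one_mul t).symm))
    rw [ht', h4, Fr.X_zero]
  · rw [if_pos rfl] at h2
    rw [PG_self] at hxz
    obtain ⟨q, hq⟩ := hxz
    have hq' : x = Fr.Z c q := hq
    rw [hq', hE.conj_Z] at hc'
    have h3 := Z_inj hc'
    have hw : q.w = 0 := by
      have h4 := congrArg Frame.Adm.w h3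
      rw [Frame.Adm.smul_w] at h4
      have h5 : (m c - 1) • q.w = 0 := by rw [sub_smul, h4, one_smul, sub_self]
      exact (smul_eq_zero.1 h5).resolve_left (sub_ne_zero.2 h2)
    have hmc2 : m c * m c ≠ 1 := by
      intro h4
      obtain ⟨-, h5, -⟩ := hg1
      obtain ⟨l', hl', -, e⟩ := h5 c
      have h6 : l' = m c := by
        rw [hE.ap c] at e
        have h7 : (m c - l') • Fr.b c = 0 := by rw [sub_smul, e, sub_self]
        exact (sub_eq_zero.1 ((smul_eq_zero.1 h7).resolve_right (b_ne_zero c))).symm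
      rw [h6] at hl'
      obtain ⟨k, hk⟩ := hodd
      apply h2
      rw [hk, pow_succ, pow_mul, pow_two, h4, one_pow, one_mul] at hl'
      exact hl'
    have hcz : q.c = 0 := by
      have h4 := congrArg Frame.Adm.c h3
      rw [Frame.Adm.smul_c, hE.fix] at h4
      by_contra hne
      exact hmc2 (mul_right_cancel₀ hne (h4.trans (one_mul _).symm))
    have : q = 1 := Frame.Adm.ext hw hcz
    rw [hq', this, Fr.Z_one]

omit hh [Finite V] in
/-- eigenvalue of the product on a root group -/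
theorem sep_PG {g : V ≃ₗ[F] V} (hg1 : g ∈ TD Fr T0 p) (hg2 : g ∈ Y0 Fr cs) {m : Fin n × Bool → F} (hE : Eig Fr g m)
    (hodd : Odd p) {a b c d : Fin n × Bool} (hab : Ok a b) (hcd : Ok c d)
    (h1 : if a = b then m a = 1 else m a * m b = 1) (h2 : if c = d then m c ≠ 1 else m c * m d ≠ 1) :
    Sep ((TD Fr T0 p).subgroupOf (Y0 Fr cs)) ((PG Fr a b).subgroupOf (Y0 Fr cs)) ((PG Fr c d).subgroupOf (Y0 Fr cs)) := by
  refine ⟨⟨g, hg2⟩, hg1, ?_, free_of_eig cs hg1 hg2 hE hodd hcd h2⟩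
  rintro ⟨x, hx⟩ hxz
  rw [Subgroup.mem_subgroupOf] at hxz
  apply Subtype.ext
  show g * x = x * g
  rw [← mul_inv_eq_iff_eq_mul]
  rcases hab with hab | rfl
  · rw [if_neg (fun h => hab (congrArg Prod.fst h))] at h1
    rw [PG_ne Fr hab] at hxz
    obtain ⟨t, ht⟩ := hxz
    have ht' : x = Fr.X a b t := ht
    rw [ht', hE.conj_X hab, h1, one_mul]
  · rw [if_pos rfl] at h1
    rw [PG_self] at hxz
    obtain ⟨q, hq⟩ := hxz
    have hq' : x = Fr.Z a q := hq
    rw [hq', hE.conj_Z, h1, Frame.Adm.one_smul]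

theorem sep_pairs {a b c d : Fin n × Bool} (hab : Ok a b) (hcd : Ok c d)
    (h1 : ¬ (c = a ∧ d = b)) (h2 : ¬ (c = b ∧ d = a)) (h3 : ¬ (c = ng a ∧ d = ng b)) (h4 : ¬ (c = ng b ∧ d = ng a)) :
    Sep ((TD Fr T0 p).subgroupOf (Y0 Fr cs)) ((PG Fr a b).subgroupOf (Y0 Fr cs)) ((PG Fr c d).subgroupOf (Y0 Fr cs)) := by
  have hl1 := hh.ne_one
  have hl2 := hh.sq_ne
  have hinv1 : l⁻¹ ≠ 1 := fun h => hl1 (inv_eq_one.1 h)
  have hfst : ∀ {x y : Fin n × Bool}, x.1 ≠ y.1 → x ≠ y ∧ x ≠ ng y := fun h =>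
    ⟨fun e => h (congrArg Prod.fst e), fun e => h (by rw [e, ng_fst])⟩
  have hngself : ∀ x : Fin n × Bool, ng x ≠ x := fun x h => by
    have := congrArg Prod.snd h
    simp at this
  -- one eigenvalue outside the indices of `a`, `b`
  have one : ∀ e : Fin n × Bool, e.1 ≠ a.1 → e.1 ≠ b.1 →
      (if c = d then (if c = e then l else if c = ng e then l⁻¹ else 1 : F) ≠ 1 else
        (if c = e then l else if c = ng e then l⁻¹ else 1 : F) * (if d = e then l else if d = ng e then l⁻¹ else 1) ≠ 1) →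
      Sep ((TD Fr T0 p).subgroupOf (Y0 Fr cs)) ((PG Fr a b).subgroupOf (Y0 Fr cs))
        ((PG Fr c d).subgroupOf (Y0 Fr cs)) := by
    intro e hea heb h5
    obtain ⟨g, hg1, hg2, hE⟩ := exists_ts cs hh e hh.pow hh.lσ
    refine sep_PG cs hg1 hg2 hE hh.odd hab hcd ?_ h5
    have ha := hfst (Ne.symm hea)
    have hb := hfst (Ne.symm heb)
    try dsimp only
    rw [if_neg ha.1, if_neg ha.2, if_neg hb.1, if_neg hb.2, mul_one]
    split_ifs <;> rfl
  by_cases hEq : a = b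
  · subst hEq
    by_cases hcd' : c = d
    · subst hcd'
      have hca : c.1 ≠ a.1 := by
        intro h5
        rcases eq_or_ng h5 with h6 | h6
        · exact h1 ⟨h6, h6⟩
        · exact h3 ⟨h6, h6⟩
      refine one c hca hca ?_
      rw [if_pos rfl, if_pos rfl]
      exact hl1
    · have hcd1 : c.1 ≠ d.1 := by
        rcases hcd with h | h
        · exact h
        · exact absurd h hcd'
      by_cases hca : c.1 = a.1
      · have hda : d.1 ≠ a.1 := fun h => hcd1 (hca.trans h.symm)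
        refine one d hda hda ?_
        rw [if_neg hcd', if_neg (hfst hcd1).1, if_neg (hfst hcd1).2, if_pos rfl, one_mul]
        exact hl1
      · refine one c hca hca ?_
        rw [if_neg hcd', if_pos rfl, if_neg (hfst (Ne.symm hcd1)).1, if_neg (hfst (Ne.symm hcd1)).2, mul_one]
        exact hl1
  · have hab1 : a.1 ≠ b.1 := by
      rcases hab with h | h
      · exact h
      · exact absurd h hEq
    -- two eigenvalues
    obtain ⟨g, hg1, hg2, hE⟩ := exists_ts cs hh a hh.pow hh.lσ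
    obtain ⟨k, hk1, hk2, hE'⟩ := exists_ts cs hh b (m := l⁻¹) (by rw [inv_pow, hh.pow, inv_one])
      (by rw [map_inv₀, hh.lσ])
    have hmul := hE.mul hE'
    have two := fun h2 => sep_PG cs (mul_mem hg1 hk1) (mul_mem hg2 hk2) hmul hh.odd (a := a) (b := b) (c := c) (d := d)
      (Or.inl hab1) hcd (by
        rw [if_neg hEq]
        have ha := hfst hab1
        have hb := hfst (Ne.symm hab1)
        try dsimp only
        rw [if_pos rfl, if_neg ha.1, if_neg ha.2, if_neg hb.1, if_neg hb.2, if_pos rfl, mul_one, one_mul,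
          mul_inv_cancel₀ hh.l0]) h2
    have hva : ∀ x : Fin n × Bool, x.1 = a.1 →
        ((if x = a then l else if x = ng a then l⁻¹ else 1 : F) * (if x = b then l⁻¹ else if x = ng b then l⁻¹⁻¹ else 1)) =
          if x = a then l else l⁻¹ := by
      intro x hx
      have hxb : x.1 ≠ b.1 := by rw [hx]; exact hab1
      rw [if_neg (hfst hxb).1, if_neg (hfst hxb).2, mul_one]
      rcases eq_or_ng hx with h | h
      · rw [if_pos h, if_pos h]
      · by_cases h' : x = a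
        · rw [if_pos h', if_pos h']
        · rw [if_neg h', if_pos h, if_neg h']
    have hvb : ∀ x : Fin n × Bool, x.1 = b.1 →
        ((if x = a then l else if x = ng a then l⁻¹ else 1 : F) * (if x = b then l⁻¹ else if x = ng b then l⁻¹⁻¹ else 1)) =
          if x = b then l⁻¹ else l := by
      intro x hx
      have hxa : x.1 ≠ a.1 := by rw [hx]; exact Ne.symm hab1
      rw [if_neg (hfst hxa).1, if_neg (hfst hxa).2, one_mul, inv_inv]
      rcases eq_or_ng hx with h | h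
      · rw [if_pos h, if_pos h]
      · by_cases h' : x = b
        · rw [if_pos h', if_pos h']
        · rw [if_neg h', if_pos h, if_neg h']
    by_cases hcd' : c = d
    · subst hcd'
      by_cases hca : c.1 = a.1
      · refine two ?_
        rw [if_pos rfl]
        try dsimp only
        rw [hva c hca]
        split_ifs
        · exact hl1
        · exact hinv1
      · by_cases hcb : c.1 = b.1
        · refine two ?_
          rw [if_pos rfl]
          try dsimp only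
          rw [hvb c hcb]
          split_ifs
          · exact hinv1
          · exact hl1
        · refine one c hca hcb ?_
          rw [if_pos rfl, if_pos rfl]
          exact hl1
    · have hcd1 : c.1 ≠ d.1 := by
        rcases hcd with h | h
        · exact h
        · exact absurd h hcd'
      by_cases hc : c.1 ≠ a.1 ∧ c.1 ≠ b.1
      · refine one c hc.1 hc.2 ?_
        rw [if_neg hcd', if_pos rfl, if_neg (hfst (Ne.symm hcd1)).1, if_neg (hfst (Ne.symm hcd1)).2, mul_one]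
        exact hl1
      · by_cases hd : d.1 ≠ a.1 ∧ d.1 ≠ b.1
        · refine one d hd.1 hd.2 ?_
          rw [if_neg hcd', if_neg (hfst hcd1).1, if_neg (hfst hcd1).2, if_pos rfl, one_mul]
          exact hl1
        · have hc' : c.1 = a.1 ∨ c.1 = b.1 := by
            by_contra hcon; push Not at hcon; exact hc hcon
          have hd' : d.1 = a.1 ∨ d.1 = b.1 := by
            by_contra hcon; push Not at hcon; exact hd hcon
          have hll : l * l ≠ 1 := hl2
          have hii : l⁻¹ * l⁻¹ ≠ 1 := by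
            intro h5
            apply hl2
            have h6 : (l * l)⁻¹ = 1 := by rw [mul_inv]; exact h5
            exact inv_eq_one.1 h6
          refine two ?_
          rw [if_neg hcd']
          try dsimp only
          rcases hc' with hc' | hc'
          · have hdb : d.1 = b.1 := by
              rcases hd' with h | h
              · exact absurd (hc'.trans h.symm) hcd1
              · exact h
            rw [hva c hc', hvb d hdb]
            rcases eq_or_ng hc' with h5 | h5 <;> rcases eq_or_ng hdb with h6 | h6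
            · exact absurd ⟨h5, h6⟩ h1
            · rw [if_pos h5, if_neg (by rw [h6]; exact hngself b)]
              exact hll
            · rw [if_neg (by rw [h5]; exact hngself a), if_pos h6]
              exact hii
            · exact absurd ⟨h5, h6⟩ h3
          · have hda : d.1 = a.1 := by
              rcases hd' with h | h
              · exact h
              · exact absurd (hc'.trans h.symm) hcd1
            rw [hvb c hc', hva d hda]
            rcases eq_or_ng hc' with h5 | h5 <;> rcases eq_or_ng hda with h6 | h6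
            · exact absurd ⟨h5, h6⟩ h2
            · rw [if_pos h5, if_neg (by rw [h6]; exact hngself a)]
              exact hii
            · rw [if_neg (by rw [h5]; exact hngself b), if_pos h6]
              exact hll
            · exact absurd ⟨h5, h6⟩ h4

theorem free_PG {c d : Fin n × Bool} (hcd : Ok c d) :
    Cfsg.Agent.KFacts.Mult.RGDW.Free ((TD Fr T0 p).subgroupOf (Y0 Fr cs)) ((PG Fr c d).subgroupOf (Y0 Fr cs)) := by
  have hl1 := hh.ne_one
  obtain ⟨g, hg1, hg2, hE⟩ := exists_ts cs hh c hh.pow hh.lσ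
  refine ⟨⟨g, hg2⟩, hg1, free_of_eig cs hg1 hg2 hE hh.odd hcd ?_⟩
  by_cases e : c = d
  · rw [if_pos e, if_pos rfl]
    exact hl1
  · have h1 : c.1 ≠ d.1 := by
      rcases hcd with h | h
      · exact h
      · exact absurd h e
    have h2 : d ≠ c := fun h => e h.symm
    have h3 : d ≠ ng c := fun h => h1 (by rw [h, ng_fst])
    rw [if_neg e, if_pos rfl, if_neg h2, if_neg h3, mul_one]
    exact hl1

variable [CharP F 2]

theorem rgd_Y0 : RGD cs (isCartan n) 2 (T0.subgroupOf (Y0 Fr cs))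
    (fun i => (⟨Cfsg.Agent.Nodes.WittRGD.nn Fr p0 i, nn_mem_Y0 cs p0 i⟩ : Y0 Fr cs))
    (fun x => (rg Fr x).subgroupOf (Y0 Fr cs)) :=
  rgd_restrict (rgdT hh.tor hh.aniso hh.c0 (a := l) hh.l0 (by rw [hh.lσ]; exact hh.sq_ne) cs) (Y0 Fr cs)
    (fun _ hx => rg_le_Y0 cs hx) (nn_mem_Y0 cs p0)

omit [CharP F 2] [Finite V] in
theorem isPGroup_TD : IsPGroup p ↥((TD Fr T0 p).subgroupOf (Y0 Fr cs)) := by
  rintro ⟨⟨g, hg⟩, hgT⟩
  refine ⟨1, Subtype.ext (Subtype.ext ?_)⟩
  show g ^ p ^ 1 = 1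
  rw [pow_one]
  exact pow_eq_one_of_mem hh.V0 hgT

omit hh [CharP F 2] [Finite V] in
theorem TD_le : (TD Fr T0 p).subgroupOf (Y0 Fr cs) ≤ T0.subgroupOf (Y0 Fr cs) := fun _ hg => hg.1

omit [CharP F 2] in
theorem nn_mem_normalizer (i : Fin n) :
    (⟨Cfsg.Agent.Nodes.WittRGD.nn Fr p0 i, nn_mem_Y0 cs p0 i⟩ : Y0 Fr cs) ∈
      Subgroup.normalizer (((TD Fr T0 p).subgroupOf (Y0 Fr cs) : Subgroup (Y0 Fr cs)) : Set (Y0 Fr cs)) := by
  have : Finite (V ≃ₗ[F] V) := Finite.of_injective (fun g : V ≃ₗ[F] V => (g : V → V)) DFunLike.coe_injective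
  refine mem_normalizer_of_le ?_
  rintro ⟨g, hg⟩ hgT
  exact nn_conj_TD hh.tor hh.c0 hh.V0 i hgT

omit [CharP F 2] in
theorem free_rg {x : Fin n → ℤ} (hx : IsRoot cs (isCartan n) x) :
    Cfsg.Agent.KFacts.Mult.RGDW.Free ((TD Fr T0 p).subgroupOf (Y0 Fr cs)) ((rg Fr x).subgroupOf (Y0 Fr cs)) := by
  obtain ⟨c, d, hcd, e⟩ := exists_of_isRoot cs hx
  rw [rg_eq Fr hcd e]
  exact free_PG cs hh hcd

omit [CharP F 2] in
theorem sep_rg {i : Fin n} {y : Fin n → ℤ} (hy : IsRoot cs (isCartan n) y) (h1 : y ≠ sr i) (h2 : y ≠ -sr i) :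
    Sep ((TD Fr T0 p).subgroupOf (Y0 Fr cs)) ((rg Fr (sr i)).subgroupOf (Y0 Fr cs))
      ((rg Fr y).subgroupOf (Y0 Fr cs)) := by
  obtain ⟨c, d, hcd, e⟩ := exists_of_isRoot cs hy
  rw [rg_sr, rg_eq Fr hcd e]
  have e1 : ee (sr i : Fin n → ℤ) = wt (i, true) + wt (nx i) := ee_sr i
  refine sep_pairs cs hh (ok_nx i) hcd ?_ ?_ ?_ ?_
  · rintro ⟨rfl, rfl⟩
    exact h1 (ee_injective (e.trans e1.symm))
  · rintro ⟨rfl, rfl⟩
    exact h1 (ee_injective (e.trans (by rw [e1, add_comm])))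
  · rintro ⟨rfl, rfl⟩
    exact h2 (ee_injective (e.trans (ee_neg_sr i).symm))
  · rintro ⟨rfl, rfl⟩
    exact h2 (ee_injective (e.trans (by rw [ee_neg_sr i, add_comm])))

/-- **No double covers of the group generated by the root groups of a Witt frame**, characteristic 2. -/
theorem noDouble_Y0 (hs : ∀ i : Fin n, Spl ((TD Fr T0 p).subgroupOf (Y0 Fr cs))
    ((PG Fr (i, true) (nx i)).subgroupOf (Y0 Fr cs))) : NoDouble (Y0 Fr cs) := by
  have : Finite (V ≃ₗ[F] V) := Finite.of_injective (fun g : V ≃ₗ[F] V => (g : V → V)) DFunLike.coe_injective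
  have : Finite W := finite_W cs
  refine noDouble_of_spl (rgd_Y0 cs hh) (GG_eq_top_of_G1 (G1_Y0 cs)) hh.odd (TD_le cs) (isPGroup_TD cs hh)
    (nn_mem_normalizer cs hh) (fun i y hy h1 h2 => sep_rg cs hh hy h1 h2) (fun i => free_rg cs hh (isRoot_sr cs _ i))
    fun i => ?_
  rw [rg_sr]
  exact hs i

/-- `Spl` from a commutative preimage. -/
theorem spl_of_abPre' {i : Fin n} (ha : AbPre ((PG Fr (i, true) (nx i)).subgroupOf (Y0 Fr cs))) :
    Spl ((TD Fr T0 p).subgroupOf (Y0 Fr cs)) ((PG Fr (i, true) (nx i)).subgroupOf (Y0 Fr cs)) := by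
  have h1 := spl_of_abPre (rgd_Y0 cs hh) hh.odd (TD_le cs) (isPGroup_TD cs hh) (i := i)
    (free_rg cs hh (isRoot_sr cs _ i))
  rw [rg_sr] at h1
  exact h1 ha

omit hh hpf [CharP F 2] [Finite V] in
theorem Y0_le {K : Type*} [Group K] (M : Model Fr K) : Y0 Fr cs ≤ M.I := by
  refine iSup_le ?_
  rintro ⟨x, hx⟩
  obtain ⟨c, d, hcd, e⟩ := exists_of_isRoot cs hx
  show rg Fr x ≤ M.I
  rw [rg_eq Fr hcd e]
  rcases hcd with hcd | rfl
  · rw [PG_ne Fr hcd]
    rintro _ ⟨t, rfl⟩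
    exact M.hX _ _ _
  · rw [PG_self]
    rintro _ ⟨q, rfl⟩
    exact M.hZ _ _

/-- **No double covers of a group modelled on a Witt frame**, characteristic 2. -/
theorem noDouble_model (hn : 0 < n) {K : Type*} [Group K] (M : Model Fr K)
    (hs : ∀ i : Fin n, Spl ((TD Fr T0 p).subgroupOf (Y0 Fr cs))
    ((PG Fr (i, true) (nx i)).subgroupOf (Y0 Fr cs))) : NoDouble K := by
  have : Finite (V ≃ₗ[F] V) := Finite.of_injective (fun g : V ≃ₗ[F] V => (g : V → V)) DFunLike.coe_injective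
  have : Finite W := finite_W cs
  refine noDouble_quot (rgd_Y0 cs hh) (G1_Y0 cs) (TD_le cs) (fun x hx => free_rg cs hh hx) (noDouble_Y0 cs hh hs)
    (M.φ.comp (Subgroup.inclusion (Y0_le cs M))) ?_ ?_
  · rw [← MonoidHom.range_eq_top]
    refine M.gen ⟨n - 1, by omega⟩ _ ?_ ?_
    · intro i j hij t
      exact ⟨⟨⟨_, X_mem_Y0 cs _ _ _⟩, rfl⟩, ⟨⟨_, X_mem_Y0 cs _ _ _⟩, rfl⟩⟩
    · intro q
      exact ⟨⟨⟨_, Z_mem_Y0 cs _ _⟩, rfl⟩, ⟨⟨_, Z_mem_Y0 cs _ _⟩, rfl⟩⟩
  · rintro ⟨g, hg⟩ hgk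
    rw [Subgroup.mem_center_iff]
    rintro ⟨k, hk⟩
    apply Subtype.ext
    show k * g = g * k
    have hs : ∀ v, ∃ a : F, g v = a • v := fun v => M.ker v ⟨g, Y0_le cs M hg⟩ hgk
    exact (commute_of_lines hs k).symm

end Main

end Cfsg.Agent.KFacts.Mult.WittW
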