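import Cfsg.Agent.KFacts.Mult.WittW
import Cfsg.Agent.TitsThree.KInstSp
import Cfsg.Agent.Nodes.WittU

/-!
# Commutative preimages of the root groups of a Witt frame in characteristic 2

* `ZC_le_commutator` : the central part `{Z_x(0, c)}` of the root group `Z_x` is contained in the commutator subgroup of
  the centraliser of `Z_x` (two indices, a `σ`-fixed scalar `≠ 0, 1`);
* `XG_le_commutator` : the root groups of type I, `σ = 1`;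
* `noDouble_PSp` : `PSp_{2m}(q)`, `m ≥ 2`, `q ≥ 4` even, has no perfect double cover.
-/

set_option autoImplicit false
set_option linter.unusedSectionVars false

namespace Cfsg.Agent.KFacts.Mult.WittZ

open Subgroup Cfsg.Agent.KFacts.MulDef Cfsg.Agent.KFacts.Mult.WeightsTwo Cfsg.Agent.KFacts.Mult.RGDW
  Cfsg.Agent.KFacts.Mult.Num Cfsg.Agent.KFacts.Mult.WittT Cfsg.Agent.KFacts.Mult.WittW
open Cfsg.Agent.ChevalleyStructure.CoxeterGeom Cfsg.Agent.Tits.Roots Cfsg.Agent.Nodes.TypeC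
open Cfsg.Agent.Nodes.Comb Cfsg.Agent.Nodes.Reps Cfsg.Agent.Nodes.WittRoot Cfsg.Agent.Nodes.BNOf
  Cfsg.Agent.Nodes.WittRGD Cfsg.Agent.Nodes.RGDLib
open Cfsg.Agent.TitsThree Cfsg.Agent.TitsThree.Siegel Cfsg.Agent.TitsThree.WittFrame Cfsg.Agent.TitsThree.WittWeyl
  Cfsg.Agent.TitsThree.FrameCN
open scoped commutatorElement

variable {F : Type*} [Field F] {V : Type*} [AddCommGroup V] [Module F V] {H : HForm F V} {n : ℕ}
  {Fr : Frame H (Fin n)}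

theorem comm_X_Z {x y : Fin n × Bool} (hxy : x.1 ≠ y.1) (t : F) (p : Fr.Adm) :
    ⁅Fr.X x (neg y) t, Fr.Z y p⁆ =
      Fr.Z x (Frame.Adm.smul (H.σ t) p) * Fr.X x y (-(H.ε⁻¹ * Fr.η y * H.σ p.c * t)) := by
  rw [commutatorElement_def, Fr.conj_X_Z hxy, mul_inv_cancel_right]

variable {W : Type*} [Group W] (cs : CoxeterSystem (CoxeterMatrix.B n) W)

variable (Fr) in
/-- the central part of a root group of type II -/
def ZC (x : Fin n × Bool) : Subgroup (V ≃ₗ[F] V) where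
  carrier := {g | ∃ p : Fr.Adm, p.w = 0 ∧ g = Fr.Z x p}
  one_mem' := ⟨1, rfl, (Fr.Z_one x).symm⟩
  mul_mem' := by
    rintro _ _ ⟨p, hp, rfl⟩ ⟨q, hq, rfl⟩
    exact ⟨p * q, by rw [Frame.Adm.mul_w, hp, hq, add_zero], (Fr.Z_mul x p q).symm⟩
  inv_mem' := by
    rintro _ ⟨p, hp, rfl⟩
    exact ⟨p⁻¹, by rw [Frame.Adm.inv_w, hp, neg_zero], (Fr.Z_inv x p).symm⟩

theorem mem_ZC {x : Fin n × Bool} {g : V ≃ₗ[F] V} : g ∈ ZC Fr x ↔ ∃ p : Fr.Adm, p.w = 0 ∧ g = Fr.Z x p := Iff.rfl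

theorem ZC_le_PG (x : Fin n × Bool) : ZC Fr x ≤ PG Fr x x := by
  rintro _ ⟨p, -, rfl⟩
  rw [PG_self]; exact ⟨p, rfl⟩

theorem ne_neg {x y : Fin n × Bool} (h : x.1 ≠ y.1) : y ≠ neg x := Frame.ne_neg h

/-- the identity behind `ZC_le_commutator` -/
theorem Z_eq_comm [CharP F 2] {x y : Fin n × Bool} (hxy : x.1 ≠ y.1) {a : F} (hσ : H.σ a = a) (ha0 : a ≠ 0)
    (ha1 : a ≠ 1) {q : Fr.Adm} (hq : q.w = 0) :
    Fr.Z x q = ⁅Fr.X x (neg y) 1, Fr.Z y (Frame.Adm.smul (a / (a - 1)) q)⁆ *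
      ⁅Fr.X x (neg y) (a⁻¹ * a⁻¹), Fr.Z y (Frame.Adm.smul a (Frame.Adm.smul (a / (a - 1)) q))⁆⁻¹ := by
  have ha1' : a - 1 ≠ 0 := sub_ne_zero.2 ha1
  have h2 : (2 : F) = 0 := CharTwo.two_eq_zero
  set p := Frame.Adm.smul (a / (a - 1)) q with hp
  have hpw : p.w = 0 := by rw [hp, Frame.Adm.smul_w, hq, smul_zero]
  have hpc : p.c = a / (a - 1) * (a / (a - 1)) * q.c := by
    rw [hp, Frame.Adm.smul_c, map_div₀, map_sub, map_one, hσ]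
  rw [comm_X_Z hxy, comm_X_Z hxy]
  have e1 : H.ε⁻¹ * Fr.η y * H.σ (Frame.Adm.smul a p).c * (a⁻¹ * a⁻¹) = H.ε⁻¹ * Fr.η y * H.σ p.c * 1 := by
    rw [Frame.Adm.smul_c, map_mul, map_mul, hσ, hσ]
    field_simp
  have e2 : Frame.Adm.smul (H.σ 1) p = p := by rw [map_one, Frame.Adm.one_smul]
  have e3 : Frame.Adm.smul (H.σ (a⁻¹ * a⁻¹)) (Frame.Adm.smul a p) = Frame.Adm.smul a⁻¹ p := by
    rw [Frame.Adm.smul_smul, map_mul, map_inv₀, hσ]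
    congr 1
    field_simp
  rw [e1, e2, e3, mul_inv_rev, mul_assoc, mul_inv_cancel_left, ← Fr.Z_inv, ← Fr.Z_mul]
  congr 1
  apply Frame.Adm.ext
  · rw [Frame.Adm.mul_w, Frame.Adm.inv_w, Frame.Adm.smul_w a⁻¹ p, hpw, hq, smul_zero, neg_zero, add_zero]
  · rw [Frame.Adm.mul_c, Frame.Adm.inv_c, Frame.Adm.inv_w, Frame.Adm.smul_w a⁻¹ p, hpw, smul_zero, neg_zero,
      H.zero_right, mul_zero, sub_zero, sub_zero, Frame.Adm.smul_c a⁻¹ p, hpc, map_inv₀, hσ]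
    field_simp
    linear_combination (q.c - q.c * a) * h2

theorem ZC_le_commutator [CharP F 2] {x y : Fin n × Bool} (hxy : x.1 ≠ y.1) {a : F} (hσ : H.σ a = a) (ha0 : a ≠ 0)
    (ha1 : a ≠ 1) :
    (ZC Fr x).subgroupOf (Y0 Fr cs) ≤ ⁅centralizer (((PG Fr x x).subgroupOf (Y0 Fr cs) : Subgroup (Y0 Fr cs)) :
      Set (Y0 Fr cs)), centralizer (((PG Fr x x).subgroupOf (Y0 Fr cs) : Subgroup (Y0 Fr cs)) : Set (Y0 Fr cs))⁆ := by
  have hX : ∀ t : F, (⟨Fr.X x (neg y) t, X_mem_Y0 cs _ _ _⟩ : Y0 Fr cs) ∈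
      centralizer (((PG Fr x x).subgroupOf (Y0 Fr cs) : Subgroup (Y0 Fr cs)) : Set (Y0 Fr cs)) := by
    intro t
    rw [mem_centralizer_iff]
    rintro ⟨g, hg⟩ hgz
    rw [SetLike.mem_coe, mem_subgroupOf, PG_self] at hgz
    obtain ⟨p, hp⟩ := hgz
    have hp' : g = Fr.Z x p := hp
    subst hp'
    exact Subtype.ext (Fr.commute_ZX (x := x) (y := x) (z := neg y) (ne_neg_self x)
      (ne_neg (y := neg y) hxy) p t).eq
  have hZ : ∀ p : Fr.Adm, p.w = 0 → (⟨Fr.Z y p, Z_mem_Y0 cs _ _⟩ : Y0 Fr cs) ∈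
      centralizer (((PG Fr x x).subgroupOf (Y0 Fr cs) : Subgroup (Y0 Fr cs)) : Set (Y0 Fr cs)) := by
    intro p hp
    rw [mem_centralizer_iff]
    rintro ⟨g, hg⟩ hgz
    rw [SetLike.mem_coe, mem_subgroupOf, PG_self] at hgz
    obtain ⟨q, hq⟩ := hgz
    have hq' : g = Fr.Z x q := hq
    subst hq'
    apply Subtype.ext
    show Fr.Z x q * Fr.Z y p = Fr.Z y p * Fr.Z x q
    rw [Fr.Z_mul_Z hxy, hp, H.zero_right, map_zero, mul_zero, neg_zero, Fr.X_zero, one_mul]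
  rintro ⟨g, hg⟩ hgz
  rw [mem_subgroupOf] at hgz
  obtain ⟨q, hq, hq'⟩ := hgz
  have hq'' : g = Fr.Z x q := hq'
  subst hq''
  have e : (⟨Fr.Z x q, hg⟩ : Y0 Fr cs) = ⁅(⟨Fr.X x (neg y) 1, X_mem_Y0 cs _ _ _⟩ : Y0 Fr cs),
      ⟨Fr.Z y (Frame.Adm.smul (a / (a - 1)) q), Z_mem_Y0 cs _ _⟩⁆ *
      ⁅(⟨Fr.X x (neg y) (a⁻¹ * a⁻¹), X_mem_Y0 cs _ _ _⟩ : Y0 Fr cs),
        ⟨Fr.Z y (Frame.Adm.smul a (Frame.Adm.smul (a / (a - 1)) q)), Z_mem_Y0 cs _ _⟩⁆⁻¹ :=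
    Subtype.ext (Z_eq_comm hxy hσ ha0 ha1 hq)
  rw [e]
  exact mul_mem (commutator_mem_commutator (hX _) (hZ _ (by rw [Frame.Adm.smul_w, hq, smul_zero])))
    (inv_mem (commutator_mem_commutator (hX _)
      (hZ _ (by rw [Frame.Adm.smul_w, Frame.Adm.smul_w, hq, smul_zero, smul_zero]))))

/-- The preimage of the central part is commutative. -/
theorem abPre_ZC [CharP F 2] {x y : Fin n × Bool} (hxy : x.1 ≠ y.1) {a : F} (hσ : H.σ a = a) (ha0 : a ≠ 0)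
    (ha1 : a ≠ 1) : AbPre ((ZC Fr x).subgroupOf (Y0 Fr cs)) := by
  apply AbPre.of_le_commutator
  refine (ZC_le_commutator cs hxy hσ ha0 ha1).trans ?_
  have h1 : centralizer (((PG Fr x x).subgroupOf (Y0 Fr cs) : Subgroup (Y0 Fr cs)) : Set (Y0 Fr cs)) ≤
      centralizer (((ZC Fr x).subgroupOf (Y0 Fr cs) : Subgroup (Y0 Fr cs)) : Set (Y0 Fr cs)) :=
    centralizer_le fun g hg => ZC_le_PG x hg
  exact commutator_mono h1 h1

/-! ### The symplectic case -/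

theorem X_eq_comm [CharP F 2] {x y : Fin n × Bool} (hxy : x.1 ≠ y.1) (hσ : ∀ a, H.σ a = a)
    (hadm : ∀ c : F, ∃ p : Fr.Adm, p.w = 0 ∧ p.c = c) {a : F} (ha0 : a ≠ 0) (ha1 : a ≠ 1) (s : F) :
    ∃ p : Fr.Adm, p.w = 0 ∧ Fr.X x y s = ⁅Fr.X x (neg y) 1, Fr.Z y p⁆ *
      ⁅Fr.X x (neg y) a⁻¹, Fr.Z y (Frame.Adm.smul a p)⁆⁻¹ := by
  have ha1' : 1 - a ≠ 0 := sub_ne_zero.2 (Ne.symm ha1)
  have hε := H.ε_ne
  have hη := Fr.η_ne y
  obtain ⟨p, hp, hpc⟩ := hadm (-(s * (1 - a)⁻¹ * H.ε * (Fr.η y)⁻¹))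
  refine ⟨p, hp, ?_⟩
  rw [comm_X_Z hxy, comm_X_Z hxy]
  have e2 : Frame.Adm.smul (H.σ 1) p = p := by rw [map_one, Frame.Adm.one_smul]
  have e3 : Frame.Adm.smul (H.σ a⁻¹) (Frame.Adm.smul a p) = p := by
    rw [Frame.Adm.smul_smul, hσ, inv_mul_cancel₀ ha0, Frame.Adm.one_smul]
  rw [e2, e3, mul_inv_rev, ← Fr.X_neg]
  have hc : ∀ t, Fr.Z x p * Fr.X x y t = Fr.X x y t * Fr.Z x p := fun t =>
    (Fr.commute_ZX (x := x) (y := x) (z := y) (ne_neg_self x) (ne_neg hxy) p t).eq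
  rw [hc, mul_assoc, ← mul_assoc (Fr.Z x p), hc, mul_inv_cancel_right, ← Fr.X_add]
  congr 1
  rw [Frame.Adm.smul_c, hσ, hσ, hσ, hpc]
  field_simp
  ring

theorem XG_le_commutator [CharP F 2] {x y : Fin n × Bool} (hxy : x.1 ≠ y.1) (hσ : ∀ a, H.σ a = a)
    (hadm : ∀ c : F, ∃ p : Fr.Adm, p.w = 0 ∧ p.c = c) {a : F} (ha0 : a ≠ 0) (ha1 : a ≠ 1) :
    (PG Fr x y).subgroupOf (Y0 Fr cs) ≤ ⁅centralizer (((PG Fr x y).subgroupOf (Y0 Fr cs) : Subgroup (Y0 Fr cs)) :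
      Set (Y0 Fr cs)), centralizer (((PG Fr x y).subgroupOf (Y0 Fr cs) : Subgroup (Y0 Fr cs)) : Set (Y0 Fr cs))⁆ := by
  have hε : H.ε⁻¹ = 1 := by
    have h1 := H.ε_mul
    rw [hσ] at h1
    have h2 : (H.ε - 1) ^ 2 = 0 := by rw [sub_pow_char, pow_two, h1, one_pow, sub_self]
    rw [sub_eq_zero.1 (pow_eq_zero_iff (two_ne_zero)|>.1 h2), inv_one]
  have hX : ∀ t : F, (⟨Fr.X x (neg y) t, X_mem_Y0 cs _ _ _⟩ : Y0 Fr cs) ∈
      centralizer (((PG Fr x y).subgroupOf (Y0 Fr cs) : Subgroup (Y0 Fr cs)) : Set (Y0 Fr cs)) := by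
    intro t
    rw [mem_centralizer_iff]
    rintro ⟨g, hg⟩ hgz
    rw [SetLike.mem_coe, mem_subgroupOf, PG_ne Fr hxy] at hgz
    obtain ⟨s, hs⟩ := hgz
    have hs' : g = Fr.X x y s := hs
    subst hs'
    apply Subtype.ext
    show Fr.X x y s * Fr.X x (neg y) t = Fr.X x (neg y) t * Fr.X x y s
    rw [Fr.X_mul_X_same hxy]
    have e : (Frame.Adm.tr (H.σ s * t * (Fr.η (neg y))⁻¹) : Fr.Adm) = 1 := by
      apply Frame.Adm.ext
      · rfl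
      · rw [Frame.Adm.tr_c, Frame.Adm.one_c, hε, hσ, hσ, one_mul, sub_self]
    rw [e, Fr.Z_one, one_mul]
  have hZ : ∀ p : Fr.Adm, (⟨Fr.Z y p, Z_mem_Y0 cs _ _⟩ : Y0 Fr cs) ∈
      centralizer (((PG Fr x y).subgroupOf (Y0 Fr cs) : Subgroup (Y0 Fr cs)) : Set (Y0 Fr cs)) := by
    intro p
    rw [mem_centralizer_iff]
    rintro ⟨g, hg⟩ hgz
    rw [SetLike.mem_coe, mem_subgroupOf, PG_ne Fr hxy] at hgz
    obtain ⟨s, hs⟩ := hgz
    have hs' : g = Fr.X x y s := hs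
    subst hs'
    exact Subtype.ext (Fr.commute_ZX (x := y) (y := x) (z := y) (ne_neg (Ne.symm hxy)) (ne_neg_self y) p s).symm.eq
  rintro ⟨g, hg⟩ hgz
  rw [mem_subgroupOf, PG_ne Fr hxy] at hgz
  obtain ⟨s, hs⟩ := hgz
  have hs' : g = Fr.X x y s := hs
  subst hs'
  obtain ⟨p, hp, e⟩ := X_eq_comm (Fr := Fr) hxy hσ hadm ha0 ha1 s
  have e' : (⟨Fr.X x y s, hg⟩ : Y0 Fr cs) = ⁅(⟨Fr.X x (neg y) 1, X_mem_Y0 cs _ _ _⟩ : Y0 Fr cs),
      ⟨Fr.Z y p, Z_mem_Y0 cs _ _⟩⁆ *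
      ⁅(⟨Fr.X x (neg y) a⁻¹, X_mem_Y0 cs _ _ _⟩ : Y0 Fr cs), ⟨Fr.Z y (Frame.Adm.smul a p), Z_mem_Y0 cs _ _⟩⁆⁻¹ :=
    Subtype.ext e
  rw [e']
  exact mul_mem (commutator_mem_commutator (hX _) (hZ _)) (inv_mem (commutator_mem_commutator (hX _) (hZ _)))

/-- **`PSp_{2m}(q)`, `m ≥ 2`, `q ≥ 4` even, has no perfect double cover.** -/
theorem noDouble_PSp {F : Type*} [Field F] [Finite F] [CharP F 2] (hq : 2 < Nat.card F) {m : ℕ} (hm : 2 ≤ m) :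
    NoDouble (PSp m F) := by
  obtain ⟨p, hpf, l, hodd, hl0, hord⟩ := exists_odd_prime (K := F) hq
  have hl1 : l ≠ 1 := by
    rintro rfl
    rw [orderOf_one] at hord
    exact hpf.out.one_lt.ne hord
  have hh : Hyp (SpIdent.frame m F) (SpIdent.adm 1)
      (Tor (SpIdent.frame m F) (SpIdent.isos (SpIdent.form m F))) p l := by
    refine ⟨torT_of_amb Cfsg.Agent.Nodes.WittU.amb_Sp ?_, ?_, ?_, ?_, hodd, hl0, rfl, hord⟩
    · exact one_ne_zero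
    · intro w hw; exact hw
    · exact one_ne_zero
    · exact Cfsg.Agent.Nodes.WittU.amb_Sp.V0
  have hw : ∀ q : (SpIdent.frame m F).Adm, q.w = 0 := fun q => q.ok
  refine noDouble_model (CoxeterMatrix.B m).toCoxeterSystem hh (by omega) (KInstSp.model m F) fun i => ?_
  apply spl_of_abPre'
  · exact hh
  by_cases hi : (i : ℕ) + 1 < m
  · have hnx := nx_ne hi
    exact AbPre.of_le_commutator (XG_le_commutator _ hnx (fun _ => rfl)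
      (fun c => ⟨SpIdent.adm c, rfl, rfl⟩) hl0 hl1)
  · have hnx : nx i = (i, true) := by unfold nx; rw [dif_neg hi]
    rw [hnx]
    have hne : ((i, true) : Fin m × Bool).1 ≠ ((⟨0, by omega⟩, true) : Fin m × Bool).1 := by
      simp only [ne_eq, Fin.ext_iff]
      omega
    refine (abPre_ZC (Fr := SpIdent.frame m F) _ hne (a := l) rfl hl0 hl1).mono ?_
    rintro ⟨g, hg⟩ hgz
    rw [mem_subgroupOf, PG_self] at hgz
    obtain ⟨q, hq⟩ := hgz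
    exact ⟨q, hw q, hq⟩

end Cfsg.Agent.KFacts.Mult.WittZ
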